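import Mathlib
import Cfsg.Agent.HKS.FrameCount
import Cfsg.Agent.LieRecognition.RankOneAbstract
import Cfsg.Agent.HKS.EndLModel
import Cfsg.Agent.HKS.Types
import Cfsg.Agent.SmallSimple.PSLTwoPart
set_option linter.all false

-- part: HKS/EndTransport
section
/-!
# Transport of the data of a strongly split 2-transitive group to a model

If `G` is isomorphic to a group `L` with a rank-one structure `Data H S w` and `U a`, `S` are Sylow
`p`-subgroups of the same order, the isomorphism can be chosen to match `U a`, the stabiliser of `a`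
and the stabiliser of `b` with `S`, `H` and `w H w⁻¹`.
-/

set_option autoImplicit false

namespace Cfsg.Agent.HKS.EndT

open Subgroup MulAction
open Cfsg.Agent.LieRecognition.RankOneAbstract (Data)

section Norm

variable {G Ω : Type*} [Group G] [MulAction G Ω] {U : Ω → Subgroup G}

theorem smul_eq_of_norm (h : SSplit U) {a : Ω} {g : G} (hg : ∀ x ∈ U a, g⁻¹ * x * g ∈ U a) :
    g • a = a := by
  by_contra hne
  obtain ⟨b, hb, hb'⟩ := h.three a (g • a)
  obtain ⟨x, hx, hxb⟩ := h.trans hne hb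
  have h1 := h.fix (hg x hx)
  rw [mul_smul, mul_smul, hxb, inv_smul_eq_iff] at h1
  exact hb' h1

theorem mem_norm_iff (h : SSplit U) {a : Ω} {g : G} :
    g • a = a ↔ ∀ x : G, x ∈ U a ↔ g⁻¹ * x * g ∈ U a := by
  constructor
  · intro hg x
    constructor
    · exact fun hx => h.conj_of_fix' hg hx
    · intro hx
      have h1 := h.conj_of_fix hg hx
      have h2 : g * (g⁻¹ * x * g) * g⁻¹ = x := by group
      rwa [h2] at h1
  · intro hg
    exact smul_eq_of_norm h fun x hx => (hg x).1 hx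

end Norm

section Model

variable {L : Type*} [Group L] {H S : Subgroup L} {w : L}

theorem data_mem_of_norm (D : Data H S w) (hS : S ≠ ⊥) {g : L} (hg : ∀ s ∈ S, g⁻¹ * s * g ∈ S) :
    g ∈ H := by
  by_contra hgH
  apply hS
  rw [eq_bot_iff]
  intro x hx
  obtain ⟨s, hs, hm⟩ := D.bruhat g hgH
  have h1 : s * x * s⁻¹ ∈ S := S.mul_mem (S.mul_mem hs hx) (S.inv_mem hs)
  have h2 := D.le (hg _ h1)
  have h3 : ((s * w)⁻¹ * g) * (g⁻¹ * (s * x * s⁻¹) * g) * ((s * w)⁻¹ * g)⁻¹ = w⁻¹ * x * w := by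
    group
  have h4 : w⁻¹ * x * w ∈ H := by
    rw [← h3]
    exact H.mul_mem (H.mul_mem hm h2) (H.inv_mem hm)
  exact mem_bot.2 (D.inter x hx h4)

theorem data_norm_iff (D : Data H S w) (hS : S ≠ ⊥) {g : L} :
    g ∈ H ↔ ∀ x : L, x ∈ S ↔ g⁻¹ * x * g ∈ S := by
  constructor
  · intro hg x
    constructor
    · intro hx
      have := D.norm _ (H.inv_mem hg) x hx
      rwa [inv_inv] at this
    · intro hx
      have := D.norm _ hg _ hx
      have h2 : g * (g⁻¹ * x * g) * g⁻¹ = x := by group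
      rwa [h2] at this
  · intro hg
    exact data_mem_of_norm D hS fun x hx => (hg x).1 hx

end Model

/-- Sylow subgroups given by their order. -/
theorem exists_sylow {G : Type*} [Group G] [Finite G] {p k m : ℕ} [Fact p.Prime] {P : Subgroup G}
    (hP : Nat.card P = p ^ k) (hG : Nat.card G = p ^ k * m) (hm : ¬ p ∣ m) :
    ∃ T : Sylow p G, (T : Subgroup G) = P := by
  have hp : p.Prime := Fact.out
  have hm0 : m ≠ 0 := by
    rintro rfl
    exact hm (dvd_zero p)
  have h1 : (Nat.card G).factorization p = k := by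
    rw [hG, Nat.factorization_mul (pow_ne_zero _ hp.ne_zero) hm0, Finsupp.add_apply,
      hp.factorization_pow, Finsupp.single_eq_same, Nat.factorization_eq_zero_of_not_dvd hm,
      add_zero]
  refine ⟨Sylow.ofCard P (by rw [hP, h1]), rfl⟩

/-- **Transport.** -/
theorem exists_transport {G Ω L : Type*} [Group G] [MulAction G Ω] [Group L] [Finite G] [Finite L]
    {U : Ω → Subgroup G} (h : SSplit U) {H S : Subgroup L} {w : L} (D : Data H S w)
    (e : G ≃* L) {p k m : ℕ} [Fact p.Prime] (hk : k ≠ 0) {a b : Ω} (hab : b ≠ a)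
    (hU : Nat.card (U a) = p ^ k) (hS : Nat.card S = p ^ k) (hG : Nat.card G = p ^ k * m)
    (hm : ¬ p ∣ m) :
    ∃ f : G ≃* L, (∀ g, f g ∈ S ↔ g ∈ U a) ∧ (∀ g, f g ∈ H ↔ g • a = a) ∧
      (∀ g, w⁻¹ * f g * w ∈ H ↔ g • b = b) ∧ ∀ g, f g = w → g • a = b := by
  have hp : p.Prime := Fact.out
  have hS1 : S ≠ ⊥ := by
    rintro rfl
    rw [card_bot] at hS
    have := Nat.one_lt_pow hk hp.one_lt
    omega
  obtain ⟨P, hP⟩ := exists_sylow hU hG hm
  obtain ⟨T, hT⟩ := exists_sylow hS ((Nat.card_congr e.toEquiv).symm.trans hG) hm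
  -- the image of `U a`
  have hcU : Nat.card ((U a).map e.toMonoidHom) = p ^ k := by
    rw [← hU]
    exact Nat.card_congr ((U a).equivMapOfInjective e.toMonoidHom e.injective).symm.toEquiv
  obtain ⟨T', hT'⟩ := exists_sylow hcU ((Nat.card_congr e.toEquiv).symm.trans hG) hm
  obtain ⟨l, hl⟩ := MulAction.exists_smul_eq L T' T
  have hl' : ∀ x, x ∈ (U a).map e.toMonoidHom ↔ l * x * l⁻¹ ∈ S := by
    intro x
    rw [← hT, ← hT', ← hl]
    constructor
    · intro hx
      rw [Sylow.coe_subgroup_smul, Subgroup.mem_pointwise_smul_iff_inv_smul_mem]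
      change (MulAut.conj l)⁻¹ (l * x * l⁻¹) ∈ _
      rw [← map_inv, MulAut.conj_apply]
      have : l⁻¹ * (l * x * l⁻¹) * l⁻¹⁻¹ = x := by group
      rw [this]
      exact hx
    · intro hx
      rw [Sylow.coe_subgroup_smul, Subgroup.mem_pointwise_smul_iff_inv_smul_mem] at hx
      change (MulAut.conj l)⁻¹ (l * x * l⁻¹) ∈ _ at hx
      rw [← map_inv, MulAut.conj_apply] at hx
      have : l⁻¹ * (l * x * l⁻¹) * l⁻¹⁻¹ = x := by group
      rw [this] at hx
      exact hx
  let f₁ : G ≃* L := e.trans (MulAut.conj l)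
  have hf₁ : ∀ g, f₁ g = l * e g * l⁻¹ := fun _ => rfl
  have h1 : ∀ g, f₁ g ∈ S ↔ g ∈ U a := by
    intro g
    rw [hf₁, ← hl']
    constructor
    · rintro ⟨y, hy, hye⟩
      have : y = g := e.injective hye
      rwa [← this]
    · intro hg
      exact ⟨g, hg, rfl⟩
  have h2 : ∀ g, f₁ g ∈ H ↔ g • a = a := by
    intro g
    rw [data_norm_iff D hS1, mem_norm_iff h]
    constructor
    · intro hx x
      have := hx (f₁ x)
      rwa [← map_inv, ← map_mul, ← map_mul, h1, h1] at this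
    · intro hx x
      obtain ⟨y, rfl⟩ := f₁.surjective x
      rw [← map_inv, ← map_mul, ← map_mul, h1, h1]
      exact hx y
  obtain ⟨x, hx⟩ := f₁.surjective w
  have hxa : x • a ≠ a := by
    intro hc
    have := (h2 x).2 hc
    rw [hx] at this
    exact D.w_not_mem this
  obtain ⟨u, hu, hub⟩ := h.trans hxa hab
  have hua : u • a = a := h.fix hu
  have hua' : u⁻¹ • a = a := by rw [inv_smul_eq_iff, hua]
  let f : G ≃* L := (MulAut.conj u⁻¹).trans f₁
  have hf : ∀ g, f g = f₁ (u⁻¹ * g * u) := by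
    intro g
    change f₁ (u⁻¹ * g * u⁻¹⁻¹) = _
    rw [inv_inv]
  refine ⟨f, fun g => ?_, fun g => ?_, fun g => ?_, fun g hg => ?_⟩
  · rw [hf, h1]
    constructor
    · intro hg
      have := h.conj_of_fix hua hg
      have h3 : u * (u⁻¹ * g * u) * u⁻¹ = g := by group
      rwa [h3] at this
    · intro hg
      exact h.conj_of_fix' hua hg
  · rw [hf, h2, mul_smul, mul_smul, hua, inv_smul_eq_iff, hua]
  · rw [hf, ← hx, ← map_inv, ← map_mul, ← map_mul, h2]
    have h3 : (x⁻¹ * (u⁻¹ * g * u) * x) = (u * x)⁻¹ * g * (u * x) := by group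
    rw [h3, mul_smul, mul_smul, inv_smul_eq_iff, mul_smul, hub]
  · have h3 : u⁻¹ * g * u = x := f₁.injective (by rw [← hf, hg, hx])
    have h4 : g = u * x * u⁻¹ := by rw [← h3]; group
    rw [h4, mul_smul, mul_smul, hua', hub]

end Cfsg.Agent.HKS.EndT
end

-- part: HKS/EndNum
section
/-!
# Orders of strongly split groups: arithmetic

`Ord N n d p k`: `N = (n + 1) n d` with `n = p ^ k`, `p` an odd prime not dividing `d` and `0 < d < n`.
-/

set_option autoImplicit false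

namespace Cfsg.Agent.HKS.EndNum

structure Ord (N n d p k : ℕ) : Prop where
  prime : p.Prime
  ne_two : p ≠ 2
  k0 : k ≠ 0
  hn : n = p ^ k
  hd : ¬ p ∣ d
  hdn : d < n
  eq : N = (n + 1) * n * d

namespace Ord

variable {N n d p k : ℕ}

theorem n_pos (h : Ord N n d p k) : 0 < n := by rw [h.hn]; exact pow_pos h.prime.pos k

theorem d_pos (h : Ord N n d p k) : 0 < d := by
  rcases Nat.eq_zero_or_pos d with h0 | h0
  · exact absurd (h0 ▸ dvd_zero p) h.hd
  · exact h0

theorem dvd_n (h : Ord N n d p k) : p ∣ n := by rw [h.hn]; exact dvd_pow_self p h.k0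

theorem not_dvd (h : Ord N n d p k) : ¬ p ∣ (n + 1) * d := by
  intro hc
  rcases h.prime.dvd_mul.1 hc with h1 | h1
  · have := (Nat.dvd_add_right h.dvd_n).1 h1
    exact h.prime.one_lt.ne' (Nat.dvd_one.1 this)
  · exact h.hd h1

theorem lt (h : Ord N n d p k) : N < n ^ 3 := by
  have h1 := h.hdn
  have h2 := h.n_pos
  rw [h.eq]
  obtain ⟨m, rfl⟩ : ∃ m, n = m + 1 := ⟨n - 1, by omega⟩
  have h3 : d ≤ m := by omega
  calc (m + 1 + 1) * (m + 1) * d ≤ (m + 1 + 1) * (m + 1) * m := Nat.mul_le_mul_left _ h3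
    _ < (m + 1) ^ 3 := by nlinarith

theorem three_le (h : Ord N n d p k) : 3 ≤ n := by
  have h1 := h.prime.two_le
  have h2 := h.ne_two
  have h3 : p ≤ n := Nat.le_of_dvd h.n_pos h.dvd_n
  omega

theorem coprime (h : Ord N n d p k) {x : ℕ} (hx : ¬ p ∣ x) : Nat.Coprime n x := by
  rw [h.hn]
  exact (Nat.Coprime.pow_left k ((Nat.Prime.coprime_iff_not_dvd h.prime).2 hx))

theorem dvd_N (h : Ord N n d p k) : n ∣ N := ⟨(n + 1) * d, by rw [h.eq]; ring⟩

theorem succ_dvd_N (h : Ord N n d p k) : n + 1 ∣ N := ⟨n * d, by rw [h.eq]; ring⟩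

end Ord

theorem pow_eq_of_mul_eq {p i j m m' : ℕ} (hp : p.Prime) (h : p ^ i * m = p ^ j * m') (hm : ¬ p ∣ m)
    (hm' : ¬ p ∣ m') : i = j := by
  rcases lt_trichotomy i j with hij | hij | hij
  · exfalso
    obtain ⟨l, rfl⟩ := Nat.exists_eq_add_of_lt hij
    have h1 : m = p ^ (l + 1) * m' := by
      apply Nat.eq_of_mul_eq_mul_left (pow_pos hp.pos i)
      rw [h, ← mul_assoc, ← pow_add]
      rfl
    exact hm ⟨p ^ l * m', by rw [h1, pow_succ]; ring⟩
  · exact hij
  · exfalso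
    obtain ⟨l, rfl⟩ := Nat.exists_eq_add_of_lt hij
    have h1 : m' = p ^ (l + 1) * m := by
      apply Nat.eq_of_mul_eq_mul_left (pow_pos hp.pos j)
      rw [← h, ← mul_assoc, ← pow_add]
      rfl
    exact hm' ⟨p ^ l * m, by rw [h1, pow_succ]; ring⟩

/-- small orders -/
theorem Ord.false_of_small {N n d p k : ℕ} (h : Ord N n d p k) (b : ℕ) (hb : b ^ 3 ≤ N)
    (hn : n ≤ b) : False := by
  have h1 := h.lt
  have h2 : n ^ 3 ≤ b ^ 3 := Nat.pow_le_pow_left hn 3
  omega

theorem Ord.le_of_dvd_mul {N n d p k : ℕ} (h : Ord N n d p k) {x y : ℕ} (hy : 0 < y)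
    (hd : n ∣ x * y) (hx : ¬ p ∣ x) : n ≤ y :=
  Nat.le_of_dvd hy ((h.coprime hx).dvd_of_dvd_mul_left hd)

theorem not_2520 {n d p k : ℕ} (h : Ord 2520 n d p k) : False := by
  have hp := h.prime
  have hd : p ∣ 2520 := h.dvd_n.trans h.dvd_N
  have hn : n ∣ 2520 := h.dvd_N
  have h2 := h.ne_two
  have h3 : p = 3 ∨ p = 5 ∨ p = 7 := by
    have e : 2520 = 2 ^ 3 * (3 ^ 2 * (5 * 7)) := by norm_num
    rw [e, hp.dvd_mul, hp.dvd_mul, hp.dvd_mul] at hd
    rcases hd with h4 | h4 | h4 | h4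
    · exact absurd ((Nat.prime_dvd_prime_iff_eq hp Nat.prime_two).1 (hp.dvd_of_dvd_pow h4)) h2
    · exact Or.inl ((Nat.prime_dvd_prime_iff_eq hp Nat.prime_three).1 (hp.dvd_of_dvd_pow h4))
    · exact Or.inr (Or.inl ((Nat.prime_dvd_prime_iff_eq hp Nat.prime_five).1 h4))
    · exact Or.inr (Or.inr ((Nat.prime_dvd_prime_iff_eq hp (by norm_num)).1 h4))
  rcases h3 with rfl | rfl | rfl
  · exact h.false_of_small 13 (by norm_num) ((h.le_of_dvd_mul (x := 280) (y := 9) (by norm_num)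
      (by simpa using hn) (by norm_num)).trans (by norm_num))
  · exact h.false_of_small 13 (by norm_num) ((h.le_of_dvd_mul (x := 504) (y := 5) (by norm_num)
      (by simpa using hn) (by norm_num)).trans (by norm_num))
  · exact h.false_of_small 13 (by norm_num) ((h.le_of_dvd_mul (x := 360) (y := 7) (by norm_num)
      (by simpa using hn) (by norm_num)).trans (by norm_num))

theorem not_7920 {n d p k : ℕ} (h : Ord 7920 n d p k) : False := by
  have hp := h.prime
  have hd : p ∣ 7920 := h.dvd_n.trans h.dvd_N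
  have hn : n ∣ 7920 := h.dvd_N
  have h2 := h.ne_two
  have h3 : p = 3 ∨ p = 5 ∨ p = 11 := by
    have e : 7920 = 2 ^ 4 * (3 ^ 2 * (5 * 11)) := by norm_num
    rw [e, hp.dvd_mul, hp.dvd_mul, hp.dvd_mul] at hd
    rcases hd with h4 | h4 | h4 | h4
    · exact absurd ((Nat.prime_dvd_prime_iff_eq hp Nat.prime_two).1 (hp.dvd_of_dvd_pow h4)) h2
    · exact Or.inl ((Nat.prime_dvd_prime_iff_eq hp Nat.prime_three).1 (hp.dvd_of_dvd_pow h4))
    · exact Or.inr (Or.inl ((Nat.prime_dvd_prime_iff_eq hp Nat.prime_five).1 h4))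
    · exact Or.inr (Or.inr ((Nat.prime_dvd_prime_iff_eq hp (by norm_num)).1 h4))
  rcases h3 with rfl | rfl | rfl
  · exact h.false_of_small 19 (by norm_num) ((h.le_of_dvd_mul (x := 880) (y := 9) (by norm_num)
      (by simpa using hn) (by norm_num)).trans (by norm_num))
  · exact h.false_of_small 19 (by norm_num) ((h.le_of_dvd_mul (x := 1584) (y := 5) (by norm_num)
      (by simpa using hn) (by norm_num)).trans (by norm_num))
  · exact h.false_of_small 19 (by norm_num) ((h.le_of_dvd_mul (x := 720) (y := 11) (by norm_num)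
      (by simpa using hn) (by norm_num)).trans (by norm_num))

theorem not_175560 {n d p k : ℕ} (h : Ord 175560 n d p k) : False := by
  have hp := h.prime
  have hd : p ∣ 175560 := h.dvd_n.trans h.dvd_N
  have hn : n ∣ 175560 := h.dvd_N
  have h2 := h.ne_two
  have h3 : p = 3 ∨ p = 5 ∨ p = 7 ∨ p = 11 ∨ p = 19 := by
    have e : 175560 = 2 ^ 3 * (3 * (5 * (7 * (11 * 19)))) := by norm_num
    rw [e, hp.dvd_mul, hp.dvd_mul, hp.dvd_mul, hp.dvd_mul, hp.dvd_mul] at hd
    rcases hd with h4 | h4 | h4 | h4 | h4 | h4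
    · exact absurd ((Nat.prime_dvd_prime_iff_eq hp Nat.prime_two).1 (hp.dvd_of_dvd_pow h4)) h2
    · exact Or.inl ((Nat.prime_dvd_prime_iff_eq hp Nat.prime_three).1 h4)
    · exact Or.inr (Or.inl ((Nat.prime_dvd_prime_iff_eq hp Nat.prime_five).1 h4))
    · exact Or.inr (Or.inr (Or.inl ((Nat.prime_dvd_prime_iff_eq hp (by norm_num)).1 h4)))
    · exact Or.inr (Or.inr (Or.inr (Or.inl ((Nat.prime_dvd_prime_iff_eq hp (by norm_num)).1 h4))))
    · exact Or.inr (Or.inr (Or.inr (Or.inr ((Nat.prime_dvd_prime_iff_eq hp (by norm_num)).1 h4))))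
  rcases h3 with rfl | rfl | rfl | rfl | rfl
  · exact h.false_of_small 50 (by norm_num) ((h.le_of_dvd_mul (x := 58520) (y := 3) (by norm_num)
      (by simpa using hn) (by norm_num)).trans (by norm_num))
  · exact h.false_of_small 50 (by norm_num) ((h.le_of_dvd_mul (x := 35112) (y := 5) (by norm_num)
      (by simpa using hn) (by norm_num)).trans (by norm_num))
  · exact h.false_of_small 50 (by norm_num) ((h.le_of_dvd_mul (x := 25080) (y := 7) (by norm_num)
      (by simpa using hn) (by norm_num)).trans (by norm_num))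
  · exact h.false_of_small 50 (by norm_num) ((h.le_of_dvd_mul (x := 15960) (y := 11) (by norm_num)
      (by simpa using hn) (by norm_num)).trans (by norm_num))
  · exact h.false_of_small 50 (by norm_num) ((h.le_of_dvd_mul (x := 9240) (y := 19) (by norm_num)
      (by simpa using hn) (by norm_num)).trans (by norm_num))

theorem not_62400 {n d p k : ℕ} (h : Ord 62400 n d p k) : False := by
  have hp := h.prime
  have hd : p ∣ 62400 := h.dvd_n.trans h.dvd_N
  have hn : n ∣ 62400 := h.dvd_N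
  have h2 := h.ne_two
  have h3 : p = 3 ∨ p = 5 ∨ p = 13 := by
    have e : 62400 = 2 ^ 6 * (3 * (5 ^ 2 * 13)) := by norm_num
    rw [e, hp.dvd_mul, hp.dvd_mul, hp.dvd_mul] at hd
    rcases hd with h4 | h4 | h4 | h4
    · exact absurd ((Nat.prime_dvd_prime_iff_eq hp Nat.prime_two).1 (hp.dvd_of_dvd_pow h4)) h2
    · exact Or.inl ((Nat.prime_dvd_prime_iff_eq hp Nat.prime_three).1 h4)
    · exact Or.inr (Or.inl ((Nat.prime_dvd_prime_iff_eq hp Nat.prime_five).1 (hp.dvd_of_dvd_pow h4)))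
    · exact Or.inr (Or.inr ((Nat.prime_dvd_prime_iff_eq hp (by norm_num)).1 h4))
  rcases h3 with rfl | rfl | rfl
  · exact h.false_of_small 39 (by norm_num) ((h.le_of_dvd_mul (x := 20800) (y := 3) (by norm_num)
      (by simpa using hn) (by norm_num)).trans (by norm_num))
  · exact h.false_of_small 39 (by norm_num) ((h.le_of_dvd_mul (x := 2496) (y := 25) (by norm_num)
      (by simpa using hn) (by norm_num)).trans (by norm_num))
  · exact h.false_of_small 39 (by norm_num) ((h.le_of_dvd_mul (x := 4800) (y := 13) (by norm_num)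
      (by simpa using hn) (by norm_num)).trans (by norm_num))

/-- `|PSL(2, r)|`, `r = 2 v + 1` odd. -/
theorem psl_two {N n d p k v s f : ℕ} (h : Ord N n d p k) (hs : s.Prime) (hr : 2 * v + 1 = s ^ f)
    (hv : 0 < v) (hN : 2 * N = (2 * v + 1) * ((2 * v) * (2 * v + 2))) :
    n = 2 * v + 1 ∧ d = v := by
  have hp := h.prime
  have hN' : N = (2 * v + 1) * (2 * (v * (v + 1))) := by
    have : 2 * N = 2 * ((2 * v + 1) * (2 * (v * (v + 1)))) := by rw [hN]; ring
    omega
  by_cases hpr : p ∣ 2 * v + 1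
  · have hps : p = s := by
      rw [hr] at hpr
      exact (Nat.prime_dvd_prime_iff_eq hp hs).1 (hp.dvd_of_dvd_pow hpr)
    subst hps
    have h1 : ¬ p ∣ 2 * (v * (v + 1)) := by
      intro hc
      have h2 : p ∣ (2 * v) * (2 * v + 2) := by
        have : (2 * v) * (2 * v + 2) = 2 * (2 * (v * (v + 1))) := by ring
        rw [this]
        exact hc.mul_left 2
      rcases hp.dvd_mul.1 h2 with h3 | h3
      · have := (Nat.dvd_add_right h3).1 hpr
        exact hp.one_lt.ne' (Nat.dvd_one.1 this)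
      · have h4 : p ∣ 2 * v + 1 + 1 := h3
        have := (Nat.dvd_add_right hpr).1 h4
        exact hp.one_lt.ne' (Nat.dvd_one.1 this)
    have h3 : p ^ k * ((n + 1) * d) = p ^ f * (2 * (v * (v + 1))) := by
      rw [← hr, ← h.hn, ← hN', h.eq]
      ring
    have h4 := pow_eq_of_mul_eq hp h3 h.not_dvd h1
    have h5 : n = 2 * v + 1 := by rw [h.hn, h4, ← hr]
    refine ⟨h5, ?_⟩
    rw [h4] at h3
    have h6 := Nat.eq_of_mul_eq_mul_left (pow_pos hp.pos f) h3
    rw [h5] at h6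
    have h7 : (2 * (v + 1)) * d = (2 * (v + 1)) * v := by
      calc (2 * (v + 1)) * d = (2 * v + 1 + 1) * d := by ring
        _ = 2 * (v * (v + 1)) := h6
        _ = _ := by ring
    exact Nat.eq_of_mul_eq_mul_left (by omega) h7
  · exfalso
    have h1 : n ∣ (2 * v + 1) * (2 * (v * (v + 1))) := hN' ▸ h.dvd_N
    have h2 : n ∣ 2 * (v * (v + 1)) := (h.coprime hpr).dvd_of_dvd_mul_left h1
    have h3 : n ∣ v * (v + 1) := (h.coprime (fun hc => h.ne_two
      ((Nat.prime_dvd_prime_iff_eq hp Nat.prime_two).1 hc))).dvd_of_dvd_mul_left h2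
    have h4 : n ≤ v + 1 := by
      by_cases hpv : p ∣ v
      · have h5 : ¬ p ∣ v + 1 := fun hc => hp.one_lt.ne' (Nat.dvd_one.1 ((Nat.dvd_add_right hpv).1 hc))
        have := Nat.le_of_dvd hv ((h.coprime h5).dvd_of_dvd_mul_right h3)
        omega
      · exact Nat.le_of_dvd (by omega) ((h.coprime hpv).dvd_of_dvd_mul_left h3)
    refine h.false_of_small (v + 1) ?_ h4
    rw [hN']
    obtain ⟨u, rfl⟩ : ∃ u, v = u + 1 := ⟨v - 1, by omega⟩
    nlinarith [Nat.zero_le (u ^ 3), Nat.zero_le (u ^ 2), Nat.zero_le u]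

/-- `|PSL(3, r)|`, `r = t + 1`. -/
theorem psl_three {N n d p k t g s f : ℕ} (h : Ord N n d p k) (hs : s.Prime) (hr : t + 1 = s ^ f)
    (ht : 2 ≤ t) (hg : g = Nat.gcd 3 t)
    (hN : g * N = (t + 1) ^ 3 * (t ^ 2 * ((t + 2) * (t ^ 2 + 3 * t + 3)))) : False := by
  have hp := h.prime
  have hg3 : g ∣ 3 := hg ▸ Nat.gcd_dvd_left 3 t
  have hgt : g ∣ t := hg ▸ Nat.gcd_dvd_right 3 t
  have hgc : g = 1 ∨ g = 3 := (Nat.dvd_prime Nat.prime_three).1 hg3
  have e3 : t ^ 2 + 3 * t + 3 = (t + 2) * (t + 1) + 1 := by ring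
  by_cases hpr : p ∣ t + 1
  · have hps : p = s := by
      rw [hr] at hpr
      exact (Nat.prime_dvd_prime_iff_eq hp hs).1 (hp.dvd_of_dvd_pow hpr)
    subst hps
    have a1 : ¬ p ∣ t := fun hc => hp.one_lt.ne' (Nat.dvd_one.1 ((Nat.dvd_add_right hc).1 hpr))
    have a2 : ¬ p ∣ t + 2 := by
      intro hc
      have : p ∣ t + 1 + 1 := hc
      exact hp.one_lt.ne' (Nat.dvd_one.1 ((Nat.dvd_add_right hpr).1 this))
    have a3 : ¬ p ∣ t ^ 2 + 3 * t + 3 := by
      rw [e3]
      intro hc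
      exact hp.one_lt.ne' (Nat.dvd_one.1 ((Nat.dvd_add_right (hpr.mul_left _)).1 hc))
    have a4 : ¬ p ∣ g := fun hc => a1 (hc.trans hgt)
    have a5 : ¬ p ∣ t ^ 2 * ((t + 2) * (t ^ 2 + 3 * t + 3)) := by
      intro hc
      rcases hp.dvd_mul.1 hc with h1 | h1
      · exact a1 (hp.dvd_of_dvd_pow h1)
      · rcases hp.dvd_mul.1 h1 with h2 | h2
        · exact a2 h2
        · exact a3 h2
    have a6 : ¬ p ∣ g * ((n + 1) * d) := by
      intro hc
      rcases hp.dvd_mul.1 hc with h1 | h1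
      · exact a4 h1
      · exact h.not_dvd h1
    have h3 : p ^ k * (g * ((n + 1) * d)) =
        p ^ (f * 3) * (t ^ 2 * ((t + 2) * (t ^ 2 + 3 * t + 3))) := by
      rw [pow_mul, ← hr, ← h.hn, ← hN, h.eq]
      ring
    have h4 := pow_eq_of_mul_eq hp h3 a6 a5
    have h5 : n = (t + 1) ^ 3 := by rw [h.hn, h4, pow_mul, ← hr]
    rw [h4] at h3
    have h6 := Nat.eq_of_mul_eq_mul_left (pow_pos hp.pos (f * 3)) h3
    rw [h5] at h6
    have h7 : (t + 2) * (g * d * (t ^ 2 + t + 1)) = (t + 2) * (t ^ 2 * (t ^ 2 + 3 * t + 3)) := by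
      calc (t + 2) * (g * d * (t ^ 2 + t + 1)) = g * (((t + 1) ^ 3 + 1) * d) := by ring
        _ = t ^ 2 * ((t + 2) * (t ^ 2 + 3 * t + 3)) := h6
        _ = _ := by ring
    have h8 := Nat.eq_of_mul_eq_mul_left (by omega) h7
    have h9 : t ^ 2 + t + 1 ∣ t ^ 2 * (t ^ 2 + 3 * t + 3) := ⟨g * d, by rw [← h8]; ring⟩
    have h10 : t ^ 2 + t + 1 ∣ t ^ 2 * (t ^ 2 + 3 * t + 3) + 2 * t :=
      ⟨t ^ 2 + 2 * t, by ring⟩
    have h11 := (Nat.dvd_add_right h9).1 h10
    have h12 := Nat.le_of_dvd (by omega) h11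
    nlinarith
  · have hnd : n ∣ g * N := h.dvd_N.mul_left g
    rw [hN] at hnd
    have hcop : ¬ p ∣ (t + 1) ^ 3 := fun hc => hpr (hp.dvd_of_dvd_pow hc)
    have h1 : n ∣ t ^ 2 * ((t + 2) * (t ^ 2 + 3 * t + 3)) :=
      (h.coprime hcop).dvd_of_dvd_mul_left hnd
    have hle : n ≤ t ^ 2 + 3 * t + 3 := by
      by_cases hpt : p ∣ t
      · have b1 : ¬ p ∣ t + 2 := fun hc => h.ne_two
          ((Nat.prime_dvd_prime_iff_eq hp Nat.prime_two).1 ((Nat.dvd_add_right hpt).1 hc))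
        by_cases b2 : p ∣ t ^ 2 + 3 * t + 3
        · have b3 : p = 3 := by
            have b4 : p ∣ t ^ 2 + 3 * t := by
              have : t ^ 2 + 3 * t = t * (t + 3) := by ring
              rw [this]
              exact hpt.mul_right _
            exact (Nat.prime_dvd_prime_iff_eq hp Nat.prime_three).1 ((Nat.dvd_add_right b4).1 b2)
          subst b3
          have b5 : g = 3 := by
            rcases hgc with b6 | b6
            · rw [hg, Nat.gcd_eq_left hpt] at b6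
              omega
            · exact b6
          obtain ⟨u, rfl⟩ := hpt
          have b7 : 3 * N = 3 * ((3 * u + 1) ^ 3 * ((3 * u) ^ 2 * ((3 * u + 2) *
              (3 * u ^ 2 + 3 * u + 1)))) := by
            rw [← b5, hN, b5]
            ring
          have b8 := Nat.eq_of_mul_eq_mul_left (by omega) b7
          have b9 : n ∣ (3 * u + 1) ^ 3 * ((3 * u) ^ 2 * ((3 * u + 2) * (3 * u ^ 2 + 3 * u + 1))) :=
            b8 ▸ h.dvd_N
          have c1 := (h.coprime hcop).dvd_of_dvd_mul_left b9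
          have c2 : ¬ 3 ∣ (3 * u + 2) * (3 * u ^ 2 + 3 * u + 1) := by
            intro hc
            rcases hp.dvd_mul.1 hc with c3 | c3
            · omega
            · have : 3 ∣ 3 * (u ^ 2 + u) + 1 := by
                have e : 3 * (u ^ 2 + u) + 1 = 3 * u ^ 2 + 3 * u + 1 := by ring
                rw [e]; exact c3
              omega
          have c4 := (h.coprime c2).dvd_of_dvd_mul_right c1
          have c5 := Nat.le_of_dvd (by positivity) c4
          exact c5.trans (by nlinarith)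
        · have b3 : ¬ p ∣ (t + 2) * (t ^ 2 + 3 * t + 3) := by
            intro hc
            rcases hp.dvd_mul.1 hc with b4 | b4
            · exact b1 b4
            · exact b2 b4
          have b4 := (h.coprime b3).dvd_of_dvd_mul_right h1
          exact (Nat.le_of_dvd (by positivity) b4).trans (by nlinarith)
      · have b1 : ¬ p ∣ t ^ 2 := fun hc => hpt (hp.dvd_of_dvd_pow hc)
        have b2 := (h.coprime b1).dvd_of_dvd_mul_left h1
        by_cases b3 : p ∣ t + 2
        · have b4 : ¬ p ∣ t ^ 2 + 3 * t + 3 := by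
            rw [e3]
            intro hc
            exact hp.one_lt.ne' (Nat.dvd_one.1 ((Nat.dvd_add_right (b3.mul_right _)).1 hc))
          have b5 := (h.coprime b4).dvd_of_dvd_mul_right b2
          exact (Nat.le_of_dvd (by positivity) b5).trans (by nlinarith)
        · exact Nat.le_of_dvd (by positivity) ((h.coprime b3).dvd_of_dvd_mul_left b2)
    have hlt := h.lt
    have h5 : n ^ 3 ≤ (t ^ 2 + 3 * t + 3) ^ 3 := Nat.pow_le_pow_left hle 3
    have h6 : N < (t ^ 2 + 3 * t + 3) ^ 3 := lt_of_lt_of_le hlt h5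
    obtain ⟨u, rfl⟩ : ∃ u, t = u + 2 := ⟨t - 2, by omega⟩
    rcases hgc with hg1 | hg1
    · rw [hg1, one_mul] at hN
      rw [hN] at h6
      have h7 : ((u + 2) ^ 2 + 3 * (u + 2) + 3) ^ 2 ≤ (u + 2 + 1) ^ 3 * ((u + 2) ^ 2 * (u + 2 + 2)) := by
        ring_nf
        nlinarith [Nat.zero_le (u ^ 6), Nat.zero_le (u ^ 5), Nat.zero_le (u ^ 4), Nat.zero_le (u ^ 3),
          Nat.zero_le (u ^ 2), Nat.zero_le u]
      have h8 := Nat.mul_le_mul_right ((u + 2) ^ 2 + 3 * (u + 2) + 3) h7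
      have h9 : ((u + 2) ^ 2 + 3 * (u + 2) + 3) ^ 2 * ((u + 2) ^ 2 + 3 * (u + 2) + 3) =
        ((u + 2) ^ 2 + 3 * (u + 2) + 3) ^ 3 := by ring
      have h10 : (u + 2 + 1) ^ 3 * ((u + 2) ^ 2 * (u + 2 + 2)) * ((u + 2) ^ 2 + 3 * (u + 2) + 3) =
        (u + 2 + 1) ^ 3 * ((u + 2) ^ 2 * ((u + 2 + 2) * ((u + 2) ^ 2 + 3 * (u + 2) + 3))) := by ring
      rw [h9, h10] at h8
      omega
    · obtain ⟨v, rfl⟩ : ∃ v, u = v + 1 := by
        refine ⟨u - 1, ?_⟩
        have : 3 ∣ u + 2 := hg1 ▸ hgt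
        omega
      have h7 : 3 * ((v + 1 + 2) ^ 2 + 3 * (v + 1 + 2) + 3) ^ 2 ≤
          (v + 1 + 2 + 1) ^ 3 * ((v + 1 + 2) ^ 2 * (v + 1 + 2 + 2)) := by
        ring_nf
        nlinarith [Nat.zero_le (v ^ 6), Nat.zero_le (v ^ 5), Nat.zero_le (v ^ 4), Nat.zero_le (v ^ 3),
          Nat.zero_le (v ^ 2), Nat.zero_le v]
      have h8 := Nat.mul_le_mul_right ((v + 1 + 2) ^ 2 + 3 * (v + 1 + 2) + 3) h7
      have h9 : 3 * ((v + 1 + 2) ^ 2 + 3 * (v + 1 + 2) + 3) ^ 2 * ((v + 1 + 2) ^ 2 + 3 * (v + 1 + 2) + 3) =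
        3 * ((v + 1 + 2) ^ 2 + 3 * (v + 1 + 2) + 3) ^ 3 := by ring
      have h10 : (v + 1 + 2 + 1) ^ 3 * ((v + 1 + 2) ^ 2 * (v + 1 + 2 + 2)) *
        ((v + 1 + 2) ^ 2 + 3 * (v + 1 + 2) + 3) =
        (v + 1 + 2 + 1) ^ 3 * ((v + 1 + 2) ^ 2 * ((v + 1 + 2 + 2) *
          ((v + 1 + 2) ^ 2 + 3 * (v + 1 + 2) + 3))) := by ring
      rw [h9, h10, ← hN, hg1] at h8
      omega

/-- `|PSU(3, r)|`, `r = t + 1` odd. -/
theorem psu_three {N n d p k t g s f : ℕ} (h : Ord N n d p k) (hs : s.Prime) (hr : t + 1 = s ^ f)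
    (ht : 2 ≤ t) (ht2 : 2 ∣ t) (hg : g = Nat.gcd 3 (t + 2))
    (hN : g * N = (t + 1) ^ 3 * (t * ((t + 2) ^ 2 * (t ^ 2 + t + 1)))) :
    n = (t + 1) ^ 3 ∧ g * d = t * (t + 2) := by
  have hp := h.prime
  have hg3 : g ∣ 3 := hg ▸ Nat.gcd_dvd_left 3 _
  have hgt : g ∣ t + 2 := hg ▸ Nat.gcd_dvd_right 3 _
  have hgc : g = 1 ∨ g = 3 := (Nat.dvd_prime Nat.prime_three).1 hg3
  have e3 : t ^ 2 + t + 1 = t * (t + 1) + 1 := by ring
  by_cases hpr : p ∣ t + 1
  · have hps : p = s := by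
      rw [hr] at hpr
      exact (Nat.prime_dvd_prime_iff_eq hp hs).1 (hp.dvd_of_dvd_pow hpr)
    subst hps
    have a1 : ¬ p ∣ t := fun hc => hp.one_lt.ne' (Nat.dvd_one.1 ((Nat.dvd_add_right hc).1 hpr))
    have a2 : ¬ p ∣ t + 2 := by
      intro hc
      have : p ∣ t + 1 + 1 := hc
      exact hp.one_lt.ne' (Nat.dvd_one.1 ((Nat.dvd_add_right hpr).1 this))
    have a3 : ¬ p ∣ t ^ 2 + t + 1 := by
      rw [e3]
      intro hc
      exact hp.one_lt.ne' (Nat.dvd_one.1 ((Nat.dvd_add_right (hpr.mul_left _)).1 hc))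
    have a4 : ¬ p ∣ g := fun hc => a2 (hc.trans hgt)
    have a5 : ¬ p ∣ t * ((t + 2) ^ 2 * (t ^ 2 + t + 1)) := by
      intro hc
      rcases hp.dvd_mul.1 hc with h1 | h1
      · exact a1 h1
      · rcases hp.dvd_mul.1 h1 with h2 | h2
        · exact a2 (hp.dvd_of_dvd_pow h2)
        · exact a3 h2
    have a6 : ¬ p ∣ g * ((n + 1) * d) := by
      intro hc
      rcases hp.dvd_mul.1 hc with h1 | h1
      · exact a4 h1
      · exact h.not_dvd h1
    have h3 : p ^ k * (g * ((n + 1) * d)) =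
        p ^ (f * 3) * (t * ((t + 2) ^ 2 * (t ^ 2 + t + 1))) := by
      rw [pow_mul, ← hr, ← h.hn, ← hN, h.eq]
      ring
    have h4 := pow_eq_of_mul_eq hp h3 a6 a5
    have h5 : n = (t + 1) ^ 3 := by rw [h.hn, h4, pow_mul, ← hr]
    rw [h4] at h3
    have h6 := Nat.eq_of_mul_eq_mul_left (pow_pos hp.pos (f * 3)) h3
    refine ⟨h5, ?_⟩
    rw [h5] at h6
    have h7 : ((t + 2) * (t ^ 2 + t + 1)) * (g * d) = ((t + 2) * (t ^ 2 + t + 1)) * (t * (t + 2)) := by
      calc ((t + 2) * (t ^ 2 + t + 1)) * (g * d) = g * (((t + 1) ^ 3 + 1) * d) := by ring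
        _ = t * ((t + 2) ^ 2 * (t ^ 2 + t + 1)) := h6
        _ = _ := by ring
    exact Nat.eq_of_mul_eq_mul_left (by positivity) h7
  · exfalso
    have hnd : n ∣ g * N := h.dvd_N.mul_left g
    rw [hN] at hnd
    have hcop : ¬ p ∣ (t + 1) ^ 3 := fun hc => hpr (hp.dvd_of_dvd_pow hc)
    have h1 : n ∣ t * ((t + 2) ^ 2 * (t ^ 2 + t + 1)) :=
      (h.coprime hcop).dvd_of_dvd_mul_left hnd
    have hp2 : ¬ p ∣ 2 := fun hc => h.ne_two ((Nat.prime_dvd_prime_iff_eq hp Nat.prime_two).1 hc)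
    -- the case `n ∣ (t + 2)²`
    have hhalf : n ∣ (t + 2) ^ 2 → n ≤ t ^ 2 + t + 1 := by
      intro hc
      obtain ⟨v, rfl⟩ := ht2
      have c1 : (2 * v + 2) ^ 2 = 2 ^ 2 * (v + 1) ^ 2 := by ring
      rw [c1] at hc
      have c2 := (h.coprime (fun hc => hp2 (hp.dvd_of_dvd_pow hc))).dvd_of_dvd_mul_left hc
      exact (Nat.le_of_dvd (by positivity) c2).trans (by nlinarith)
    have hle : n ≤ t ^ 2 + t + 1 := by
      by_cases hpt : p ∣ t + 2
      · have b1 : ¬ p ∣ t := fun hc => hp2 ((Nat.dvd_add_right hc).1 hpt)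
        by_cases b2 : p ∣ t ^ 2 + t + 1
        · have b3 : p = 3 := by
            have b4 : p ∣ t ^ 2 + t + 1 + 2 * (t + 2) := b2.add (hpt.mul_left 2)
            have b5 : t ^ 2 + t + 1 + 2 * (t + 2) = (t + 2) * (t + 1) + 3 := by ring
            rw [b5] at b4
            exact (Nat.prime_dvd_prime_iff_eq hp Nat.prime_three).1
              ((Nat.dvd_add_right (hpt.mul_right _)).1 b4)
          subst b3
          have b5 : g = 3 := by
            rcases hgc with b6 | b6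
            · rw [hg, Nat.gcd_eq_left hpt] at b6
              omega
            · exact b6
          obtain ⟨u, rfl⟩ : ∃ u, t = 3 * u + 1 := ⟨t / 3, by omega⟩
          have b7 : 3 * N = 3 * ((3 * u + 1 + 1) ^ 3 * ((3 * u + 1) * ((3 * u + 1 + 2) ^ 2 *
              (3 * u ^ 2 + 3 * u + 1)))) := by
            rw [← b5, hN, b5]
            ring
          have b8 := Nat.eq_of_mul_eq_mul_left (by omega) b7
          have b9 : n ∣ (3 * u + 1 + 1) ^ 3 * ((3 * u + 1) * ((3 * u + 1 + 2) ^ 2 *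
              (3 * u ^ 2 + 3 * u + 1))) := b8 ▸ h.dvd_N
          have c1 := (h.coprime hcop).dvd_of_dvd_mul_left b9
          have c2 := (h.coprime b1).dvd_of_dvd_mul_left c1
          have c3 : ¬ 3 ∣ 3 * u ^ 2 + 3 * u + 1 := by
            intro hc
            have : 3 ∣ 3 * (u ^ 2 + u) + 1 := by
              have e : 3 * (u ^ 2 + u) + 1 = 3 * u ^ 2 + 3 * u + 1 := by ring
              rw [e]; exact hc
            omega
          exact hhalf ((h.coprime c3).dvd_of_dvd_mul_right c2)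
        · have b4 := (h.coprime b1).dvd_of_dvd_mul_left h1
          exact hhalf ((h.coprime b2).dvd_of_dvd_mul_right b4)
      · have b1 : ¬ p ∣ (t + 2) ^ 2 := fun hc => hpt (hp.dvd_of_dvd_pow hc)
        have b2 : n ∣ (t + 2) ^ 2 * (t * (t ^ 2 + t + 1)) := by
          have : (t + 2) ^ 2 * (t * (t ^ 2 + t + 1)) = t * ((t + 2) ^ 2 * (t ^ 2 + t + 1)) := by ring
          rw [this]; exact h1
        have b3 := (h.coprime b1).dvd_of_dvd_mul_left b2
        by_cases b4 : p ∣ t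
        · have b5 : ¬ p ∣ t ^ 2 + t + 1 := by
            rw [e3]
            intro hc
            exact hp.one_lt.ne' (Nat.dvd_one.1 ((Nat.dvd_add_right (b4.mul_right _)).1 hc))
          exact (Nat.le_of_dvd (by omega) ((h.coprime b5).dvd_of_dvd_mul_right b3)).trans (by nlinarith)
        · exact Nat.le_of_dvd (by positivity) ((h.coprime b4).dvd_of_dvd_mul_left b3)
    have hlt := h.lt
    have h5 : n ^ 3 ≤ (t ^ 2 + t + 1) ^ 3 := Nat.pow_le_pow_left hle 3
    have h6 : N < (t ^ 2 + t + 1) ^ 3 := lt_of_lt_of_le hlt h5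
    have h7 : 3 * (t ^ 2 + t + 1) ^ 2 ≤ (t + 1) ^ 3 * (t * (t + 2) ^ 2) := by
      obtain ⟨u, rfl⟩ : ∃ u, t = u + 2 := ⟨t - 2, by omega⟩
      ring_nf
      nlinarith [Nat.zero_le (u ^ 6), Nat.zero_le (u ^ 5), Nat.zero_le (u ^ 4), Nat.zero_le (u ^ 3),
        Nat.zero_le (u ^ 2), Nat.zero_le u]
    have h8 := Nat.mul_le_mul_right (t ^ 2 + t + 1) h7
    have h9 : 3 * (t ^ 2 + t + 1) ^ 2 * (t ^ 2 + t + 1) = 3 * (t ^ 2 + t + 1) ^ 3 := by ring
    have h10 : (t + 1) ^ 3 * (t * (t + 2) ^ 2) * (t ^ 2 + t + 1) =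
      (t + 1) ^ 3 * (t * ((t + 2) ^ 2 * (t ^ 2 + t + 1))) := by ring
    rw [h9, h10, ← hN] at h8
    rcases hgc with hg1 | hg1 <;> rw [hg1] at h8 <;> omega

end Cfsg.Agent.HKS.EndNum
end

-- part: HKS/EndL
section
/-!
# Type `PSL(2, q)` from an abstract isomorphism
-/

set_option autoImplicit false

namespace Cfsg.Agent.HKS.EndL

open Matrix Subgroup MulAction
open Cfsg.Agent.LieRecognition.RankOneAbstract (Data)

section Ord

variable {G Ω : Type*} [Group G] [MulAction G Ω] {U : Ω → Subgroup G}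

theorem ord (h : SSplit U) [Finite G] [Finite Ω] {a b : Ω} (hab : b ≠ a) {p k : ℕ} (hp : p.Prime)
    (hp2 : p ≠ 2) (hk : k ≠ 0) (hU : Nat.card (U a) = p ^ k) (hd : ¬ p ∣ Nat.card (Dab G a b))
    (hlt : Nat.card (Dab G a b) < Nat.card (U a)) :
    EndNum.Ord (Nat.card G) (Nat.card (U a)) (Nat.card (Dab G a b)) p k where
  prime := hp
  ne_two := hp2
  k0 := hk
  hn := hU
  hd := hd
  hdn := hlt
  eq := by
    rw [h.card_G hab, h.card a, Nat.add_sub_cancel]

end Ord

variable {F : Type*} [Field F]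

/-- The projection. -/
abbrev pr (F : Type*) [Field F] : SpecialLinearGroup (Fin 2) F →*
    ProjectiveSpecialLinearGroup (Fin 2) F :=
  QuotientGroup.mk' (center (SpecialLinearGroup (Fin 2) F))

theorem ker_le : (pr F).ker ≤ bor F := by
  rw [QuotientGroup.ker_mk']
  exact center_le

theorem pr_eq_one {g : SpecialLinearGroup (Fin 2) F} :
    pr F g = 1 ↔ g ∈ center (SpecialLinearGroup (Fin 2) F) := by
  rw [← MonoidHom.mem_ker, QuotientGroup.ker_mk']

theorem data : Data ((bor F).map (pr F)) ((umHom F).range.map (pr F)) (pr F (wl F)) :=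
  UThreeGen.DataIso.data_map data_SL _ (QuotientGroup.mk'_surjective _) ker_le

theorem um_inj' {x : Multiplicative F} (hx : pr F (umHom F x) = 1) : x = 1 := by
  have h := (center_entries (pr_eq_one.1 hx)).2.1
  change (um x.toAdd).1 0 1 = 0 at h
  simpa [um] using h

theorem card_S [Fintype F] : Nat.card ((umHom F).range.map (pr F)) = Fintype.card F := by
  rw [← MonoidHom.range_comp]
  have hinj : Function.Injective ((pr F).comp (umHom F)) := by
    rw [injective_iff_map_eq_one]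
    exact fun x hx => um_inj' hx
  rw [← Nat.card_congr (MonoidHom.ofInjective hinj).toEquiv, ← Nat.card_eq_fintype_card]
  exact Nat.card_congr Multiplicative.toAdd

theorem wl_sq : pr F (wl F) * pr F (wl F) = 1 := by
  rw [← map_mul, pr_eq_one, mem_center_iff]
  exact wl_mul_wl

/-- Elements of the intersection of two Borel subgroups. -/
theorem exists_dg {x : ProjectiveSpecialLinearGroup (Fin 2) F} (h1 : x ∈ (bor F).map (pr F))
    (h2 : (pr F (wl F))⁻¹ * x * pr F (wl F) ∈ (bor F).map (pr F)) :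
    ∃ α : Fˣ, x = pr F (dg α) := by
  obtain ⟨A, hA, rfl⟩ := h1
  have h3 : pr F ((wl F)⁻¹ * A * wl F) ∈ (bor F).map (pr F) := by simpa using h2
  have h4 : ((wl F)⁻¹ * A * wl F).1 1 0 = 0 := UThreeGen.DataIso.mem_of_map_mem _ ker_le h3
  have hA0 : A.1 1 0 = 0 := hA
  have h5 : A.1 0 1 = 0 := by
    rw [mul10, mul10, mul11, (inv_entries _).2.2.1, (inv_entries _).2.2.2] at h4
    simpa [wl] using h4
  have hdet : A.1 0 0 * A.1 1 1 = 1 := by
    have := A.2
    rw [Matrix.det_fin_two, hA0, mul_zero, sub_zero] at this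
    exact this
  refine ⟨⟨A.1 0 0, A.1 1 1, hdet, by rw [mul_comm]; exact hdet⟩, ?_⟩
  congr 1
  apply ext2
  · simp [dg]
  · rw [h5]; simp [dg]
  · rw [hA0]; simp [dg]
  · simp [dg]

theorem dg_mem (α : Fˣ) : pr F (dg α) ∈ (bor F).map (pr F) :=
  ⟨dg α, show (dg α).1 1 0 = 0 by simp [dg], rfl⟩

theorem dg_mem' (α : Fˣ) : (pr F (wl F))⁻¹ * pr F (dg α) * pr F (wl F) ∈ (bor F).map (pr F) := by
  have h1 : wl F * dg α⁻¹ * (wl F)⁻¹ = dg α := by rw [wl_dg, inv_inv]
  have h2 : (wl F)⁻¹ * dg α * wl F = dg α⁻¹ := by rw [← h1]; group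
  rw [← map_inv, ← map_mul, ← map_mul, h2]
  exact dg_mem _

theorem comm_dg {α : Fˣ} {x : F}
    (h : pr F (dg α) * pr F (um x) = pr F (um x) * pr F (dg α)) :
    pr F (dg α) = 1 ∨ x = 0 := by
  rw [← map_mul, ← map_mul] at h
  have h1 : (um x * dg α)⁻¹ * (dg α * um x) ∈ center (SpecialLinearGroup (Fin 2) F) := by
    rw [← pr_eq_one, map_mul, map_inv, h, inv_mul_cancel]
  obtain ⟨e10, e01, e00⟩ := center_entries h1
  by_cases hx : x = 0
  · exact Or.inr hx
  left
  set Z := (um x * dg α)⁻¹ * (dg α * um x) with hZ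
  have h3 : dg α * um x = um x * dg α * Z := by rw [hZ]; group
  have c00 : (dg α * um x).1 0 0 = (um x * dg α * Z).1 0 0 := by rw [h3]
  have c01 : (dg α * um x).1 0 1 = (um x * dg α * Z).1 0 1 := by rw [h3]
  simp only [mul00, mul01, e10, e01] at c00 c01
  simp [dg, um] at c00 c01
  -- `Z 0 0 = 1`
  have hα : (α : F) ≠ 0 := α.ne_zero
  have hz : Z.1 0 0 = 1 := c00
  rw [← e00, hz] at c01
  have hα2 : (α : F) * α = 1 := by
    have h4 : x * ((α : F) - (α : F)⁻¹) = 0 := by linear_combination c01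
    have h5 := (mul_eq_zero.1 h4).resolve_left hx
    have h6 : (α : F) = (α : F)⁻¹ := sub_eq_zero.1 h5
    rw [h6]
    nth_rw 1 [← h6]
    exact mul_inv_cancel₀ hα
  rw [pr_eq_one, mem_center_iff]
  intro B
  have hinv : ((α⁻¹ : Fˣ) : F) = α := by
    rw [Units.val_inv_eq_inv_val]
    exact inv_eq_of_mul_eq_one_right hα2
  apply ext2 <;> simp only [mul00, mul01, mul10, mul11] <;> simp only [dg, hinv] <;> simp <;> ring

/-- **Type `PSL(2, q)`.** -/
theorem tl_of_iso {G Ω : Type*} [Group G] [MulAction G Ω] [Finite G] [Finite Ω]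
    {U : Ω → Subgroup G} (h : SSplit U) {a b : Ω} (hab : b ≠ a) {F : Type} [Field F] [Fintype F]
    (e : G ≃* ProjectiveSpecialLinearGroup (Fin 2) F) {p k : ℕ} (hp : p.Prime) (hp2 : p ≠ 2)
    (hk : k ≠ 0) (hU : Nat.card (U a) = p ^ k) (hd : ¬ p ∣ Nat.card (Dab G a b))
    (hlt : Nat.card (Dab G a b) < Nat.card (U a)) (hodd : Odd (Fintype.card F))
    (h3 : 3 < Fintype.card F) : TL U a b (Fintype.card F) := by
  classical
  have hfp : Fact p.Prime := ⟨hp⟩
  have hord := ord h hab hp hp2 hk hU hd hlt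
  obtain ⟨v, hv⟩ := hodd
  obtain ⟨s, -, f, hs, hf⟩ := FiniteField.card' F
  have hL := SmallSimple.PSLTwoPart.card_psl_two_odd (F := F) ⟨v, hv⟩
  have hGL : Nat.card G = Nat.card (ProjectiveSpecialLinearGroup (Fin 2) F) :=
    Nat.card_congr e.toEquiv
  have hN : 2 * Nat.card G = (2 * v + 1) * ((2 * v) * (2 * v + 2)) := by
    rw [hGL, hL, hv]
    congr 1
    have : (2 * v + 1) ^ 2 = (2 * v) * (2 * v + 2) + 1 := by ring
    rw [this, Nat.add_sub_cancel]
  obtain ⟨hn, hdv⟩ := EndNum.psl_two hord hs (hv ▸ hf) (by omega) hN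
  have hcF : Nat.card (U a) = Fintype.card F := by rw [hn, hv]
  have hG' : Nat.card G = p ^ k * ((Nat.card (U a) + 1) * Nat.card (Dab G a b)) := by
    rw [hord.eq, ← hU]
    ring
  obtain ⟨φ, hφS, hφa, hφb, hφw⟩ := EndT.exists_transport h (data (F := F)) e hk hab hU
    (by rw [card_S, ← hcF, hU]) hG' hord.not_dvd
  -- the two-point stabiliser
  have hD : ∀ g ∈ Dab G a b, ∃ α : Fˣ, φ g = pr F (dg α) := fun g hg =>
    exists_dg ((hφa g).2 hg.1) ((hφb g).2 hg.2)
  have hD' : ∀ α : Fˣ, φ.symm (pr F (dg α)) ∈ Dab G a b := fun α =>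
    ⟨(hφa _).1 (by rw [φ.apply_symm_apply]; exact dg_mem α),
      (hφb _).1 (by rw [φ.apply_symm_apply]; exact dg_mem' α)⟩
  have hUx : ∀ u ∈ U a, ∃ x : F, φ u = pr F (um x) := by
    intro u hu
    obtain ⟨_, ⟨x, rfl⟩, hx⟩ := (hφS u).2 hu
    exact ⟨x.toAdd, hx.symm⟩
  have hUx' : ∀ x : F, φ.symm (pr F (um x)) ∈ U a := fun x =>
    (hφS _).1 (by
      rw [φ.apply_symm_apply]
      exact ⟨um x, ⟨Multiplicative.ofAdd x, rfl⟩, rfl⟩)
  refine
    { pow := ?_, odd := ?_, three := h3, card := hcF, comm := ?_, cyc := ?_, cardE := ?_,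
      free := ?_, inv := ?_, iso := ?_ }
  · rw [hf]
    exact hs.isPrimePow.pow f.ne_zero
  · exact ⟨v, hv⟩
  · intro u hu u' hu'
    obtain ⟨x, hx⟩ := hUx u hu
    obtain ⟨y, hy⟩ := hUx u' hu'
    apply φ.injective
    rw [map_mul, map_mul, hx, hy, ← map_mul, ← map_mul, um_mul, um_mul, add_comm]
  · obtain ⟨g, hg⟩ := IsCyclic.exists_generator (α := Fˣ)
    refine ⟨φ.symm (pr F (dg g)), hD' g, fun d hd' => ?_⟩
    obtain ⟨α, hα⟩ := hD d hd'
    obtain ⟨m, hm⟩ := mem_powers_iff_mem_zpowers.2 (hg α⁻¹)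
    refine ⟨m, ?_⟩
    rw [mem_bot]
    apply φ.injective
    have hpow : (dg g : SpecialLinearGroup (Fin 2) F) ^ m = dg (g ^ m) :=
      ((dgHom F).map_pow g m).symm
    have hm' : g ^ m = α⁻¹ := hm
    rw [map_mul, map_pow, φ.apply_symm_apply, hα, ← map_pow, hpow, hm', ← map_mul, dg_mul,
      mul_inv_cancel, map_one]
    exact (congrArg (pr F) (dgHom F).map_one).trans (map_one _)
  · rw [relIndex_bot_left, hdv, hv]
    omega
  · intro d hd' u hu hdu
    obtain ⟨α, hα⟩ := hD d hd'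
    obtain ⟨x, hx⟩ := hUx u hu
    have h4 : pr F (dg α) * pr F (um x) = pr F (um x) * pr F (dg α) := by
      rw [← hα, ← hx, ← map_mul, ← map_mul, hdu]
    rcases comm_dg h4 with h5 | h5
    · left
      rw [mem_bot]
      apply φ.injective
      rw [hα, h5, map_one]
    · right
      apply φ.injective
      rw [hx, h5, um_zero, map_one, map_one]
  · intro w' hw' d hd'
    have hw1 := hφw (φ.symm (pr F (wl F))) (φ.apply_symm_apply _)
    set x₀ := φ.symm (pr F (wl F)) with hx₀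
    have hx₀' : φ x₀ = pr F (wl F) := φ.apply_symm_apply _
    have hx₂ : x₀ * x₀ = 1 := by
      apply φ.injective
      rw [map_mul, hx₀', wl_sq, map_one]
    have hxb : x₀ • b = a := by rw [← hw1, ← mul_smul, hx₂, one_smul]
    have ht : x₀⁻¹ * w' ∈ Dab G a b := by
      constructor
      · change (x₀⁻¹ * w') • a = a
        rw [mul_smul, hw'.1, inv_smul_eq_iff, hw1]
      · change (x₀⁻¹ * w') • b = b
        rw [mul_smul, hw'.2, inv_smul_eq_iff, hxb]
    obtain ⟨β, hβ⟩ := hD _ ht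
    obtain ⟨α, hα⟩ := hD d hd'
    have hw2 : φ w' = pr F (wl F) * pr F (dg β) := by
      rw [← hβ, ← hx₀', ← map_mul, mul_inv_cancel_left]
    rw [mem_bot]
    apply φ.injective
    rw [map_mul, map_mul, map_mul, map_inv, hw2, hα, map_one]
    have h5 : dg β * dg α * (dg β)⁻¹ = dg α := by
      rw [dg_mul, mul_comm β α, ← dg_mul, mul_inv_cancel_right]
    calc pr F (wl F) * pr F (dg β) * pr F (dg α) * (pr F (wl F) * pr F (dg β))⁻¹ * pr F (dg α)
        = pr F (wl F * (dg β * dg α * (dg β)⁻¹) * (wl F)⁻¹ * dg α) := by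
          simp only [map_mul, map_inv]
          group
      _ = 1 := by
          rw [h5, wl_dg, dg_mul, inv_mul_cancel]
          exact (congrArg (pr F) (dgHom F).map_one).trans (map_one _)
  · refine ⟨F, inferInstance, inferInstance, rfl, e.toMonoidHom.comp (⊤ : Subgroup G).subtype,
      ?_, ?_⟩
    · intro y
      exact ⟨⟨e.symm y, mem_top _⟩, e.apply_symm_apply y⟩
    · intro x
      rw [mem_bot]
      change e (x : G) = 1 ↔ _
      rw [map_eq_one_iff e e.injective]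

end Cfsg.Agent.HKS.EndL
end
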