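import Mathlib
set_option linter.all false

/-!
# Counting lemmas for involutions and free actions

* `exists_sign` : the sign of an involution;
* `exists_fixed_of_odd`, `exists_fixed_ne` : parity of the number of fixed points of an involution;
* `four_dvd_of_action` : if all homomorphisms `G → {±1}` are trivial, an involution is an even
  permutation of every finite `G`-set;
* `card_dvd_of_free` : a group acting with trivial stabilisers has order dividing the number of points;
* `four_group_count` : if `f, g, f ∘ g` are involutive maps with two fixed points each, the number of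
  points is `2` modulo `4`.
-/

set_option autoImplicit false

namespace Cfsg.Agent.HKS.CaseThree

open Subgroup MulAction

theorem exists_sign {α : Type*} [Fintype α] [DecidableEq α] (σ : Equiv.Perm α)
    (h2 : σ ^ 2 = 1) : ∃ k, Nat.card α = Nat.card {x // σ x = x} + 2 * k ∧
      Equiv.Perm.sign σ = (-1) ^ k := by
  have : Fact (Nat.Prime 2) := ⟨Nat.prime_two⟩
  have h3 := Equiv.Perm.cycleType_of_pow_prime_eq_one h2
  have h4 := σ.sum_cycleType
  have h7 : σ.support.card + Nat.card {x // σ x = x} = Nat.card α := by
    have h8 : Nat.card {x // ¬ (σ x = x)} = σ.support.card := by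
      rw [Nat.card_eq_fintype_card, Fintype.card_subtype]
      congr 1
    rw [← h8, add_comm, Nat.card_eq_fintype_card, Nat.card_eq_fintype_card,
      Nat.card_eq_fintype_card, Fintype.card_subtype_compl]
    have := Fintype.card_subtype_le (fun x => σ x = x)
    omega
  rw [h3, Multiset.sum_replicate, smul_eq_mul] at h4
  refine ⟨Multiset.card σ.cycleType, by omega, ?_⟩
  rw [Equiv.Perm.sign_of_cycleType, h3, Multiset.sum_replicate, Multiset.card_replicate,
    smul_eq_mul, pow_add, mul_comm _ 2, pow_mul]
  simp

theorem even_fixed {α : Type*} [Finite α] (f : α → α) (hf : ∀ x, f (f x) = x) :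
    ∃ k, Nat.card α = Nat.card {x // f x = x} + 2 * k := by
  classical
  have := Fintype.ofFinite α
  obtain ⟨k, hk, -⟩ := exists_sign (⟨f, f, hf, hf⟩ : Equiv.Perm α) (by
    rw [sq]; exact Equiv.ext hf)
  exact ⟨k, hk⟩

/-- An odd set with an involutive map has a fixed point. -/
theorem exists_fixed_of_odd {α : Type*} [Finite α] (ho : Odd (Nat.card α)) (f : α → α)
    (hf : ∀ x, f (f x) = x) : ∃ x, f x = x := by
  by_contra hc
  push Not at hc
  obtain ⟨k, hk⟩ := even_fixed f hf
  have h2 : IsEmpty {x // f x = x} := ⟨fun x => hc x.1 x.2⟩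
  rw [Nat.card_of_isEmpty (α := {x // f x = x})] at hk
  rw [Nat.odd_iff] at ho
  omega

/-- On an even set, an involutive map with a fixed point has another one. -/
theorem exists_fixed_ne {α : Type*} [Finite α] (ho : Even (Nat.card α)) (f : α → α)
    (hf : ∀ x, f (f x) = x) {x : α} (hx : f x = x) : ∃ y, y ≠ x ∧ f y = y := by
  by_contra hc
  push Not at hc
  obtain ⟨k, hk⟩ := even_fixed f hf
  have h2 : Nat.card {y // f y = y} = 1 := by
    rw [Nat.card_eq_one_iff_unique]
    refine ⟨⟨fun y y' => ?_⟩, ⟨⟨x, hx⟩⟩⟩
    apply Subtype.ext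
    by_cases h3 : y.1 = x
    · by_cases h4 : y'.1 = x
      · rw [h3, h4]
      · exact absurd y'.2 (hc _ h4)
    · exact absurd y.2 (hc _ h3)
  rw [Nat.even_iff] at ho
  omega

/-- Involutions are even permutations of every finite `G`-set if `G` has no sign characters. -/
theorem four_dvd_of_action {G β : Type*} [Group G] [MulAction G β] [Finite β]
    (hG : ∀ (f : G →* ℤˣ) (g : G), f g = 1) {t : G} (ht : t * t = 1) :
    4 ∣ Nat.card β - Nat.card {x : β // t • x = x} := by
  classical
  have := Fintype.ofFinite β
  have h1 := hG (Equiv.Perm.sign.comp (toPermHom G β)) t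
  rw [MonoidHom.comp_apply] at h1
  obtain ⟨k, hk, hs⟩ := exists_sign (toPermHom G β t) (by rw [← map_pow, sq, ht, map_one])
  rw [h1] at hs
  have h6 : Even k := by
    by_contra hc
    rw [Nat.not_even_iff_odd] at hc
    rw [hc.neg_one_pow] at hs
    exact absurd hs (by decide)
  obtain ⟨j, hj⟩ := h6
  have h7 : Nat.card {x : β // toPermHom G β t x = x} = Nat.card {x : β // t • x = x} := rfl
  rw [h7] at hk
  refine ⟨j, by omega⟩

/-- Burnside for a free action. -/
theorem card_dvd_of_free {G β : Type*} [Group G] [Finite G] [MulAction G β] [Finite β]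
    (hf : ∀ (g : G) (x : β), g • x = x → g = 1) : Nat.card G ∣ Nat.card β := by
  classical
  have := Fintype.ofFinite G
  have := Fintype.ofFinite β
  have : Fintype (Quotient (orbitRel G β)) := Fintype.ofFinite _
  have h1 := sum_card_fixedBy_eq_card_orbits_mul_card_group G β
  have h2 : ∀ g ∈ (Finset.univ : Finset G), g ≠ 1 → Fintype.card (fixedBy β g) = 0 := by
    intro g _ hg
    rw [Fintype.card_eq_zero_iff]
    exact ⟨fun x => hg (hf g x.1 x.2)⟩
  rw [Finset.sum_eq_single 1 h2 (fun h => absurd (Finset.mem_univ _) h)] at h1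
  have h3 : Fintype.card (fixedBy β (1 : G)) = Fintype.card β := by
    refine Fintype.card_congr ⟨fun x => x.1, fun x => ⟨x, one_smul _ _⟩, fun _ => rfl, fun _ => rfl⟩
  rw [h3] at h1
  rw [Nat.card_eq_fintype_card, Nat.card_eq_fintype_card, h1]
  exact dvd_mul_left _ _

/-- A four-group whose involutions have two fixed points each. -/
theorem four_group_count {α : Type*} [Finite α] (f g : α → α) (hf : ∀ x, f (f x) = x)
    (hg : ∀ x, g (g x) = x) (hfg : ∀ x, f (g x) = g (f x))
    (h1 : Nat.card {x // f x = x} = 2) (h2 : Nat.card {x // g x = x} = 2)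
    (h3 : Nat.card {x // f (g x) = x} = 2) : Nat.card α % 4 = 2 := by
  classical
  have := Fintype.ofFinite α
  let F : Equiv.Perm α := ⟨f, f, hf, hf⟩
  let H : Equiv.Perm α := ⟨g, g, hg, hg⟩
  obtain ⟨i, hi, hi'⟩ := exists_sign F (by rw [sq]; exact Equiv.ext hf)
  obtain ⟨j, hj, hj'⟩ := exists_sign H (by rw [sq]; exact Equiv.ext hg)
  obtain ⟨k, hk, hk'⟩ := exists_sign (F * H) (by
    rw [sq]
    refine Equiv.ext fun x => ?_
    change f (g (f (g x))) = x
    rw [hfg x, hg, hf])
  have e1 : Nat.card {x // F x = x} = 2 := h1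
  have e2 : Nat.card {x // H x = x} = 2 := h2
  have e3 : Nat.card {x // (F * H) x = x} = 2 := h3
  rw [e1] at hi
  rw [e2] at hj
  rw [e3] at hk
  have hij : i = j := by omega
  have hik : i = k := by omega
  subst hij
  subst hik
  rw [map_mul, hi', hj'] at hk'
  have h4 : Even i := by
    by_contra hc
    rw [Nat.not_even_iff_odd] at hc
    rw [hc.neg_one_pow] at hk'
    exact absurd hk' (by decide)
  obtain ⟨m, hm⟩ := h4
  omega

end Cfsg.Agent.HKS.CaseThree
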