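import Mathlib
import Cfsg.Agent.Lib.NilpotentCoprime
import Cfsg.Agent.Solvable.FpfThompson
import Cfsg.Agent.PermutationGroups.Gleason
import Cfsg.Agent.Lib.ThompsonPQ
import Cfsg.Agent.Solvable.Glauberman
import Cfsg.Agent.Solvable.FpfCyclic
import Cfsg.Agent.Classification.NormalCyclic
import Cfsg.Agent.S1160
import Cfsg.Agent.S0026
import Cfsg.Agent.Lib.CoprimeCommutator
import Cfsg.Prelude.Def_LieExceptional
import Cfsg.Agent.StrongEmb.SplitBN
import Cfsg.Agent.HKS.LinSplit_m3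
import Cfsg.Agent.HKS.CosetTwo
import Cfsg.Agent.HKS.Goals_m3
import Cfsg.Prelude.Def_Blocks
import Cfsg.Agent.S0923
import Cfsg.Agent.Blocks.ReynoldsAux
import Cfsg.Agent.Blocks.SecondMain
import Cfsg.Agent.Blocks.ExistsModular
import Cfsg.Agent.Blocks.PrincipalKernel
import Cfsg.Agent.HKS.Pair
import Cfsg.Agent.Blocks.PPart
import Cfsg.Agent.SuzukiRankOne.M1Mackey
import Cfsg.Agent.OddOrderLocal.NilpotentCores
import Cfsg.Agent.OddOrderCharacters.InnerLite
import Cfsg.Agent.FastGrp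
import Cfsg.Agent.Prune
set_option linter.all false

section
prune_inst 0x7fdcfef8abac8ddfdfff7e3ffed1dffc30c0cfffefdff943ffedeb9fcfdf03a309e5fb8d0df050fe8e77e29410b87813fb7eeeffea6bdc7ffffd5ff41ffbee0fa5e7b50951d488340fbc0ff703f177ae6f3ffffffffffffffffffffffffffffffffdfbfeffff

-- part: KantorSeitz/OfBase
section
prune_inst 0x20000304502000200001c0012400038d3d3000100004b80010106030206844e2120022e20e8a0070800020244003800481000005000100000000006004119048180aa60802300a10426008f80a885190c00000000000000000000000000000000204010000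
set_option linter.all false
open scoped Cfsg.Agent.FastGrp

-- part: KantorSeitz/Defs
section
/-!
# Doubly transitive groups whose point stabilisers have a transitive nilpotent normal subgroup

Basic definitions for the Kantor–Seitz theorem (S1145).

* `KS U` : `G` is transitive on `Ω`, and `U a` (`a : Ω`) is an equivariant family of nilpotent subgroups, `U a`
  fixing `a` and transitive on the remaining points;
* `pP p H`, `pR p H` : the `p`-part and the `p'`-part of a nilpotent subgroup `H`;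
* `X p U a b` : the stabiliser of `b` in the `p`-part of `U a`;
* `L p U a b` : the set of fixed points of `X p U a b` (the line through `a` and `b`).
-/

set_option autoImplicit false

namespace Cfsg.Agent.KantorSeitz

open Subgroup MulAction

/-! ### Nilpotent groups: `p`-part and `p'`-part -/

section Nil

variable {N : Type*} [Group N] [Finite N]

/-- In a finite nilpotent group the elements of `p`-power order form a subgroup. -/
theorem exists_pElems (hN : Group.IsNilpotent N) (p : ℕ) [hp : Fact p.Prime] :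
    ∃ S : Subgroup N, ∀ x, x ∈ S ↔ ∃ k, x ^ p ^ k = 1 := by
  obtain ⟨S⟩ : Nonempty (Sylow p N) := inferInstance
  have h := (Group.isNilpotent_of_finite_tfae (G := N)).out 0 3
  have hn : (S : Subgroup N).Normal := h.1 hN p hp S
  refine ⟨S, fun x => ⟨fun hx => ?_, fun hx => ?_⟩⟩
  · obtain ⟨k, hk⟩ := S.2 ⟨x, hx⟩
    exact ⟨k, congrArg Subtype.val hk⟩
  · have hz : IsPGroup p (zpowers x) := by
      obtain ⟨k, hk⟩ := hx
      rintro ⟨y, hy⟩
      obtain ⟨i, rfl⟩ := mem_zpowers_iff.1 hy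
      refine ⟨k, Subtype.ext ?_⟩
      change (x ^ i) ^ p ^ k = 1
      rw [← zpow_natCast, ← zpow_mul, mul_comm, zpow_mul, zpow_natCast, hk, one_zpow]
    obtain ⟨T, hT⟩ := hz.exists_le_sylow
    have : T = S := by
      have := Sylow.unique_of_normal S hn
      exact Subsingleton.elim _ _
    rw [this] at hT
    exact hT (mem_zpowers x)

end Nil

/-- In a finite nilpotent group the elements of order prime to `p` form a subgroup. -/
theorem exists_pPrimeElems {N : Type*} [Group N] [Finite N] (hN : Group.IsNilpotent N) (p : ℕ)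
    [hp : Fact p.Prime] : ∃ S : Subgroup N, ∀ x, x ∈ S ↔ (orderOf x).Coprime p := by
  obtain ⟨M, hM, h1, h2⟩ := Cfsg.Agent.Transfer.NormalPComplement.hasNormalPComplement_iff.1
    (Cfsg.Agent.Solvable.FpfThompson.hasNormalPComplement_of_isNilpotent hN p)
  exact ⟨M, Cfsg.Agent.Transfer.NormalPComplement.mem_iff_coprime_orderOf' M h1 h2⟩

section Parts

variable {G : Type*} [Group G]

/-- the `p`-part of a (nilpotent) subgroup -/
def pP (p : ℕ) (H : Subgroup G) : Subgroup G := _root_.Subgroup.closure {x | x ∈ H ∧ ∃ k, x ^ p ^ k = 1}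

/-- the `p'`-part of a (nilpotent) subgroup -/
def pR (p : ℕ) (H : Subgroup G) : Subgroup G := _root_.Subgroup.closure {x | x ∈ H ∧ (orderOf x).Coprime p}

theorem pP_le (p : ℕ) (H : Subgroup G) : pP p H ≤ H := by
  rw [pP, closure_le]
  exact fun x hx => hx.1

theorem pR_le (p : ℕ) (H : Subgroup G) : pR p H ≤ H := by
  rw [pR, closure_le]
  exact fun x hx => hx.1

theorem mem_pP_of {p : ℕ} {H : Subgroup G} {x : G} (hx : x ∈ H) {k : ℕ} (hk : x ^ p ^ k = 1) :
    x ∈ pP p H := subset_closure ⟨hx, k, hk⟩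

theorem mem_pR_of {p : ℕ} {H : Subgroup G} {x : G} (hx : x ∈ H) (hk : (orderOf x).Coprime p) :
    x ∈ pR p H := subset_closure ⟨hx, hk⟩

theorem mem_pP [Finite G] {p : ℕ} [Fact p.Prime] {H : Subgroup G} (hH : Group.IsNilpotent H)
    {x : G} : x ∈ pP p H ↔ x ∈ H ∧ ∃ k, x ^ p ^ k = 1 := by
  constructor
  · intro hx
    refine ⟨pP_le p H hx, ?_⟩
    obtain ⟨S, hS⟩ := exists_pElems hH p
    have h1 : pP p H ≤ S.map H.subtype := by
      rw [pP, closure_le]
      rintro y ⟨hy, k, hk⟩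
      exact ⟨⟨y, hy⟩, (hS _).2 ⟨k, Subtype.ext hk⟩, rfl⟩
    obtain ⟨y, hy, rfl⟩ := h1 hx
    obtain ⟨k, hk⟩ := (hS y).1 hy
    exact ⟨k, congrArg Subtype.val hk⟩
  · rintro ⟨h1, k, hk⟩
    exact mem_pP_of h1 hk

theorem mem_pR [Finite G] {p : ℕ} [Fact p.Prime] {H : Subgroup G} (hH : Group.IsNilpotent H)
    {x : G} : x ∈ pR p H ↔ x ∈ H ∧ (orderOf x).Coprime p := by
  constructor
  · intro hx
    refine ⟨pR_le p H hx, ?_⟩
    obtain ⟨S, hS⟩ := exists_pPrimeElems hH p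
    have h1 : pR p H ≤ S.map H.subtype := by
      rw [pR, closure_le]
      rintro y ⟨hy, hk⟩
      refine ⟨⟨y, hy⟩, (hS _).2 ?_, rfl⟩
      rwa [Subgroup.orderOf_mk]
    obtain ⟨y, hy, rfl⟩ := h1 hx
    have := (hS y).1 hy
    rwa [← Subgroup.orderOf_coe] at this
  · rintro ⟨h1, hk⟩
    exact mem_pR_of h1 hk

theorem isPGroup_pP [Finite G] {p : ℕ} [Fact p.Prime] {H : Subgroup G} (hH : Group.IsNilpotent H) :
    IsPGroup p (pP p H) := by
  rintro ⟨x, hx⟩
  obtain ⟨-, k, hk⟩ := (mem_pP hH).1 hx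
  exact ⟨k, Subtype.ext hk⟩

theorem coprime_pR [Finite G] {p : ℕ} [hp : Fact p.Prime] {H : Subgroup G}
    (hH : Group.IsNilpotent H) : (Nat.card (pR p H)).Coprime p := by
  rw [Nat.coprime_comm, Nat.Prime.coprime_iff_not_dvd hp.out]
  intro h
  obtain ⟨⟨x, hx⟩, hx'⟩ := exists_prime_orderOf_dvd_card' p h
  have h1 := ((mem_pR hH).1 hx).2
  rw [Subgroup.orderOf_mk] at hx'
  rw [hx', Nat.coprime_self] at h1
  exact hp.out.one_lt.ne' h1

/-- every element of a nilpotent subgroup is the product of its parts -/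
theorem exists_mul_parts [Finite G] {p : ℕ} [hp : Fact p.Prime] {H : Subgroup G} {x : G}
    (hx : x ∈ H) : ∃ y ∈ pP p H, ∃ z ∈ pR p H, x = y * z ∧ y ∈ zpowers x ∧ z ∈ zpowers x := by
  -- order of `x` is `p ^ k * m`, `m` prime to `p`
  obtain ⟨k, m, hm, hk⟩ := Nat.exists_eq_pow_mul_and_not_dvd (orderOf_pos x).ne' p hp.out.ne_one
  have hcop : (p ^ k).Coprime m := Nat.Coprime.pow_left k ((Nat.Prime.coprime_iff_not_dvd hp.out).2 hm)
  have hbez : (1 : ℤ) = (p ^ k : ℕ) * Nat.gcdA (p ^ k) m + (m : ℤ) * Nat.gcdB (p ^ k) m := by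
    rw [← Nat.gcd_eq_gcd_ab, hcop]
    rfl
  refine ⟨x ^ ((m : ℤ) * Nat.gcdB (p ^ k) m), ?_, x ^ (((p ^ k : ℕ) : ℤ) * Nat.gcdA (p ^ k) m), ?_, ?_,
    zpow_mem (mem_zpowers x) _, zpow_mem (mem_zpowers x) _⟩
  · refine mem_pP_of (k := k) (zpow_mem hx _) ?_
    rw [← zpow_natCast, ← zpow_mul]
    have : (m : ℤ) * Nat.gcdB (p ^ k) m * ((p ^ k : ℕ) : ℤ) = (orderOf x : ℤ) * Nat.gcdB (p ^ k) m := by
      rw [hk]; push_cast; ring
    rw [this, zpow_mul, zpow_natCast, pow_orderOf_eq_one, one_zpow]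
  · refine mem_pR_of (zpow_mem hx _) ?_
    have h1 : (x ^ (((p ^ k : ℕ) : ℤ) * Nat.gcdA (p ^ k) m)) ^ m = 1 := by
      rw [← zpow_natCast, ← zpow_mul]
      have : ((p ^ k : ℕ) : ℤ) * Nat.gcdA (p ^ k) m * (m : ℤ) = (orderOf x : ℤ) * Nat.gcdA (p ^ k) m := by
        rw [hk]; push_cast; ring
      rw [this, zpow_mul, zpow_natCast, pow_orderOf_eq_one, one_zpow]
    exact Nat.Coprime.coprime_dvd_left (orderOf_dvd_of_pow_eq_one h1)
      ((Nat.Prime.coprime_iff_not_dvd hp.out).2 hm).symm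
  · rw [← zpow_add, add_comm, ← hbez, zpow_one]

theorem commute_parts [Finite G] {p : ℕ} [hp : Fact p.Prime] {H : Subgroup G}
    (hH : Group.IsNilpotent H) {y z : G} (hy : y ∈ pP p H) (hz : z ∈ pR p H) : y * z = z * y := by
  obtain ⟨hyH, k, hk⟩ := (mem_pP hH).1 hy
  obtain ⟨hzH, hz'⟩ := (mem_pR hH).1 hz
  have := hH
  have h := Cfsg.Agent.Lib.NilpotentCoprime.commute_of_pow_eq_one
    (a := (⟨y, hyH⟩ : H)) (b := (⟨z, hzH⟩ : H)) (m := p ^ k) (n := orderOf z)
    (Nat.Coprime.pow_left k hz'.symm) (Subtype.ext hk) (Subtype.ext (pow_orderOf_eq_one z))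
  exact congrArg Subtype.val h

theorem pP_conj {p : ℕ} {H K : Subgroup G} {g : G}
    (h : ∀ x ∈ H, g * x * g⁻¹ ∈ K) {x : G} (hx : x ∈ pP p H) : g * x * g⁻¹ ∈ pP p K := by
  have h1 : pP p H ≤ (pP p K).comap (MulAut.conj g).toMonoidHom := by
    rw [pP, closure_le]
    rintro y ⟨hy, k, hk⟩
    refine mem_pP_of (k := k) (h y hy) ?_
    change (g * y * g⁻¹) ^ p ^ k = 1
    rw [conj_pow, hk]
    group
  exact h1 hx

theorem pR_conj {p : ℕ} {H K : Subgroup G} {g : G}
    (h : ∀ x ∈ H, g * x * g⁻¹ ∈ K) {x : G} (hx : x ∈ pR p H) : g * x * g⁻¹ ∈ pR p K := by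
  have h1 : pR p H ≤ (pR p K).comap (MulAut.conj g).toMonoidHom := by
    rw [pR, closure_le]
    rintro y ⟨hy, hk⟩
    refine mem_pR_of (h y hy) ?_
    have : orderOf (g * y * g⁻¹) = orderOf y := orderOf_injective (MulAut.conj g).toMonoidHom
      (MulAut.conj g).injective y
    change (orderOf (g * y * g⁻¹)).Coprime p
    rwa [this]
  exact h1 hx

end Parts

/-! ### The set-up -/

/-- `G` is transitive on `Ω`, and `U a` is an equivariant family of nilpotent subgroups, `U a` fixing `a` and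
transitive on the remaining points. -/
structure KS {G Ω : Type*} [Group G] [MulAction G Ω] (U : Ω → Subgroup G) : Prop where
  fix : ∀ {a : Ω} {x : G}, x ∈ U a → x • a = a
  conj : ∀ (g : G) {a : Ω} {x : G}, x ∈ U a → g * x * g⁻¹ ∈ U (g • a)
  trans : ∀ {a b c : Ω}, b ≠ a → c ≠ a → ∃ x ∈ U a, x • b = c
  nil : ∀ a, Group.IsNilpotent (U a)
  tr : ∀ a b : Ω, ∃ g : G, g • a = b

section DefXL

variable {G Ω : Type*} [Group G]

/-- The centre of the `p`-part of `U a`. -/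
def Z (p : ℕ) (U : Ω → Subgroup G) (a : Ω) : Subgroup G :=
  pP p (U a) ⊓ centralizer (pP p (U a) : Set G)

theorem mem_Z {p : ℕ} {U : Ω → Subgroup G} {a : Ω} {x : G} :
    x ∈ Z p U a ↔ x ∈ pP p (U a) ∧ ∀ y ∈ pP p (U a), y * x = x * y := by
  rw [Z, mem_inf, mem_centralizer_iff]
  rfl

end DefXL

variable {G Ω : Type*} [Group G] [MulAction G Ω]

/-- The stabiliser of `b` in the `p`-part of `U a`. -/
def X (p : ℕ) (U : Ω → Subgroup G) (a b : Ω) : Subgroup G := pP p (U a) ⊓ stabilizer G b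

/-- The line through `a` and `b`: the set of fixed points of `X p U a b`. -/
def L (p : ℕ) (U : Ω → Subgroup G) (a b : Ω) : Set Ω := {c | ∀ x ∈ X p U a b, x • c = c}

theorem mem_X {p : ℕ} {U : Ω → Subgroup G} {a b : Ω} {x : G} :
    x ∈ X p U a b ↔ x ∈ pP p (U a) ∧ x • b = b := Iff.rfl

theorem mem_L {p : ℕ} {U : Ω → Subgroup G} {a b c : Ω} :
    c ∈ L p U a b ↔ ∀ x ∈ X p U a b, x • c = c := Iff.rfl

namespace KS

variable {U : Ω → Subgroup G}

theorem conj_iff (h : KS U) (g : G) {a : Ω} {x : G} : g * x * g⁻¹ ∈ U (g • a) ↔ x ∈ U a := by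
  constructor
  · intro hx
    have h1 := h.conj g⁻¹ hx
    rw [inv_smul_smul] at h1
    have h2 : g⁻¹ * (g * x * g⁻¹) * g⁻¹⁻¹ = x := by group
    rwa [h2] at h1
  · exact h.conj g

theorem conj_pP (h : KS U) {p : ℕ} (g : G) {a : Ω} {x : G} (hx : x ∈ pP p (U a)) :
    g * x * g⁻¹ ∈ pP p (U (g • a)) := pP_conj (fun _ hy => h.conj g hy) hx

theorem conj_pR (h : KS U) {p : ℕ} (g : G) {a : Ω} {x : G} (hx : x ∈ pR p (U a)) :
    g * x * g⁻¹ ∈ pR p (U (g • a)) := pR_conj (fun _ hy => h.conj g hy) hx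

theorem conj_pP_of_fix (h : KS U) {p : ℕ} {g : G} {a : Ω} (hg : g • a = a) {x : G}
    (hx : x ∈ pP p (U a)) : g * x * g⁻¹ ∈ pP p (U a) := by
  have := h.conj_pP (p := p) g hx
  rwa [hg] at this

theorem conj_pR_of_fix (h : KS U) {p : ℕ} {g : G} {a : Ω} (hg : g • a = a) {x : G}
    (hx : x ∈ pR p (U a)) : g * x * g⁻¹ ∈ pR p (U a) := by
  have := h.conj_pR (p := p) g hx
  rwa [hg] at this

theorem conj_X (h : KS U) {p : ℕ} (g : G) {a b : Ω} {x : G} (hx : x ∈ X p U a b) :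
    g * x * g⁻¹ ∈ X p U (g • a) (g • b) := by
  refine mem_X.2 ⟨h.conj_pP g hx.1, ?_⟩
  rw [mul_smul, inv_smul_smul, mul_smul, (mem_X.1 hx).2]

theorem conj_Z (h : KS U) {p : ℕ} (g : G) {a : Ω} {x : G} (hx : x ∈ Z p U a) :
    g * x * g⁻¹ ∈ Z p U (g • a) := by
  rw [mem_Z] at hx ⊢
  refine ⟨h.conj_pP g hx.1, fun y hy => ?_⟩
  have h1 := h.conj_pP g⁻¹ hy
  rw [inv_smul_smul] at h1
  have h2 := hx.2 _ h1
  have h3 : y * (g * x * g⁻¹) = g * (g⁻¹ * y * g⁻¹⁻¹ * x) * g⁻¹ := by group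
  rw [h3, h2]
  group

/-- double transitivity -/
theorem two (h : KS U) {a b c d : Ω} (hab : a ≠ b) (hcd : c ≠ d) :
    ∃ g : G, g • a = c ∧ g • b = d := by
  obtain ⟨g, hg⟩ := h.tr a c
  obtain ⟨x, hx, hx'⟩ := h.trans (a := c) (b := g • b) (c := d)
    (fun e => hab (MulAction.injective g (by change g • a = g • b; rw [hg]; exact e.symm))) hcd.symm
  exact ⟨x * g, by rw [mul_smul, hg, h.fix hx], by rw [mul_smul, hx']⟩

end KS

end Cfsg.Agent.KantorSeitz
end

-- part: KantorSeitz/Lines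
section
/-!
# The linear space attached to a non-regular transitive nilpotent normal subgroup

Let `h : KS U`, the action faithful, `p` a prime with `X p U a b ≠ ⊥`. Then the sets `L p U a b` (`a ≠ b`) are
the lines of a linear space.
-/

set_option autoImplicit false
set_option linter.unusedSectionVars false

namespace Cfsg.Agent.KantorSeitz

open Subgroup MulAction

/-! ### Auxiliary facts on `p`-groups -/

section PGroup

variable {G : Type*} [Group G] [Finite G]

theorem exists_fixed_of_pgroup (p : ℕ) [hp : Fact p.Prime] (Y W : Subgroup G) (hY : IsPGroup p Y)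
    (hW : IsPGroup p W) (hW1 : W ≠ ⊥) (hn : ∀ y ∈ Y, ∀ z ∈ W, y * z * y⁻¹ ∈ W) :
    ∃ z ∈ W, z ≠ 1 ∧ ∀ y ∈ Y, y * z = z * y := by
  letI : MulAction Y W :=
    { smul := fun y z => ⟨y.1 * z.1 * y.1⁻¹, hn y.1 y.2 z.1 z.2⟩
      one_smul := fun z => Subtype.ext (by change 1 * z.1 * 1⁻¹ = z.1; group)
      mul_smul := fun x y z => Subtype.ext (by
        change (x.1 * y.1) * z.1 * (x.1 * y.1)⁻¹ = x.1 * (y.1 * z.1 * y.1⁻¹) * x.1⁻¹
        group) }
  have hsm : ∀ (y : Y) (z : W), ((y • z : W) : G) = y.1 * z.1 * y.1⁻¹ := fun _ _ => rfl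
  have h1 := hY.card_modEq_card_fixedPoints W
  have hpW : p ∣ Nat.card W := by
    obtain ⟨n, hn⟩ := IsPGroup.iff_card.1 hW
    rw [hn]
    refine dvd_pow_self p ?_
    rintro rfl
    rw [pow_zero, Subgroup.card_eq_one] at hn
    exact hW1 hn
  have h2 : p ∣ Nat.card (fixedPoints Y W) := (Nat.modEq_zero_iff_dvd.1 (h1.symm.trans
    (Nat.modEq_zero_iff_dvd.2 hpW)))
  have h3 : (1 : W) ∈ fixedPoints Y W := fun y => Subtype.ext (by
    rw [hsm]; change y.1 * 1 * y.1⁻¹ = 1; group)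
  have h4 : 1 < Nat.card (fixedPoints Y W) := by
    have hpos : 0 < Nat.card (fixedPoints Y W) := Nat.card_pos_iff.2 ⟨⟨⟨1, h3⟩⟩, inferInstance⟩
    exact lt_of_lt_of_le hp.out.one_lt (Nat.le_of_dvd hpos h2)
  have := Finite.one_lt_card_iff_nontrivial.1 h4
  obtain ⟨⟨⟨z, hz⟩, hzf⟩, hz1⟩ := exists_ne (⟨1, h3⟩ : fixedPoints Y W)
  refine ⟨z, hz, fun e => hz1 (by subst e; rfl), fun y hy => ?_⟩
  have h5 := congrArg Subtype.val (hzf ⟨y, hy⟩)
  rw [hsm] at h5
  change y * z * y⁻¹ = z at h5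
  rw [mul_inv_eq_iff_eq_mul] at h5
  exact h5

theorem Z_ne_bot {Ω : Type*} {U : Ω → Subgroup G} {p : ℕ} [hp : Fact p.Prime] {a : Ω}
    (hU : Group.IsNilpotent (U a)) (h : pP p (U a) ≠ ⊥) : Z p U a ≠ ⊥ := by
  obtain ⟨z, hz, hz1, hzc⟩ := exists_fixed_of_pgroup p (pP p (U a)) (pP p (U a)) (isPGroup_pP hU)
    (isPGroup_pP hU) h (fun y hy z hz => mul_mem (mul_mem hy hz) (inv_mem hy))
  intro hb
  exact hz1 ((eq_bot_iff_forall _).1 hb z (mem_Z.2 ⟨hz, hzc⟩))

theorem Z_le {Ω : Type*} {U : Ω → Subgroup G} {p : ℕ} {a : Ω} : Z p U a ≤ pP p (U a) := inf_le_left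

end PGroup

namespace KS

variable {G Ω : Type*} [Group G] [Finite G] [MulAction G Ω] [Finite Ω] [FaithfulSMul G Ω]
  {U : Ω → Subgroup G} {p : ℕ} [hp : Fact p.Prime]

theorem eq_one_of_fix {x : G} (hx : ∀ c : Ω, x • c = c) : x = 1 :=
  FaithfulSMul.eq_of_smul_eq_smul (α := Ω) (fun c => by rw [hx, one_smul])

/-- an element commuting with `U a`, fixing `a` and another point is trivial -/
theorem semireg_of_comm (h : KS U) {a b : Ω} (hab : b ≠ a) {z : G} (hza : z • a = a)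
    (hc : ∀ y ∈ U a, y * z = z * y) (hb : z • b = b) : z = 1 := by
  apply eq_one_of_fix (Ω := Ω)
  intro c
  by_cases hca : c = a
  · rw [hca, hza]
  · obtain ⟨y, hy, rfl⟩ := h.trans hab hca
    rw [← mul_smul, ← hc y hy, mul_smul, hb]

theorem Z_comm (h : KS U) {a : Ω} {z : G} (hz : z ∈ Z p U a) {y : G} (hy : y ∈ U a) :
    y * z = z * y := by
  obtain ⟨y1, hy1, y2, hy2, rfl, -, -⟩ := exists_mul_parts (p := p) hy
  have h1 := (mem_Z.1 hz).2 y1 hy1
  have h2 := commute_parts (h.nil a) (mem_Z.1 hz).1 hy2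
  rw [mul_assoc, ← h2, ← mul_assoc, h1, mul_assoc]

theorem Z_semireg (h : KS U) {a b : Ω} (hab : b ≠ a) {z : G} (hz : z ∈ Z p U a)
    (hb : z • b = b) : z = 1 :=
  h.semireg_of_comm hab (h.fix (pP_le p _ (Z_le hz))) (fun _ hy => h.Z_comm hz hy) hb

theorem Z_fix (h : KS U) {a : Ω} {z : G} (hz : z ∈ Z p U a) : z • a = a :=
  h.fix (pP_le p _ (Z_le hz))

theorem pP_ne_bot (h : KS U) {a : Ω} (ha : pP p (U a) ≠ ⊥) (b : Ω) : pP p (U b) ≠ ⊥ := by
  obtain ⟨g, rfl⟩ := h.tr a b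
  intro hb
  apply ha
  rw [eq_bot_iff_forall] at hb ⊢
  intro x hx
  have := hb _ (h.conj_pP g hx)
  have h2 : x = g⁻¹ * (g * x * g⁻¹) * g := by group
  rw [h2, this]
  group

/-- Gleason: the centralizer of a `p`-group is transitive on its fixed points. -/
theorem exists_centralizing (h : KS U) {a : Ω} (ha : pP p (U a) ≠ ⊥) {Y : Subgroup G}
    (hY : IsPGroup p Y) {b c : Ω} (hb : ∀ y ∈ Y, y • b = b) (hc : ∀ y ∈ Y, y • c = c) :
    ∃ g : G, (∀ y ∈ Y, y * g = g * y) ∧ g • b = c := by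
  let Δ : Set Ω := {d | ∀ y ∈ Y, y • d = d}
  let C : Subgroup G := centralizer (Y : Set G)
  have hC : ∀ g ∈ C, ∀ d ∈ Δ, g • d ∈ Δ := by
    intro g hg d hd y hy
    rw [← mul_smul, mem_centralizer_iff.1 hg y hy, mul_smul, hd y hy]
  letI : MulAction C Δ :=
    { smul := fun g d => ⟨g.1 • d.1, hC g.1 g.2 d.1 d.2⟩
      one_smul := fun d => Subtype.ext (one_smul G d.1)
      mul_smul := fun x y d => Subtype.ext (mul_smul x.1 y.1 d.1) }
  have hsm : ∀ (g : C) (d : Δ), ((g • d : Δ) : Ω) = g.1 • d.1 := fun _ _ => rfl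
  have key : IsPretransitive C Δ := by
    refine Cfsg.Agent.PermutationGroups.Gleason.isPretransitive (p := p) hp.out ?_
    rintro ⟨d, hd⟩
    have hPd := h.pP_ne_bot ha d
    obtain ⟨z, hz, hz1, hzc⟩ := exists_fixed_of_pgroup p Y (Z p U d) hY
      ((isPGroup_pP (h.nil d)).to_le Z_le) (Z_ne_bot (h.nil d) hPd) (fun y hy z hz => by
        have := h.conj_Z y hz
        rwa [hd y hy] at this)
    have hzC : z ∈ C := mem_centralizer_iff.2 hzc
    refine ⟨zpowers ⟨z, hzC⟩, ?_, ?_⟩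
    · obtain ⟨-, k, hk⟩ := (mem_pP (h.nil d)).1 (Z_le hz)
      rintro ⟨x, hx⟩
      obtain ⟨i, rfl⟩ := mem_zpowers_iff.1 hx
      refine ⟨k, Subtype.ext ?_⟩
      change ((⟨z, hzC⟩ : C) ^ i) ^ p ^ k = 1
      have : (⟨z, hzC⟩ : C) ^ p ^ k = 1 := Subtype.ext hk
      rw [← zpow_natCast, ← zpow_mul, mul_comm, zpow_mul, zpow_natCast, this, one_zpow]
    · ext ⟨e, he⟩
      simp only [Set.mem_singleton_iff]
      constructor
      · intro hfix
        have h1 := congrArg Subtype.val (hfix ⟨⟨z, hzC⟩, mem_zpowers _⟩)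
        change z • e = e at h1
        by_contra hne
        exact hz1 (h.Z_semireg (fun hed => hne (Subtype.ext hed)) hz h1)
      · intro hed
        have hed' : e = d := congrArg Subtype.val hed
        subst hed'
        rintro ⟨x, hx⟩
        obtain ⟨i, rfl⟩ := mem_zpowers_iff.1 hx
        apply Subtype.ext
        change ((⟨z, hzC⟩ : C) ^ i).1 • e = e
        have h2 : z ∈ stabilizer G e := h.Z_fix hz
        exact (zpow_mem h2 i : z ^ i ∈ stabilizer G e)
  obtain ⟨g, hg⟩ := key.exists_smul_eq ⟨b, hb⟩ ⟨c, hc⟩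
  exact ⟨g.1, fun y hy => mem_centralizer_iff.1 g.2 y hy, congrArg Subtype.val hg⟩

/-- For an equivariant family `N` of `p`-subgroups of the point stabilisers, the stabiliser of `b` in `N a`
is contained in `N b`. -/
theorem fam_symm (h : KS U) {a b : Ω} (ha : pP p (U a) ≠ ⊥) {N : Ω → Subgroup G}
    (hN : ∀ (g : G) (c : Ω) (x : G), x ∈ N c → g * x * g⁻¹ ∈ N (g • c))
    (hNp : IsPGroup p (N a)) (hNf : ∀ x ∈ N a, x • a = a) {x : G} (hx : x ∈ N a)
    (hxb : x • b = b) : x ∈ N b := by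
  obtain ⟨g, hg, hgb⟩ := h.exists_centralizing ha (Y := N a ⊓ stabilizer G b)
    (hNp.to_le inf_le_left) (b := a) (c := b) (fun y hy => hNf y hy.1) (fun y hy => hy.2)
  have h1 := hN g a x hx
  rw [hgb] at h1
  have h2 : g * x * g⁻¹ = x := by
    rw [← hg x ⟨hx, hxb⟩]
    group
  rwa [h2] at h1

theorem isPGroup_X (h : KS U) (a b : Ω) : IsPGroup p (X p U a b) :=
  (isPGroup_pP (h.nil a)).to_le inf_le_left

theorem X_le_symm (h : KS U) (a b : Ω) : X p U a b ≤ X p U b a := by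
  intro x hx
  by_cases ha : pP p (U a) = ⊥
  · have := (mem_X.1 hx).1
    rw [ha, mem_bot] at this
    rw [this]
    exact one_mem _
  · refine mem_X.2 ⟨h.fam_symm (N := fun c => pP p (U c)) ha (fun g c x hx => h.conj_pP g hx)
      (isPGroup_pP (h.nil a)) (fun y hy => h.fix (pP_le p _ hy)) hx.1 hx.2, h.fix (pP_le p _ hx.1)⟩

theorem X_symm (h : KS U) (a b : Ω) : X p U a b = X p U b a :=
  le_antisymm (h.X_le_symm a b) (h.X_le_symm b a)

theorem left_mem_L (h : KS U) (a b : Ω) : a ∈ L p U a b := fun _ hx => h.fix (pP_le p _ hx.1)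

theorem right_mem_L (a b : Ω) : b ∈ L p U a b := fun _ hx => hx.2

theorem card_X_smul (h : KS U) (g : G) (a b : Ω) :
    Nat.card (X p U (g • a) (g • b)) = Nat.card (X p U a b) := by
  refine (Nat.card_congr ?_).symm
  refine ⟨fun x => ⟨g * x.1 * g⁻¹, h.conj_X g x.2⟩, fun x => ⟨g⁻¹ * x.1 * g, ?_⟩, ?_, ?_⟩
  · have := h.conj_X (p := p) g⁻¹ x.2
    rwa [inv_smul_smul, inv_smul_smul, inv_inv] at this
  · intro x
    apply Subtype.ext
    change g⁻¹ * (g * x.1 * g⁻¹) * g = x.1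
    group
  · intro x
    apply Subtype.ext
    change g * (g⁻¹ * x.1 * g) * g⁻¹ = x.1
    group

theorem card_X (h : KS U) {a b c d : Ω} (hab : a ≠ b) (hcd : c ≠ d) :
    Nat.card (X p U a b) = Nat.card (X p U c d) := by
  obtain ⟨g, rfl, rfl⟩ := h.two hab hcd
  rw [h.card_X_smul]

theorem X_eq_of_mem_left (h : KS U) {a b c : Ω} (hab : a ≠ b) (hc : c ∈ L p U a b) (hca : a ≠ c) :
    X p U a c = X p U a b := by
  symm
  apply Subgroup.eq_of_le_of_card_ge
  · exact fun x hx => mem_X.2 ⟨hx.1, hc x hx⟩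
  · exact (h.card_X hca hab).le

/-- Two points of a line determine the group `X` of the line. -/
theorem X_eq (h : KS U) {a b c d : Ω} (hab : a ≠ b) (hc : c ∈ L p U a b) (hd : d ∈ L p U a b)
    (hcd : c ≠ d) : X p U c d = X p U a b := by
  by_cases hca : a = c
  · subst hca
    exact h.X_eq_of_mem_left hab hd hcd
  · have h1 : X p U a c = X p U a b := h.X_eq_of_mem_left hab hc hca
    have h2 : X p U c a = X p U a b := by rw [h.X_symm c a, h1]
    have h3 : d ∈ L p U c a := by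
      intro x hx
      rw [h2] at hx
      exact hd x hx
    rw [h.X_eq_of_mem_left (Ne.symm hca) h3 hcd, h2]

theorem L_eq (h : KS U) {a b c d : Ω} (hab : a ≠ b) (hc : c ∈ L p U a b) (hd : d ∈ L p U a b)
    (hcd : c ≠ d) : L p U c d = L p U a b := by
  ext e
  rw [mem_L, mem_L, h.X_eq hab hc hd hcd]

/-- Two lines with two common points are equal. -/
theorem L_eq_L (h : KS U) {a b a' b' c d : Ω} (hab : a ≠ b) (hab' : a' ≠ b')
    (hc : c ∈ L p U a b) (hd : d ∈ L p U a b) (hc' : c ∈ L p U a' b') (hd' : d ∈ L p U a' b')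
    (hcd : c ≠ d) : L p U a b = L p U a' b' := by
  rw [← h.L_eq hab hc hd hcd, h.L_eq hab' hc' hd' hcd]

/-- An element moving two points of a line into the line normalises `X`. -/
theorem conj_X_mem (h : KS U) {a b : Ω} {g : G} (hab : a ≠ b) {c d : Ω} (hcd : c ≠ d)
    (hc : c ∈ L p U a b) (hd : d ∈ L p U a b)
    (ha : g • c ∈ L p U a b) (hb : g • d ∈ L p U a b) {x : G} (hx : x ∈ X p U a b) :
    g * x * g⁻¹ ∈ X p U a b := by
  rw [← h.X_eq hab hc hd hcd] at hx
  have h1 := h.conj_X g hx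
  rwa [h.X_eq hab ha hb (fun e => hcd (MulAction.injective g e))] at h1

theorem inv_conj_X_mem (h : KS U) {a b : Ω} {g : G} (hab : a ≠ b) {c d : Ω} (hcd : c ≠ d)
    (hc : c ∈ L p U a b) (hd : d ∈ L p U a b)
    (ha : g • c ∈ L p U a b) (hb : g • d ∈ L p U a b) {x : G} (hx : x ∈ X p U a b) :
    g⁻¹ * x * g ∈ X p U a b := by
  have h2 := h.conj_X_mem (g := g⁻¹) hab (c := g • c) (d := g • d)
    (fun e => hcd (MulAction.injective g e)) ha hb (by rwa [inv_smul_smul]) (by rwa [inv_smul_smul]) hx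
  rwa [inv_inv] at h2

/-- An element moving two points of a line into the line preserves the line. -/
theorem smul_mem_L (h : KS U) {a b : Ω} {g : G} (hab : a ≠ b) {c d : Ω} (hcd : c ≠ d)
    (hc : c ∈ L p U a b) (hd : d ∈ L p U a b)
    (ha : g • c ∈ L p U a b) (hb : g • d ∈ L p U a b) {e : Ω} (he : e ∈ L p U a b) :
    g • e ∈ L p U a b := by
  intro x hx
  have h1 := he _ (h.inv_conj_X_mem hab hcd hc hd ha hb hx)
  rw [mul_smul, mul_smul, inv_smul_eq_iff] at h1
  exact h1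

/-- There are points off a line. -/
theorem exists_not_mem_L {a b : Ω} (hX : X p U a b ≠ ⊥) : ∃ c, c ∉ L p U a b := by
  by_contra hall
  push Not at hall
  apply hX
  rw [eq_bot_iff_forall]
  intro x hx
  exact eq_one_of_fix (Ω := Ω) (fun c => hall c x hx)

theorem X_ne_bot (h : KS U) {a b c d : Ω} (hab : a ≠ b) (hcd : c ≠ d) (hX : X p U a b ≠ ⊥) :
    X p U c d ≠ ⊥ := by
  intro hb
  apply hX
  rw [← Subgroup.card_eq_one] at hb ⊢
  rw [h.card_X hab hcd, hb]

theorem pP_ne_bot_of_X {a b : Ω} (hX : X p U a b ≠ ⊥) : pP p (U a) ≠ ⊥ := by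
  intro hb
  apply hX
  rw [eq_bot_iff, ← hb]
  exact inf_le_left

/-- A central element of `P c`, `c` on the line, commutes with the group `X` of the line. -/
theorem Z_comm_X (h : KS U) {a b c : Ω} (hab : a ≠ b) (hc : c ∈ L p U a b) {z : G}
    (hz : z ∈ Z p U c) {x : G} (hx : x ∈ X p U a b) : x * z = z * x := by
  have : ∃ d ∈ L p U a b, c ≠ d := by
    by_cases hca : c = a
    · exact ⟨b, right_mem_L a b, by rw [hca]; exact hab⟩
    · exact ⟨a, h.left_mem_L a b, hca⟩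
  obtain ⟨d, hd, hcd⟩ := this
  rw [← h.X_eq hab hc hd hcd] at hx
  exact (mem_Z.1 hz).2 x hx.1

/-- elements of `U c` commuting with the `p`-part preserve the lines through `c` -/
theorem smul_mem_of_comm {c d : Ω} {y : G} (hy : ∀ x ∈ X p U c d, x * y = y * x) {e : Ω}
    (he : e ∈ L p U c d) : y • e ∈ L p U c d := by
  intro x hx
  rw [← mul_smul, hy x hx, mul_smul, he x hx]

/-- The `p'`-part of `U a` is semiregular off `a` (if the `p`-part is not). -/
theorem pR_semireg (h : KS U) {a b : Ω} (hab : a ≠ b) (hX : X p U a b ≠ ⊥) {c d : Ω}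
    (hcd : c ≠ d) {y : G} (hy : y ∈ pR p (U c)) (hyd : y • d = d) : y = 1 := by
  -- reduce to prime order
  by_contra hy1
  obtain ⟨q, hq, hqy⟩ := Nat.exists_prime_and_dvd (n := orderOf y) (by
    rwa [Ne, orderOf_eq_one_iff])
  haveI : Fact q.Prime := ⟨hq⟩
  have hcop := ((mem_pR (h.nil c)).1 hy).2
  have hqp : q ≠ p := by
    rintro rfl
    exact hq.one_lt.ne' (Nat.Coprime.eq_one_of_dvd hcop.symm hqy)
  obtain ⟨m, hm⟩ := hqy
  have hw1 : orderOf (y ^ m) = q := by
    have hm0 : m ≠ 0 := by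
      rintro rfl
      have := orderOf_pos y
      omega
    have hmdvd : m ∣ orderOf y := ⟨q, by rw [hm, mul_comm]⟩
    rw [orderOf_pow_of_dvd hm0 hmdvd, hm, Nat.mul_div_cancel _ (Nat.pos_of_ne_zero hm0)]
  set w := y ^ m with hw
  have hwc : w ∈ pR p (U c) := pow_mem hy m
  have hwd : w • d = d := by
    have : y ∈ stabilizer G d := hyd
    exact (pow_mem this m : y ^ m ∈ stabilizer G d)
  have hwne : w ≠ 1 := by
    intro e
    rw [e, orderOf_one] at hw1
    exact hq.one_lt.ne hw1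
  -- `w` lies in `pR p (U e)` for every fixed point `e`
  have key : ∀ e, w • e = e → w ∈ pR p (U e) := by
    intro e he
    have hwU : w ∈ U c := pR_le p _ hwc
    have h1 : w ∈ X q U c e := mem_X.2 ⟨mem_pP_of hwU (k := 1) (by rw [pow_one, ← hw1, pow_orderOf_eq_one]), he⟩
    have h2 := h.X_le_symm c e h1
    refine mem_pR_of (pP_le q _ h2.1) ?_
    rw [hw1]
    exact (Nat.coprime_primes hq hp.out).2 hqp
  have hcomm : ∀ e, w • e = e → ∀ f, ∀ x ∈ X p U e f, x * w = w * x := by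
    intro e he f x hx
    exact commute_parts (h.nil e) hx.1 (key e he)
  have hwfc : w • c = c := h.fix (pR_le p _ hwc)
  -- `w` fixes every point off the line `c d`
  have hoff : ∀ e, e ∉ L p U c d → w • e = e := by
    intro e he
    by_contra hne
    have hce : c ≠ e := fun e' => he (by rw [← e']; exact h.left_mem_L c d)
    have hde : d ≠ e := fun e' => he (by rw [← e']; exact right_mem_L c d)
    have h1 := smul_mem_of_comm (hcomm c hwfc e) (right_mem_L (p := p) (U := U) c e)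
    have h2 := smul_mem_of_comm (hcomm d hwd e) (right_mem_L (p := p) (U := U) d e)
    have h3 := h.L_eq_L hce hde h1 (right_mem_L c e) h2 (right_mem_L d e) hne
    apply he
    have h4 : d ∈ L p U c e := by rw [h3]; exact h.left_mem_L d e
    rw [h.L_eq hce (h.left_mem_L c e) h4 hcd]
    exact right_mem_L c e
  obtain ⟨e, he⟩ := exists_not_mem_L (h.X_ne_bot hab hcd hX)
  have hwe := hoff e he
  apply hwne
  apply eq_one_of_fix (Ω := Ω)
  intro f
  by_cases hf : f ∈ L p U c d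
  · by_contra hne
    have hcf : c ≠ f := fun e' => hne (by rw [← e']; exact hwfc)
    have hef : e ≠ f := fun e' => he (by rw [e']; exact hf)
    have h1 := smul_mem_of_comm (hcomm c hwfc f) (right_mem_L (p := p) (U := U) c f)
    have h2 := smul_mem_of_comm (hcomm e hwe f) (right_mem_L (p := p) (U := U) e f)
    have h3 := h.L_eq_L hcf hef h1 (right_mem_L c f) h2 (right_mem_L e f) hne
    apply he
    rw [← h.L_eq hcd (h.left_mem_L c d) hf hcf, h3]
    exact h.left_mem_L e f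
  · exact hoff f hf

/-- The stabiliser of `b` in `U a` is `X p U a b`, if the latter is nontrivial. -/
theorem mem_X_of_mem_U (h : KS U) {a b : Ω} (hab : a ≠ b) (hX : X p U a b ≠ ⊥) {c d : Ω}
    (hcd : c ≠ d) {x : G} (hx : x ∈ U c) (hxd : x • d = d) : x ∈ X p U c d := by
  obtain ⟨y, hy, z, hz, rfl, hyx, hzx⟩ := exists_mul_parts (p := p) hx
  have hst : zpowers (y * z) ≤ stabilizer G d := by
    rw [zpowers_le]
    exact hxd
  have hzd : z • d = d := hst hzx
  have hyd : y • d = d := hst hyx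
  have hz1 := h.pR_semireg hab hX hcd hz hzd
  rw [hz1, mul_one]
  exact mem_X.2 ⟨hy, hyd⟩

end KS

end Cfsg.Agent.KantorSeitz
end

-- part: KantorSeitz/Lines2
section
/-!
# Restriction to invariant subsets, the group of the line, Lemma I
-/

set_option autoImplicit false
set_option linter.unusedSectionVars false

namespace Cfsg.Agent.KantorSeitz

open Subgroup MulAction

/-! ### Restriction -/

section Restrict

variable {G Ω : Type*} [Group G] [MulAction G Ω]

/-- the action of `N` on the `N`-invariant set `Δ` -/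
@[reducible] def resAct (N : Subgroup G) (Δ : Set Ω) (hΔ : ∀ g ∈ N, ∀ d ∈ Δ, g • d ∈ Δ) :
    MulAction N Δ where
  smul g d := ⟨g.1 • d.1, hΔ g.1 g.2 d.1 d.2⟩
  one_smul d := Subtype.ext (one_smul G d.1)
  mul_smul x y d := Subtype.ext (mul_smul x.1 y.1 d.1)

theorem isNilpotent_subgroupOf {W N : Subgroup G} (hW : Group.IsNilpotent W) :
    Group.IsNilpotent (W.subgroupOf N) := by
  have := hW
  let f : W.subgroupOf N →* W :=
    { toFun := fun x => ⟨x.1.1, x.2⟩
      map_one' := rfl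
      map_mul' := fun _ _ => rfl }
  have hf : Function.Injective f := by
    intro x y hxy
    have h1 : x.1.1 = y.1.1 := congrArg (fun z : W => z.1) hxy
    exact Subtype.ext (Subtype.ext h1)
  exact Subgroup.isNilpotent_of_ker_le_center f (by rw [(MonoidHom.ker_eq_bot_iff f).2 hf]; exact bot_le)

theorem restrict (N : Subgroup G) (Δ : Set Ω) (hΔ : ∀ g ∈ N, ∀ d ∈ Δ, g • d ∈ Δ)
    (W : Ω → Subgroup G)
    (hfix : ∀ c ∈ Δ, ∀ x ∈ W c, x • c = c)
    (hconj : ∀ g ∈ N, ∀ c ∈ Δ, ∀ x ∈ W c, g * x * g⁻¹ ∈ W (g • c))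
    (htrans : ∀ a ∈ Δ, ∀ b ∈ Δ, ∀ c ∈ Δ, b ≠ a → c ≠ a → ∃ x ∈ W a, x ∈ N ∧ x • b = c)
    (hnil : ∀ a ∈ Δ, Group.IsNilpotent (W a))
    (htr : ∀ a ∈ Δ, ∀ b ∈ Δ, ∃ g ∈ N, g • a = b) :
    letI := resAct N Δ hΔ
    KS (fun c : Δ => (W c.1).subgroupOf N) := by
  letI := resAct N Δ hΔ
  exact
    { fix := fun {a x} hx => Subtype.ext (hfix a.1 a.2 x.1 hx)
      conj := fun g {a x} hx => hconj g.1 g.2 a.1 a.2 x.1 hx
      trans := fun {a b c} hb hc => by
        obtain ⟨x, hx, hxN, hxb⟩ := htrans a.1 a.2 b.1 b.2 c.1 c.2 (fun e => hb (Subtype.ext e))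
          (fun e => hc (Subtype.ext e))
        exact ⟨⟨x, hxN⟩, hx, Subtype.ext hxb⟩
      nil := fun a => isNilpotent_subgroupOf (hnil a.1 a.2)
      tr := fun a b => by
        obtain ⟨g, hg, hga⟩ := htr a.1 a.2 b.1 b.2
        exact ⟨⟨g, hg⟩, Subtype.ext hga⟩ }

end Restrict

/-- the induction hypothesis in even degree -/
def EvenHyp.{v} (n : ℕ) : Prop :=
  ∀ (G Ω : Type v) [Group G] [Finite G] [Finite Ω] [MulAction G Ω] (U : Ω → Subgroup G), KS U →
    Even (Nat.card Ω) → Nat.card Ω < n → ∀ a b : Ω, a ≠ b → ∀ x ∈ U a, x • b = b → ∀ c : Ω, x • c = c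

namespace KS

section

variable {G Ω : Type*} [Group G] [Finite G] [MulAction G Ω] [Finite Ω] [FaithfulSMul G Ω]
  {U : Ω → Subgroup G} {p : ℕ} [hp : Fact p.Prime]

/-- (A7) -/
theorem eq_one_of_fix_line (h : KS U) {a b : Ω} (hab : a ≠ b) {w : G}
    (hw : ∀ c ∈ L p U a b, w • c = c) (hwX : ∀ x ∈ X p U a b, x * w = w * x)
    (hwp : (orderOf w).Coprime p) : w = 1 := by
  -- `w` centralises `pP p (U c)` for `c` on the line
  have key : ∀ c ∈ L p U a b, ∀ d ∈ L p U a b, c ≠ d → ∀ y ∈ pP p (U c), y * w = w * y := by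
    intro c hc d hd hcd
    have hXcd : X p U c d = X p U a b := h.X_eq hab hc hd hcd
    have hwc : w • c = c := hw c hc
    -- `Q = N_P(X)` is centralised by `w`
    have hQ : ∀ y ∈ pP p (U c), (∀ e ∈ L p U a b, y • e ∈ L p U a b) → y * w = w * y := by
      intro y hy hyL
      let Q : Subgroup G :=
        { carrier := {u | u ∈ pP p (U c) ∧ ∀ e, e ∈ L p U a b ↔ u • e ∈ L p U a b}
          one_mem' := ⟨one_mem _, fun e => by rw [one_smul]⟩
          mul_mem' := by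
            rintro u v ⟨hu, hu'⟩ ⟨hv, hv'⟩
            exact ⟨mul_mem hu hv, fun e => by rw [mul_smul, hv' e, hu' (v • e)]⟩
          inv_mem' := by
            rintro u ⟨hu, hu'⟩
            exact ⟨inv_mem hu, fun e => by rw [hu' (u⁻¹ • e), smul_inv_smul]⟩ }
      have hQp : IsPGroup p Q := (isPGroup_pP (h.nil c)).to_le (fun u hu => hu.1)
      have hwQ : w ∈ normalizer (Q : Set G) := by
        have h0 : ∀ e, e ∈ L p U a b ↔ w • e ∈ L p U a b := by
          intro e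
          constructor
          · intro he
            rw [hw e he]
            exact he
          · intro he
            have := hw _ he
            have h2 : w • e = e := MulAction.injective w this
            rwa [h2] at he
        have h0' : ∀ e, e ∈ L p U a b ↔ w⁻¹ • e ∈ L p U a b := by
          intro e
          rw [h0 (w⁻¹ • e), smul_inv_smul]
        rw [mem_normalizer_iff]
        intro u
        constructor
        · rintro ⟨hu, hu'⟩
          refine ⟨h.conj_pP_of_fix hwc hu, fun e => ?_⟩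
          rw [mul_smul, mul_smul, ← h0, ← hu', ← h0']
        · rintro ⟨hu, hu'⟩
          have hwc' : w⁻¹ • c = c := by rw [inv_smul_eq_iff, hwc]
          have h1 := h.conj_pP_of_fix hwc' hu
          have h2 : w⁻¹ * (w * u * w⁻¹) * w⁻¹⁻¹ = u := by group
          rw [h2] at h1
          refine ⟨h1, fun e => ?_⟩
          have h3 := hu' (w • e)
          rw [mul_smul, mul_smul, inv_smul_smul, ← h0, ← h0] at h3
          exact h3
      have hyQ : y ∈ Q := by
        refine ⟨hy, fun e => ⟨hyL e, fun he => ?_⟩⟩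
        have hfin : (L p U a b).Finite := Set.toFinite _
        have hsub : (fun e => y • e) '' (L p U a b) ⊆ L p U a b := by
          rintro _ ⟨f, hf, rfl⟩
          exact hyL f hf
        have heq : (fun e => y • e) '' (L p U a b) = L p U a b :=
          Set.eq_of_subset_of_ncard_le hsub (by
            rw [Set.ncard_image_of_injective _ (MulAction.injective y)]) hfin
        have : y • e ∈ (fun e => y • e) '' (L p U a b) := by rw [heq]; exact he
        obtain ⟨f, hf, hfe⟩ := this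
        have := MulAction.injective y hfe
        rwa [this] at hf
      have := Cfsg.Agent.Lib.ThompsonPQ.commute_of_commutator_commute (U := Q) (x := w) ?_ hwQ ?_ y hyQ
      · exact this.eq
      · obtain ⟨n, hn⟩ := IsPGroup.iff_card.1 hQp
        rw [hn]
        exact Nat.Coprime.pow_right n hwp
      · -- commutators lie in `X`
        intro u hu
        have h1 : w⁻¹ * u * w * u⁻¹ ∈ X p U a b := by
          rw [← hXcd]
          refine mem_X.2 ⟨?_, ?_⟩
          · have hwc' : w⁻¹ • c = c := by rw [inv_smul_eq_iff, hwc]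
            have h1 := h.conj_pP_of_fix hwc' hu.1
            rw [inv_inv] at h1
            exact mul_mem h1 (inv_mem hu.1)
          · have h2 : u⁻¹ • d ∈ L p U a b := ((inv_mem hu : u⁻¹ ∈ Q).2 d).1 hd
            rw [mul_smul, mul_smul, mul_smul, hw _ h2, smul_inv_smul, inv_smul_eq_iff, hw d hd]
        exact hwX _ h1
    intro y hy
    have hmain := Cfsg.Agent.Lib.ThompsonPQ.thompson_p_times_q p (X p U a b) (zpowers w)
      (pP p (U c)) (h.isPGroup_X a b) (by rwa [Nat.card_zpowers]) (isPGroup_pP (h.nil c)) ?_ ?_ ?_ ?_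
    · have := hmain (mem_zpowers w)
      exact mem_centralizer_iff.1 this y hy
    · intro x hx
      rw [mem_centralizer_iff]
      intro z hz
      obtain ⟨i, rfl⟩ := mem_zpowers_iff.1 hz
      exact ((show Commute w x from (hwX x hx).symm).zpow_left i).eq
    · rw [← hXcd]
      intro x hx
      exact le_normalizer hx.1
    · rw [zpowers_le, mem_normalizer_iff]
      intro u
      constructor
      · exact h.conj_pP_of_fix hwc
      · intro hu
        have hwc' : w⁻¹ • c = c := by rw [inv_smul_eq_iff, hwc]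
        have h1 := h.conj_pP_of_fix hwc' hu
        have h2 : w⁻¹ * (w * u * w⁻¹) * w⁻¹⁻¹ = u := by group
        rwa [h2] at h1
    · rintro u ⟨hu, huX⟩
      rw [mem_centralizer_iff]
      intro z hz
      have h1 : u * w = w * u := by
        apply hQ u hu
        intro e he x hx
        have h2 := mem_centralizer_iff.1 huX x hx
        rw [← mul_smul, h2, mul_smul, he x hx]
      obtain ⟨i, rfl⟩ := mem_zpowers_iff.1 hz
      exact ((show Commute w u from h1.symm).zpow_left i).eq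
  have ha := h.left_mem_L (p := p) a b
  have hb := right_mem_L (p := p) (U := U) a b
  apply eq_one_of_fix (Ω := Ω)
  intro c
  by_cases hc : c ∈ L p U a b
  · exact hw c hc
  · by_contra hne
    have hac : a ≠ c := fun e => hc (by rw [← e]; exact ha)
    have hbc : b ≠ c := fun e => hc (by rw [← e]; exact hb)
    have h1 := smul_mem_of_comm (fun x hx => key a ha b hb hab x (mem_X.1 hx).1) (right_mem_L (p := p) (U := U) a c)
    have h2 := smul_mem_of_comm (fun x hx => key b hb a ha hab.symm x (mem_X.1 hx).1) (right_mem_L (p := p) (U := U) b c)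
    have h3 := h.L_eq_L hac hbc h1 (right_mem_L a c) h2 (right_mem_L b c) hne
    apply hc
    have h4 : b ∈ L p U a c := by rw [h3]; exact h.left_mem_L b c
    rw [h.L_eq hac (h.left_mem_L a c) h4 hab]
    exact right_mem_L a c

end

end KS

end Cfsg.Agent.KantorSeitz
end

-- part: KantorSeitz/Lines3
section
/-!
# Parity, Lemma I, the group generated by the centres of a line, lifting
-/

set_option autoImplicit false
set_option linter.unusedSectionVars false

namespace Cfsg.Agent.KantorSeitz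

open Subgroup MulAction

/-! ### Lifting -/

theorem isNilpotent_zpowers {G : Type*} [Group G] (x : G) : Group.IsNilpotent (zpowers x) := by
  letI := IsCyclic.commGroup (α := zpowers x)
  exact CommGroup.isNilpotent

/-- In a central extension of a `p'`-group by a `p`-group the `p'`-elements form a subgroup. -/
theorem exists_lift {G : Type*} [Group G] [Finite G] {p : ℕ} [hp : Fact p.Prime] (B C : Subgroup G)
    (hCB : C ≤ B) (hCc : ∀ c ∈ C, ∀ x ∈ B, c * x = x * c) (hCp : IsPGroup p C)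
    (hB : ∀ x ∈ B, ∃ m : ℕ, m.Coprime p ∧ x ^ m ∈ C) :
    ∃ S ≤ B, (∀ x, x ∈ S ↔ x ∈ B ∧ (orderOf x).Coprime p) ∧
      ∀ x ∈ B, ∃ c ∈ C, ∃ s ∈ S, x = c * s := by
  let C' : Subgroup B := C.subgroupOf B
  have hC'n : C'.Normal := ⟨by
    rintro ⟨c, hcB⟩ hc ⟨x, hx⟩
    change x * c * x⁻¹ ∈ C
    have hc' : c ∈ C := hc
    rw [← hCc c hc' x hx, mul_assoc, mul_inv_cancel, mul_one]
    exact hc'⟩
  have hC'p : IsPGroup p C' := by
    rintro ⟨⟨c, hcB⟩, hc⟩
    obtain ⟨k, hk⟩ := hCp ⟨c, hc⟩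
    have hk' : c ^ p ^ k = 1 := congrArg Subtype.val hk
    exact ⟨k, Subtype.ext (Subtype.ext hk')⟩
  have hidx : C'.index.Coprime p := by
    rw [Nat.coprime_comm, Nat.Prime.coprime_iff_not_dvd hp.out]
    intro hdvd
    rw [Subgroup.index_eq_card] at hdvd
    obtain ⟨y, hy⟩ := exists_prime_orderOf_dvd_card' p hdvd
    obtain ⟨x, rfl⟩ := QuotientGroup.mk_surjective y
    obtain ⟨m, hm, hxm⟩ := hB x.1 x.2
    have h1 : (x : B ⧸ C') ^ m = 1 := by
      rw [← QuotientGroup.mk_pow, QuotientGroup.eq_one_iff]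
      exact hxm
    have h2 := orderOf_dvd_of_pow_eq_one h1
    rw [hy] at h2
    exact hp.out.one_lt.ne' (Nat.Coprime.eq_one_of_dvd hm.symm h2)
  have hcop : (Nat.card C').Coprime C'.index := by
    obtain ⟨n, hn⟩ := IsPGroup.iff_card.1 hC'p
    rw [hn]
    exact Nat.Coprime.pow_left n hidx.symm
  obtain ⟨K, hK⟩ := Subgroup.exists_right_complement'_of_coprime hcop
  have hKcard : Nat.card K = C'.index := hK.symm.index_eq_card.symm
  have hdec : ∀ x : B, ∃ c ∈ C', ∃ k ∈ K, x = c * k := by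
    intro x
    obtain ⟨⟨c, k⟩, hck⟩ := hK.2 x
    exact ⟨c.1, c.2, k.1, k.2, hck.symm⟩
  have key : ∀ x : B, x ∈ K ↔ (orderOf x).Coprime p := by
    intro x
    constructor
    · intro hx
      have h1 : orderOf x ∣ Nat.card K := by
        have := _root_.orderOf_dvd_natCard (⟨x, hx⟩ : K)
        rwa [Subgroup.orderOf_mk] at this
      rw [hKcard] at h1
      exact Nat.Coprime.coprime_dvd_left h1 hidx
    · intro hx
      obtain ⟨c, hc, k, hk, rfl⟩ := hdec x
      have hcomm : Commute c k := Subtype.ext (hCc c.1 hc k.1 k.2)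
      set m := Nat.card K with hm
      have hk1 : k ^ m = 1 := by
        have := pow_card_eq_one' (x := (⟨k, hk⟩ : K))
        exact congrArg Subtype.val this
      have h1 : (c * k) ^ m = c ^ m := by
        rw [hcomm.mul_pow, hk1, mul_one]
      obtain ⟨j, hj⟩ := hC'p ⟨c, hc⟩
      have hj' : c ^ p ^ j = 1 := congrArg Subtype.val hj
      have h2 : c ^ m = 1 := by
        have h3 : orderOf (c ^ m) ∣ p ^ j := by
          apply orderOf_dvd_of_pow_eq_one
          rw [← pow_mul, mul_comm, pow_mul, hj', one_pow]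
        have h4 : orderOf (c ^ m) ∣ orderOf (c * k) := by
          rw [← h1]
          exact orderOf_pow_dvd m
        have h5 : (orderOf (c ^ m)).Coprime (p ^ j) :=
          Nat.Coprime.pow_right j (Nat.Coprime.coprime_dvd_left h4 hx)
        exact orderOf_eq_one_iff.1 (Nat.Coprime.eq_one_of_dvd h5 h3)
      have h3 : c = 1 := by
        have h6 : orderOf c ∣ m := orderOf_dvd_of_pow_eq_one h2
        have h7 : orderOf c ∣ p ^ j := orderOf_dvd_of_pow_eq_one hj'
        have h8 : m.Coprime (p ^ j) := Nat.Coprime.pow_right j (by rw [hKcard]; exact hidx)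
        exact orderOf_eq_one_iff.1 (Nat.Coprime.eq_one_of_dvd (Nat.Coprime.coprime_dvd_left h6 h8) h7)
      rw [h3, one_mul]
      exact hk
  refine ⟨K.map B.subtype, ?_, fun x => ⟨?_, ?_⟩, fun x hx => ?_⟩
  · rintro _ ⟨k, -, rfl⟩
    exact k.2
  · rintro ⟨k, hk, rfl⟩
    refine ⟨k.2, ?_⟩
    have := (key k).1 hk
    rwa [← Subgroup.orderOf_coe] at this
  · rintro ⟨hx, hx'⟩
    refine ⟨⟨x, hx⟩, (key _).2 ?_, rfl⟩
    rwa [Subgroup.orderOf_mk]
  · obtain ⟨c, hc, k, hk, hck⟩ := hdec ⟨x, hx⟩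
    exact ⟨c.1, hc, k.1, ⟨k, hk, rfl⟩, congrArg Subtype.val hck⟩

/-- the setwise stabiliser -/
def setStab {G Ω : Type*} [Group G] [MulAction G Ω] (Δ : Set Ω) : Subgroup G where
  carrier := {g | ∀ e, e ∈ Δ ↔ g • e ∈ Δ}
  one_mem' := fun e => by rw [one_smul]
  mul_mem' := by
    rintro u v hu hv e
    rw [mul_smul, hv e, hu (v • e)]
  inv_mem' := by
    rintro u hu e
    rw [hu (u⁻¹ • e), smul_inv_smul]

theorem mem_setStab_of {G Ω : Type*} [Group G] [MulAction G Ω] [Finite Ω] {Δ : Set Ω} {g : G}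
    (hg : ∀ e ∈ Δ, g • e ∈ Δ) : g ∈ setStab Δ := by
  intro e
  refine ⟨hg e, fun he => ?_⟩
  have hfin : Δ.Finite := Set.toFinite _
  have hsub : (fun e => g • e) '' Δ ⊆ Δ := by
    rintro _ ⟨f, hf, rfl⟩
    exact hg f hf
  have heq : (fun e => g • e) '' Δ = Δ :=
    Set.eq_of_subset_of_ncard_le hsub (by
      rw [Set.ncard_image_of_injective _ (MulAction.injective g)]) hfin
  have : g • e ∈ (fun e => g • e) '' Δ := by rw [heq]; exact he
  obtain ⟨f, hf, hfe⟩ := this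
  have := MulAction.injective g hfe
  rwa [this] at hf

/-- the group generated by the centres of the `p`-parts for the points of a line -/
def AL {G Ω : Type*} [Group G] [MulAction G Ω] (p : ℕ) (U : Ω → Subgroup G) (a b : Ω) : Subgroup G :=
  _root_.Subgroup.closure {z | ∃ c ∈ L p U a b, z ∈ Z p U c}

namespace KS

/-! ### Parity -/

section parity

variable {G Ω : Type*} [Group G] [Finite G] [MulAction G Ω] [Finite Ω] {U : Ω → Subgroup G}

theorem card_U (h : KS U) (a b : Ω) : Nat.card (U a) = Nat.card (U b) := by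
  obtain ⟨g, rfl⟩ := h.tr a b
  refine Nat.card_congr ⟨fun x => ⟨g * x.1 * g⁻¹, h.conj g x.2⟩, fun x => ⟨g⁻¹ * x.1 * g, ?_⟩, ?_, ?_⟩
  · have := h.conj g⁻¹ x.2
    rwa [inv_smul_smul, inv_inv] at this
  · intro x
    apply Subtype.ext
    change g⁻¹ * (g * x.1 * g⁻¹) * g = x.1
    group
  · intro x
    apply Subtype.ext
    change g * (g⁻¹ * x.1 * g) * g⁻¹ = x.1
    group

theorem even_of_odd (h : KS U) {a b : Ω} (hab : a ≠ b) (hodd : Odd (Nat.card (U a))) :
    Even (Nat.card Ω) := by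
  have h1 := MulAction.index_stabilizer (U a) b
  have h2 : MulAction.orbit (U a) b = {a}ᶜ := by
    ext c
    rw [Set.mem_compl_iff, Set.mem_singleton_iff]
    constructor
    · rintro ⟨x, rfl⟩ hc
      have h3 : x.1 • b = a := hc
      have h4 : x.1 • b = x.1 • a := by rw [h3, h.fix x.2]
      exact hab (MulAction.injective x.1 h4).symm
    · intro hc
      obtain ⟨x, hx, hxb⟩ := h.trans hab.symm hc
      exact ⟨⟨x, hx⟩, hxb⟩
  rw [h2, Set.ncard_compl, Set.ncard_singleton] at h1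
  have h3 : (MulAction.stabilizer (U a) b).index ∣ Nat.card (U a) := Subgroup.index_dvd_card _
  rw [h1] at h3
  have h4 := Odd.of_dvd_nat hodd h3
  have h5 : 0 < Nat.card Ω := Nat.card_pos_iff.2 ⟨⟨a⟩, inferInstance⟩
  obtain ⟨k, hk⟩ := h4
  exact ⟨k + 1, by omega⟩

theorem odd_card [FaithfulSMul G Ω] (h : KS U) (hev : Even (Nat.card Ω)) (a : Ω) :
    Odd (Nat.card (U a)) := by
  haveI : Fact (Nat.Prime 2) := ⟨Nat.prime_two⟩
  -- the `2`-part is trivial
  have h1 : pP 2 (U a) = ⊥ := by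
    have hcard := (isPGroup_pP (p := 2) (h.nil a)).card_modEq_card_fixedPoints Ω
    have hev' : Even (Nat.card (fixedPoints (pP 2 (U a)) Ω)) := by
      rw [even_iff_two_dvd] at hev ⊢
      exact (Nat.modEq_zero_iff_dvd.1 (hcard.symm.trans (Nat.modEq_zero_iff_dvd.2 hev)))
    have ha : a ∈ fixedPoints (pP 2 (U a)) Ω := fun x => h.fix (pP_le 2 _ x.2)
    have hpos : 0 < Nat.card (fixedPoints (pP 2 (U a)) Ω) := Nat.card_pos_iff.2 ⟨⟨⟨a, ha⟩⟩, inferInstance⟩
    have h2 : 1 < Nat.card (fixedPoints (pP 2 (U a)) Ω) := by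
      obtain ⟨k, hk⟩ := hev'
      omega
    have := Finite.one_lt_card_iff_nontrivial.1 h2
    obtain ⟨⟨b, hb⟩, hba⟩ := exists_ne (⟨a, ha⟩ : fixedPoints (pP 2 (U a)) Ω)
    have hba' : b ≠ a := fun e => hba (Subtype.ext e)
    rw [eq_bot_iff_forall]
    intro x hx
    apply eq_one_of_fix (Ω := Ω)
    intro c
    by_cases hca : c = a
    · rw [hca, h.fix (pP_le 2 _ hx)]
    · obtain ⟨y, hy, rfl⟩ := h.trans hba' hca
      have h3 := h.conj_pP_of_fix (p := 2) (g := y⁻¹) (a := a) (by rw [inv_smul_eq_iff, h.fix hy]) hx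
      have h4 : (y⁻¹ * x * y⁻¹⁻¹) • b = b := hb ⟨_, h3⟩
      rw [inv_inv, mul_smul, mul_smul, inv_smul_eq_iff] at h4
      exact h4
  rw [← Nat.not_even_iff_odd, even_iff_two_dvd]
  intro h2
  obtain ⟨⟨x, hx⟩, hx2⟩ := exists_prime_orderOf_dvd_card' 2 h2
  rw [Subgroup.orderOf_mk] at hx2
  have h3 : x ∈ pP 2 (U a) := mem_pP_of hx (k := 1) (by rw [pow_one, ← hx2, pow_orderOf_eq_one])
  rw [h1, mem_bot] at h3
  rw [h3, orderOf_one] at hx2
  omega

end parity

/-! ### Lemma I -/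

section LemmaI

universe v

variable {G Ω : Type v} [Group G] [Finite G] [MulAction G Ω] [Finite Ω] [FaithfulSMul G Ω]
  {U : Ω → Subgroup G} {p : ℕ} [hp : Fact p.Prime]

theorem lemmaI (h : KS U) (IH : EvenHyp.{v} (Nat.card Ω)) (hev : Even (Nat.card Ω)) {a b : Ω}
    (hab : a ≠ b) {Y : Subgroup G} (hY1 : Y ≠ ⊥) (hYa : ∀ y ∈ Y, y • a = a)
    (hYb : ∀ y ∈ Y, y • b = b) (hYX : ∀ x ∈ X p U a b, ∀ y ∈ Y, x * y = y * x)
    (hcop : (Nat.card Y).Coprime (Nat.card (U a))) {c : Ω} (hc : ∀ y ∈ Y, y • c = c) :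
    c ∈ L p U a b := by
  by_cases hca : c = a
  · rw [hca]
    exact h.left_mem_L a b
  by_cases hcb : c = b
  · rw [hcb]
    exact right_mem_L a b
  let Δ : Set Ω := {d | ∀ y ∈ Y, y • d = d}
  let N : Subgroup G := centralizer (Y : Set G)
  have hΔ : ∀ g ∈ N, ∀ d ∈ Δ, g • d ∈ Δ := by
    intro g hg d hd y hy
    rw [← mul_smul, mem_centralizer_iff.1 hg y hy, mul_smul, hd y hy]
  have htrans : ∀ d ∈ Δ, ∀ e ∈ Δ, ∀ f ∈ Δ, e ≠ d → f ≠ d → ∃ x ∈ U d, x ∈ N ∧ x • e = f := by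
    intro d hd e he f hf hed hfd
    obtain ⟨x, hx, hxe⟩ := h.trans hed hfd
    obtain ⟨z, hz, hzY, hze⟩ := Cfsg.Agent.Solvable.Glauberman.exists_centralizer_smul Y (U d)
      (fun y hy => by
        rw [mem_normalizer_iff]
        intro u
        have := h.conj_iff y (a := d) (x := u)
        rw [hd y hy] at this
        exact this.symm)
      (by rw [h.card_U d a]; exact hcop)
      (Or.inr (by have := h.nil d; exact inferInstance)) e f he hf hx hxe
    exact ⟨z, hz, hzY, hze⟩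
  have hthird : ∀ d ∈ Δ, ∀ e ∈ Δ, ∃ f ∈ Δ, f ≠ d ∧ f ≠ e := by
    intro d _ e _
    by_cases h1 : a ≠ d ∧ a ≠ e
    · exact ⟨a, hYa, h1⟩
    by_cases h2 : b ≠ d ∧ b ≠ e
    · exact ⟨b, hYb, h2⟩
    refine ⟨c, hc, ?_, ?_⟩
    · rintro rfl
      push Not at h1 h2
      exact hab ((h1 (Ne.symm hca)).trans (h2 (Ne.symm hcb)).symm)
    · rintro rfl
      apply hab
      have h3 : a = d := by
        by_contra h4
        exact hca (h1 ⟨h4, Ne.symm hca⟩).elim
      have h5 : b = d := by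
        by_contra h4
        exact (h2 ⟨h4, Ne.symm hcb⟩).elim
      rw [h3, h5]
  have htr : ∀ d ∈ Δ, ∀ e ∈ Δ, ∃ g ∈ N, g • d = e := by
    intro d hd e he
    obtain ⟨f, hf, hfd, hfe⟩ := hthird d hd e he
    obtain ⟨x, -, hxN, hxd⟩ := htrans f hf d hd e he (Ne.symm hfd) (Ne.symm hfe)
    exact ⟨x, hxN, hxd⟩
  letI := resAct N Δ hΔ
  have hKS : KS (fun c : Δ => (U c.1).subgroupOf N) :=
    restrict N Δ hΔ U (fun c _ x hx => h.fix hx) (fun g _ c _ x hx => h.conj g hx) htrans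
      (fun a _ => h.nil a) htr
  have hodd := h.odd_card hev a
  have hodd' : Odd (Nat.card ((U a).subgroupOf N)) := by
    refine Odd.of_dvd_nat hodd ?_
    have : Nat.card ((U a).subgroupOf N) = Nat.card ((U a ⊓ N : Subgroup G)) := by
      refine Nat.card_congr ⟨fun x => ⟨x.1.1, x.2, x.1.2⟩, fun x => ⟨⟨x.1, x.2.2⟩, x.2.1⟩, fun _ => rfl,
        fun _ => rfl⟩
    rw [this]
    exact Subgroup.card_dvd_of_le inf_le_left
  have hev' : Even (Nat.card Δ) := by
    refine hKS.even_of_odd (a := (⟨a, hYa⟩ : Δ)) (b := ⟨b, hYb⟩) (fun e => hab (congrArg Subtype.val e)) ?_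
    exact hodd'
  have hlt : Nat.card Δ < Nat.card Ω := by
    have hne : Δ ≠ Set.univ := by
      intro he
      apply hY1
      rw [eq_bot_iff_forall]
      intro y hy
      apply eq_one_of_fix (Ω := Ω)
      intro d
      have : d ∈ Δ := by rw [he]; trivial
      exact this y hy
    have := Set.ncard_lt_card hne
    rwa [← Nat.card_coe_set_eq] at this
  intro x hx
  have hxN : x ∈ N := by
    rw [mem_centralizer_iff]
    intro y hy
    exact (hYX x hx y hy).symm
  have := IH N Δ _ hKS hev' hlt ⟨a, hYa⟩ ⟨b, hYb⟩ (fun e => hab (congrArg Subtype.val e)) ⟨x, hxN⟩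
    (pP_le p (U a) (mem_X.1 hx).1) (Subtype.ext hx.2) ⟨c, hc⟩
  exact congrArg Subtype.val this

end LemmaI

/-! ### The group `AL` -/

section AL

variable {G Ω : Type*} [Group G] [Finite G] [MulAction G Ω] [Finite Ω] [FaithfulSMul G Ω]
  {U : Ω → Subgroup G} {p : ℕ} [hp : Fact p.Prime]

theorem Z_le_AL {a b c : Ω} (hc : c ∈ L p U a b) : Z p U c ≤ AL p U a b :=
  fun _ hz => subset_closure ⟨c, hc, hz⟩

theorem AL_comm_X (h : KS U) {a b : Ω} (hab : a ≠ b) {x : G} (hx : x ∈ X p U a b) {y : G}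
    (hy : y ∈ AL p U a b) : x * y = y * x := by
  have : AL p U a b ≤ centralizer ({x} : Set G) := by
    rw [AL, closure_le]
    rintro z ⟨c, hc, hz⟩
    rw [SetLike.mem_coe, mem_centralizer_iff]
    rintro _ rfl
    exact h.Z_comm_X hab hc hz hx
  exact mem_centralizer_iff.1 (this hy) x rfl

theorem AL_le_setStab (h : KS U) {a b : Ω} (hab : a ≠ b) : AL p U a b ≤ setStab (L p U a b) :=
  fun _ hy => mem_setStab_of (fun _ he => smul_mem_of_comm (fun _ hx => h.AL_comm_X hab hx hy) he)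

theorem AL_conj (h : KS U) {a b : Ω} {g : G} (hg : g ∈ setStab (L p U a b)) {y : G}
    (hy : y ∈ AL p U a b) : g * y * g⁻¹ ∈ AL p U a b := by
  have : AL p U a b ≤ (AL p U a b).comap (MulAut.conj g).toMonoidHom := by
    conv_lhs => rw [AL]
    rw [closure_le]
    rintro z ⟨c, hc, hz⟩
    exact _root_.Subgroup.subset_closure ⟨g • c, (hg c).1 hc, h.conj_Z g hz⟩
  exact this hy

/-- elements acting trivially on the line centralise `AL` -/
theorem AL_comm (h : KS U) {a b : Ω} (hab : a ≠ b) {w : G} (hw : ∀ c ∈ L p U a b, w • c = c) {y : G}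
    (hy : y ∈ AL p U a b) : w * y = y * w := by
  have : AL p U a b ≤ centralizer ({w} : Set G) := by
    rw [AL, closure_le]
    rintro z ⟨c, hc, hz⟩
    rw [SetLike.mem_coe, mem_centralizer_iff]
    intro w' hw'
    rw [Set.mem_singleton_iff] at hw'
    rw [hw']
    have hzS := h.AL_le_setStab hab (Z_le_AL hc hz)
    have hwc := hw c hc
    have h1 := h.conj_Z w hz
    rw [hwc] at h1
    have : ∃ d ∈ L p U a b, d ≠ c := by
      by_cases hca : c = a
      · exact ⟨b, right_mem_L a b, by rw [hca]; exact hab.symm⟩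
      · exact ⟨a, h.left_mem_L a b, Ne.symm hca⟩
    obtain ⟨d, hd, hdc⟩ := this
    have h2 : z⁻¹ * (w * z * w⁻¹) = 1 := by
      refine h.Z_semireg hdc (mul_mem (inv_mem hz) h1) ?_
      have hwd : w⁻¹ • d = d := by rw [inv_smul_eq_iff, hw d hd]
      rw [mul_smul, mul_smul, mul_smul, hwd, hw _ ((hzS d).1 hd), inv_smul_smul]
    have h3 : w * z * w⁻¹ = z := by
      rw [inv_mul_eq_one] at h2
      exact h2.symm
    calc w * z = w * z * w⁻¹ * w := by group
      _ = z * w := by rw [h3]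
  exact mem_centralizer_iff.1 (this hy) w rfl

/-- Lifting: given a subgroup `B` of `AL` modulo the kernel of `p'`-order, the `p'`-elements of `B` form a
subgroup. -/
theorem exists_lift_AL (h : KS U) {a b : Ω} (hab : a ≠ b) {B : Subgroup G} (hB : B ≤ AL p U a b)
    (hBm : ∀ x ∈ B, ∃ m : ℕ, m.Coprime p ∧ ∀ c ∈ L p U a b, x ^ m • c = c) :
    ∃ S ≤ B, (∀ x, x ∈ S ↔ x ∈ B ∧ (orderOf x).Coprime p) ∧
      ∀ x ∈ B, ∃ s ∈ S, ∀ c ∈ L p U a b, s • c = x • c := by
  let C : Subgroup G := B ⊓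
    { carrier := {g | ∀ c ∈ L p U a b, g • c = c}
      one_mem' := fun c _ => one_smul G c
      mul_mem' := by
        intro u v hu hv c hc
        rw [mul_smul, hv c hc, hu c hc]
      inv_mem' := by
        intro u hu c hc
        rw [inv_smul_eq_iff, hu c hc] }
  have hCc : ∀ c ∈ C, ∀ x ∈ B, c * x = x * c := fun c hc x hx => h.AL_comm hab hc.2 (hB hx)
  have hCp : IsPGroup p C := by
    rintro ⟨x, hx⟩
    obtain ⟨y, hy, z, hz, hyz, hyx, hzx⟩ := exists_mul_parts (p := p) (H := zpowers x) (mem_zpowers x)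
    have hzo : (orderOf z).Coprime p :=
      ((mem_pR (H := zpowers x) (isNilpotent_zpowers x)).1 hz).2
    have hzC : z ∈ C := by
      have : zpowers x ≤ C := by rwa [zpowers_le]
      exact this hzx
    have hz1 : z = 1 := h.eq_one_of_fix_line hab hzC.2
      (fun u hu => h.AL_comm_X hab hu (hB hzC.1)) hzo
    rw [hz1, mul_one] at hyz
    obtain ⟨k, hk⟩ := ((mem_pP (H := zpowers x) (isNilpotent_zpowers x)).1 hy).2
    rw [← hyz] at hk
    exact ⟨k, Subtype.ext hk⟩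
  obtain ⟨S, hSB, hS, hdec⟩ := exists_lift B C inf_le_left hCc hCp (fun x hx => by
    obtain ⟨m, hm, hxm⟩ := hBm x hx
    exact ⟨m, hm, pow_mem hx m, hxm⟩)
  refine ⟨S, hSB, hS, fun x hx => ?_⟩
  obtain ⟨c, hc, s, hs, rfl⟩ := hdec x hx
  refine ⟨s, hs, fun e he => ?_⟩
  rw [mul_smul, hc.2 _ ((h.AL_le_setStab hab (hB (hSB hs)) e).1 he)]

end AL

end KS

end Cfsg.Agent.KantorSeitz
end

-- part: KantorSeitz/Affine
section
/-!
# The affine case of the Kantor–Seitz theorem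
-/

set_option autoImplicit false
set_option linter.unusedSectionVars false

namespace Cfsg.Agent.KantorSeitz

open Subgroup MulAction

/-- the conclusion of the Kantor–Seitz theorem for two points -/
def Concl {G Ω : Type*} [Group G] [MulAction G Ω] (U : Ω → Subgroup G) (a b : Ω) : Prop :=
  (∀ x ∈ U a, x • b = b → x = 1) ∨
  ((∃ x₀, ∀ x ∈ U a, x • b = b → x = 1 ∨ x = x₀) ∧
    ∃ V : Subgroup G, V ≤ U a ∧ (∀ g : G, g • a = a → ∀ v ∈ V, g * v * g⁻¹ ∈ V) ∧
      (∀ v ∈ V, v • b = b → v = 1) ∧ (∀ u ∈ U a, ∃ v ∈ V, ∃ x ∈ U a, x • b = b ∧ u = v * x))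

namespace KS

variable {G Ω : Type*} [Group G] [Finite G] [MulAction G Ω] [Finite Ω] [FaithfulSMul G Ω]
  {U : Ω → Subgroup G}

theorem exists_X_ne_bot {a b : Ω} {x : G} (hx : x ∈ U a) (hxb : x • b = b) (hx1 : x ≠ 1) :
    ∃ p : ℕ, p.Prime ∧ X p U a b ≠ ⊥ := by
  obtain ⟨q, hq, m, hm⟩ := Nat.exists_prime_and_dvd (n := orderOf x) (by
    rwa [Ne, orderOf_eq_one_iff])
  refine ⟨q, hq, fun hb => ?_⟩
  have hm0 : m ≠ 0 := by
    rintro rfl
    have := orderOf_pos x
    omega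
  have hw1 : orderOf (x ^ m) = q := by
    have hmdvd : m ∣ orderOf x := ⟨q, by rw [hm, mul_comm]⟩
    rw [orderOf_pow_of_dvd hm0 hmdvd, hm, Nat.mul_div_cancel _ (Nat.pos_of_ne_zero hm0)]
  have hxs : x ∈ stabilizer G b := hxb
  have h1 : x ^ m ∈ X q U a b := mem_X.2
    ⟨mem_pP_of (pow_mem hx m) (k := 1) (by rw [pow_one, ← hw1, pow_orderOf_eq_one]), pow_mem hxs m⟩
  rw [hb, mem_bot] at h1
  rw [h1, orderOf_one] at hw1
  exact hq.one_lt.ne hw1

section W

variable {W : Subgroup G}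

theorem W_reg (hWc : ∀ x ∈ W, ∀ y ∈ W, x * y = y * x) (hWt : ∀ c d : Ω, ∃ w ∈ W, w • c = d)
    {w : G} (hw : w ∈ W) {c : Ω} (hc : w • c = c) : w = 1 := by
  apply eq_one_of_fix (Ω := Ω)
  intro d
  obtain ⟨v, hv, rfl⟩ := hWt c d
  rw [← mul_smul, hWc w hw v hv, mul_smul, hc]

theorem W_eq (hWc : ∀ x ∈ W, ∀ y ∈ W, x * y = y * x) (hWt : ∀ c d : Ω, ∃ w ∈ W, w • c = d)
    {w w' : G} (hw : w ∈ W) (hw' : w' ∈ W) {c : Ω} (hc : w • c = w' • c) : w = w' := by
  have h1 := W_reg hWc hWt (mul_mem (inv_mem hw') hw) (c := c) (by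
    rw [mul_smul, hc, inv_smul_smul])
  rw [inv_mul_eq_one] at h1
  exact h1.symm

theorem semireg_abelian (h : KS U) (hWn : W.Normal) (hWc : ∀ x ∈ W, ∀ y ∈ W, x * y = y * x)
    (hWt : ∀ c d : Ω, ∃ w ∈ W, w • c = d) {a : Ω} {N : Subgroup G} (hN : N ≤ U a)
    (hNc : ∀ x ∈ N, ∀ y ∈ N, x * y = y * x) (hNn : ∀ u ∈ U a, ∀ n ∈ N, u * n * u⁻¹ ∈ N)
    {b : Ω} (hb : b ≠ a) {n : G} (hn : n ∈ N) (hnb : n • b = b) : n = 1 := by
  -- the subgroups of the partition
  let B : Ω → Subgroup G := fun c => W ⊓ centralizer ((N ⊓ stabilizer G c : Subgroup G) : Set G)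
  have mB : ∀ {c : Ω} {w : G}, w ∈ B c ↔ w ∈ W ∧ ∀ m ∈ N, m • c = c → m * w = w * m := by
    intro c w
    constructor
    · rintro ⟨h1, h2⟩
      exact ⟨h1, fun m hm hmc => mem_centralizer_iff.1 h2 m ⟨hm, hmc⟩⟩
    · rintro ⟨h1, h2⟩
      exact ⟨h1, mem_centralizer_iff.2 (fun m hm => h2 m hm.1 hm.2)⟩
  have hfa : ∀ m ∈ N, m • a = a := fun m hm => h.fix (hN hm)
  have fact1 : ∀ c d : Ω, c ≠ a → d ≠ a →
      Nat.card (N ⊓ stabilizer G c : Subgroup G) = Nat.card (N ⊓ stabilizer G d : Subgroup G) := by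
    intro c d hc hd
    obtain ⟨u, hu, rfl⟩ := h.trans hc hd
    refine Nat.card_congr ⟨fun x => ⟨u * x.1 * u⁻¹, hNn u hu _ x.2.1, ?_⟩,
      fun x => ⟨u⁻¹ * x.1 * u, ?_, ?_⟩, ?_, ?_⟩
    · change (u * x.1 * u⁻¹) • u • c = u • c
      have : x.1 • c = c := x.2.2
      rw [mul_smul, inv_smul_smul, mul_smul, this]
    · have := hNn u⁻¹ (inv_mem hu) _ x.2.1
      rwa [inv_inv] at this
    · change (u⁻¹ * x.1 * u) • c = c
      have : x.1 • u • c = u • c := x.2.2
      rw [mul_smul, mul_smul, this, inv_smul_smul]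
    · intro x
      apply Subtype.ext
      change u⁻¹ * (u * x.1 * u⁻¹) * u = x.1
      group
    · intro x
      apply Subtype.ext
      change u * (u⁻¹ * x.1 * u) * u⁻¹ = x.1
      group
  have hwa : ∀ w ∈ W, w ≠ 1 → w • a ≠ a := fun w hw hw1 e => hw1 (W_reg hWc hWt hw e)
  have fact2 : ∀ c w, c ≠ a → w ∈ B c → w ≠ 1 →
      (N ⊓ stabilizer G c : Subgroup G) = N ⊓ stabilizer G (w • a) := by
    intro c w hc hw hw1
    rw [mB] at hw
    apply Subgroup.eq_of_le_of_card_ge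
    · rintro m ⟨hm, hmc⟩
      refine ⟨hm, ?_⟩
      change m • w • a = w • a
      rw [← mul_smul, hw.2 m hm hmc, mul_smul, hfa m hm]
    · exact (fact1 _ _ (hwa w hw.1 hw1) hc).le
  have fact2' : ∀ c w, c ≠ a → w ∈ B c → w ≠ 1 → B c = B (w • a) := by
    intro c w hc hw hw1
    change W ⊓ centralizer ((N ⊓ stabilizer G c : Subgroup G) : Set G) =
      W ⊓ centralizer ((N ⊓ stabilizer G (w • a) : Subgroup G) : Set G)
    rw [fact2 c w hc hw hw1]
  have fact3 : ∀ c w m, m ∈ N → w ∈ B c → m * w * m⁻¹ ∈ B c := by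
    intro c w m hm hw
    rw [mB] at hw ⊢
    refine ⟨hWn.conj_mem w hw.1 m, fun k hk hkc => ?_⟩
    have h1 := hNc k hk m hm
    have h2 := hw.2 k hk hkc
    calc k * (m * w * m⁻¹) = (k * m) * w * m⁻¹ := by group
      _ = m * (k * w) * m⁻¹ := by rw [h1]; group
      _ = m * (w * k) * m⁻¹ := by rw [h2]
      _ = m * w * m⁻¹ * ((m * k) * m⁻¹) := by group
      _ = m * w * m⁻¹ * ((k * m) * m⁻¹) := by rw [h1]
      _ = m * w * m⁻¹ * k := by group
  have fact4 : ∀ w ∈ W, w ∈ B (w • a) := by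
    intro w hw
    rw [mB]
    refine ⟨hw, fun m hm hmw => ?_⟩
    have h1 : m * w * m⁻¹ = w := by
      apply W_eq hWc hWt (hWn.conj_mem w hw m) hw (c := a)
      have hma : m⁻¹ • a = a := by rw [inv_smul_eq_iff, hfa m hm]
      rw [mul_smul, hma, mul_smul, hmw]
    calc m * w = (m * w * m⁻¹) * m := by group
      _ = w * m := by rw [h1]
  by_contra hn1
  obtain ⟨w2, hw2, hw2n⟩ : ∃ w ∈ W, n * w ≠ w * n := by
    by_contra hcon
    push Not at hcon
    apply hn1
    apply eq_one_of_fix (Ω := Ω)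
    intro c
    obtain ⟨w, hw, rfl⟩ := hWt a c
    rw [← mul_smul, hcon w hw, mul_smul, hfa n hn]
  obtain ⟨w1, hw1, hw1b⟩ := hWt a b
  have hw1B : w1 ∈ B b := by rw [← hw1b]; exact fact4 w1 hw1
  have hw1ne : w1 ≠ 1 := by
    rintro rfl
    rw [one_smul] at hw1b
    exact hb hw1b.symm
  have hw2B : w2 ∉ B b := fun hmem => hw2n ((mB.1 hmem).2 n hn hnb)
  have hw2ne : w2 ≠ 1 := by
    rintro rfl
    exact hw2n (by rw [mul_one, one_mul])
  set w3 := w1 * w2 with hw3
  have hw3W : w3 ∈ W := mul_mem hw1 hw2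
  have hw3B : w3 ∉ B b := by
    intro hmem
    apply hw2B
    have : w2 = w1⁻¹ * w3 := by rw [hw3]; group
    rw [this]
    exact mul_mem (inv_mem hw1B) hmem
  have hw3ne : w3 ≠ 1 := by
    intro e
    rw [e] at hw3B
    exact hw3B (one_mem _)
  have hB2 := fact4 w2 hw2
  have hB3 := fact4 w3 hw3W
  have hu := fact3 _ w2 n hn hB2
  have hu3 := fact3 _ w3 n hn hB3
  have hc2 := hwa w2 hw2 hw2ne
  have hc3 := hwa w3 hw3W hw3ne
  set v := n * w2 * n⁻¹ * w2⁻¹ with hv
  have hvB2 : v ∈ B (w2 • a) := mul_mem hu (inv_mem hB2)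
  have hvW : v ∈ W := (mB.1 hvB2).1
  have hvB3 : v ∈ B (w3 • a) := by
    have h1 : v = (n * w3 * n⁻¹) * w3⁻¹ := by
      have h2 : n * w1 = w1 * n := (mB.1 hw1B).2 n hn hnb
      have h3 : n * w3 * n⁻¹ * w3⁻¹ = w1 * v * w1⁻¹ := by
        rw [hw3, hv]
        calc n * (w1 * w2) * n⁻¹ * (w1 * w2)⁻¹ = (n * w1) * w2 * n⁻¹ * w2⁻¹ * w1⁻¹ := by group
          _ = w1 * (n * w2 * n⁻¹ * w2⁻¹) * w1⁻¹ := by rw [h2]; group
      rw [h3, hWc w1 hw1 v hvW]
      group
    rw [h1]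
    exact mul_mem hu3 (inv_mem hB3)
  by_cases hv1 : v = 1
  · apply hw2n
    have h1 : n * w2 * n⁻¹ = w2 := by
      rw [hv, mul_inv_eq_one] at hv1
      exact hv1
    calc n * w2 = (n * w2 * n⁻¹) * n := by group
      _ = w2 * n := by rw [h1]
  · have h1 := fact2' _ v hc2 hvB2 hv1
    have h2 := fact2' _ v hc3 hvB3 hv1
    have h3 : B (w2 • a) = B (w3 • a) := by rw [h1, h2]
    have h4 : w1 ∈ B (w2 • a) := by
      have : w1 = w3 * w2⁻¹ := by rw [hw3]; group
      rw [this]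
      refine mul_mem ?_ (inv_mem hB2)
      rw [h3]
      exact hB3
    have h5 := fact2' _ w1 hc2 h4 hw1ne
    rw [hw1b] at h5
    rw [h5] at hB2
    exact hw2B hB2

end W

end KS

end Cfsg.Agent.KantorSeitz
end

-- part: KantorSeitz/Affine2
section
/-!
# The affine case of the Kantor–Seitz theorem, continued
-/

set_option autoImplicit false
set_option linter.unusedSectionVars false
set_option linter.style.haveILetI false

namespace Cfsg.Agent.KantorSeitz

open Subgroup MulAction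

namespace KS

variable {G Ω : Type*} [Group G] [Finite G] [MulAction G Ω] [Finite Ω] [FaithfulSMul G Ω]
  {U : Ω → Subgroup G} {W : Subgroup G}

theorem conj_W_eq (h : KS U) (hWn : W.Normal) (hWc : ∀ x ∈ W, ∀ y ∈ W, x * y = y * x)
    (hWt : ∀ c d : Ω, ∃ w ∈ W, w • c = d) {a : Ω} {g w w' : G} (hga : g • a = a) (hw : w ∈ W)
    (hw' : w' ∈ W) (hgw : g • w • a = w' • a) : g * w * g⁻¹ = w' := by
  apply W_eq hWc hWt (hWn.conj_mem w hw g) hw' (c := a)
  have hma : g⁻¹ • a = a := by rw [inv_smul_eq_iff, hga]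
  rw [mul_smul, hma, mul_smul, hgw]

theorem W_exponent (h : KS U) (hWn : W.Normal) (hWc : ∀ x ∈ W, ∀ y ∈ W, x * y = y * x)
    (hWt : ∀ c d : Ω, ∃ w ∈ W, w • c = d) {a b : Ω} (hab : a ≠ b) :
    ∃ q : ℕ, q.Prime ∧ ∀ w ∈ W, w ^ q = 1 := by
  obtain ⟨w0, hw0, hw0b⟩ := hWt a b
  have hw0ne : w0 ≠ 1 := by
    rintro rfl
    rw [one_smul] at hw0b
    exact hab hw0b
  obtain ⟨q, hq, m, hm⟩ := Nat.exists_prime_and_dvd (n := orderOf w0) (by
    rwa [Ne, orderOf_eq_one_iff])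
  refine ⟨q, hq, fun w hw => ?_⟩
  have hm0 : m ≠ 0 := by
    rintro rfl
    have := orderOf_pos w0
    omega
  have ho : orderOf (w0 ^ m) = q := by
    have hmdvd : m ∣ orderOf w0 := ⟨q, by rw [hm, mul_comm]⟩
    rw [orderOf_pow_of_dvd hm0 hmdvd, hm, Nat.mul_div_cancel _ (Nat.pos_of_ne_zero hm0)]
  have hwm : w0 ^ m ∈ W := pow_mem hw0 m
  have hwm1 : w0 ^ m ≠ 1 := by
    intro e
    rw [e, orderOf_one] at ho
    exact hq.one_lt.ne ho
  by_cases hw1 : w = 1
  · rw [hw1, one_pow]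
  · obtain ⟨u, hu, hux⟩ := h.trans (a := a) (b := (w0 ^ m) • a) (c := w • a)
      (fun e => hwm1 (W_reg hWc hWt hwm e)) (fun e => hw1 (W_reg hWc hWt hw e))
    have h1 := h.conj_W_eq hWn hWc hWt (h.fix hu) hwm hw hux
    rw [← h1, conj_pow, ← ho, pow_orderOf_eq_one, mul_one, mul_inv_cancel]

/-- For `p` odd the group `X` of a line is trivial in the affine case. -/
theorem X_eq_bot_of_affine (h : KS U) (hWn : W.Normal) (hWc : ∀ x ∈ W, ∀ y ∈ W, x * y = y * x)
    (hWt : ∀ c d : Ω, ∃ w ∈ W, w • c = d) {p : ℕ} [hp : Fact p.Prime] (hp2 : p ≠ 2) {a b : Ω}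
    (hab : a ≠ b) : X p U a b = ⊥ := by
  obtain ⟨q, hq, hexp⟩ := h.W_exponent hWn hWc hWt hab
  letI : CommGroup W := { (inferInstance : Group W) with
    mul_comm := fun x y => Subtype.ext (hWc x x.2 y y.2) }
  let P : Subgroup G := pP p (U a)
  have hfa : ∀ g ∈ P, g • a = a := fun g hg => h.fix (pP_le p _ hg)
  letI act : DistribMulAction P (Additive W) :=
    { smul := fun g w => Additive.ofMul ⟨g.1 * (w.toMul).1 * g.1⁻¹,
        hWn.conj_mem _ (w.toMul).2 g.1⟩
      one_smul := fun w => by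
        apply Additive.toMul.injective
        apply Subtype.ext
        change 1 * (w.toMul).1 * 1⁻¹ = (w.toMul).1
        group
      mul_smul := fun x y w => by
        apply Additive.toMul.injective
        apply Subtype.ext
        change (x.1 * y.1) * (w.toMul).1 * (x.1 * y.1)⁻¹ =
          x.1 * (y.1 * (w.toMul).1 * y.1⁻¹) * x.1⁻¹
        group
      smul_zero := fun x => by
        apply Additive.toMul.injective
        apply Subtype.ext
        change x.1 * 1 * x.1⁻¹ = 1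
        group
      smul_add := fun x v w => by
        apply Additive.toMul.injective
        apply Subtype.ext
        change x.1 * ((v.toMul).1 * (w.toMul).1) * x.1⁻¹ =
          (x.1 * (v.toMul).1 * x.1⁻¹) * (x.1 * (w.toMul).1 * x.1⁻¹)
        group }
  have hsm : ∀ (g : P) (w : Additive W), ((g • w).toMul : G) = g.1 * (w.toMul).1 * g.1⁻¹ :=
    fun _ _ => rfl
  haveI : FaithfulSMul P (Additive W) := ⟨by
    intro x y hxy
    apply Subtype.ext
    have key : ∀ w ∈ W, x.1 * w * x.1⁻¹ = y.1 * w * y.1⁻¹ := by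
      intro w hw
      have := hxy (Additive.ofMul ⟨w, hw⟩)
      exact congrArg (fun z : Additive W => ((z.toMul : W) : G)) this
    apply FaithfulSMul.eq_of_smul_eq_smul (α := Ω)
    intro c
    obtain ⟨w, hw, rfl⟩ := hWt a c
    have hx := hfa x.1 x.2
    have hy := hfa y.1 y.2
    have h1 : x.1 • w • a = (x.1 * w * x.1⁻¹) • a := by
      have hma : x.1⁻¹ • a = a := by rw [inv_smul_eq_iff, hx]
      rw [mul_smul, mul_smul, hma]
    have h2 : y.1 • w • a = (y.1 * w * y.1⁻¹) • a := by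
      have hma : y.1⁻¹ • a = a := by rw [inv_smul_eq_iff, hy]
      rw [mul_smul, mul_smul, hma]
    rw [h1, h2, key w hw]⟩
  have hE : ∀ e : Additive W, q • e = 0 := by
    intro e
    apply Additive.toMul.injective
    apply Subtype.ext
    change ((e.toMul ^ q : W) : G) = 1
    rw [Subgroup.coe_pow]
    exact hexp _ (e.toMul).2
  have hconst : ∀ v w : Additive W, v ≠ 0 → w ≠ 0 →
      Nat.card (MulAction.stabilizer P v) = Nat.card (MulAction.stabilizer P w) := by
    intro v w hv hw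
    have hv1 : (v.toMul).1 ≠ 1 := fun e => hv (Additive.toMul.injective (Subtype.ext e))
    have hw1 : (w.toMul).1 ≠ 1 := fun e => hw (Additive.toMul.injective (Subtype.ext e))
    obtain ⟨u, hu, hux⟩ := h.trans (a := a) (b := (v.toMul).1 • a) (c := (w.toMul).1 • a)
      (fun e => hv1 (W_reg hWc hWt (v.toMul).2 e)) (fun e => hw1 (W_reg hWc hWt (w.toMul).2 e))
    have h1 := h.conj_W_eq hWn hWc hWt (h.fix hu) (v.toMul).2 (w.toMul).2 hux
    have hst : ∀ (g : P) (e : Additive W), g • e = e ↔ g.1 * (e.toMul).1 * g.1⁻¹ = (e.toMul).1 := by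
      intro g e
      constructor
      · intro he
        exact congrArg (fun z : Additive W => ((z.toMul : W) : G)) he
      · intro he
        exact Additive.toMul.injective (Subtype.ext he)
    have hui : u⁻¹ • a = a := by rw [inv_smul_eq_iff, h.fix hu]
    have cP : ∀ g ∈ P, u * g * u⁻¹ ∈ P := fun g hg => h.conj_pP_of_fix (h.fix hu) hg
    have cP' : ∀ g ∈ P, u⁻¹ * g * u ∈ P := fun g hg => by
      have := h.conj_pP_of_fix hui hg
      rwa [inv_inv] at this
    refine Nat.card_congr ⟨fun g => ⟨⟨u * g.1.1 * u⁻¹, cP _ g.1.2⟩, ?_⟩,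
      fun g => ⟨⟨u⁻¹ * g.1.1 * u, cP' _ g.1.2⟩, ?_⟩, ?_, ?_⟩
    · rw [mem_stabilizer_iff, hst]
      have h2 := (hst g.1 v).1 g.2
      change (u * g.1.1 * u⁻¹) * (w.toMul).1 * (u * g.1.1 * u⁻¹)⁻¹ = (w.toMul).1
      rw [← h1]
      calc (u * g.1.1 * u⁻¹) * (u * (v.toMul).1 * u⁻¹) * (u * g.1.1 * u⁻¹)⁻¹
          = u * (g.1.1 * (v.toMul).1 * g.1.1⁻¹) * u⁻¹ := by group
        _ = u * (v.toMul).1 * u⁻¹ := by rw [h2]
    · rw [mem_stabilizer_iff, hst]
      have h2 := (hst g.1 w).1 g.2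
      change (u⁻¹ * g.1.1 * u) * (v.toMul).1 * (u⁻¹ * g.1.1 * u)⁻¹ = (v.toMul).1
      rw [← h1] at h2
      calc (u⁻¹ * g.1.1 * u) * (v.toMul).1 * (u⁻¹ * g.1.1 * u)⁻¹
          = u⁻¹ * (g.1.1 * (u * (v.toMul).1 * u⁻¹) * g.1.1⁻¹) * u := by group
        _ = u⁻¹ * (u * (v.toMul).1 * u⁻¹) * u := by rw [h2]
        _ = (v.toMul).1 := by group
    · intro g
      apply Subtype.ext
      apply Subtype.ext
      change u⁻¹ * (u * g.1.1 * u⁻¹) * u = g.1.1
      group
    · intro g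
      apply Subtype.ext
      apply Subtype.ext
      change u * (u⁻¹ * g.1.1 * u) * u⁻¹ = g.1.1
      group
  have hmain := Cfsg.Agent.S1160.result (P := P) (E := Additive W) hp2 (isPGroup_pP (h.nil a)) hq hE
    hconst
  rw [eq_bot_iff_forall]
  intro x hx
  by_contra hx1
  obtain ⟨w, hw, hwb⟩ := hWt a b
  have h1 := hmain.2 ⟨x, hx.1⟩ (fun e => hx1 (congrArg Subtype.val e)) (Additive.ofMul ⟨w, hw⟩) (by
    apply Additive.toMul.injective
    apply Subtype.ext
    change x * w * x⁻¹ = w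
    apply h.conj_W_eq hWn hWc hWt (hfa x hx.1) hw hw
    rw [hwb]
    exact hx.2)
  have h2 : w = 1 := congrArg (fun z : Additive W => ((z.toMul : W) : G)) h1
  rw [h2, one_smul] at hwb
  exact hab hwb

/-- An abelian normal subgroup of `U a` is cyclic in the affine case. -/
theorem isCyclic_of_affine (h : KS U) (hWn : W.Normal) (hWc : ∀ x ∈ W, ∀ y ∈ W, x * y = y * x)
    (hWt : ∀ c d : Ω, ∃ w ∈ W, w • c = d) {a b : Ω} (hab : a ≠ b) {N : Subgroup G} (hN : N ≤ U a)
    (hNc : ∀ x ∈ N, ∀ y ∈ N, x * y = y * x) (hNn : ∀ u ∈ U a, ∀ n ∈ N, u * n * u⁻¹ ∈ N) :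
    IsCyclic N := by
  haveI : Nontrivial W := by
    obtain ⟨w, hw, hwb⟩ := hWt a b
    refine ⟨⟨w, hw⟩, 1, fun e => ?_⟩
    have h2 : w = 1 := congrArg Subtype.val e
    rw [h2, one_smul] at hwb
    exact hab hwb
  let φ : N →* MulAut W := (MulAut.conjNormal (H := W)).comp N.subtype
  refine Cfsg.Agent.Solvable.FpfCyclic.isCyclic_of_fpf_comm (A := N) (V := W)
    (fun x y => Subtype.ext (hNc x x.2 y y.2)) (fun x y => Subtype.ext (hWc x x.2 y y.2)) φ ?_
  intro n hn1 w hw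
  have h1 : n.1 * w.1 * n.1⁻¹ = w.1 := by
    have := congrArg Subtype.val hw
    rwa [MonoidHom.comp_apply, MulAut.conjNormal_apply] at this
  by_contra hw1
  have hw1' : w.1 ≠ 1 := fun e => hw1 (Subtype.ext e)
  apply hn1
  apply Subtype.ext
  apply h.semireg_abelian hWn hWc hWt hN hNc hNn (b := w.1 • a)
    (fun e => hw1' (W_reg hWc hWt w.2 e)) n.2
  have hna := h.fix (hN n.2)
  calc n.1 • w.1 • a = n.1 • w.1 • n.1⁻¹ • a := by
        have hma : n.1⁻¹ • a = a := by rw [inv_smul_eq_iff, hna]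
        rw [hma]
    _ = (n.1 * w.1 * n.1⁻¹) • a := by rw [mul_smul, mul_smul]
    _ = w.1 • a := by rw [h1]

end KS

end Cfsg.Agent.KantorSeitz
end

-- part: KantorSeitz/Affine3
section
/-!
# The affine case of the Kantor–Seitz theorem: `p = 2`
-/

set_option autoImplicit false
set_option linter.unusedSectionVars false
set_option linter.style.haveILetI false

namespace Cfsg.Agent.KantorSeitz

open Subgroup MulAction

namespace KS

variable {G Ω : Type*} [Group G] [Finite G] [MulAction G Ω] [Finite Ω] [FaithfulSMul G Ω]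
  {U : Ω → Subgroup G} {W : Subgroup G}

theorem normal_of_pP {p : ℕ} [Fact p.Prime] (h : KS U) {a : Ω} {N : Subgroup G}
    (hN : N ≤ pP p (U a)) (hNn : ∀ u ∈ pP p (U a), ∀ n ∈ N, u * n * u⁻¹ ∈ N) :
    ∀ u ∈ U a, ∀ n ∈ N, u * n * u⁻¹ ∈ N := by
  intro u hu n hn
  obtain ⟨y, hy, z, hz, rfl, -, -⟩ := exists_mul_parts (p := p) hu
  have h1 := commute_parts (h.nil a) (hN hn) hz
  have h2 : y * z * n * (y * z)⁻¹ = y * n * y⁻¹ := by
    calc y * z * n * (y * z)⁻¹ = y * (z * n) * z⁻¹ * y⁻¹ := by group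
      _ = y * n * y⁻¹ := by rw [← h1]; group
  rw [h2]
  exact hNn y hy n hn

theorem affine_concl_two (h : KS U) (hWn : W.Normal) (hWc : ∀ x ∈ W, ∀ y ∈ W, x * y = y * x)
    (hWt : ∀ c d : Ω, ∃ w ∈ W, w • c = d) {a b : Ω} (hab : a ≠ b) (hX : X 2 U a b ≠ ⊥) :
    Concl U a b := by
  haveI : Fact (Nat.Prime 2) := ⟨Nat.prime_two⟩
  set P : Subgroup G := pP 2 (U a) with hP
  have hPp : IsPGroup 2 P := isPGroup_pP (h.nil a)
  have hcyc : ∀ A : Subgroup P, A.Normal → IsMulCommutative A → IsCyclic A := by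
    intro A hA hAc
    have hN1 : A.map P.subtype ≤ U a := by
      rintro _ ⟨x, -, rfl⟩
      exact pP_le 2 _ x.2
    have h1 := h.isCyclic_of_affine hWn hWc hWt hab (N := A.map P.subtype) hN1 (by
      rintro _ ⟨x, hx, rfl⟩ _ ⟨y, hy, rfl⟩
      have := hAc.is_comm.comm ⟨x, hx⟩ ⟨y, hy⟩
      exact congrArg (fun z : A => ((z : P) : G)) this) (h.normal_of_pP (p := 2) (by
        rintro _ ⟨x, -, rfl⟩
        exact x.2) (by
        rintro u hu _ ⟨x, hx, rfl⟩
        exact ⟨⟨u, hu⟩ * x * ⟨u, hu⟩⁻¹, hA.conj_mem x hx ⟨u, hu⟩, rfl⟩))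
    exact isCyclic_of_injective (A.equivMapOfInjective P.subtype P.subtype_injective).toMonoidHom
      (A.equivMapOfInjective P.subtype P.subtype_injective).injective
  have hPsemi : ∀ N : Subgroup G, N ≤ P → (∀ x ∈ N, ∀ y ∈ N, x * y = y * x) →
      (∀ u ∈ P, ∀ n ∈ N, u * n * u⁻¹ ∈ N) → ∀ n ∈ N, n • b = b → n = 1 := by
    intro N hN hNc hNn n hn hnb
    exact h.semireg_abelian hWn hWc hWt (hN.trans (pP_le 2 _)) hNc (h.normal_of_pP (p := 2) hN hNn)
      hab.symm hn hnb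
  obtain ⟨x0, hx0, hx01⟩ : ∃ x ∈ X 2 U a b, x ≠ 1 := by
    by_contra hcon
    push Not at hcon
    exact hX ((eq_bot_iff_forall _).2 hcon)
  have hx0P : x0 ∈ P := hx0.1
  have hx0b : x0 • b = b := hx0.2
  rcases Cfsg.Agent.Classification.NormalCyclic.exists_cyclic_index_two hPp hcyc with hPc | ⟨A, hAc, hA2⟩
  · exfalso
    apply hx01
    refine hPsemi P le_rfl ?_ (fun u hu n hn => mul_mem (mul_mem hu hn) (inv_mem hu)) x0 hx0P hx0b
    intro x hx y hy
    letI := IsCyclic.commGroup (α := P)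
    exact congrArg Subtype.val (mul_comm (⟨x, hx⟩ : P) ⟨y, hy⟩)
  -- the cyclic subgroup of index `2`
  obtain ⟨⟨c, hcA⟩, hgen⟩ := hAc.exists_generator
  have hAn : A.Normal := Subgroup.normal_of_index_eq_two hA2
  set C : Subgroup G := A.map P.subtype with hC
  have mC : ∀ {x : G} (hx : x ∈ P), x ∈ C ↔ (⟨x, hx⟩ : P) ∈ A := by
    intro x hx
    constructor
    · rintro ⟨y, hy, rfl⟩
      exact hy
    · intro hxA
      exact ⟨⟨x, hx⟩, hxA, rfl⟩
  have hCP : C ≤ P := by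
    rintro _ ⟨y, -, rfl⟩
    exact y.2
  have hcC : (c : G) ∈ C := ⟨c, hcA, rfl⟩
  have hCgen : ∀ x ∈ C, ∃ k : ℤ, (c : G) ^ k = x := by
    rintro _ ⟨y, hy, rfl⟩
    obtain ⟨k, hk⟩ := mem_zpowers_iff.1 (hgen ⟨y, hy⟩)
    refine ⟨k, ?_⟩
    exact congrArg (fun z : A => ((z : P) : G)) hk
  have hCc : ∀ x ∈ C, ∀ y ∈ C, x * y = y * x := by
    intro x hx y hy
    obtain ⟨k, rfl⟩ := hCgen x hx
    obtain ⟨l, rfl⟩ := hCgen y hy
    rw [← zpow_add, ← zpow_add, add_comm]
  have hCn : ∀ u ∈ P, ∀ n ∈ C, u * n * u⁻¹ ∈ C := by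
    rintro u hu _ ⟨x, hx, rfl⟩
    exact ⟨⟨u, hu⟩ * x * ⟨u, hu⟩⁻¹, hAn.conj_mem x hx ⟨u, hu⟩, rfl⟩
  have hCsemi : ∀ x ∈ C, x • b = b → x = 1 := hPsemi C hCP hCc hCn
  have htwo : ∀ x ∈ P, ∀ y ∈ P, x ∉ C → y ∉ C → x * y ∈ C := by
    intro x hx y hy hxC hyC
    rw [mC hx] at hxC
    rw [mC hy] at hyC
    rw [mC (mul_mem hx hy)]
    have := Subgroup.mul_mem_iff_of_index_two hA2 (a := ⟨x, hx⟩) (b := ⟨y, hy⟩)
    exact this.2 (by (clear * - hxC hyC; tauto))
  have hx0C : x0 ∉ C := fun e => hx01 (hCsemi x0 e hx0b)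
  have hstab : ∀ x y : G, x • b = b → y • b = b → (x * y) • b = b := by
    intro x y hx hy
    rw [mul_smul, hy, hx]
  have hx0x0 : x0 * x0 = 1 := hCsemi _ (htwo x0 hx0P x0 hx0P hx0C hx0C) (hstab _ _ hx0b hx0b)
  have hx0i : x0⁻¹ = x0 := inv_eq_of_mul_eq_one_left hx0x0
  have hXeq : ∀ x ∈ X 2 U a b, x = 1 ∨ x = x0 := by
    intro x hx
    by_cases hx1 : x = 1
    · exact Or.inl hx1
    · right
      have hxC : x ∉ C := fun e => hx1 (hCsemi x e hx.2)
      have h1 : x * x0 = 1 := hCsemi _ (htwo x hx.1 x0 hx0P hxC hx0C) (hstab _ _ hx.2 hx0b)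
      rw [mul_eq_one_iff_eq_inv, hx0i] at h1
      exact h1
  -- `C` is invariant under the stabiliser of `a`
  have hconj : ∀ g : G, g • a = a → ∀ x ∈ P, g * x * g⁻¹ ∈ P := fun g hg x hx =>
    h.conj_pP_of_fix hg hx
  have hCinv : ∀ g : G, g • a = a → ∀ x ∈ C, g * x * g⁻¹ ∈ C := by
    intro g hg
    have hcP : (c : G) ∈ P := hCP hcC
    suffices hsuf : g * (c : G) * g⁻¹ ∈ C by
      intro x hx
      obtain ⟨k, rfl⟩ := hCgen x hx
      rw [← conj_zpow]
      exact zpow_mem hsuf k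
    by_contra hd
    set d := g * (c : G) * g⁻¹ with hdd
    have hdP : d ∈ P := hconj g hg _ hcP
    -- `c ^ 2` commutes with `d`
    have hgi : g⁻¹ • a = a := by rw [inv_smul_eq_iff, hg]
    have hc2 : ∃ k : ℤ, d ^ k = (c : G) * c := by
      -- `g⁻¹ c g ∉ C` or in `C`; in both cases its square lies in `C`
      have h1 : g⁻¹ * (c : G) * g ∈ P := by
        have := hconj g⁻¹ hgi _ hcP
        rwa [inv_inv] at this
      have h2 : (g⁻¹ * (c : G) * g) * (g⁻¹ * (c : G) * g) ∈ C := by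
        by_cases h3 : g⁻¹ * (c : G) * g ∈ C
        · exact mul_mem h3 h3
        · exact htwo _ h1 _ h1 h3 h3
      obtain ⟨k, hk⟩ := hCgen _ h2
      refine ⟨k, ?_⟩
      rw [hdd, conj_zpow, hk]
      group
    have hc2d : (c : G) * c * d = d * ((c : G) * c) := by
      obtain ⟨k, hk⟩ := hc2
      rw [← hk, ← zpow_add_one, ← zpow_one_add, add_comm]
    -- hence with `x0`
    have hc2x0 : x0 * ((c : G) * c) = (c : G) * c * x0 := by
      have h1 : x0 * d⁻¹ ∈ C := by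
        refine htwo x0 hx0P d⁻¹ (inv_mem hdP) hx0C ?_
        intro h2
        exact hd (by simpa using inv_mem h2)
      have h2 := hCc _ h1 _ (mul_mem hcC hcC)
      have h3 : d⁻¹ * ((c : G) * c) = (c : G) * c * d⁻¹ := by
        calc d⁻¹ * ((c : G) * c) = d⁻¹ * (((c : G) * c) * d) * d⁻¹ := by group
          _ = (c : G) * c * d⁻¹ := by rw [hc2d]; group
      calc x0 * ((c : G) * c) = (x0 * d⁻¹) * (d * ((c : G) * c)) := by group
        _ = (x0 * d⁻¹) * ((c : G) * c) * d := by rw [← hc2d]; group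
        _ = (c : G) * c * x0 := by rw [h2]; group
    set w := x0 * (c : G) * x0⁻¹ * (c : G)⁻¹ with hw
    have hwC : w ∈ C := mul_mem (hCn x0 hx0P _ hcC) (inv_mem hcC)
    have hwc : w * (c : G) = (c : G) * w := hCc _ hwC _ hcC
    have hxcx : x0 * (c : G) * x0⁻¹ = w * c := by rw [hw]; group
    have hww : w * w = 1 := by
      have h1 : (w * (c : G)) * (w * c) = (c : G) * c := by
        rw [← hxcx]
        calc x0 * (c : G) * x0⁻¹ * (x0 * (c : G) * x0⁻¹) = x0 * ((c : G) * c) * x0⁻¹ := by group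
          _ = (c : G) * c := by rw [hc2x0]; group
      have h2 : (w * (c : G)) * (w * c) = (w * w) * ((c : G) * c) := by
        calc (w * (c : G)) * (w * c) = w * ((c : G) * w) * c := by group
          _ = (w * w) * ((c : G) * c) := by rw [← hwc]; group
      rw [h2] at h1
      exact mul_eq_right.1 h1
    have hwi : w⁻¹ = w := inv_eq_of_mul_eq_one_left hww
    have hx0w : x0 * w = w * x0 := by
      have h1 : x0 * w * x0⁻¹ = w⁻¹ := by
        rw [hw]
        calc x0 * (x0 * (c : G) * x0⁻¹ * (c : G)⁻¹) * x0⁻¹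
            = (x0 * x0) * (c : G) * (x0⁻¹ * (c : G)⁻¹ * x0⁻¹) := by group
          _ = (c : G) * (x0 * (c : G)⁻¹ * x0⁻¹) := by rw [hx0x0, hx0i]; group
          _ = (x0 * (c : G) * x0⁻¹ * (c : G)⁻¹)⁻¹ := by group
      rw [hwi] at h1
      calc x0 * w = (x0 * w * x0⁻¹) * x0 := by group
        _ = w * x0 := by rw [h1]
    -- the fours group
    let N : Subgroup G :=
      { carrier := {y | y = 1 ∨ y = x0 ∨ y = w ∨ y = w * x0}
        one_mem' := Or.inl rfl
        mul_mem' := by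
          have e1 : x0 * (w * x0) = w := by rw [← mul_assoc, hx0w, mul_assoc, hx0x0, mul_one]
          have e2 : w * (w * x0) = x0 := by rw [← mul_assoc, hww, one_mul]
          have e3 : w * x0 * x0 = w := by rw [mul_assoc, hx0x0, mul_one]
          have e4 : w * x0 * w = x0 := by rw [mul_assoc, hx0w, e2]
          have e5 : w * x0 * (w * x0) = 1 := by rw [mul_assoc, e1, hww]
          rintro y z (rfl | rfl | rfl | rfl) (rfl | rfl | rfl | rfl) <;>
            simp only [Set.mem_ofPred_eq, one_mul, mul_one, hx0x0, hww, hx0w, e1, e2, e3, e4, e5,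
              true_or, or_true]
        inv_mem' := by
          rintro y (rfl | rfl | rfl | rfl)
          · left; simp
          · right; left; exact hx0i
          · right; right; left; exact hwi
          · right; right; right; rw [mul_inv_rev, hx0i, hwi, hx0w] }
    have mN : ∀ y, y ∈ N ↔ (y = 1 ∨ y = x0 ∨ y = w ∨ y = w * x0) := fun y => Iff.rfl
    have hNP : N ≤ P := by
      intro y hy
      rcases (mN y).1 hy with rfl | rfl | rfl | rfl
      · exact one_mem _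
      · exact hx0P
      · exact hCP hwC
      · exact mul_mem (hCP hwC) hx0P
    have hNc : ∀ x ∈ N, ∀ y ∈ N, x * y = y * x := by
      intro y hy z hz
      have e1 : Commute x0 w := hx0w
      have key : ∀ y, y ∈ N → Commute y x0 ∧ Commute y w := by
        intro y hy
        rcases (mN y).1 hy with rfl | rfl | rfl | rfl
        · exact ⟨Commute.one_left _, Commute.one_left _⟩
        · exact ⟨Commute.refl _, e1⟩
        · exact ⟨e1.symm, Commute.refl _⟩
        · exact ⟨e1.symm.mul_left (Commute.refl _), (Commute.refl _).mul_left e1⟩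
      obtain ⟨k1, k2⟩ := key y hy
      rcases (mN z).1 hz with rfl | rfl | rfl | rfl
      · rw [mul_one, one_mul]
      · exact k1.eq
      · exact k2.eq
      · exact (k2.mul_right k1).eq
    -- the normaliser of `N`
    have hcx0 : (c : G) * x0 * (c : G)⁻¹ = w * x0 := by
      have h1 : (c : G) * x0 * (c : G)⁻¹ = w⁻¹ * x0 := by
        rw [hw]; group
      rw [h1, hwi]
    have hnc : ∀ n ∈ N, (c : G) * n * (c : G)⁻¹ ∈ N := by
      have hcw : (c : G) * w * (c : G)⁻¹ = w := by rw [← hwc]; group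
      intro n hn
      rcases (mN n).1 hn with rfl | rfl | rfl | rfl
      · rw [mul_one, mul_inv_cancel]; exact one_mem _
      · rw [hcx0]; exact Or.inr (Or.inr (Or.inr rfl))
      · rw [hcw]; exact hn
      · have : (c : G) * (w * x0) * (c : G)⁻¹ = x0 := by
          calc (c : G) * (w * x0) * (c : G)⁻¹
              = ((c : G) * w * (c : G)⁻¹) * ((c : G) * x0 * (c : G)⁻¹) := by group
            _ = w * (w * x0) := by rw [hcw, hcx0]
            _ = x0 := by rw [← mul_assoc, hww, one_mul]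
        rw [this]
        exact Or.inr (Or.inl rfl)
    have hncz : ∀ y ∈ C, ∀ n ∈ N, y * n * y⁻¹ ∈ N := by
      have hcn : (c : G) ∈ normalizer (N : Set G) := by
        have hfin : (N : Set G).Finite := Set.toFinite _
        rw [mem_normalizer_iff]
        intro n
        refine ⟨hnc n, fun hn => ?_⟩
        have hsub : (fun e => (c : G) * e * (c : G)⁻¹) '' (N : Set G) ⊆ N := by
          rintro _ ⟨f, hf, rfl⟩
          exact hnc f hf
        have hinj : Function.Injective (fun e => (c : G) * e * (c : G)⁻¹) :=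
          (MulAut.conj (c : G)).injective
        have heq : (fun e => (c : G) * e * (c : G)⁻¹) '' (N : Set G) = N :=
          Set.eq_of_subset_of_ncard_le hsub (by rw [Set.ncard_image_of_injective _ hinj]) hfin
        have : (c : G) * n * (c : G)⁻¹ ∈ (fun e => (c : G) * e * (c : G)⁻¹) '' (N : Set G) := by
          rw [heq]; exact hn
        obtain ⟨f, hf, hfe⟩ := this
        have := hinj hfe
        rwa [this] at hf
      intro y hy n hn
      obtain ⟨k, rfl⟩ := hCgen y hy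
      exact (mem_normalizer_iff.1 (zpow_mem hcn k) n).1 hn
    have hNn : ∀ u ∈ P, ∀ n ∈ N, u * n * u⁻¹ ∈ N := by
      intro u hu n hn
      by_cases huC : u ∈ C
      · exact hncz u huC n hn
      · have h1 : u * x0 ∈ C := htwo u hu x0 hx0P huC hx0C
        have h2 : x0⁻¹ * n * x0⁻¹⁻¹ ∈ N := by
          have hx0N : x0 ∈ N := Or.inr (Or.inl rfl)
          exact mul_mem (mul_mem (inv_mem hx0N) hn) (inv_mem (inv_mem hx0N))
        have h3 := hncz _ h1 _ h2
        have h4 : u * x0 * (x0⁻¹ * n * x0⁻¹⁻¹) * (u * x0)⁻¹ = u * n * u⁻¹ := by group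
        rwa [h4] at h3
    exact hx01 (hPsemi N hNP hNc hNn x0 (Or.inr (Or.inl rfl)) hx0b)
  -- conclusion
  right
  refine ⟨⟨x0, fun x hx hxb => hXeq x (h.mem_X_of_mem_U hab hX hab hx hxb)⟩, ?_⟩
  have hcomm : ∀ y ∈ C, ∀ r ∈ pR 2 (U a), y * r = r * y := fun y hy r hr =>
    commute_parts (h.nil a) (hCP hy) hr
  let V : Subgroup G :=
    { carrier := {g | ∃ y ∈ C, ∃ r ∈ pR 2 (U a), g = y * r}
      one_mem' := ⟨1, one_mem _, 1, one_mem _, (mul_one 1).symm⟩
      mul_mem' := by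
        rintro _ _ ⟨y, hy, r, hr, rfl⟩ ⟨y', hy', r', hr', rfl⟩
        refine ⟨y * y', mul_mem hy hy', r * r', mul_mem hr hr', ?_⟩
        calc y * r * (y' * r') = y * (r * y') * r' := by group
          _ = y * y' * (r * r') := by rw [← hcomm y' hy' r hr]; group
      inv_mem' := by
        rintro _ ⟨y, hy, r, hr, rfl⟩
        refine ⟨y⁻¹, inv_mem hy, r⁻¹, inv_mem hr, ?_⟩
        rw [mul_inv_rev, hcomm _ (inv_mem hy) _ (inv_mem hr)] }
  refine ⟨V, ?_, ?_, ?_, ?_⟩
  · rintro _ ⟨y, hy, r, hr, rfl⟩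
    exact mul_mem (pP_le 2 _ (hCP hy)) (pR_le 2 _ hr)
  · rintro g hg _ ⟨y, hy, r, hr, rfl⟩
    refine ⟨g * y * g⁻¹, hCinv g hg y hy, g * r * g⁻¹, h.conj_pR_of_fix hg hr, ?_⟩
    group
  · rintro _ ⟨y, hy, r, hr, rfl⟩ hvb
    have h1 : y * r ∈ X 2 U a b := h.mem_X_of_mem_U hab hX hab
      (mul_mem (pP_le 2 _ (hCP hy)) (pR_le 2 _ hr)) hvb
    have h2 : r ∈ P := by
      have h3 := mul_mem (inv_mem (hCP hy)) h1.1
      rwa [inv_mul_cancel_left] at h3
    have h3 : r = 1 := by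
      obtain ⟨k, hk⟩ := ((mem_pP (h.nil a)).1 h2).2
      have h4 := ((mem_pR (h.nil a)).1 hr).2
      have h5 := orderOf_dvd_of_pow_eq_one hk
      exact orderOf_eq_one_iff.1 (Nat.Coprime.eq_one_of_dvd (Nat.Coprime.pow_right k h4) h5)
    rw [h3, mul_one] at hvb ⊢
    exact hCsemi y hy hvb
  · intro u hu
    obtain ⟨y, hy, r, hr, rfl, -, -⟩ := exists_mul_parts (p := 2) hu
    by_cases hyC : y ∈ C
    · exact ⟨y * r, ⟨y, hyC, r, hr, rfl⟩, 1, one_mem _, one_smul G b, (mul_one _).symm⟩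
    · refine ⟨y * x0 * r, ⟨y * x0, htwo y hy x0 hx0P hyC hx0C, r, hr, rfl⟩, x0, pP_le 2 _ hx0P, hx0b, ?_⟩
      have h1 := commute_parts (h.nil a) hx0P hr
      calc y * r = y * (x0 * x0) * r := by rw [hx0x0, mul_one]
        _ = y * x0 * (x0 * r) := by group
        _ = y * x0 * r * x0 := by rw [h1]; group

/-- The affine case of the Kantor–Seitz theorem. -/
theorem affine_concl (h : KS U) (hWn : W.Normal) (hWc : ∀ x ∈ W, ∀ y ∈ W, x * y = y * x)
    (hWt : ∀ c d : Ω, ∃ w ∈ W, w • c = d) {a b : Ω} (hab : a ≠ b) : Concl U a b := by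
  by_cases hall : ∀ x ∈ U a, x • b = b → x = 1
  · exact Or.inl hall
  · push Not at hall
    obtain ⟨x, hx, hxb, hx1⟩ := hall
    obtain ⟨p, hp, hXp⟩ := exists_X_ne_bot hx hxb hx1
    haveI : Fact p.Prime := ⟨hp⟩
    by_cases hp2 : p = 2
    · subst hp2
      exact h.affine_concl_two hWn hWc hWt hab hXp
    · exact absurd (h.X_eq_bot_of_affine hWn hWc hWt hp2 hab) hXp

/-- The affine case of the Kantor–Seitz theorem in odd characteristic. -/
theorem affine_odd (h : KS U) (hWn : W.Normal) (hWc : ∀ x ∈ W, ∀ y ∈ W, x * y = y * x)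
    (hWt : ∀ c d : Ω, ∃ w ∈ W, w • c = d) {a b : Ω} (hab : a ≠ b) (hodd : Odd (Nat.card (U a))) :
    ∀ x ∈ U a, x • b = b → x = 1 := by
  intro x hx hxb
  by_contra hx1
  obtain ⟨p, hp, hXp⟩ := exists_X_ne_bot hx hxb hx1
  haveI : Fact p.Prime := ⟨hp⟩
  by_cases hp2 : p = 2
  · subst hp2
    apply hXp
    rw [eq_bot_iff_forall]
    intro y hy
    obtain ⟨k, hk⟩ := ((mem_pP (h.nil a)).1 hy.1).2
    have h1 := orderOf_dvd_of_pow_eq_one hk
    have h2 : orderOf y ∣ Nat.card (U a) := by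
      have := _root_.orderOf_dvd_natCard (⟨y, pP_le 2 _ hy.1⟩ : U a)
      rwa [Subgroup.orderOf_mk] at this
    have h3 : (orderOf y).Coprime (2 ^ k) := by
      refine Nat.Coprime.pow_right k ?_
      exact Nat.coprime_two_right.2 (Odd.of_dvd_nat hodd h2)
    exact orderOf_eq_one_iff.1 (Nat.Coprime.eq_one_of_dvd h3 h1)
  · exact hXp (h.X_eq_bot_of_affine hWn hWc hWt hp2 hab)

end KS

end Cfsg.Agent.KantorSeitz
end

-- part: KantorSeitz/AffLines
section
/-!
# Affine lines of even order force the whole group to be affine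
-/

set_option autoImplicit false
set_option linter.unusedSectionVars false
set_option linter.style.haveILetI false

namespace Cfsg.Agent.KantorSeitz

open Subgroup MulAction

namespace KS

variable {G Ω : Type*} [Group G] [Finite G] [MulAction G Ω] [Finite Ω] [FaithfulSMul G Ω]
  {U : Ω → Subgroup G} {p : ℕ} [hp : Fact p.Prime]

theorem smul_mem_L' (h : KS U) (g : G) {a b c : Ω} (hc : c ∈ L p U a b) :
    g • c ∈ L p U (g • a) (g • b) := by
  intro x hx
  have h1 := h.conj_X (p := p) g⁻¹ hx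
  rw [inv_smul_smul, inv_smul_smul, inv_inv] at h1
  have h2 := hc _ h1
  rw [mul_smul, mul_smul, inv_smul_eq_iff] at h2
  exact h2

theorem AL_conj' (h : KS U) (g : G) {a b : Ω} {y : G} (hy : y ∈ AL p U a b) :
    g * y * g⁻¹ ∈ AL p U (g • a) (g • b) := by
  have : AL p U a b ≤ (AL p U (g • a) (g • b)).comap (MulAut.conj g).toMonoidHom := by
    conv_lhs => rw [AL]
    rw [closure_le]
    rintro z ⟨c, hc, hz⟩
    exact _root_.Subgroup.subset_closure ⟨g • c, h.smul_mem_L' g hc, h.conj_Z g hz⟩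
  exact this hy

/-- the properties of the translation group of a line -/
structure IsTrans (p : ℕ) (U : Ω → Subgroup G) (c d : Ω) (E : Subgroup G) : Prop where
  le : E ≤ AL p U c d
  sq : ∀ x ∈ E, x * x = 1
  tr : ∀ e ∈ L p U c d, ∀ f ∈ L p U c d, ∃ x ∈ E, x • e = f
  inv : ∀ g ∈ setStab (L p U c d), ∀ x ∈ E, g * x * g⁻¹ ∈ E

theorem IsTrans.conj (h : KS U) {c d : Ω} {E : Subgroup G} (hE : IsTrans p U c d E) (g : G) :
    IsTrans p U (g • c) (g • d) (E.map (MulAut.conj g).toMonoidHom) where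
  le := by
    rintro _ ⟨x, hx, rfl⟩
    exact h.AL_conj' g (hE.le hx)
  sq := by
    rintro _ ⟨x, hx, rfl⟩
    rw [← map_mul, hE.sq x hx, map_one]
  tr := by
    intro e he f hf
    have he' := h.smul_mem_L' g⁻¹ he
    have hf' := h.smul_mem_L' g⁻¹ hf
    rw [inv_smul_smul, inv_smul_smul] at he' hf'
    obtain ⟨x, hx, hxe⟩ := hE.tr _ he' _ hf'
    refine ⟨g * x * g⁻¹, ⟨x, hx, rfl⟩, ?_⟩
    rw [mul_smul, mul_smul, hxe, smul_inv_smul]
  inv := by
    rintro k hk _ ⟨x, hx, rfl⟩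
    have hk' : g⁻¹ * k * g ∈ setStab (L p U c d) := by
      apply mem_setStab_of
      intro e he
      have h1 := (hk _).1 (h.smul_mem_L' g he)
      have h2 := h.smul_mem_L' g⁻¹ h1
      rw [inv_smul_smul, inv_smul_smul] at h2
      rw [mul_smul, mul_smul]
      exact h2
    refine ⟨g⁻¹ * k * g * x * (g⁻¹ * k * g)⁻¹, hE.inv _ hk' x hx, ?_⟩
    change g * (g⁻¹ * k * g * x * (g⁻¹ * k * g)⁻¹) * g⁻¹ = k * (g * x * g⁻¹) * k⁻¹
    group

theorem IsTrans.comm {c d : Ω} {E : Subgroup G} (hE : IsTrans p U c d E) {x y : G} (hx : x ∈ E)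
    (hy : y ∈ E) : x * y = y * x := by
  have h1 := hE.sq _ (mul_mem hx hy)
  have hx1 : x⁻¹ = x := inv_eq_of_mul_eq_one_left (hE.sq x hx)
  have hy1 : y⁻¹ = y := inv_eq_of_mul_eq_one_left (hE.sq y hy)
  have h2 : x * y = (x * y)⁻¹ := eq_inv_of_mul_eq_one_left h1
  rw [h2, mul_inv_rev, hx1, hy1]

theorem orderOf_coprime_of_sq (hp2 : p ≠ 2) {x : G} (hx : x * x = 1) : (orderOf x).Coprime p := by
  have h1 : orderOf x ∣ 2 := orderOf_dvd_of_pow_eq_one (by rw [pow_two, hx])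
  exact Nat.Coprime.coprime_dvd_left h1 ((Nat.coprime_primes Nat.prime_two hp.out).2 hp2.symm)

theorem IsTrans.reg (h : KS U) (hp2 : p ≠ 2) {c d : Ω} (hcd : c ≠ d) {E : Subgroup G}
    (hE : IsTrans p U c d E) {x : G} (hx : x ∈ E) {e : Ω} (he : e ∈ L p U c d) (hxe : x • e = e) :
    x = 1 := by
  refine h.eq_one_of_fix_line hcd (p := p) ?_ (fun y hy => h.AL_comm_X hcd hy (hE.le hx))
    (orderOf_coprime_of_sq hp2 (hE.sq x hx))
  intro f hf
  obtain ⟨y, hy, rfl⟩ := hE.tr e he f hf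
  rw [← mul_smul, hE.comm hx hy, mul_smul, hxe]

theorem IsTrans.conj_mem (h : KS U) {c d : Ω} (hcd : c ≠ d) {E : Subgroup G}
    (hE : IsTrans p U c d E) {c' : Ω} (hc' : c' ∈ L p U c d) {z : G} (hz : z ∈ Z p U c') {x : G}
    (hx : x ∈ E) : z * x * z⁻¹ ∈ E :=
  hE.inv z (h.AL_le_setStab hcd (Z_le_AL hc' hz)) x hx

theorem IsTrans.exists_comm (h : KS U) (hp2 : p ≠ 2) {c d : Ω} (hcd : c ≠ d) {E : Subgroup G}
    (hE : IsTrans p U c d E) {c' : Ω} (hc' : c' ∈ L p U c d) {z : G} (hz : z ∈ Z p U c')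
    (hz1 : z ≠ 1) {e : G} (he : e ∈ E) : ∃ f ∈ E, e = z⁻¹ * (f * z * f⁻¹) := by
  let φ : E → E := fun f => ⟨z⁻¹ * (f.1 * z * f.1⁻¹), by
    have h1 := hE.conj_mem h hcd hc' (inv_mem hz) f.2
    have h2 : z⁻¹ * (f.1 * z * f.1⁻¹) = z⁻¹ * f.1 * z⁻¹⁻¹ * f.1⁻¹ := by group
    rw [h2]
    exact mul_mem h1 (inv_mem f.2)⟩
  have hinj : Function.Injective φ := by
    intro f g hfg
    have h1 : z⁻¹ * (f.1 * z * f.1⁻¹) = z⁻¹ * (g.1 * z * g.1⁻¹) := congrArg Subtype.val hfg
    have h2 : f.1 * z * f.1⁻¹ = g.1 * z * g.1⁻¹ := mul_left_cancel h1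
    have h3 : (g.1⁻¹ * f.1) * z = z * (g.1⁻¹ * f.1) := by
      calc (g.1⁻¹ * f.1) * z = g.1⁻¹ * (f.1 * z * f.1⁻¹) * f.1 := by group
        _ = z * (g.1⁻¹ * f.1) := by rw [h2]; group
    have hzc : z • c' = c' := h.Z_fix hz
    have h4 : z • ((g.1⁻¹ * f.1) • c') = (g.1⁻¹ * f.1) • c' := by
      rw [← mul_smul, ← h3, mul_smul, hzc]
    have h5 : (g.1⁻¹ * f.1) • c' = c' := by
      by_contra hne
      exact hz1 (h.Z_semireg hne hz h4)
    have h6 := hE.reg h hp2 hcd (mul_mem (inv_mem g.2) f.2) hc' h5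
    rw [inv_mul_eq_one] at h6
    exact Subtype.ext h6.symm
  have hsurj := Finite.surjective_of_injective hinj
  obtain ⟨f, hf⟩ := hsurj ⟨e, he⟩
  exact ⟨f.1, f.2, (congrArg Subtype.val hf).symm⟩

/-- translations have no fixed points -/
theorem IsTrans.no_fixed (h : KS U) (hp2 : p ≠ 2) {a b : Ω} (hab : a ≠ b) (hX : X p U a b ≠ ⊥)
    {c d : Ω} (hcd : c ≠ d) {E : Subgroup G}
    (hE : IsTrans p U c d E) {e : G} (he : e ∈ E) (he1 : e ≠ 1) (x : Ω) : e • x ≠ x := by
  intro hex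
  by_cases hx : x ∈ L p U c d
  · exact he1 (hE.reg h hp2 hcd he hx hex)
  · obtain ⟨z, hz, hz1⟩ : ∃ z ∈ Z p U c, z ≠ 1 := by
      have h1 := Z_ne_bot (p := p) (h.nil c) (h.pP_ne_bot (pP_ne_bot_of_X hX) c)
      by_contra hcon
      push Not at hcon
      exact h1 ((eq_bot_iff_forall _).2 hcon)
    have hcL := h.left_mem_L (p := p) c d
    obtain ⟨f, hf, rfl⟩ := hE.exists_comm h hp2 hcd hcL hz hz1 he
    have hfc : f • c ≠ c := by
      intro e
      have := hE.reg h hp2 hcd hf hcL e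
      rw [this] at he1
      exact he1 (by group)
    have hfL : f • c ∈ L p U c d := ((h.AL_le_setStab hcd (hE.le hf)) c).1 hcL
    have hz' : f * z * f⁻¹ ∈ Z p U (f • c) := h.conj_Z f hz
    have hy : (f * z * f⁻¹) • x = z • x := by
      have h1 : z • (z⁻¹ * (f * z * f⁻¹)) • x = z • x := by rw [hex]
      rw [← mul_smul, mul_inv_cancel_left] at h1
      exact h1
    have hcx : c ≠ x := fun e => hx (by rw [← e]; exact hcL)
    have hfx : f • c ≠ x := fun e => hx (by rw [← e]; exact hfL)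
    have h1 : z • x ∈ L p U c x := smul_mem_of_comm (fun u hu => (mem_Z.1 hz).2 u (mem_X.1 hu).1)
      (right_mem_L c x)
    have h2 : z • x ∈ L p U (f • c) x := by
      rw [← hy]
      exact smul_mem_of_comm (fun u hu => (mem_Z.1 hz').2 u (mem_X.1 hu).1) (right_mem_L _ x)
    have h3 : z • x ≠ x := fun e => hz1 (h.Z_semireg hcx.symm hz e)
    have h4 := h.L_eq_L hcx hfx h1 (right_mem_L c x) h2 (right_mem_L _ x) h3
    have h5 : f • c ∈ L p U c x := by rw [h4]; exact h.left_mem_L _ x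
    have h6 := h.L_eq_L hcx hcd (h.left_mem_L c x) h5 hcL hfL hfc.symm
    apply hx
    rw [← h6]
    exact right_mem_L c x

/-- translations of different lines through a point commute -/
theorem IsTrans.comm_of_ne (h : KS U) (hp2 : p ≠ 2) {a b : Ω} (hab : a ≠ b) (hX : X p U a b ≠ ⊥)
    (hall : ∀ c d : Ω, c ≠ d → ∃ E : Subgroup G, IsTrans p U c d E)
    {c d d' : Ω} (hcd : c ≠ d) (hcd' : c ≠ d') (hdd' : d' ∉ L p U c d) {E E' : Subgroup G}
    (hE : IsTrans p U c d E) (hE' : IsTrans p U c d' E') {e e' : G} (he : e ∈ E) (he' : e' ∈ E') :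
    e * e' = e' * e := by
  by_cases he1 : e = 1
  · rw [he1, one_mul, mul_one]
  by_cases he1' : e' = 1
  · rw [he1', one_mul, mul_one]
  have hee : e⁻¹ = e := inv_eq_of_mul_eq_one_left (hE.sq e he)
  have hee' : e'⁻¹ = e' := inv_eq_of_mul_eq_one_left (hE'.sq e' he')
  suffices hsq : (e * e') * (e * e') = 1 by
    have h2 : e * e' = (e * e')⁻¹ := eq_inv_of_mul_eq_one_left hsq
    rw [h2, mul_inv_rev, hee, hee']
  obtain ⟨z, hz, hz1⟩ : ∃ z ∈ Z p U c, z ≠ 1 := by
    have h1 := Z_ne_bot (p := p) (h.nil c) (h.pP_ne_bot (pP_ne_bot_of_X hX) c)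
    by_contra hcon
    push Not at hcon
    exact h1 ((eq_bot_iff_forall _).2 hcon)
  have hcL := h.left_mem_L (p := p) c d
  have hcL' := h.left_mem_L (p := p) c d'
  obtain ⟨f, hf, hef⟩ := hE.exists_comm h hp2 hcd hcL hz hz1 he
  obtain ⟨f', hf', hef'⟩ := hE'.exists_comm h hp2 hcd' hcL' hz hz1 he'
  have hfc : f • c ≠ c := by
    intro k
    have := hE.reg h hp2 hcd hf hcL k
    rw [this] at hef
    exact he1 (by rw [hef]; group)
  have hfc' : f' • c ≠ c := by
    intro k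
    have := hE'.reg h hp2 hcd' hf' hcL' k
    rw [this] at hef'
    exact he1' (by rw [hef']; group)
  have hfL : f • c ∈ L p U c d := ((h.AL_le_setStab hcd (hE.le hf)) c).1 hcL
  have hfL' : f' • c ∈ L p U c d' := ((h.AL_le_setStab hcd' (hE'.le hf')) c).1 hcL'
  have hne : f • c ≠ f' • c := by
    intro k
    rw [← k] at hfL'
    have h1 := h.L_eq_L hcd hcd' hcL hfL hcL' hfL' hfc.symm
    apply hdd'
    rw [h1]
    exact right_mem_L c d'
  -- the line `m` through `f • c` and `f' • c`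
  obtain ⟨M, hM⟩ := hall (f • c) (f' • c) hne
  have h1L := h.left_mem_L (p := p) (f • c) (f' • c)
  have h2L := right_mem_L (p := p) (U := U) (f • c) (f' • c)
  obtain ⟨m, hm, hmc⟩ := hM.tr _ h1L _ h2L
  have hzf : f * z * f⁻¹ ∈ Z p U (f • c) := h.conj_Z f hz
  have hzf' : f' * z * f'⁻¹ ∈ Z p U (f' • c) := h.conj_Z f' hz
  set w := (m * (f * z * f⁻¹) * m⁻¹)⁻¹ * (f' * z * f'⁻¹) with hw
  have hwZ : w ∈ Z p U (f' • c) := by
    have h1 := h.conj_Z m hzf
    rw [hmc] at h1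
    exact mul_mem (inv_mem h1) hzf'
  set k := (f * z * f⁻¹)⁻¹ * m * (f * z * f⁻¹) * m⁻¹ with hk
  have hkM : k ∈ M := by
    have h1 := hM.conj_mem h hne h1L (inv_mem hzf) hm
    rw [inv_inv] at h1
    exact mul_mem h1 (inv_mem hm)
  have hprod : e * e' = k * w := by
    have h1 : e * e' = e⁻¹ * e' := by rw [hee]
    rw [h1, hef, hef', hk, hw]
    group
  by_cases hw1 : w = 1
  · rw [hw1, mul_one] at hprod
    rw [hprod]
    exact hM.sq k hkM
  · exfalso
    obtain ⟨g, hg, hgk⟩ := hM.exists_comm h hp2 hne h2L hwZ hw1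
      (e := w⁻¹ * k * w) (by
        have := hM.conj_mem h hne h2L (inv_mem hwZ) hkM
        rwa [inv_inv] at this)
    have hkw : k * w = g * w * g⁻¹ := by
      have h1 : w * (w⁻¹ * k * w) = w * (w⁻¹ * (g * w * g⁻¹)) := by rw [hgk]
      rw [mul_inv_cancel_left] at h1
      rw [← h1]
      group
    -- the unique fixed point
    have hgw : g * w * g⁻¹ ∈ Z p U (g • f' • c) := h.conj_Z g hwZ
    have hgw1 : g * w * g⁻¹ ≠ 1 := by
      intro k'
      apply hw1
      rw [mul_inv_eq_one] at k'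
      exact mul_eq_left.1 k'
    set c0 := g • f' • c with hc0
    have hfix0 : (e * e') • c0 = c0 := by
      rw [hprod, hkw]
      exact h.Z_fix hgw
    have hc1 : e' • c0 ≠ c0 := hE'.no_fixed h hp2 hab hX hcd' he' he1' c0
    have hfix1 : (e * e') • e' • c0 = e' • c0 := by
      have h1 : e • e' • c0 = c0 := by rw [← mul_smul]; exact hfix0
      have h2 : e' • c0 = e • c0 := by
        have h3 : e • e • e' • c0 = e • c0 := by rw [h1]
        rw [← mul_smul, hE.sq e he, one_smul] at h3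
        exact h3
      rw [mul_smul, ← mul_smul e' e', hE'.sq e' he', one_smul, h2]
    rw [hprod, hkw] at hfix1
    exact hgw1 (h.Z_semireg hc1 hgw hfix1)

/-- If the lines are affine of even order then `G` is affine. -/
theorem affine_of_affine_lines (h : KS U) (hp2 : p ≠ 2) {a b : Ω} (hab : a ≠ b)
    (hX : X p U a b ≠ ⊥) {E₀ : Subgroup G} (hE₀ : IsTrans p U a b E₀) :
    ∃ F : Subgroup G, F.Normal ∧ (∀ x ∈ F, x * x = 1) ∧ ∀ c d : Ω, ∃ x ∈ F, x • c = d := by
  -- transport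
  have hall : ∀ c d : Ω, c ≠ d → ∃ E : Subgroup G, IsTrans p U c d E := by
    intro c d hcd
    obtain ⟨g, rfl, rfl⟩ := h.two hab hcd
    exact ⟨_, hE₀.conj h g⟩
  have hinv : ∀ g k : G, g • a = k • a → g • b = k • b → ∀ x, g⁻¹ * x * g ∈ E₀ → k⁻¹ * x * k ∈ E₀ := by
    intro g k h1 h2 x hx
    have h3 : (k⁻¹ * g) • a = a := by rw [mul_smul, h1, inv_smul_smul]
    have h4 : (k⁻¹ * g) • b = b := by rw [mul_smul, h2, inv_smul_smul]
    have h5 : k⁻¹ * g ∈ setStab (L p U a b) := by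
      apply mem_setStab_of
      intro e he
      refine h.smul_mem_L hab hab (h.left_mem_L a b) (right_mem_L a b) ?_ ?_ he
      · rw [h3]; exact h.left_mem_L a b
      · rw [h4]; exact right_mem_L a b
    have h6 := hE₀.inv _ h5 _ hx
    have h7 : k⁻¹ * g * (g⁻¹ * x * g) * (k⁻¹ * g)⁻¹ = k⁻¹ * x * k := by group
    rwa [h7] at h6
  -- the canonical translation groups
  let EE : Ω → Ω → Subgroup G := fun c d =>
    { carrier := {x | ∀ g : G, g • a = c → g • b = d → g⁻¹ * x * g ∈ E₀}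
      one_mem' := fun g _ _ => by rw [mul_one, inv_mul_cancel]; exact one_mem _
      mul_mem' := by
        intro x y hx hy g h1 h2
        have h3 : g⁻¹ * (x * y) * g = (g⁻¹ * x * g) * (g⁻¹ * y * g) := by group
        rw [h3]
        exact mul_mem (hx g h1 h2) (hy g h1 h2)
      inv_mem' := by
        intro x hx g h1 h2
        have h3 : g⁻¹ * x⁻¹ * g = (g⁻¹ * x * g)⁻¹ := by group
        rw [h3]
        exact inv_mem (hx g h1 h2) }
  have mEE : ∀ {c d : Ω} {g : G} {x : G}, g • a = c → g • b = d → (x ∈ EE c d ↔ g⁻¹ * x * g ∈ E₀) := by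
    intro c d g x h1 h2
    constructor
    · intro hx
      exact hx g h1 h2
    · intro hx k h3 h4
      exact hinv g k (by rw [h1, h3]) (by rw [h2, h4]) x hx
  have hEE : ∀ {c d : Ω}, c ≠ d → IsTrans p U c d (EE c d) := by
    intro c d hcd
    obtain ⟨g, hgc, hgd⟩ := h.two hab hcd
    have h1 : EE c d = E₀.map (MulAut.conj g).toMonoidHom := by
      ext x
      rw [mEE hgc hgd]
      constructor
      · intro hx
        exact ⟨g⁻¹ * x * g, hx, by change g * (g⁻¹ * x * g) * g⁻¹ = x; group⟩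
      · rintro ⟨y, hy, rfl⟩
        have h2 : g⁻¹ * (g * y * g⁻¹) * g = y := by group
        change g⁻¹ * (g * y * g⁻¹) * g ∈ E₀
        rw [h2]
        exact hy
    rw [h1]
    have := hE₀.conj h g
    rwa [hgc, hgd] at this
  have hequiv : ∀ (g : G) {c d : Ω} {x : G}, x ∈ EE c d → g * x * g⁻¹ ∈ EE (g • c) (g • d) := by
    intro g c d x hx k h1 h2
    have h3 := hx (g⁻¹ * k) (by rw [mul_smul, h1, inv_smul_smul]) (by rw [mul_smul, h2, inv_smul_smul])
    have h4 : (g⁻¹ * k)⁻¹ * x * (g⁻¹ * k) = k⁻¹ * (g * x * g⁻¹) * k := by group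
    rwa [h4] at h3
  have hline : ∀ {c d d' : Ω}, c ≠ d → c ≠ d' → d' ∈ L p U c d → EE c d ≤ EE c d' := by
    intro c d d' hcd hcd' hd' x hx
    obtain ⟨k, hk, hkd⟩ := h.trans hcd.symm hcd'.symm
    have hkc := h.fix hk
    have hkS : k⁻¹ ∈ setStab (L p U c d) := by
      apply inv_mem
      apply mem_setStab_of
      intro e he
      refine h.smul_mem_L hcd hcd (h.left_mem_L c d) (right_mem_L c d) ?_ ?_ he
      · rw [hkc]; exact h.left_mem_L c d
      · rw [hkd]; exact hd'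
    have h1 := (hEE hcd).inv _ hkS x hx
    have h2 := hequiv k h1
    rw [hkc, hkd] at h2
    have h3 : k * (k⁻¹ * x * k⁻¹⁻¹) * k⁻¹ = x := by group
    rwa [h3] at h2
  -- the group generated by the translations of the lines through `a`
  let S : Set G := {x | ∃ c, a ≠ c ∧ x ∈ EE a c}
  have hcomm : ∀ x ∈ S, ∀ y ∈ S, x * y = y * x := by
    rintro x ⟨c, hc, hx⟩ y ⟨d, hd, hy⟩
    by_cases hdc : d ∈ L p U a c
    · exact (hEE hd).comm (hline hc hd hdc hx) hy
    · exact IsTrans.comm_of_ne h hp2 hab hX hall hc hd hdc (hEE hc) (hEE hd) hx hy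
  have hFc : ∀ x ∈ _root_.Subgroup.closure S, ∀ y ∈ closure S, x * y = y * x := by
    have h1 : closure S ≤ centralizer (closure S : Set G) := by
      rw [closure_le]
      intro x hx
      rw [SetLike.mem_coe, mem_centralizer_iff]
      intro y hy
      have h2 : closure S ≤ centralizer ({x} : Set G) := by
        rw [closure_le]
        intro z hz
        rw [SetLike.mem_coe, mem_centralizer_iff]
        intro x' hx'
        rw [Set.mem_singleton_iff] at hx'
        rw [hx', hcomm x hx z hz]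
      exact (mem_centralizer_iff.1 (h2 hy) x rfl).symm
    intro x hx y hy
    exact (mem_centralizer_iff.1 (h1 hx) y hy).symm
  have hFsq : ∀ x ∈ closure S, x * x = 1 := by
    intro x hx
    induction hx using closure_induction with
    | mem x hx =>
      obtain ⟨c, hc, hx⟩ := hx
      exact (hEE hc).sq x hx
    | one => rw [one_mul]
    | mul x y hx hy ihx ihy =>
      calc x * y * (x * y) = x * (y * x) * y := by group
        _ = x * (x * y) * y := by rw [hFc y hy x hx]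
        _ = (x * x) * (y * y) := by group
        _ = 1 := by rw [ihx, ihy, one_mul]
    | inv x _ ih => rw [← mul_inv_rev, ih, inv_one]
  have htra : ∀ d : Ω, ∃ x ∈ _root_.Subgroup.closure S, x • a = d := by
    intro d
    by_cases had : a = d
    · exact ⟨1, one_mem _, by rw [one_smul, had]⟩
    · obtain ⟨x, hx, hxd⟩ := (hEE had).tr a (h.left_mem_L a d) d (right_mem_L a d)
      exact ⟨x, subset_closure ⟨d, had, hx⟩, hxd⟩
  have hGa : ∀ g : G, g • a = a → ∀ x ∈ _root_.Subgroup.closure S, g * x * g⁻¹ ∈ closure S := by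
    intro g hg
    have : closure S ≤ (closure S).comap (MulAut.conj g).toMonoidHom := by
      refine (closure_le _).2 ?_
      rintro x ⟨c, hc, hx⟩
      refine subset_closure ⟨g • c, ?_, ?_⟩
      · intro e
        rw [← hg] at e
        exact hc (MulAction.injective g e)
      · have := hequiv g hx
        rwa [hg] at this
    exact fun x hx => this hx
  refine ⟨closure S, ⟨fun x hx g => ?_⟩, hFsq, fun c d => ?_⟩
  · obtain ⟨f, hf, hfa⟩ := htra (g • a)
    have h1 : (f⁻¹ * g) • a = a := by rw [mul_smul, ← hfa, inv_smul_smul]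
    have h2 := hGa _ h1 x hx
    have h3 : g * x * g⁻¹ = f * (f⁻¹ * g * x * (f⁻¹ * g)⁻¹) * f⁻¹ := by group
    rw [h3]
    exact mul_mem (mul_mem hf h2) (inv_mem hf)
  · obtain ⟨x, hx, rfl⟩ := htra c
    obtain ⟨y, hy, rfl⟩ := htra d
    exact ⟨y * x⁻¹, mul_mem hy (inv_mem hx), by rw [mul_smul, inv_smul_smul]⟩

end KS

end Cfsg.Agent.KantorSeitz
end

-- part: KantorSeitz/Iface
section
/-!
# The form of the Hering–Kantor–Seitz theorem (even degree) used for the Kantor–Seitz theorem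

`HKSEven` is the only consequence of the classification of the split doubly transitive groups of even degree
used in the proof of S1145. In `Iface V a b` the alternatives are

* `IAff` : there is a transitive normal elementary abelian `2`-subgroup;
* otherwise `V a` is a `q`-group and `O_q(H_ab) = 1`, and one of
* `ITor` : (`PSL(2,q)`, `PSU(3,q)`) there is a `q'`-group `T` normal in `H_ab`, contained in every nontrivial
  normal subgroup of `H`, irreducible and nontrivial on `Z(V a)`, and either `V a` is abelian or there is an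
  involution `t` in `T` central in `H_ab` with `C_{V a}(t) = Z(V a)`;
* `IRee` : (`Ree(q)`, `PΓL(2,8)`) every involution of `H` fixes a point and some involution of `H_ab` lies in
  every nontrivial normal subgroup of `H`.
-/

set_option autoImplicit false

namespace Cfsg.Agent.KantorSeitz

open Subgroup MulAction

/-- affine of even degree -/
def IAff (H Λ : Type*) [Group H] [MulAction H Λ] : Prop :=
  ∃ E : Subgroup H, E.Normal ∧ (∀ x ∈ E, x * x = 1) ∧ ∀ c d : Λ, ∃ x ∈ E, x • c = d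

/-- Ree type -/
def IRee {H Λ : Type*} [Group H] [MulAction H Λ] (a b : Λ) : Prop :=
  (∀ t : H, t * t = 1 → ∃ c : Λ, t • c = c) ∧
    ∃ t : H, t ≠ 1 ∧ t * t = 1 ∧ t • a = a ∧ t • b = b ∧ ∀ M : Subgroup H, M.Normal → M ≠ ⊥ → t ∈ M

/-- types `PSL(2,q)` and `PSU(3,q)` -/
def ITor {H Λ : Type*} [Group H] [MulAction H Λ] (V : Λ → Subgroup H) (q : ℕ) (a b : Λ) : Prop :=
  ∃ T : Subgroup H, (Nat.card T).Coprime q ∧ (∀ t ∈ T, t • a = a ∧ t • b = b) ∧
    (∀ d : H, d • a = a → d • b = b → ∀ t ∈ T, d * t * d⁻¹ ∈ T) ∧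
    (∀ M : Subgroup H, M.Normal → M ≠ ⊥ → T ≤ M) ∧
    -- `T` is irreducible on the centre of `V a`
    (∀ R : Subgroup H, R ≤ V a → (∀ r ∈ R, ∀ v ∈ V a, r * v = v * r) →
      (∀ t ∈ T, ∀ r ∈ R, t * r * t⁻¹ ∈ R) → R ≠ ⊥ →
      ∀ v ∈ V a, (∀ w ∈ V a, v * w = w * v) → v ∈ R) ∧
    -- and nontrivial
    (∃ t ∈ T, ∃ v ∈ V a, (∀ w ∈ V a, v * w = w * v) ∧ t * v ≠ v * t) ∧
    ((∀ v ∈ V a, ∀ w ∈ V a, v * w = w * v) ∨
      ∃ t ∈ T, t ≠ 1 ∧ t * t = 1 ∧ (∀ d : H, d • a = a → d • b = b → d * t = t * d) ∧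
        ∀ v ∈ V a, t * v = v * t ↔ ∀ w ∈ V a, v * w = w * v)

/-- the alternatives -/
def Iface {H Λ : Type*} [Group H] [MulAction H Λ] (V : Λ → Subgroup H) (a b : Λ) : Prop :=
  IAff H Λ ∨ ∃ q : ℕ, q.Prime ∧ IsPGroup q (V a) ∧
    (∀ R : Subgroup H, IsPGroup q R → (∀ r ∈ R, r • a = a ∧ r • b = b) →
      (∀ d : H, d • a = a → d • b = b → ∀ r ∈ R, d * r * d⁻¹ ∈ R) → R = ⊥) ∧
    (ITor V q a b ∨ IRee (H := H) a b)

/-- The Hering–Kantor–Seitz theorem in even degree, in the form used below. -/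
def HKSEven.{v} : Prop :=
  ∀ (H Λ : Type v) [Group H] [Finite H] [MulAction H Λ] [Finite Λ] [FaithfulSMul H Λ]
    (V : Λ → Subgroup H), KS V → (∀ a b : Λ, a ≠ b → ∀ x ∈ V a, x • b = b → x = 1) →
    Even (Nat.card Λ) → ∀ a b : Λ, a ≠ b → Iface V a b

end Cfsg.Agent.KantorSeitz
end

-- part: KantorSeitz/LineGroup
section
/-!
# The group induced on a line
-/

set_option autoImplicit false
set_option linter.unusedSectionVars false
set_option linter.style.haveILetI false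

namespace Cfsg.Agent.KantorSeitz

open Subgroup MulAction

theorem KS.map_of_surj {G H Ω : Type*} [Group G] [Group H] [MulAction G Ω] [MulAction H Ω]
    {U : Ω → Subgroup G} (h : KS U) (π : G →* H) (hπ : Function.Surjective π)
    (hsm : ∀ (g : G) (c : Ω), π g • c = g • c) : KS (fun c => (U c).map π) where
  fix := by
    rintro a _ ⟨u, hu, rfl⟩
    rw [hsm, h.fix hu]
  conj := by
    rintro g a _ ⟨u, hu, rfl⟩
    obtain ⟨g', rfl⟩ := hπ g
    refine ⟨g' * u * g'⁻¹, ?_, by rw [map_mul, map_mul, map_inv]⟩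
    rw [hsm]
    exact h.conj g' hu
  trans := by
    intro a b c hb hc
    obtain ⟨x, hx, hxb⟩ := h.trans hb hc
    exact ⟨π x, ⟨x, hx, rfl⟩, by rw [hsm, hxb]⟩
  nil := fun a => by
    have := h.nil a
    exact Group.nilpotent_of_surjective (π.subgroupMap (U a)) (π.subgroupMap_surjective (U a))
  tr := by
    intro a b
    obtain ⟨g, hg⟩ := h.tr a b
    exact ⟨π g, by rw [hsm, hg]⟩

namespace KS

section LineGroup

universe v

variable {G Ω : Type v} [Group G] [Finite G] [MulAction G Ω] [Finite Ω] [FaithfulSMul G Ω]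
  {U : Ω → Subgroup G} {p : ℕ} [hp : Fact p.Prime]

/-- The group induced on a line. -/
theorem exists_line_group (h : KS U) {a b : Ω} (hab : a ≠ b) (hP : pP p (U a) ≠ ⊥) :
    ∃ (H : Type v) (_ : Group H) (_ : Finite H) (_ : MulAction H (L p U a b))
      (_ : FaithfulSMul H (L p U a b)) (π : setStab (G := G) (L p U a b) →* H),
      Function.Surjective π ∧
      (∀ (g : setStab (G := G) (L p U a b)) (c : L p U a b), ((π g • c : L p U a b) : Ω) = g.1 • c.1) ∧
      KS (fun c : L p U a b => ((U c.1).subgroupOf (setStab (L p U a b))).map π) := by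
  set Δ : Set Ω := L p U a b with hΔ
  set N : Subgroup G := setStab Δ with hN
  have hND : ∀ g ∈ N, ∀ d ∈ Δ, g • d ∈ Δ := fun g hg d hd => (hg d).1 hd
  have hin : ∀ {c d : Ω}, c ≠ d → c ∈ Δ → d ∈ Δ → ∀ {x : G}, x • c ∈ Δ → x • d ∈ Δ → x ∈ N := by
    intro c d hcd hc hd x hx hx'
    exact mem_setStab_of (fun e he => h.smul_mem_L hab hcd hc hd hx hx' he)
  letI := resAct N Δ hND
  have hKS : KS (fun c : Δ => (U c.1).subgroupOf N) := by
    refine restrict N Δ hND U (fun c _ x hx => h.fix hx) (fun g _ c _ x hx => h.conj g hx) ?_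
      (fun a _ => h.nil a) ?_
    · intro c hc d hd e he hdc hec
      obtain ⟨x, hx, hxd⟩ := h.trans hdc hec
      refine ⟨x, hx, hin hdc.symm hc hd ?_ ?_, hxd⟩
      · rw [h.fix hx]; exact hc
      · rw [hxd]; exact he
    · intro c hc d hd
      obtain ⟨g, hg, hgc⟩ := h.exists_centralizing (p := p) hP (Y := X p U a b) (h.isPGroup_X a b)
        (b := c) (c := d) (fun y hy => hc y hy) (fun y hy => hd y hy)
      refine ⟨g, mem_setStab_of (fun e he x hx => ?_), hgc⟩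
      rw [← mul_smul, hg x hx, mul_smul, he x hx]
  let f := MulAction.toPermHom N Δ
  refine ⟨f.range, inferInstance, inferInstance, inferInstance, inferInstance, f.rangeRestrict,
    f.rangeRestrict_surjective, fun g c => rfl, ?_⟩
  exact hKS.map_of_surj f.rangeRestrict f.rangeRestrict_surjective (fun g c => rfl)

end LineGroup

end KS

end Cfsg.Agent.KantorSeitz
end

-- part: KantorSeitz/Dilat
section
/-!
# Auxiliary facts: coprime action on a `p`-group, dilatations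
-/

set_option autoImplicit false
set_option linter.unusedSectionVars false
set_option linter.style.haveILetI false

namespace Cfsg.Agent.KantorSeitz

open Subgroup MulAction
open scoped commutatorElement

section Aux

variable {G : Type*} [Group G]

/-- a step in the upper central series -/
theorem exists_step {P A : Subgroup G} (hP : Group.IsNilpotent P) (hne : ¬ P ≤ A) :
    ∃ y ∈ P, y ∉ A ∧ ∀ u ∈ P, y * u * y⁻¹ * u⁻¹ ∈ A := by
  obtain ⟨n, hn⟩ := hP.nilpotent'
  have hex : ∃ n, ¬ Subgroup.upperCentralSeries P n ≤ A.subgroupOf P := by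
    refine ⟨n, fun hle => hne ?_⟩
    rw [hn] at hle
    intro x hx
    exact hle (mem_top (⟨x, hx⟩ : P))
  classical
  obtain ⟨m, hm, hmin⟩ : ∃ m, ¬ Subgroup.upperCentralSeries P m ≤ A.subgroupOf P ∧
      ∀ k < m, Subgroup.upperCentralSeries P k ≤ A.subgroupOf P :=
    ⟨Nat.find hex, Nat.find_spec hex, fun k hk => not_not.1 (Nat.find_min hex hk)⟩
  cases m with
  | zero =>
    exfalso
    apply hm
    rw [Subgroup.upperCentralSeries_zero]
    exact bot_le
  | succ k =>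
    obtain ⟨y, hy, hyA⟩ := SetLike.not_le_iff_exists.1 hm
    refine ⟨y.1, y.2, hyA, fun u hu => ?_⟩
    have h1 := (Subgroup.mem_upperCentralSeries_succ_iff.1 hy) ⟨u, hu⟩
    exact hmin k (Nat.lt_succ_self k) h1

/-- an element of the second centre commutes with the derived subgroup -/
theorem comm_of_second {P : Subgroup G} {y : G} (hy : y ∈ P)
    (hyc : ∀ u ∈ P, ∀ v ∈ P, y * u * y⁻¹ * u⁻¹ * v = v * (y * u * y⁻¹ * u⁻¹)) :
    ∀ c ∈ (⁅P, P⁆ : Subgroup G), c * y = y * c := by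
  have : (⁅P, P⁆ : Subgroup G) ≤ centralizer ({y} : Set G) := by
    rw [Subgroup.commutator_le]
    intro u hu v hv
    rw [mem_centralizer_iff]
    intro y' hy'
    rw [Set.mem_singleton_iff] at hy'
    rw [hy']
    set z1 := y * u * y⁻¹ * u⁻¹ with hz1
    set z2 := y * v * y⁻¹ * v⁻¹ with hz2
    have hz1P : z1 ∈ P := mul_mem (mul_mem (mul_mem hy hu) (inv_mem hy)) (inv_mem hu)
    have hz2P : z2 ∈ P := mul_mem (mul_mem (mul_mem hy hv) (inv_mem hy)) (inv_mem hv)
    have c1 : ∀ w ∈ P, z1 * w = w * z1 := fun w hw => hyc u hu w hw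
    have c2 : ∀ w ∈ P, z2 * w = w * z2 := fun w hw => hyc v hv w hw
    have e1 : y * u * y⁻¹ = z1 * u := by rw [hz1]; group
    have e2 : y * v * y⁻¹ = z2 * v := by rw [hz2]; group
    have key : y * ⁅u, v⁆ * y⁻¹ = ⁅u, v⁆ := by
      calc y * ⁅u, v⁆ * y⁻¹ = (y * u * y⁻¹) * (y * v * y⁻¹) * (y * u * y⁻¹)⁻¹ * (y * v * y⁻¹)⁻¹ := by
            rw [commutatorElement_def]; group
        _ = (z1 * u) * (z2 * v) * (z1 * u)⁻¹ * (z2 * v)⁻¹ := by rw [e1, e2]
        _ = z1 * (u * z2) * v * u⁻¹ * z1⁻¹ * v⁻¹ * z2⁻¹ := by group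
        _ = z1 * (z2 * u) * v * u⁻¹ * z1⁻¹ * v⁻¹ * z2⁻¹ := by rw [c2 u hu]
        _ = z1 * (z2 * (u * v * u⁻¹)) * z1⁻¹ * v⁻¹ * z2⁻¹ := by group
        _ = (z2 * (u * v * u⁻¹)) * z1 * z1⁻¹ * v⁻¹ * z2⁻¹ := by
            rw [c1 _ (mul_mem hz2P (mul_mem (mul_mem hu hv) (inv_mem hu)))]
        _ = z2 * (u * v * u⁻¹ * v⁻¹) * z2⁻¹ := by group
        _ = (u * v * u⁻¹ * v⁻¹) * z2 * z2⁻¹ := by
            rw [c2 _ (mul_mem (mul_mem (mul_mem hu hv) (inv_mem hu)) (inv_mem hv))]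
        _ = ⁅u, v⁆ := by rw [commutatorElement_def]; group
    calc y * ⁅u, v⁆ = (y * ⁅u, v⁆ * y⁻¹) * y := by group
      _ = ⁅u, v⁆ * y := by rw [key]
  intro c hc
  exact ((mem_centralizer_iff.1 (this hc)) y rfl).symm

/-- odd order: decomposition with respect to an involution -/
theorem exists_decomp [Finite G] {P : Subgroup G} (hP : Odd (Nat.card P)) {t : G} (ht : t * t = 1)
    (hn : ∀ x ∈ P, t * x * t⁻¹ ∈ P) {y : G} (hy : y ∈ P) :
    ∃ c ∈ P, ∃ k ∈ P, y = c * k ∧ t * c = c * t ∧ t * k * t⁻¹ = k⁻¹ := by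
  set j := y⁻¹ * (t * y * t⁻¹) with hj
  have hti : t⁻¹ = t := inv_eq_of_mul_eq_one_left ht
  have hjP : j ∈ P := mul_mem (inv_mem hy) (hn y hy)
  have hjt : t * j * t⁻¹ = j⁻¹ := by
    rw [hj]
    calc t * (y⁻¹ * (t * y * t⁻¹)) * t⁻¹ = (t * y⁻¹ * t) * y * (t⁻¹ * t⁻¹) := by group
      _ = (t * y⁻¹ * t) * y := by rw [← mul_inv_rev, ht, inv_one, mul_one]
      _ = (t * y * t⁻¹)⁻¹ * y := by rw [mul_inv_rev, mul_inv_rev, inv_inv, hti]; group
      _ = (y⁻¹ * (t * y * t⁻¹))⁻¹ := by group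
  have hodd : Odd (orderOf j) := by
    have h2 : orderOf j ∣ Nat.card P := by
      have := _root_.orderOf_dvd_natCard (⟨j, hjP⟩ : P)
      rwa [Subgroup.orderOf_mk] at this
    exact Odd.of_dvd_nat hP h2
  obtain ⟨m, hm⟩ := hodd
  set k := j ^ (m + 1) with hk
  have hkk : k * k = j := by
    rw [hk, ← pow_add]
    have : m + 1 + (m + 1) = (2 * m + 1) + 1 := by ring
    rw [this, pow_succ, ← hm, pow_orderOf_eq_one, one_mul]
  have hkt : t * k * t⁻¹ = k⁻¹ := by
    rw [hk, ← conj_pow, hjt, inv_pow]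
  have hkP : k ∈ P := pow_mem hjP _
  refine ⟨y * k, mul_mem hy hkP, k⁻¹, inv_mem hkP, by group, ?_, ?_⟩
  · have h1 : t * (y * k) * t⁻¹ = y * k := by
      calc t * (y * k) * t⁻¹ = (t * y * t⁻¹) * (t * k * t⁻¹) := by group
        _ = (y * j) * k⁻¹ := by rw [hkt, hj]; group
        _ = y * k := by rw [← hkk]; group
    calc t * (y * k) = (t * (y * k) * t⁻¹) * t := by group
      _ = y * k * t := by rw [h1]
  · calc t * k⁻¹ * t⁻¹ = (t * k * t⁻¹)⁻¹ := by group
      _ = k⁻¹⁻¹ := by rw [hkt]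

/-- If `P = [P, S]` (coprime action) then the fixed points of `S` in `P` lie in `[P, P]`. -/
theorem mem_commutator_of_fixed [Finite G] {p : ℕ} [hp : Fact p.Prime] {P S : Subgroup G}
    (hP : IsPGroup p P) (hS : (Nat.card S).Coprime p) (hSP : S ≤ normalizer (P : Set G))
    (hgen : P ≤ ⁅P, S⁆) {x : G} (hx : x ∈ P) (hxS : ∀ s ∈ S, s * x = x * s) :
    x ∈ (⁅P, P⁆ : Subgroup G) := by
  classical
  haveI := Fintype.ofFinite S
  let φ : S →* MulAut P := (Subgroup.normalizerMonoidHom P).comp (Subgroup.inclusion hSP)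
  have hφ : ∀ (s : S) (u : P), ((φ s u : P) : G) = s * u * (s : G)⁻¹ := fun a v => rfl
  let ν : P →* Abelianization P := ∏ s : S, Abelianization.of.comp (φ s).toMonoidHom
  have hν : ∀ u : P, ν u = ∏ s : S, Abelianization.of (φ s u) := by
    intro u
    simp only [ν, MonoidHom.finsetProd_apply]
    rfl
  have hνs : ∀ (s : S) (u : P), ν (φ s u) = ν u := by
    intro s u
    rw [hν, hν]
    refine Fintype.prod_equiv (Equiv.mulRight s) _ _ ?_
    intro r
    rw [Equiv.coe_mulRight, map_mul, MulAut.mul_apply]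
  have hker : (⁅P, S⁆ : Subgroup G) ≤ ν.ker.map P.subtype := by
    rw [Subgroup.commutator_le]
    intro u hu s hs
    have h1 : (⟨u, hu⟩ : P) * (φ ⟨s, hs⟩ ⟨u, hu⟩)⁻¹ ∈ ν.ker := by
      rw [MonoidHom.mem_ker, map_mul, map_inv, hνs, mul_inv_cancel]
    refine ⟨_, h1, ?_⟩
    change u * (s * u * s⁻¹)⁻¹ = ⁅u, s⁆
    rw [commutatorElement_def]
    group
  have hνx : ν ⟨x, hx⟩ = 1 := by
    obtain ⟨y, hy, hyx⟩ := hker (hgen hx)
    have : y = ⟨x, hx⟩ := Subtype.ext hyx
    rw [← this]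
    exact hy
  have hfix : ∀ s : S, φ s ⟨x, hx⟩ = ⟨x, hx⟩ := by
    intro s
    apply Subtype.ext
    rw [hφ, hxS s.1 s.2]
    group
  rw [hν] at hνx
  simp only [hfix, Finset.prod_const, Finset.card_univ] at hνx
  have hcard : Fintype.card S = Nat.card S := (Nat.card_eq_fintype_card).symm
  rw [hcard] at hνx
  obtain ⟨k, hk⟩ := hP ⟨x, hx⟩
  have h1 : (Abelianization.of (⟨x, hx⟩ : P)) ^ p ^ k = 1 := by
    rw [← map_pow, hk, map_one]
  have h2 : orderOf (Abelianization.of (⟨x, hx⟩ : P)) ∣ 1 := by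
    have h3 := orderOf_dvd_of_pow_eq_one hνx
    have h4 := orderOf_dvd_of_pow_eq_one h1
    have h5 : (Nat.card S).Coprime (p ^ k) := Nat.Coprime.pow_right k hS
    rw [← h5]
    exact Nat.dvd_gcd h3 h4
  rw [Nat.dvd_one, orderOf_eq_one_iff] at h2
  have h3 : (⟨x, hx⟩ : P) ∈ commutator P := by
    rw [← Abelianization.ker_of]
    exact h2
  rw [← Subgroup.map_subtype_commutator]
  exact ⟨_, h3, rfl⟩

end Aux

/-- the group of dilatations with centre `a` -/
def KK {G Ω : Type*} [Group G] [MulAction G Ω] (p : ℕ) (U : Ω → Subgroup G) (a : Ω) : Subgroup G :=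
  pP p (U a) ⊓ ⨅ c : Ω, normalizer (X p U a c : Set G)

namespace KS

variable {G Ω : Type*} [Group G] [Finite G] [MulAction G Ω] [Finite Ω] [FaithfulSMul G Ω]
  {U : Ω → Subgroup G} {p : ℕ} [hp : Fact p.Prime]

theorem mem_KK {a : Ω} {y : G} :
    y ∈ KK p U a ↔ y ∈ pP p (U a) ∧ ∀ c : Ω, y ∈ normalizer (X p U a c : Set G) := by
  rw [KK, mem_inf, mem_iInf]

theorem KK_of_comm {a : Ω} {y : G} (hy : y ∈ pP p (U a))
    (hc : ∀ c : Ω, c ≠ a → ∀ x ∈ X p U a c, x * y = y * x) (h : KS U) : y ∈ KK p U a := by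
  rw [mem_KK]
  refine ⟨hy, fun c => ?_⟩
  by_cases hca : c = a
  · have : X p U a c = pP p (U a) := by
      rw [hca]
      apply le_antisymm
      · exact fun x hx => hx.1
      · exact fun x hx => mem_X.2 ⟨hx, h.fix (pP_le p _ hx)⟩
    rw [this]
    exact le_normalizer hy
  · rw [mem_normalizer_iff]
    intro x
    constructor
    · intro hx
      rw [← hc c hca x hx, mul_assoc, mul_inv_cancel, mul_one]
      exact hx
    · intro hx
      have h1 := hc c hca _ hx
      have h2 : y * x * y⁻¹ = x := by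
        have h3 : y * x * y⁻¹ * y = y * (y * x * y⁻¹) := h1
        have h4 : y * x = y * (y * x * y⁻¹) := by
          rw [← h3]
          group
        exact (mul_left_cancel h4).symm
      rwa [h2] at hx

theorem KK_conj (h : KS U) (g : G) {a : Ω} {y : G} (hy : y ∈ KK p U a) :
    g * y * g⁻¹ ∈ KK p U (g • a) := by
  rw [mem_KK] at hy ⊢
  refine ⟨h.conj_pP g hy.1, fun c => ?_⟩
  have h1 := hy.2 (g⁻¹ • c)
  rw [mem_normalizer_iff] at h1 ⊢
  have key : ∀ x, x ∈ X p U (g • a) c ↔ g⁻¹ * x * g ∈ X p U a (g⁻¹ • c) := by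
    intro x
    constructor
    · intro hx
      have h2 := h.conj_X (p := p) g⁻¹ hx
      rwa [inv_smul_smul, inv_inv] at h2
    · intro hx
      have h2 := h.conj_X (p := p) g hx
      rw [smul_inv_smul] at h2
      have h3 : g * (g⁻¹ * x * g) * g⁻¹ = x := by group
      rwa [h3] at h2
  intro x
  have h3 := h1 (g⁻¹ * x * g)
  have h4 : y * (g⁻¹ * x * g) * y⁻¹ = g⁻¹ * (g * y * g⁻¹ * x * (g * y * g⁻¹)⁻¹) * g := by group
  rw [h4, ← key, ← key] at h3
  exact h3

theorem KK_smul_mem {a c : Ω} {y : G} (hy : y ∈ KK p U a) : y • c ∈ L p U a c := by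
  intro x hx
  have h1 := inv_mem ((mem_KK.1 hy).2 c)
  rw [mem_normalizer_iff] at h1
  have h2 := (h1 x).1 hx
  rw [inv_inv] at h2
  have h3 : (y⁻¹ * x * y) • c = c := h2.2
  rw [mul_smul, mul_smul, inv_smul_eq_iff] at h3
  exact h3

theorem KK_inf_X (h : KS U) {a b : Ω} (hab : a ≠ b) {y : G} (hy : y ∈ KK p U a)
    (hyX : y ∈ X p U a b) : y = 1 := by
  by_cases hP : pP p (U a) = ⊥
  · have := (mem_KK.1 hy).1
    rwa [hP, mem_bot] at this
  have hyb : y ∈ KK p U b := h.fam_symm (N := fun c => KK p U c) hP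
    (fun g c x hx => h.KK_conj g hx) ((isPGroup_pP (h.nil a)).to_le inf_le_left)
    (fun x hx => h.fix (pP_le p _ (mem_KK.1 hx).1)) hy hyX.2
  apply eq_one_of_fix (Ω := Ω)
  intro c
  by_cases hc : c ∈ L p U a b
  · exact hc y hyX
  · by_contra hne
    have hac : a ≠ c := fun e => hc (by rw [← e]; exact h.left_mem_L a b)
    have hbc : b ≠ c := fun e => hc (by rw [← e]; exact right_mem_L a b)
    have h1 : y • c ∈ L p U a c := KK_smul_mem hy
    have h2 : y • c ∈ L p U b c := KK_smul_mem hyb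
    have h3 := h.L_eq_L hac hbc h1 (right_mem_L a c) h2 (right_mem_L b c) hne
    apply hc
    have h4 : b ∈ L p U a c := by rw [h3]; exact h.left_mem_L b c
    rw [h.L_eq hac (h.left_mem_L a c) h4 hab]
    exact right_mem_L a c

theorem eq_one_of_step (h : KS U) {a b : Ω} (hab : a ≠ b)
    (htr : ∀ c : Ω, c ≠ a → ∃ u ∈ pP p (U a), u • b = c) {x : G} (hx : x ∈ X p U a b)
    (hxc : ∀ u ∈ pP p (U a), x * u * x⁻¹ * u⁻¹ ∈ KK p U a) : x = 1 := by
  refine h.KK_inf_X hab ?_ hx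
  rw [mem_KK]
  refine ⟨hx.1, fun c => ?_⟩
  by_cases hca : c = a
  · have : X p U a c = pP p (U a) := by
      rw [hca]
      apply le_antisymm
      · exact fun x hx => hx.1
      · exact fun x hx => mem_X.2 ⟨hx, h.fix (pP_le p _ hx)⟩
    rw [this]
    exact le_normalizer hx.1
  · obtain ⟨u, hu, huc⟩ := htr c hca
    have hua : u • a = a := h.fix (pP_le p _ hu)
    have h1 : u * x * u⁻¹ ∈ X p U a c := by
      have := h.conj_X (p := p) u hx
      rwa [hua, huc] at this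
    have h2 : x = (x * u * x⁻¹ * u⁻¹) * (u * x * u⁻¹) := by group
    rw [h2]
    exact mul_mem ((mem_KK.1 (hxc u hu)).2 c) (le_normalizer h1)

end KS

end Cfsg.Agent.KantorSeitz
end

-- part: KantorSeitz/EvenCases
section
/-!
# Even degree: lifting from the group of a line; affine lines and lines of Ree type
-/

set_option autoImplicit false
set_option linter.unusedSectionVars false
set_option linter.style.haveILetI false

namespace Cfsg.Agent.KantorSeitz

open Subgroup MulAction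
open scoped commutatorElement

theorem card_coprime_of_orderOf {G : Type*} [Group G] [Finite G] {p : ℕ} [hp : Fact p.Prime]
    {E : Subgroup G} (hE : ∀ x ∈ E, (orderOf x).Coprime p) : (Nat.card E).Coprime p := by
  rw [Nat.coprime_comm, Nat.Prime.coprime_iff_not_dvd hp.out]
  intro h
  obtain ⟨⟨x, hx⟩, hx'⟩ := exists_prime_orderOf_dvd_card' p h
  have h1 := hE x hx
  rw [Subgroup.orderOf_mk] at hx'
  rw [hx', Nat.coprime_self] at h1
  exact hp.out.one_lt.ne' h1

namespace KS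

section Lift

universe v

variable {G Ω : Type v} [Group G] [Finite G] [MulAction G Ω] [Finite Ω] [FaithfulSMul G Ω]
  {U : Ω → Subgroup G} {p : ℕ} [hp : Fact p.Prime] {a b : Ω}
  {H : Type v} [Group H] [Finite H] [MulAction H (L p U a b)] [FaithfulSMul H (L p U a b)]
  {π : setStab (G := G) (L p U a b) →* H}

theorem pi_eq_one_iff
    (hsm : ∀ (g : setStab (G := G) (L p U a b)) (c : L p U a b), ((π g • c : L p U a b) : Ω) = g.1 • c.1)
    {g : setStab (G := G) (L p U a b)} : π g = 1 ↔ ∀ c ∈ L p U a b, g.1 • c = c := by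
  constructor
  · intro hg c hc
    have := hsm g ⟨c, hc⟩
    rw [hg, one_smul] at this
    exact this.symm
  · intro hg
    apply FaithfulSMul.eq_of_smul_eq_smul (α := L p U a b)
    intro c
    apply Subtype.ext
    rw [hsm, one_smul, hg c.1 c.2]

theorem pi_eq_iff
    (hsm : ∀ (g : setStab (G := G) (L p U a b)) (c : L p U a b), ((π g • c : L p U a b) : Ω) = g.1 • c.1)
    {g k : setStab (G := G) (L p U a b)} : π g = π k ↔ ∀ c ∈ L p U a b, g.1 • c = k.1 • c := by
  constructor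
  · intro hg c hc
    have h1 := hsm g ⟨c, hc⟩
    rw [hg, hsm] at h1
    exact h1.symm
  · intro hg
    apply FaithfulSMul.eq_of_smul_eq_smul (α := L p U a b)
    intro c
    apply Subtype.ext
    rw [hsm, hsm, hg c.1 c.2]

/-- lifting of a `p'`-subgroup of the image of `AL` -/
theorem exists_lift_group (h : KS U) (hab : a ≠ b)
    (hsm : ∀ (g : setStab (G := G) (L p U a b)) (c : L p U a b), ((π g • c : L p U a b) : Ω) = g.1 • c.1)
    {T : Subgroup H} (hT : (Nat.card T).Coprime p)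
    (hTM : ∀ τ ∈ T, ∃ x : G, ∃ hx : x ∈ setStab (L p U a b), x ∈ AL p U a b ∧ π ⟨x, hx⟩ = τ) :
    ∃ S : Subgroup G, S ≤ AL p U a b ∧
      (∀ (x : G) (hx : x ∈ setStab (L p U a b)),
        x ∈ S ↔ x ∈ AL p U a b ∧ π ⟨x, hx⟩ ∈ T ∧ (orderOf x).Coprime p) ∧
      ∀ τ ∈ T, ∃ s : G, ∃ hs : s ∈ setStab (L p U a b), s ∈ S ∧ π ⟨s, hs⟩ = τ := by
  let N : Subgroup G := setStab (L p U a b)
  let B : Subgroup G := AL p U a b ⊓ (T.comap π).map N.subtype
  have mB : ∀ (x : G) (hx : x ∈ N), x ∈ B ↔ x ∈ AL p U a b ∧ π ⟨x, hx⟩ ∈ T := by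
    intro x hx
    constructor
    · rintro ⟨h1, y, hy, rfl⟩
      exact ⟨h1, hy⟩
    · rintro ⟨h1, h2⟩
      exact ⟨h1, ⟨x, hx⟩, h2, rfl⟩
  have hBN : ∀ x ∈ B, x ∈ N := fun x hx => h.AL_le_setStab hab hx.1
  obtain ⟨S, hSB, hS, hSd⟩ := h.exists_lift_AL hab (B := B) inf_le_left (by
    intro x hx
    refine ⟨Nat.card T, hT, ?_⟩
    have h1 := ((mB x (hBN x hx)).1 hx).2
    have h2 : (π ⟨x, hBN x hx⟩) ^ Nat.card T = 1 := by
      have := pow_card_eq_one' (x := (⟨π ⟨x, hBN x hx⟩, h1⟩ : T))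
      exact congrArg Subtype.val this
    rw [← map_pow, pi_eq_one_iff hsm] at h2
    exact h2)
  refine ⟨S, hSB.trans inf_le_left, fun x hx => ?_, fun τ hτ => ?_⟩
  · rw [hS, mB x hx, and_assoc]
  · obtain ⟨x, hx, hxA, rfl⟩ := hTM τ hτ
    obtain ⟨s, hs, hsx⟩ := hSd x ((mB x hx).2 ⟨hxA, hτ⟩)
    refine ⟨s, hBN s (hSB hs), hs, ?_⟩
    rw [pi_eq_iff hsm]
    exact hsx

/-- the image of `AL` is a nontrivial normal subgroup -/
theorem mem_image_AL (h : KS U) (hab : a ≠ b) (hX : X p U a b ≠ ⊥) (hπ : Function.Surjective π)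
    (hsm : ∀ (g : setStab (G := G) (L p U a b)) (c : L p U a b), ((π g • c : L p U a b) : Ω) = g.1 • c.1)
    {τ : H} (hτ : ∀ M : Subgroup H, M.Normal → M ≠ ⊥ → τ ∈ M) :
    ∃ x : G, ∃ hx : x ∈ setStab (L p U a b), x ∈ AL p U a b ∧ π ⟨x, hx⟩ = τ := by
  let N : Subgroup G := setStab (L p U a b)
  have h1 := hτ (((AL p U a b).subgroupOf N).map π) ⟨by
    rintro _ ⟨x, hx, rfl⟩ k
    obtain ⟨g, rfl⟩ := hπ k
    refine ⟨g * x * g⁻¹, ?_, by rw [map_mul, map_mul, map_inv]⟩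
    exact h.AL_conj g.2 hx⟩ (by
    intro hbot
    obtain ⟨z, hz, hz1⟩ : ∃ z ∈ Z p U a, z ≠ 1 := by
      have h1 := Z_ne_bot (p := p) (h.nil a) (pP_ne_bot_of_X hX)
      by_contra hcon
      push Not at hcon
      exact h1 ((eq_bot_iff_forall _).2 hcon)
    have hzA : z ∈ AL p U a b := Z_le_AL (h.left_mem_L a b) hz
    have hzN : z ∈ N := h.AL_le_setStab hab hzA
    have h2 : π ⟨z, hzN⟩ ∈ ((AL p U a b).subgroupOf N).map π := ⟨⟨z, hzN⟩, hzA, rfl⟩
    rw [hbot, mem_bot, pi_eq_one_iff hsm] at h2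
    exact hz1 (h.Z_semireg hab.symm hz (h2 b (right_mem_L a b))))
  obtain ⟨x, hx, rfl⟩ := h1
  exact ⟨x.1, x.2, hx, rfl⟩

/-- affine lines -/
theorem case_aff (h : KS U) (hp2 : p ≠ 2) (hab : a ≠ b) (hX : X p U a b ≠ ⊥)
    (hπ : Function.Surjective π)
    (hsm : ∀ (g : setStab (G := G) (L p U a b)) (c : L p U a b), ((π g • c : L p U a b) : Ω) = g.1 • c.1)
    (hI : IAff H (L p U a b)) : ∃ E₀ : Subgroup G, IsTrans p U a b E₀ := by
  obtain ⟨E, hEn, hEsq, hEt⟩ := hI
  let N : Subgroup G := setStab (L p U a b)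
  have haL := h.left_mem_L (p := p) a b
  have hEc : ∀ x ∈ E, ∀ y ∈ E, x * y = y * x := by
    intro x hx y hy
    have h1 := hEsq _ (mul_mem hx hy)
    have hx1 : x⁻¹ = x := inv_eq_of_mul_eq_one_left (hEsq x hx)
    have hy1 : y⁻¹ = y := inv_eq_of_mul_eq_one_left (hEsq y hy)
    have h2 : x * y = (x * y)⁻¹ := eq_inv_of_mul_eq_one_left h1
    rw [h2, mul_inv_rev, hx1, hy1]
  obtain ⟨z, hz, hz1⟩ : ∃ z ∈ Z p U a, z ≠ 1 := by
    have h1 := Z_ne_bot (p := p) (h.nil a) (pP_ne_bot_of_X hX)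
    by_contra hcon
    push Not at hcon
    exact h1 ((eq_bot_iff_forall _).2 hcon)
  have hzA : z ∈ AL p U a b := Z_le_AL haL hz
  have hzN : z ∈ N := h.AL_le_setStab hab hzA
  set ζ : H := π ⟨z, hzN⟩ with hζ
  have hcop : (Nat.card E).Coprime p :=
    card_coprime_of_orderOf (fun x hx => orderOf_coprime_of_sq hp2 (hEsq x hx))
  obtain ⟨S, hSA, mS, hSE⟩ := h.exists_lift_group hab hsm hcop (by
    let φ : E → E := fun ε => ⟨ζ⁻¹ * (ε.1 * ζ * ε.1⁻¹), by
      have h2 : ζ⁻¹ * (ε.1 * ζ * ε.1⁻¹) = ζ⁻¹ * ε.1 * ζ⁻¹⁻¹ * ε.1⁻¹ := by group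
      rw [h2]
      exact mul_mem (hEn.conj_mem _ ε.2 _) (inv_mem ε.2)⟩
    have hinj : Function.Injective φ := by
      intro f g hfg
      have h1 : ζ⁻¹ * (f.1 * ζ * f.1⁻¹) = ζ⁻¹ * (g.1 * ζ * g.1⁻¹) := congrArg Subtype.val hfg
      have h2 : f.1 * ζ * f.1⁻¹ = g.1 * ζ * g.1⁻¹ := mul_left_cancel h1
      have h3 : (g.1⁻¹ * f.1) * ζ = ζ * (g.1⁻¹ * f.1) := by
        calc (g.1⁻¹ * f.1) * ζ = g.1⁻¹ * (f.1 * ζ * f.1⁻¹) * f.1 := by group
          _ = ζ * (g.1⁻¹ * f.1) := by rw [h2]; group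
      have hzc : ζ • (⟨a, haL⟩ : L p U a b) = ⟨a, haL⟩ := by
        apply Subtype.ext
        rw [hζ, hsm]
        exact h.Z_fix hz
      have h4 : ζ • ((g.1⁻¹ * f.1) • (⟨a, haL⟩ : L p U a b)) = (g.1⁻¹ * f.1) • (⟨a, haL⟩ : L p U a b) := by
        rw [← mul_smul, ← h3, mul_smul, hzc]
      have h5 : (g.1⁻¹ * f.1) • (⟨a, haL⟩ : L p U a b) = ⟨a, haL⟩ := by
        by_contra hne
        have h6 := congrArg Subtype.val h4
        rw [hζ, hsm] at h6
        exact hz1 (h.Z_semireg (fun e => hne (Subtype.ext e)) hz h6)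
      have h6 := W_reg hEc hEt (mul_mem (inv_mem g.2) f.2) h5
      rw [inv_mul_eq_one] at h6
      exact Subtype.ext h6.symm
    have hsurj := Finite.surjective_of_injective hinj
    intro τ hτ
    obtain ⟨ε, hε⟩ := hsurj ⟨τ, hτ⟩
    obtain ⟨g, hg⟩ := hπ ε.1
    have hgz : g.1 * z * g.1⁻¹ ∈ AL p U a b :=
      Z_le_AL ((g.2 a).1 haL) (h.conj_Z g.1 hz)
    refine ⟨z⁻¹ * (g.1 * z * g.1⁻¹), mul_mem (inv_mem hzN) (mul_mem (mul_mem g.2 hzN) (inv_mem g.2)),
      mul_mem (inv_mem hzA) hgz, ?_⟩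
    have h1 : ζ⁻¹ * (ε.1 * ζ * ε.1⁻¹) = τ := congrArg Subtype.val hε
    rw [← h1, ← hg, hζ, ← map_inv, ← map_inv, ← map_mul, ← map_mul, ← map_mul]
    rfl)
  have hSN : ∀ x ∈ S, x ∈ N := fun x hx => h.AL_le_setStab hab (hSA hx)
  refine ⟨S, hSA, ?_, ?_, ?_⟩
  · intro x hx
    have h1 := (mS x (hSN x hx)).1 hx
    have h2 := hEsq _ h1.2.1
    rw [← map_mul, pi_eq_one_iff hsm] at h2
    refine h.eq_one_of_fix_line hab (p := p) h2 (fun y hy => h.AL_comm_X hab hy (mul_mem h1.1 h1.1)) ?_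
    have h3 : orderOf (x * x) ∣ orderOf x := by
      rw [← pow_two]
      exact orderOf_pow_dvd 2
    exact Nat.Coprime.coprime_dvd_left h3 h1.2.2
  · intro e he f hf
    obtain ⟨τ, hτ, hτe⟩ := hEt ⟨e, he⟩ ⟨f, hf⟩
    obtain ⟨s, hs, hsS, hsτ⟩ := hSE τ hτ
    refine ⟨s, hsS, ?_⟩
    have h1 := hsm ⟨s, hs⟩ ⟨e, he⟩
    rw [hsτ, hτe] at h1
    exact h1.symm
  · intro g hg x hx
    have h1 := (mS x (hSN x hx)).1 hx
    have hgx : g * x * g⁻¹ ∈ N := mul_mem (mul_mem hg (hSN x hx)) (inv_mem hg)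
    rw [mS _ hgx]
    refine ⟨h.AL_conj hg h1.1, ?_, ?_⟩
    · have h2 : π ⟨g * x * g⁻¹, hgx⟩ = π ⟨g, hg⟩ * π ⟨x, hSN x hx⟩ * (π ⟨g, hg⟩)⁻¹ := by
        rw [← map_mul, ← map_inv, ← map_mul]
        rfl
      rw [h2]
      exact hEn.conj_mem _ h1.2.1 _
    · have : orderOf (g * x * g⁻¹) = orderOf x := orderOf_injective (MulAut.conj g).toMonoidHom
        (MulAut.conj g).injective x
      rw [this]
      exact h1.2.2

/-- lines of Ree type -/
theorem case_ree (h : KS U) (hp2 : p ≠ 2) (IH : EvenHyp.{v} (Nat.card Ω)) (hev : Even (Nat.card Ω))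
    (hab : a ≠ b) (hX : X p U a b ≠ ⊥) (hπ : Function.Surjective π)
    (hsm : ∀ (g : setStab (G := G) (L p U a b)) (c : L p U a b), ((π g • c : L p U a b) : Ω) = g.1 • c.1)
    (hevL : Even (Nat.card (L p U a b)))
    (hI : IRee (H := H) (⟨a, h.left_mem_L a b⟩ : L p U a b) ⟨b, right_mem_L a b⟩) : False := by
  haveI : Fact (Nat.Prime 2) := ⟨Nat.prime_two⟩
  obtain ⟨hfix, τ, hτ1, hττ, hτa, hτb, hτM⟩ := hI
  let N : Subgroup G := setStab (L p U a b)
  -- lift `τ`
  obtain ⟨x, hxN, hxA, hxτ⟩ := h.mem_image_AL hab hX hπ hsm hτM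
  obtain ⟨y, hy, w, hw, hyw, hyx, hwx⟩ := exists_mul_parts (p := 2) (H := zpowers x) (mem_zpowers x)
  have hxN' : zpowers x ≤ N := by rwa [zpowers_le]
  have hxA' : zpowers x ≤ AL p U a b := by rwa [zpowers_le]
  have hyN := hxN' hyx
  have hyA := hxA' hyx
  have hwo : (orderOf w).Coprime 2 := ((mem_pR (H := zpowers x) (isNilpotent_zpowers x)).1 hw).2
  obtain ⟨k, hk⟩ := ((mem_pP (H := zpowers x) (isNilpotent_zpowers x)).1 hy).2
  have hπw : π ⟨w, hxN' hwx⟩ = 1 := by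
    -- it is a power of `τ` of odd order
    have h1 : π ⟨w, hxN' hwx⟩ ∈ zpowers τ := by
      obtain ⟨i, hi⟩ := mem_zpowers_iff.1 hwx
      rw [← hxτ]
      refine mem_zpowers_iff.2 ⟨i, ?_⟩
      rw [← map_zpow]
      exact congrArg π (Subtype.ext hi)
    have h2 : orderOf (π ⟨w, hxN' hwx⟩) ∣ 2 := by
      have h3 : orderOf τ ∣ 2 := orderOf_dvd_of_pow_eq_one (by rw [pow_two, hττ])
      have h4 : orderOf (π ⟨w, hxN' hwx⟩) ∣ orderOf τ := by
        have := _root_.orderOf_dvd_natCard (⟨_, h1⟩ : zpowers τ)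
        rwa [Subgroup.orderOf_mk, Nat.card_zpowers] at this
      exact h4.trans h3
    have h3 : orderOf (π ⟨w, hxN' hwx⟩) ∣ orderOf w := by
      have := orderOf_map_dvd π (⟨w, hxN' hwx⟩ : N)
      rwa [Subgroup.orderOf_mk] at this
    exact orderOf_eq_one_iff.1 (Nat.Coprime.eq_one_of_dvd (Nat.Coprime.coprime_dvd_left h3 hwo) h2)
  have hπy : π ⟨y, hyN⟩ = τ := by
    have h1 : (⟨x, hxN⟩ : N) = ⟨y, hyN⟩ * ⟨w, hxN' hwx⟩ := Subtype.ext hyw
    rw [← hxτ, h1, map_mul, hπw, mul_one]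
  have hyy : y * y = 1 := by
    have h1 : π (⟨y, hyN⟩ * ⟨y, hyN⟩) = 1 := by rw [map_mul, hπy, hττ]
    rw [pi_eq_one_iff hsm] at h1
    refine h.eq_one_of_fix_line hab (p := p) h1 (fun u hu => h.AL_comm_X hab hu (mul_mem hyA hyA)) ?_
    have h2 : orderOf (y * y) ∣ 2 ^ k := by
      apply orderOf_dvd_of_pow_eq_one
      rw [← pow_two, ← pow_mul, mul_comm, pow_mul, hk, one_pow]
    refine Nat.Coprime.coprime_dvd_left h2 (Nat.Coprime.pow_left k ?_)
    exact (Nat.coprime_primes Nat.prime_two hp.out).2 hp2.symm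
  have hy1 : y ≠ 1 := by
    intro e
    apply hτ1
    rw [← hπy, pi_eq_one_iff hsm]
    intro c _
    change y • c = c
    rw [e, one_smul]
  have hya : y • a = a := by
    have h1 := hsm ⟨y, hyN⟩ ⟨a, h.left_mem_L a b⟩
    rw [hπy, hτa] at h1
    exact h1.symm
  have hyb : y • b = b := by
    have h1 := hsm ⟨y, hyN⟩ ⟨b, right_mem_L a b⟩
    rw [hπy, hτb] at h1
    exact h1.symm
  -- fixed points of `y` lie on the line
  have hodd := h.odd_card hev a
  have hF : ∀ c : Ω, y • c = c → c ∈ L p U a b := by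
    intro c hc
    have hst : ∀ d : Ω, y • d = d → ∀ u ∈ zpowers y, u • d = d := by
      intro d hd u hu
      have h1 : y ∈ stabilizer G d := hd
      have h2 : zpowers y ≤ stabilizer G d := by rwa [zpowers_le]
      exact h2 hu
    refine h.lemmaI (p := p) IH hev hab (Y := zpowers y) ?_ (hst a hya) (hst b hyb) ?_ ?_ (hst c hc)
    · intro e
      apply hy1
      have := mem_zpowers y
      rwa [e, mem_bot] at this
    · intro u hu v hv
      have h1 : zpowers y ≤ AL p U a b := by rwa [zpowers_le]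
      exact h.AL_comm_X hab hu (h1 hv)
    · rw [Nat.card_zpowers]
      have h2 : orderOf y ∣ 2 := orderOf_dvd_of_pow_eq_one (by rw [pow_two, hyy])
      exact Nat.Coprime.coprime_dvd_left h2 (Nat.coprime_two_left.2 hodd)
  -- a point off the line
  obtain ⟨c, hc⟩ := exists_not_mem_L (p := p) (U := U) hX
  have hyc : c ≠ y • c := fun e => hc (hF c e.symm)
  obtain ⟨g, hga, hgb⟩ := h.two hab hyc
  have hyyc : y • y • c = c := by rw [← mul_smul, hyy, one_smul]
  set y' := g⁻¹ * y * g with hy'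
  have hy'a : y' • a = b := by
    rw [hy', mul_smul, mul_smul, hga, inv_smul_eq_iff, hgb]
  have hy'b : y' • b = a := by
    rw [hy', mul_smul, mul_smul, hgb, inv_smul_eq_iff, hga, hyyc]
  have hy'N : y' ∈ N := by
    refine mem_setStab_of (fun e he => h.smul_mem_L hab hab (h.left_mem_L a b) (right_mem_L a b) ?_ ?_ he)
    · rw [hy'a]; exact right_mem_L a b
    · rw [hy'b]; exact h.left_mem_L a b
  have hy'y' : y' * y' = 1 := by
    rw [hy']
    calc g⁻¹ * y * g * (g⁻¹ * y * g) = g⁻¹ * (y * y) * g := by group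
      _ = 1 := by rw [hyy]; group
  -- the fixed points on the line
  set σ : H := π ⟨y', hy'N⟩ with hσ
  have hσσ : σ * σ = 1 := by
    rw [hσ, ← map_mul, ← map_one π]
    exact congrArg π (Subtype.ext hy'y')
  obtain ⟨e1, he1⟩ := hfix σ hσσ
  have hzp : IsPGroup 2 (zpowers σ) := by
    rintro ⟨u, hu⟩
    obtain ⟨i, rfl⟩ := mem_zpowers_iff.1 hu
    refine ⟨1, Subtype.ext ?_⟩
    change (σ ^ i) ^ 2 ^ 1 = 1
    rw [pow_one, pow_two, ← (Commute.refl σ).mul_zpow, hσσ, one_zpow]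
  have hmod := hzp.card_modEq_card_fixedPoints (L p U a b)
  have hev' : Even (Nat.card (fixedPoints (zpowers σ) (L p U a b))) := by
    rw [even_iff_two_dvd] at hevL ⊢
    exact (Nat.modEq_zero_iff_dvd.1 (hmod.symm.trans (Nat.modEq_zero_iff_dvd.2 hevL)))
  have hfixσ : ∀ e : L p U a b, σ • e = e → e ∈ fixedPoints (zpowers σ) (L p U a b) := by
    intro e he u
    have h1 : σ ∈ stabilizer H e := he
    have h2 : zpowers σ ≤ stabilizer H e := by rwa [zpowers_le]
    exact h2 u.2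
  have hpos : 0 < Nat.card (fixedPoints (zpowers σ) (L p U a b)) :=
    Nat.card_pos_iff.2 ⟨⟨⟨e1, hfixσ e1 he1⟩⟩, inferInstance⟩
  have h2 : 1 < Nat.card (fixedPoints (zpowers σ) (L p U a b)) := by
    obtain ⟨k, hk⟩ := hev'
    omega
  have := Finite.one_lt_card_iff_nontrivial.1 h2
  obtain ⟨⟨e2, he2⟩, hne⟩ := exists_ne (⟨e1, hfixσ e1 he1⟩ : fixedPoints (zpowers σ) (L p U a b))
  have he2' : σ • e2 = e2 := he2 ⟨σ, mem_zpowers σ⟩
  have hne' : e2.1 ≠ e1.1 := fun k => hne (Subtype.ext (Subtype.ext k))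
  -- move back
  have hback : ∀ e : L p U a b, σ • e = e → g • e.1 ∈ L p U a b ∧ g • e.1 ∈ L p U c (y • c) := by
    intro e he
    have h1 : y' • e.1 = e.1 := by
      have h3 := hsm ⟨y', hy'N⟩ e
      rw [← hσ, he] at h3
      exact h3.symm
    refine ⟨hF _ ?_, ?_⟩
    · rw [hy', mul_smul, mul_smul, inv_smul_eq_iff] at h1
      exact h1
    · have := h.smul_mem_L' g e.2
      rwa [hga, hgb] at this
  obtain ⟨k1, k2⟩ := hback e1 he1
  obtain ⟨k3, k4⟩ := hback e2 he2'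
  have hLL := h.L_eq_L hab hyc k1 k3 k2 k4 (fun k => hne' (MulAction.injective g k).symm)
  apply hc
  rw [hLL]
  exact h.left_mem_L c (y • c)

end Lift

end KS

end Cfsg.Agent.KantorSeitz
end

-- part: KantorSeitz/OfBase
section
/-!
# Equivariant families from a subgroup invariant under a point stabiliser; the second centre
-/

set_option autoImplicit false
set_option linter.unusedSectionVars false
set_option linter.style.haveILetI false

namespace Cfsg.Agent.KantorSeitz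

open Subgroup MulAction
open scoped commutatorElement

/-- the equivariant family with value `N` at `a` -/
def ofBase {G Ω : Type*} [Group G] [MulAction G Ω] (N : Subgroup G) (a c : Ω) : Subgroup G where
  carrier := {x | ∀ g : G, g • a = c → g⁻¹ * x * g ∈ N}
  one_mem' := fun g _ => by rw [mul_one, inv_mul_cancel]; exact one_mem _
  mul_mem' := by
    intro x y hx hy g h1
    have h3 : g⁻¹ * (x * y) * g = (g⁻¹ * x * g) * (g⁻¹ * y * g) := by group
    rw [h3]
    exact mul_mem (hx g h1) (hy g h1)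
  inv_mem' := by
    intro x hx g h1
    have h3 : g⁻¹ * x⁻¹ * g = (g⁻¹ * x * g)⁻¹ := by group
    rw [h3]
    exact inv_mem (hx g h1)

section OfBase

variable {G Ω : Type*} [Group G] [MulAction G Ω] {U : Ω → Subgroup G}

theorem mem_ofBase {N : Subgroup G} {a : Ω} (hinv : ∀ g : G, g • a = a → ∀ x ∈ N, g * x * g⁻¹ ∈ N)
    {c : Ω} {g : G} (hg : g • a = c) {x : G} : x ∈ ofBase N a c ↔ g⁻¹ * x * g ∈ N := by
  constructor
  · intro hx
    exact hx g hg
  · intro hx k hk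
    have h1 : (k⁻¹ * g) • a = a := by rw [mul_smul, hg, ← hk, inv_smul_smul]
    have h2 := hinv _ h1 _ hx
    have h3 : k⁻¹ * g * (g⁻¹ * x * g) * (k⁻¹ * g)⁻¹ = k⁻¹ * x * k := by group
    rwa [h3] at h2

theorem ofBase_self {N : Subgroup G} {a : Ω}
    (hinv : ∀ g : G, g • a = a → ∀ x ∈ N, g * x * g⁻¹ ∈ N) : ofBase N a a = N := by
  ext x
  rw [mem_ofBase hinv (one_smul G a), inv_one, one_mul, mul_one]

theorem isNilpotent_of_le {A B : Subgroup G} (hAB : A ≤ B) (hB : Group.IsNilpotent B) :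
    Group.IsNilpotent A := by
  have := hB
  have hf : Function.Injective (Subgroup.inclusion hAB) := Subgroup.inclusion_injective hAB
  exact Subgroup.isNilpotent_of_ker_le_center (Subgroup.inclusion hAB) (by
    rw [(MonoidHom.ker_eq_bot_iff _).2 hf]; exact bot_le)

theorem KS.ofBase (h : KS U) {a : Ω} {N : Subgroup G} (hNU : N ≤ U a)
    (hinv : ∀ g : G, g • a = a → ∀ x ∈ N, g * x * g⁻¹ ∈ N)
    (htr : ∀ b c : Ω, b ≠ a → c ≠ a → ∃ x ∈ N, x • b = c) : KS (KantorSeitz.ofBase N a) := by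
  have hle : ∀ c, KantorSeitz.ofBase N a c ≤ U c := by
    intro c x hx
    obtain ⟨g, rfl⟩ := h.tr a c
    have h1 := hNU (hx g rfl)
    have h2 := h.conj g h1
    have h3 : g * (g⁻¹ * x * g) * g⁻¹ = x := by group
    rwa [h3] at h2
  exact
    { fix := fun hx => h.fix (hle _ hx)
      conj := by
        intro g c x hx k hk
        have h1 := hx (g⁻¹ * k) (by rw [mul_smul, hk, inv_smul_smul])
        have h2 : (g⁻¹ * k)⁻¹ * x * (g⁻¹ * k) = k⁻¹ * (g * x * g⁻¹) * k := by group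
        rwa [h2] at h1
      trans := by
        intro c d e hd he
        obtain ⟨g, rfl⟩ := h.tr a c
        obtain ⟨x, hx, hxd⟩ := htr (g⁻¹ • d) (g⁻¹ • e) (by rw [Ne, inv_smul_eq_iff]; exact hd)
          (by rw [Ne, inv_smul_eq_iff]; exact he)
        refine ⟨g * x * g⁻¹, ?_, ?_⟩
        · rw [mem_ofBase hinv rfl]
          have h3 : g⁻¹ * (g * x * g⁻¹) * g = x := by group
          rwa [h3]
        · rw [mul_smul, mul_smul, hxd, smul_inv_smul]
      nil := fun c => isNilpotent_of_le (hle c) (h.nil c)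
      tr := h.tr }

/-- the elements of `P` central modulo `B` -/
def up (P B : Subgroup G) (hB : ∀ u ∈ P, ∀ x ∈ B, u * x * u⁻¹ ∈ B) : Subgroup G where
  carrier := {y | y ∈ P ∧ ∀ u ∈ P, y * u * y⁻¹ * u⁻¹ ∈ B}
  one_mem' := ⟨one_mem _, fun u _ => by
    have : (1 : G) * u * 1⁻¹ * u⁻¹ = 1 := by group
    rw [this]; exact one_mem _⟩
  mul_mem' := by
    rintro y y' ⟨hy, hy'⟩ ⟨hz, hz'⟩
    refine ⟨mul_mem hy hz, fun u hu => ?_⟩
    have h1 : y * y' * u * (y * y')⁻¹ * u⁻¹ = y * (y' * u * y'⁻¹ * u⁻¹) * y⁻¹ * (y * u * y⁻¹ * u⁻¹) := by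
      group
    rw [h1]
    exact mul_mem (hB y hy _ (hz' u hu)) (hy' u hu)
  inv_mem' := by
    rintro y ⟨hy, hy'⟩
    refine ⟨inv_mem hy, fun u hu => ?_⟩
    have h1 : y⁻¹ * u * y⁻¹⁻¹ * u⁻¹ = y⁻¹ * (y * u * y⁻¹ * u⁻¹)⁻¹ * y⁻¹⁻¹ := by group
    rw [h1]
    exact hB _ (inv_mem hy) _ (inv_mem (hy' u hu))

theorem mem_up {P B : Subgroup G} {hB : ∀ u ∈ P, ∀ x ∈ B, u * x * u⁻¹ ∈ B} {y : G} :
    y ∈ up P B hB ↔ y ∈ P ∧ ∀ u ∈ P, y * u * y⁻¹ * u⁻¹ ∈ B := Iff.rfl

theorem up_conj {P B : Subgroup G} {hB : ∀ u ∈ P, ∀ x ∈ B, u * x * u⁻¹ ∈ B} {g : G}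
    (hP : ∀ x, x ∈ P ↔ g * x * g⁻¹ ∈ P) (hgB : ∀ x ∈ B, g * x * g⁻¹ ∈ B) {y : G}
    (hy : y ∈ up P B hB) : g * y * g⁻¹ ∈ up P B hB := by
  rw [mem_up] at hy ⊢
  refine ⟨(hP y).1 hy.1, fun u hu => ?_⟩
  have hu' : g⁻¹ * u * g ∈ P := by
    rw [hP]
    have : g * (g⁻¹ * u * g) * g⁻¹ = u := by group
    rwa [this]
  have h1 := hgB _ (hy.2 _ hu')
  have h2 : g * (y * (g⁻¹ * u * g) * y⁻¹ * (g⁻¹ * u * g)⁻¹) * g⁻¹ =
      g * y * g⁻¹ * u * (g * y * g⁻¹)⁻¹ * u⁻¹ := by group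
  rwa [h2] at h1

theorem up_le {P B : Subgroup G} {hB : ∀ u ∈ P, ∀ x ∈ B, u * x * u⁻¹ ∈ B} : up P B hB ≤ P :=
  fun _ hx => hx.1

theorem le_up {P B : Subgroup G} {hB : ∀ u ∈ P, ∀ x ∈ B, u * x * u⁻¹ ∈ B} (hBP : B ≤ P) :
    B ≤ up P B hB := by
  intro x hx
  refine ⟨hBP hx, fun u hu => ?_⟩
  have h1 : x * u * x⁻¹ * u⁻¹ = x * (u * x⁻¹ * u⁻¹) := by group
  rw [h1]
  exact mul_mem hx (hB u hu _ (inv_mem hx))

/-- coprime action -/
theorem exists_commutator_mul [Finite G] {A K : Subgroup G} (hAK : A ≤ normalizer (K : Set G))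
    (hcop : (Nat.card A).Coprime (Nat.card K)) (hsolv : Group.IsSolvable K) {x : G} (hx : x ∈ K) :
    ∃ n ∈ (⁅K, A⁆ : Subgroup G), ∃ c ∈ K, (∀ s ∈ A, s * c = c * s) ∧ x = n * c := by
  have h1 := Cfsg.Agent.S0026.result A K hAK hcop (Or.inr hsolv)
  have h2 : K ⊓ centralizer (A : Set G) ≤ normalizer ((⁅K, A⁆ : Subgroup G) : Set G) :=
    inf_le_left.trans (Cfsg.Agent.Lib.CoprimeCommutator.left_le_normalizer_commutator K A)
  have h3 := Subgroup.coe_mul_of_right_le_normalizer_left _ _ h2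
  have h4 : x ∈ ((⁅K, A⁆ ⊔ (K ⊓ centralizer (A : Set G)) : Subgroup G) : Set G) := by
    rw [h1]; exact hx
  rw [h3] at h4
  obtain ⟨n, hn, c, hc, rfl⟩ := h4
  exact ⟨n, hn, c, hc.1, fun s hs => mem_centralizer_iff.1 hc.2 s hs, rfl⟩

end OfBase

end Cfsg.Agent.KantorSeitz
end

private theorem dce_792245166992 : _root_.True := by
  try have : _root_.True := by simp only [_root_.Cfsg.Agent.KantorSeitz.AL.eq_1]
  try have : _root_.True := by simp only [_root_.Cfsg.Agent.KantorSeitz.Z.eq_1]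
  try have : _root_.True := by simp only [_root_.Cfsg.Agent.KantorSeitz.pR.eq_1]
  try have : _root_.True := by simp only [_root_.Cfsg.Agent.KantorSeitz.pP.eq_1]
  try have : _root_.True := by simp only [_root_.Cfsg.Agent.KantorSeitz.KK.eq_1]
  exact _root_.True.intro
end

-- part: KantorSeitz/Assembly
section
prune_inst 0x20000304503220200001c0012c0003cd3d3000102006b8001014603020684cf6100022f20f8a017180100aa74003c0048111000590010000000000600411905a180aa6282b348a10426008f80a885190c00000000000000000000000000000000204010000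
set_option linter.all false
open scoped Cfsg.Agent.FastGrp

-- part: KantorSeitz/EvenTor
section
/-!
# Even degree: lines of type `PSL(2,q)` and `PSU(3,q)`
-/

set_option autoImplicit false
set_option linter.unusedSectionVars false
set_option linter.style.haveILetI false

namespace Cfsg.Agent.KantorSeitz

open Subgroup MulAction
open scoped commutatorElement

namespace KS

section Tor

universe v

variable {G Ω : Type v} [Group G] [Finite G] [MulAction G Ω] [Finite Ω] [FaithfulSMul G Ω]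
  {U : Ω → Subgroup G} {p : ℕ} [hp : Fact p.Prime] {a b : Ω}

/-- the part of the argument after `P = [P, S]`: the second centre consists of dilatations -/
theorem second_centre_le (h : KS U) (hab : a ≠ b)
    (hXP : ∀ c, c ≠ a → X p U a c ≤ ⁅pP p (U a), pP p (U a)⁆) {y : G} (hy : y ∈ pP p (U a))
    (hyc : ∀ u ∈ pP p (U a), y * u * y⁻¹ * u⁻¹ ∈ Z p U a) : y ∈ KK p U a := by
  refine KK_of_comm hy (fun c hc x hx => ?_) h
  refine comm_of_second hy (fun u hu v hv => ?_) x (hXP c hc hx)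
  exact ((mem_Z.1 (hyc u hu)).2 v hv).symm

/-- the argument for `PSU(3,q)`-lines -/
theorem unitary_end (h : KS U) (hab : a ≠ b) (hX : X p U a b ≠ ⊥) (hodd : Odd (Nat.card (U a)))
    (htr : ∀ c : Ω, c ≠ a → ∃ u ∈ pP p (U a), u • b = c)
    {S : Subgroup G} (hSa : ∀ s ∈ S, s • a = a) (hSX : ∀ x ∈ X p U a b, ∀ s ∈ S, x * s = s * x)
    (hgen : pP p (U a) ≤ ⁅pP p (U a), S⁆)
    (hXP : ∀ c, c ≠ a → X p U a c ≤ ⁅pP p (U a), pP p (U a)⁆)
    {t : G} (ht : t * t = 1) (hta : t • a = a)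
    (hCt : ∀ y ∈ pP p (U a), t * y = y * t → ∃ z ∈ Z p U a, ∃ x ∈ X p U a b, y = z * x) :
    False := by
  set P : Subgroup G := pP p (U a) with hP
  have hfixa : ∀ x ∈ P, x • a = a := fun x hx => h.fix (pP_le p _ hx)
  have hPconj : ∀ g : G, g • a = a → ∀ x, x ∈ P ↔ g * x * g⁻¹ ∈ P := by
    intro g hg x
    constructor
    · exact h.conj_pP_of_fix hg
    · intro hx
      have hgi : g⁻¹ • a = a := by rw [inv_smul_eq_iff, hg]
      have h1 := h.conj_pP_of_fix hgi hx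
      have h2 : g⁻¹ * (g * x * g⁻¹) * g⁻¹⁻¹ = x := by group
      rwa [h2] at h1
  have hZconj : ∀ g : G, g • a = a → ∀ x ∈ Z p U a, g * x * g⁻¹ ∈ Z p U a := by
    intro g hg x hx
    have := h.conj_Z (p := p) g hx
    rwa [hg] at this
  have hZP : Z p U a ≤ P := Z_le
  have hZc : ∀ z ∈ Z p U a, ∀ u ∈ P, u * z = z * u := fun z hz u hu => (mem_Z.1 hz).2 u hu
  -- the second and the third centre
  let A2 := up P (Z p U a) (fun u hu x hx => hZconj u (hfixa u hu) x hx)
  have hA2conj : ∀ g : G, g • a = a → ∀ x ∈ A2, g * x * g⁻¹ ∈ A2 := fun g hg x hx =>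
    up_conj (hPconj g hg) (hZconj g hg) hx
  let A3 := up P A2 (fun u hu x hx => hA2conj u (hfixa u hu) x hx)
  have hA3conj : ∀ g : G, g • a = a → ∀ x ∈ A3, g * x * g⁻¹ ∈ A3 := fun g hg x hx =>
    up_conj (hPconj g hg) (hA2conj g hg) hx
  have hA2K : A2 ≤ KK p U a := fun y hy => h.second_centre_le hab hXP hy.1 hy.2
  have hZA2 : Z p U a ≤ A2 := le_up hZP
  have hA2A3 : A2 ≤ A3 := le_up up_le
  have hoddP : Odd (Nat.card P) := Odd.of_dvd_nat hodd (Subgroup.card_dvd_of_le (pP_le p _))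
  have hoddA3 : Odd (Nat.card A3) := Odd.of_dvd_nat hoddP (Subgroup.card_dvd_of_le up_le)
  -- `A3 ∩ X = 1`
  have hA3X : ∀ x ∈ A3, x ∈ X p U a b → x = 1 := fun x hx hxX =>
    h.eq_one_of_step hab htr hxX (fun u hu => hA2K (hx.2 u hu))
  -- `t` inverts `A3 / Z`
  have hinv : ∀ y ∈ A3, (t * y * t⁻¹) * y ∈ Z p U a := by
    intro y hy
    obtain ⟨c, hc, k, hk, rfl, htc, htk⟩ := exists_decomp hoddA3 ht (hA3conj t hta) hy
    have hcZ : c ∈ Z p U a := by
      obtain ⟨z, hz, x, hx, rfl⟩ := hCt c hc.1 htc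
      have hxA : x ∈ A3 := by
        have h1 := mul_mem (inv_mem (hA2A3 (hZA2 hz))) hc
        rwa [inv_mul_cancel_left] at h1
      rw [hA3X x hxA hx, mul_one]
      exact hz
    have h1 : t * (c * k) * t⁻¹ * (c * k) = c * c := by
      calc t * (c * k) * t⁻¹ * (c * k) = (t * c) * t⁻¹ * (t * k * t⁻¹) * (c * k) := by group
        _ = (c * t) * t⁻¹ * k⁻¹ * (c * k) := by rw [htc, htk]
        _ = c * (k⁻¹ * c) * k := by group
        _ = c * (c * k⁻¹) * k := by rw [hZc c hcZ _ (inv_mem hk.1)]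
        _ = c * c := by group
    rw [h1]
    exact mul_mem hcZ hcZ
  -- the elements of `P` acting trivially on `A3 / Z`
  let C : Subgroup G :=
    { carrier := {u | u ∈ P ∧ ∀ y ∈ A3, y * u * y⁻¹ * u⁻¹ ∈ Z p U a}
      one_mem' := ⟨one_mem _, fun y _ => by
        have : y * 1 * y⁻¹ * 1⁻¹ = 1 := by group
        rw [this]; exact one_mem _⟩
      mul_mem' := by
        rintro u v ⟨hu, hu'⟩ ⟨hv, hv'⟩
        refine ⟨mul_mem hu hv, fun y hy => ?_⟩
        have h1 : y * (u * v) * y⁻¹ * (u * v)⁻¹ = (y * u * y⁻¹ * u⁻¹) * (u * (y * v * y⁻¹ * v⁻¹) * u⁻¹) := by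
          group
        rw [h1]
        exact mul_mem (hu' y hy) (hZconj u (hfixa u hu) _ (hv' y hy))
      inv_mem' := by
        rintro u ⟨hu, hu'⟩
        refine ⟨inv_mem hu, fun y hy => ?_⟩
        have h1 : y * u⁻¹ * y⁻¹ * u⁻¹⁻¹ = u⁻¹ * (y * u * y⁻¹ * u⁻¹)⁻¹ * u⁻¹⁻¹ := by group
        rw [h1]
        exact hZconj _ (hfixa _ (inv_mem hu)) _ (inv_mem (hu' y hy)) }
  have mC : ∀ {u : G}, u ∈ C ↔ u ∈ P ∧ ∀ y ∈ A3, y * u * y⁻¹ * u⁻¹ ∈ Z p U a := Iff.rfl
  have hCconj : ∀ g : G, g • a = a → ∀ u ∈ C, g * u * g⁻¹ ∈ C := by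
    intro g hg u hu
    rw [mC] at hu ⊢
    refine ⟨(hPconj g hg u).1 hu.1, fun y hy => ?_⟩
    have hgi : g⁻¹ • a = a := by rw [inv_smul_eq_iff, hg]
    have h1 := hA3conj g⁻¹ hgi y hy
    rw [inv_inv] at h1
    have h2 := hZconj g hg _ (hu.2 _ h1)
    have h3 : g * (g⁻¹ * y * g * u * (g⁻¹ * y * g)⁻¹ * u⁻¹) * g⁻¹ =
        y * (g * u * g⁻¹) * y⁻¹ * (g * u * g⁻¹)⁻¹ := by group
    rwa [h3] at h2
  have hZC : Z p U a ≤ C := by
    intro z hz
    rw [mC]
    refine ⟨hZP hz, fun y hy => ?_⟩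
    have h1 : y * z * y⁻¹ * z⁻¹ = 1 := by
      rw [hZc z hz y hy.1]; group
    rw [h1]
    exact one_mem _
  -- inverted elements lie in `C`
  have hinvC : ∀ i ∈ P, t * i * t⁻¹ = i⁻¹ → i ∈ C := by
    intro i hi hti
    have hsq : i * i ∈ C := by
      rw [mC]
      refine ⟨mul_mem hi hi, fun y hy => ?_⟩
      have hz1 := hinv y hy
      have hy' : i * y * i⁻¹ ∈ A3 := hA3conj i (hfixa i hi) y hy
      have hz2 := hinv _ hy'
      set z1 := t * y * t⁻¹ * y with hz1d
      set z2 := t * (i * y * i⁻¹) * t⁻¹ * (i * y * i⁻¹) with hz2d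
      have e1 : t * y * t⁻¹ = z1 * y⁻¹ := by rw [hz1d]; group
      have e2 : t * (i * y * i⁻¹) * t⁻¹ = z2 * (i * y⁻¹ * i⁻¹) := by rw [hz2d]; group
      have e3 : t * (i * y * i⁻¹) * t⁻¹ = i⁻¹ * (z1 * y⁻¹) * i := by
        calc t * (i * y * i⁻¹) * t⁻¹ = (t * i * t⁻¹) * (t * y * t⁻¹) * (t * i * t⁻¹)⁻¹ := by group
          _ = i⁻¹ * (z1 * y⁻¹) * i⁻¹⁻¹ := by rw [hti, e1]
          _ = i⁻¹ * (z1 * y⁻¹) * i := by rw [inv_inv]
      have e4 : i⁻¹ * z1 = z1 * i⁻¹ := hZc z1 hz1 _ (inv_mem hi)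
      have e5 : z1 * (i⁻¹ * y⁻¹ * i) = z2 * (i * y⁻¹ * i⁻¹) := by
        rw [← e2, e3]
        calc z1 * (i⁻¹ * y⁻¹ * i) = (z1 * i⁻¹) * y⁻¹ * i := by group
          _ = i⁻¹ * (z1 * y⁻¹) * i := by rw [← e4]; group
      -- `y (i i) y⁻¹ (i i)⁻¹ = z2⁻¹ z1` up to conjugation by elements of `P`
      have e6 : y * (i * i) * y⁻¹ * (i * i)⁻¹ = y * i * (z2⁻¹ * z1) * (y * i)⁻¹ := by
        have e7 : i * y⁻¹ * i⁻¹ = z2⁻¹ * z1 * (i⁻¹ * y⁻¹ * i) := by
          rw [mul_assoc z2⁻¹ z1, e5, inv_mul_cancel_left]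
        calc y * (i * i) * y⁻¹ * (i * i)⁻¹ = y * i * (i * y⁻¹ * i⁻¹) * i⁻¹ := by group
          _ = y * i * (z2⁻¹ * z1 * (i⁻¹ * y⁻¹ * i)) * i⁻¹ := by rw [e7]
          _ = y * i * (z2⁻¹ * z1) * (y * i)⁻¹ := by group
      rw [e6]
      exact hZconj _ (hfixa _ (mul_mem hy.1 hi)) _ (mul_mem (inv_mem hz2) hz1)
    have hoi : Odd (orderOf i) := by
      have h2 : orderOf i ∣ Nat.card P := by
        have := orderOf_dvd_natCard (⟨i, hi⟩ : P)
        rwa [Subgroup.orderOf_mk] at this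
      exact Odd.of_dvd_nat hoddP h2
    obtain ⟨m, hm⟩ := hoi
    have h1 : (i * i) ^ (m + 1) = i := by
      rw [← pow_two, ← pow_mul]
      have : 2 * (m + 1) = (2 * m + 1) + 1 := by ring
      rw [this, pow_succ, ← hm, pow_orderOf_eq_one, one_mul]
    rw [← h1]
    exact pow_mem hsq _
  -- `P = X C`
  have hPXC : ∀ u ∈ P, ∃ x ∈ X p U a b, ∃ c ∈ C, u = x * c := by
    intro u hu
    obtain ⟨c, hc, k, hk, rfl, htc, htk⟩ := exists_decomp hoddP ht (fun x hx => (hPconj t hta x).1 hx) hu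
    obtain ⟨z, hz, x, hx, rfl⟩ := hCt c hc htc
    refine ⟨x, hx, z * k, mul_mem (hZC hz) (hinvC k hk htk), ?_⟩
    rw [← hZc z hz x hx.1, mul_assoc]
  have hPSC : (⁅P, S⁆ : Subgroup G) ≤ C := by
    rw [Subgroup.commutator_le]
    intro u hu s hs
    obtain ⟨x, hx, c, hc, rfl⟩ := hPXC u hu
    have h1 : s * x⁻¹ * s⁻¹ = x⁻¹ := by
      have h2 := hSX x hx s hs
      have h3 : x⁻¹ * s = s * x⁻¹ := by
        calc x⁻¹ * s = x⁻¹ * (s * x) * x⁻¹ := by group
          _ = s * x⁻¹ := by rw [← h2]; group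
      rw [← h3]; group
    have h2 : ⁅x * c, s⁆ = x * (c * (s * c⁻¹ * s⁻¹)) * x⁻¹ := by
      calc ⁅x * c, s⁆ = x * (c * (s * c⁻¹ * s⁻¹)) * (s * x⁻¹ * s⁻¹) := by
            rw [commutatorElement_def]; group
        _ = x * (c * (s * c⁻¹ * s⁻¹)) * x⁻¹ := by rw [h1]
    rw [h2]
    exact hCconj x (hfixa x hx.1) _ (mul_mem hc (hCconj s (hSa s hs) _ (inv_mem hc)))
  -- conclusion
  have hPA2 : P ≤ A2 := by
    by_contra hcon
    obtain ⟨y, hy, hyA, hyc⟩ := exists_step (isNilpotent_of_le (pP_le p _) (h.nil a)) hcon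
    apply hyA
    have hyA3 : y ∈ A3 := ⟨hy, hyc⟩
    refine ⟨hy, fun u hu => ?_⟩
    exact (mC.1 (hPSC (hgen hu))).2 y hyA3
  apply hX
  rw [eq_bot_iff_forall]
  intro x hx
  exact h.KK_inf_X hab (hA2K (hPA2 hx.1)) hx

end Tor

end KS

end Cfsg.Agent.KantorSeitz
end

-- part: KantorSeitz/EvenMain
section
/-!
# The Kantor–Seitz theorem in even degree, from the Hering–Kantor–Seitz theorem in even degree
-/

set_option autoImplicit false
set_option linter.unusedSectionVars false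
set_option linter.style.haveILetI false

namespace Cfsg.Agent.KantorSeitz

open Subgroup MulAction
open scoped commutatorElement

namespace KS

section Tor

universe v

variable {G Ω : Type v} [Group G] [Finite G] [MulAction G Ω] [Finite Ω] [FaithfulSMul G Ω]
  {U : Ω → Subgroup G} {p : ℕ} [hp : Fact p.Prime] {a b : Ω}
  {H : Type v} [Group H] [Finite H] [MulAction H (L p U a b)] [FaithfulSMul H (L p U a b)]
  {π : setStab (G := G) (L p U a b) →* H}

theorem case_tor (HKS : HKSEven.{v}) (IH : EvenHyp.{v} (Nat.card Ω)) (h : KS U)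
    (hev : Even (Nat.card Ω)) (hp2 : p ≠ 2) (hab : a ≠ b) (hX : X p U a b ≠ ⊥)
    (IH2 : ∀ W : Ω → Subgroup G, KS W → W a ≤ U a → W a ≠ U a → ∀ x ∈ W a, x • b = b → x = 1)
    (hπ : Function.Surjective π)
    (hsm : ∀ (g : setStab (G := G) (L p U a b)) (c : L p U a b), ((π g • c : L p U a b) : Ω) = g.1 • c.1)
    (hV : KS (fun c : L p U a b => ((U c.1).subgroupOf (setStab (L p U a b))).map π))
    {q : ℕ} (hq : q.Prime) (hVq : IsPGroup q (((U a).subgroupOf (setStab (L p U a b))).map π))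
    (hI : ITor (fun c : L p U a b => ((U c.1).subgroupOf (setStab (L p U a b))).map π) q
      ⟨a, h.left_mem_L a b⟩ ⟨b, right_mem_L a b⟩) : False := by
  let N : Subgroup G := setStab (L p U a b)
  have haL := h.left_mem_L (p := p) a b
  have hbL := right_mem_L (p := p) (U := U) a b
  let V : L p U a b → Subgroup H := fun c => ((U c.1).subgroupOf (setStab (L p U a b))).map π
  let a' : L p U a b := ⟨a, haL⟩
  let b' : L p U a b := ⟨b, hbL⟩
  have hab' : a' ≠ b' := fun e => hab (congrArg Subtype.val e)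
  have hin : ∀ {x : G}, x • a ∈ L p U a b → x • b ∈ L p U a b → x ∈ N := fun {x} h1 h2 =>
    mem_setStab_of (fun e he => h.smul_mem_L hab hab haL hbL h1 h2 he)
  have hDN : ∀ {x : G}, x • a = a → x • b = b → x ∈ N := fun {x} h1 h2 =>
    hin (by rw [h1]; exact haL) (by rw [h2]; exact hbL)
  have hUN : ∀ {x : G}, x ∈ U a → x • b ∈ L p U a b → x ∈ N := fun {x} h1 h2 =>
    hin (by rw [h.fix h1]; exact haL) h2
  -- regularity
  have hreg : ∀ v ∈ V a', v • b' = b' → v = 1 := by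
    rintro _ ⟨u, hu, rfl⟩ hvb
    rw [pi_eq_one_iff hsm]
    have h1 : u.1 • b = b := by
      have := hsm u b'
      rw [hvb] at this
      exact this.symm
    have h2 : u.1 ∈ X p U a b := h.mem_X_of_mem_U hab hX hab hu h1
    exact fun c hc => hc _ h2
  have hsma : ∀ {x : G} (hx : x ∈ N), x • a = a → π ⟨x, hx⟩ • a' = a' := by
    intro x hx hxa
    apply Subtype.ext
    rw [hsm]
    exact hxa
  have hsmb : ∀ {x : G} (hx : x ∈ N), x • b = b → π ⟨x, hx⟩ • b' = b' := by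
    intro x hx hxb
    apply Subtype.ext
    rw [hsm]
    exact hxb
  -- `q = p`
  obtain ⟨z, hz, hz1⟩ : ∃ z ∈ Z p U a, z ≠ 1 := by
    have h1 := Z_ne_bot (p := p) (h.nil a) (pP_ne_bot_of_X hX)
    by_contra hcon
    push Not at hcon
    exact h1 ((eq_bot_iff_forall _).2 hcon)
  have hZN : ∀ {z : G}, z ∈ Z p U a → z ∈ N := fun {z} hz => h.AL_le_setStab hab (Z_le_AL haL hz)
  have hZU : Z p U a ≤ U a := Z_le.trans (pP_le p _)
  have hord : ∀ {x : G} (hx : x ∈ N), x ∈ U a → (orderOf x).Coprime q → ∀ c ∈ L p U a b, x • c = c := by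
    intro x hx hxU hxq
    have h1 : π ⟨x, hx⟩ ∈ V a' := ⟨⟨x, hx⟩, hxU, rfl⟩
    obtain ⟨k, hk⟩ := hVq ⟨_, h1⟩
    have hk' : (π ⟨x, hx⟩) ^ q ^ k = 1 := congrArg Subtype.val hk
    have h2 := orderOf_dvd_of_pow_eq_one hk'
    have h3 : orderOf (π ⟨x, hx⟩) ∣ orderOf x := by
      have := orderOf_map_dvd π (⟨x, hx⟩ : N)
      rwa [Subgroup.orderOf_mk] at this
    have h4 : π ⟨x, hx⟩ = 1 := orderOf_eq_one_iff.1 (Nat.Coprime.eq_one_of_dvd
      (Nat.Coprime.coprime_dvd_left h3 (Nat.Coprime.pow_right k hxq)) h2)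
    rwa [pi_eq_one_iff hsm] at h4
  have hqp : q = p := by
    by_contra hne
    apply hz1
    have h1 : (orderOf z).Coprime q := by
      obtain ⟨k, hk⟩ := ((mem_pP (h.nil a)).1 (Z_le hz)).2
      refine Nat.Coprime.coprime_dvd_left (orderOf_dvd_of_pow_eq_one hk) (Nat.Coprime.pow_left k ?_)
      exact (Nat.coprime_primes hp.out hq).2 (fun e => hne e.symm)
    exact h.Z_semireg hab.symm hz (hord (hZN hz) (hZU hz) h1 b hbL)
  subst hqp
  -- `U a` is a `p`-group
  have hUP : U a ≤ pP q (U a) := by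
    intro x hx
    obtain ⟨y, hy, r, hr, rfl, -, -⟩ := exists_mul_parts (p := q) hx
    have hrX : ∀ x ∈ X q U a b, x * r = r * x := fun x hx => commute_parts (h.nil a) hx.1 hr
    have hrN : r ∈ N := by
      refine mem_setStab_of (fun e he => ?_)
      exact smul_mem_of_comm hrX he
    have h1 := hord hrN (pR_le q _ hr) ((mem_pR (h.nil a)).1 hr).2 b hbL
    rw [h.pR_semireg hab hX hab hr h1, mul_one]
    exact hy
  have hodd := h.odd_card hev a
  have hPU : pP q (U a) = U a := le_antisymm (pP_le q _) hUP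
  have hPp : IsPGroup q (pP q (U a)) := isPGroup_pP (h.nil a)
  obtain ⟨T, hTcop, hTfix, hTD, hTM, hTirr, hTnt, hTalt⟩ := hI
  change ∀ R : Subgroup H, R ≤ V a' → (∀ r ∈ R, ∀ v ∈ V a', r * v = v * r) →
      (∀ t ∈ T, ∀ r ∈ R, t * r * t⁻¹ ∈ R) → R ≠ ⊥ →
      ∀ v ∈ V a', (∀ w ∈ V a', v * w = w * v) → v ∈ R at hTirr
  change ∃ t ∈ T, ∃ v ∈ V a', (∀ w ∈ V a', v * w = w * v) ∧ t * v ≠ v * t at hTnt
  change ((∀ v ∈ V a', ∀ w ∈ V a', v * w = w * v) ∨
      ∃ t ∈ T, t ≠ 1 ∧ t * t = 1 ∧ (∀ d : H, d • a' = a' → d • b' = b' → d * t = t * d) ∧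
        ∀ v ∈ V a', t * v = v * t ↔ ∀ w ∈ V a', v * w = w * v) at hTalt
  -- lift `T`
  obtain ⟨S, hSA, mS, hST⟩ := h.exists_lift_group hab hsm hTcop
    (fun τ hτ => h.mem_image_AL hab hX hπ hsm (fun M h1 h2 => hTM M h1 h2 hτ))
  have hSN : ∀ {s : G}, s ∈ S → s ∈ N := fun {s} hs => h.AL_le_setStab hab (hSA hs)
  have hSa : ∀ s ∈ S, s • a = a := by
    intro s hs
    have h1 := ((mS s (hSN hs)).1 hs).2.1
    have h2 := hsm ⟨s, hSN hs⟩ a'
    rw [(hTfix _ h1).1] at h2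
    exact h2.symm
  have hSb : ∀ s ∈ S, s • b = b := by
    intro s hs
    have h1 := ((mS s (hSN hs)).1 hs).2.1
    have h2 := hsm ⟨s, hSN hs⟩ b'
    rw [(hTfix _ h1).2] at h2
    exact h2.symm
  have hSX : ∀ x ∈ X q U a b, ∀ s ∈ S, x * s = s * x := fun x hx s hs =>
    h.AL_comm_X hab hx (hSA hs)
  have hSD : ∀ d : G, d • a = a → d • b = b → ∀ s ∈ S, d * s * d⁻¹ ∈ S := by
    intro d hda hdb s hs
    have hdN := hDN hda hdb
    have h1 := (mS s (hSN hs)).1 hs
    have hgx : d * s * d⁻¹ ∈ N := mul_mem (mul_mem hdN (hSN hs)) (inv_mem hdN)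
    rw [mS _ hgx]
    refine ⟨h.AL_conj hdN h1.1, ?_, ?_⟩
    · have h2 : π ⟨d * s * d⁻¹, hgx⟩ = π ⟨d, hdN⟩ * π ⟨s, hSN hs⟩ * (π ⟨d, hdN⟩)⁻¹ := by
        rw [← map_mul, ← map_inv, ← map_mul]
        rfl
      rw [h2]
      exact hTD _ (hsma hdN hda) (hsmb hdN hdb) _ h1.2.1
    · have : orderOf (d * s * d⁻¹) = orderOf s := orderOf_injective (MulAut.conj d).toMonoidHom
        (MulAut.conj d).injective s
      rw [this]
      exact h1.2.2
  have hScop : (Nat.card S).Coprime q :=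
    card_coprime_of_orderOf (fun x hx => ((mS x (hSN hx)).1 hx).2.2)
  have hScopU : (Nat.card S).Coprime (Nat.card (U a)) := by
    have h1 : IsPGroup q (U a) := by rw [← hPU]; exact hPp
    obtain ⟨k, hk⟩ := IsPGroup.iff_card.1 h1
    rw [hk]
    exact Nat.Coprime.pow_right k hScop
  have hS1 : S ≠ ⊥ := by
    intro e
    obtain ⟨t, ht, v, hv, hvc, htv⟩ := hTnt
    obtain ⟨s, hs, hsS, hst⟩ := hST t ht
    rw [e, mem_bot] at hsS
    apply htv
    have h1 : t = 1 := by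
      rw [← hst, pi_eq_one_iff hsm]
      intro c _
      change s • c = c
      rw [hsS, one_smul]
    rw [h1, one_mul, mul_one]
  -- the centre of `V` is the image of `Z`
  have hcen : ∀ v ∈ V a', (∀ w ∈ V a', v * w = w * v) → ∃ z : G, ∃ hz : z ∈ N, z ∈ Z q U a ∧ π ⟨z, hz⟩ = v := by
    intro v hv hvc
    have h1 := hTirr (((Z q U a).subgroupOf N).map π) (by
      rintro _ ⟨x, hx, rfl⟩
      exact ⟨x, hZU hx, rfl⟩) (by
      rintro _ ⟨x, hx, rfl⟩ _ ⟨u, hu, rfl⟩
      rw [← map_mul, ← map_mul]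
      exact congrArg π (Subtype.ext (h.Z_comm hx hu).symm)) (by
      rintro t ht _ ⟨x, hx, rfl⟩
      obtain ⟨s, hs, hsS, rfl⟩ := hST t ht
      refine ⟨⟨s, hs⟩ * x * ⟨s, hs⟩⁻¹, ?_, by rw [map_mul, map_mul, map_inv]⟩
      have := h.conj_Z (p := q) s hx
      rw [hSa s hsS] at this
      exact this) (by
      intro e
      apply hz1
      have h2 : π ⟨z, hZN hz⟩ ∈ ((Z q U a).subgroupOf N).map π := ⟨⟨z, hZN hz⟩, hz, rfl⟩
      rw [e, mem_bot, pi_eq_one_iff hsm] at h2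
      exact h.Z_semireg hab.symm hz (h2 b hbL)) v hv hvc
    obtain ⟨x, hx, rfl⟩ := h1
    exact ⟨x.1, x.2, hx, rfl⟩
  -- fixed points of `T` on `V`
  have hstar : ∀ v ∈ V a', (∀ t ∈ T, t * v = v * t) → v = 1 := by
    intro v hv hvT
    have hvc : ∀ w ∈ V a', v * w = w * v := by
      rcases hTalt with hab | ⟨t, ht, -, -, -, htv⟩
      · exact hab v hv
      · exact (htv v hv).1 (hvT t ht)
    by_contra hv1
    obtain ⟨t0, ht0, v0, hv0, hv0c, htv0⟩ := hTnt
    apply htv0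
    have h1 := hTirr (V a' ⊓ centralizer ((V a' : Set H) ∪ (T : Set H))) inf_le_left (by
      rintro r ⟨-, hr⟩ w hw
      exact (mem_centralizer_iff.1 hr w (Or.inl hw)).symm) (by
      rintro t ht r ⟨hr, hr'⟩
      have h2 := mem_centralizer_iff.1 hr' t (Or.inr ht)
      have h3 : t * r * t⁻¹ = r := by rw [h2]; group
      rw [h3]
      exact ⟨hr, hr'⟩) (by
      intro e
      have h2 : v ∈ V a' ⊓ centralizer ((V a' : Set H) ∪ (T : Set H)) := by
        refine ⟨hv, mem_centralizer_iff.2 ?_⟩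
        rintro w (hw | hw)
        · exact (hvc w hw).symm
        · exact hvT w hw
      rw [e, mem_bot] at h2
      exact hv1 h2) v0 hv0 hv0c
    exact mem_centralizer_iff.1 h1.2 t0 (Or.inr ht0)
  have hVconj : ∀ t : H, t • a' = a' → ∀ v ∈ V a', t * v * t⁻¹ ∈ V a' := by
    intro t ht v hv
    have := hV.conj t (a := a') hv
    rw [ht] at this
    exact this
  -- fixed points of `S`
  have hFS : ∀ c : Ω, (∀ s ∈ S, s • c = c) → c = a ∨ c = b := by
    intro c hc
    have hcL := h.lemmaI (p := q) IH hev hab hS1 hSa hSb hSX hScopU hc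
    by_cases hca : c = a
    · exact Or.inl hca
    · right
      obtain ⟨v, hv, hvb⟩ := hV.trans (a := a') (b := b') (c := ⟨c, hcL⟩) hab'.symm
        (fun e => hca (congrArg Subtype.val e))
      have hv1 : v = 1 := by
        apply hstar v hv
        intro t ht
        obtain ⟨s, hs, hsS, rfl⟩ := hST t ht
        have h1 : π ⟨s, hs⟩ • (⟨c, hcL⟩ : L q U a b) = ⟨c, hcL⟩ := by
          apply Subtype.ext
          rw [hsm]
          exact hc s hsS
        set t := π ⟨s, hs⟩ with ht'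
        have hta := (hTfix t ht).1
        have htb := (hTfix t ht).2
        have htb' : t⁻¹ • b' = b' := by rw [inv_smul_eq_iff]; exact htb.symm
        have h2 : v⁻¹ * (t * v * t⁻¹) = 1 := by
          refine hreg _ (mul_mem (inv_mem hv) (hVconj t hta v hv)) ?_
          rw [mul_smul, mul_smul, mul_smul, htb', hvb, h1, ← hvb, inv_smul_smul]
        have h3 : t * v * t⁻¹ = v := by
          rw [inv_mul_eq_one] at h2
          exact h2.symm
        calc t * v = (t * v * t⁻¹) * t := by group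
          _ = v * t := by rw [h3]
      rw [hv1, one_smul] at hvb
      exact (congrArg Subtype.val hvb).symm
  have hCS : ∀ x ∈ U a, (∀ s ∈ S, s * x = x * s) → x ∈ X q U a b := by
    intro x hx hxs
    refine h.mem_X_of_mem_U hab hX hab hx ?_
    have h1 : x • b = a ∨ x • b = b := by
      apply hFS
      intro s hs
      rw [← mul_smul, hxs s hs, mul_smul, hSb s hs]
    rcases h1 with h1 | h1
    · exfalso
      have h2 : x • b = x • a := by rw [h1, h.fix hx]
      exact hab (MulAction.injective x h2).symm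
    · exact h1
  -- `[P, S]`
  set P : Subgroup G := pP q (U a) with hP
  have hSP : S ≤ normalizer (P : Set G) := by
    intro s hs
    rw [mem_normalizer_iff]
    intro x
    constructor
    · exact h.conj_pP_of_fix (hSa s hs)
    · intro hx
      have hsi : s⁻¹ • a = a := by rw [inv_smul_eq_iff, hSa s hs]
      have h1 := h.conj_pP_of_fix hsi hx
      have h2 : s⁻¹ * (s * x * s⁻¹) * s⁻¹⁻¹ = x := by group
      rwa [h2] at h1
  have hN0P : (⁅P, S⁆ : Subgroup G) ≤ P := Cfsg.Agent.Lib.CoprimeCommutator.commutator_le_left hSP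
  have hdec : ∀ x ∈ P, ∃ n ∈ (⁅P, S⁆ : Subgroup G), ∃ y ∈ X q U a b, x = n * y := by
    intro x hx
    have hcopP : (Nat.card S).Coprime (Nat.card P) := by rw [hPU]; exact hScopU
    have hsolv : Group.IsSolvable P := by
      have := hPp.isNilpotent
      infer_instance
    obtain ⟨n, hn, y, hy, hys, rfl⟩ := exists_commutator_mul hSP hcopP hsolv hx
    exact ⟨n, hn, y, hCS y (pP_le q _ hy) hys, rfl⟩
  have hN0inv : ∀ g : G, g • a = a → ∀ x ∈ (⁅P, S⁆ : Subgroup G), g * x * g⁻¹ ∈ (⁅P, S⁆ : Subgroup G) := by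
    intro g hg x hx
    -- `g = u d`
    have hgb : g • b ≠ a := by
      intro e
      have h2 : g • b = g • a := by rw [e, hg]
      exact hab (MulAction.injective g h2).symm
    obtain ⟨u, hu, hub⟩ := h.trans hab.symm hgb
    have hd1 : (u⁻¹ * g) • a = a := by
      rw [mul_smul, hg, inv_smul_eq_iff, h.fix hu]
    have hd2 : (u⁻¹ * g) • b = b := by rw [mul_smul, ← hub, inv_smul_smul]
    set d := u⁻¹ * g with hd
    have h1 : d * x * d⁻¹ ∈ (⁅P, S⁆ : Subgroup G) := by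
      have h2 : (⁅P, S⁆ : Subgroup G) ≤ (⁅P, S⁆ : Subgroup G).comap (MulAut.conj d).toMonoidHom := by
        conv_lhs => rw [Subgroup.commutator_def]
        rw [closure_le]
        rintro _ ⟨y, hy, s, hs, rfl⟩
        change d * ⁅y, s⁆ * d⁻¹ ∈ (⁅P, S⁆ : Subgroup G)
        have h3 : d * ⁅y, s⁆ * d⁻¹ = ⁅d * y * d⁻¹, d * s * d⁻¹⁆ := by
          rw [commutatorElement_def, commutatorElement_def]; group
        rw [h3]
        exact Subgroup.commutator_mem_commutator (h.conj_pP_of_fix hd1 hy) (hSD d hd1 hd2 s hs)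
      exact h2 hx
    have h4 := (mem_normalizer_iff.1
      (Cfsg.Agent.Lib.CoprimeCommutator.left_le_normalizer_commutator P S (hUP hu)) _).1 h1
    have h5 : u * (d * x * d⁻¹) * u⁻¹ = g * x * g⁻¹ := by rw [hd]; group
    rwa [h5] at h4
  have hN0tr : ∀ c : Ω, c ≠ a → ∃ n ∈ (⁅P, S⁆ : Subgroup G), n • b = c := by
    intro c hc
    obtain ⟨u, hu, hub⟩ := h.trans hab.symm hc
    obtain ⟨n, hn, y, hy, rfl⟩ := hdec u (hUP hu)
    refine ⟨n, hn, ?_⟩
    rw [mul_smul, (mem_X.1 hy).2] at hub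
    exact hub
  have hgen : P ≤ ⁅P, S⁆ := by
    by_contra hcon
    have hne : (⁅P, S⁆ : Subgroup G) ≠ U a := by
      intro e
      apply hcon
      rw [e]
      exact pP_le q _
    have hKW : KS (KantorSeitz.ofBase (⁅P, S⁆ : Subgroup G) a) := h.ofBase (hN0P.trans (pP_le q _)) hN0inv (by
      intro c d hc hd
      obtain ⟨n, hn, hnc⟩ := hN0tr c hc
      obtain ⟨m, hm, hmd⟩ := hN0tr d hd
      exact ⟨m * n⁻¹, mul_mem hm (inv_mem hn), by rw [mul_smul, ← hnc, inv_smul_smul, hmd]⟩)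
    have hWa := ofBase_self (Ω := Ω) hN0inv
    have hregb := IH2 _ hKW (by rw [hWa]; exact hN0P.trans (pP_le q _)) (by rw [hWa]; exact hne)
    rw [hWa] at hregb
    have hregall : ∀ c d : Ω, c ≠ d → ∀ x ∈ KantorSeitz.ofBase (⁅P, S⁆ : Subgroup G) a c, x • d = d → x = 1 := by
      intro c d hcd x hx hxd
      obtain ⟨g, rfl, rfl⟩ := h.two hab hcd
      have h1 := (mem_ofBase hN0inv rfl).1 hx
      have h2 := hregb _ h1 (by rw [mul_smul, mul_smul, hxd, inv_smul_smul])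
      have h3 : x = g * (g⁻¹ * x * g) * g⁻¹ := by group
      rw [h3, h2]
      group
    rcases HKS G Ω _ hKW hregall hev a b hab with hA | ⟨q', hq', hpq', hcore, -⟩
    · obtain ⟨E, hEn, hEsq, hEt⟩ := hA
      have hEc : ∀ x ∈ E, ∀ y ∈ E, x * y = y * x := by
        intro x hx y hy
        have h1 := hEsq _ (mul_mem hx hy)
        have hx1 : x⁻¹ = x := inv_eq_of_mul_eq_one_left (hEsq x hx)
        have hy1 : y⁻¹ = y := inv_eq_of_mul_eq_one_left (hEsq y hy)
        have h2 : x * y = (x * y)⁻¹ := eq_inv_of_mul_eq_one_left h1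
        rw [h2, mul_inv_rev, hx1, hy1]
      apply hX
      rw [eq_bot_iff_forall]
      intro x hx
      exact h.affine_odd hEn hEc hEt hab hodd x (pP_le q _ (mem_X.1 hx).1) (mem_X.1 hx).2
    · rw [hWa] at hpq'
      -- `q' = q`
      have hzb : z • b ≠ a := by
        intro e
        have h2 : z • b = z • a := by rw [e, h.Z_fix hz]
        exact hab (MulAction.injective z h2).symm
      obtain ⟨n, hn, hnb⟩ := hN0tr _ hzb
      have hn1 : n ≠ 1 := by
        rintro rfl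
        rw [one_smul] at hnb
        exact hz1 (h.Z_semireg hab.symm hz hnb.symm)
      have hqq : q' = q := by
        by_contra hne'
        apply hn1
        obtain ⟨k, hk⟩ := hpq' ⟨n, hn⟩
        obtain ⟨l, hl⟩ := hPp ⟨n, hN0P hn⟩
        have hk' := orderOf_dvd_of_pow_eq_one (congrArg Subtype.val hk : n ^ q' ^ k = 1)
        have hl' := orderOf_dvd_of_pow_eq_one (congrArg Subtype.val hl : n ^ q ^ l = 1)
        have h3 : (q' ^ k).Coprime (q ^ l) :=
          Nat.Coprime.pow _ _ ((Nat.coprime_primes hq' hq).2 hne')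
        exact orderOf_eq_one_iff.1 (Nat.Coprime.eq_one_of_dvd (Nat.Coprime.coprime_dvd_left hk' h3) hl')
      rw [hqq] at hcore
      apply hX
      refine hcore (X q U a b) (h.isPGroup_X a b) (fun r hr => ⟨h.fix (pP_le q _ hr.1), hr.2⟩) ?_
      intro d hda hdb r hr
      have := h.conj_X (p := q) d hr
      rwa [hda, hdb] at this
  -- `X ≤ [P, P]`
  have hXP : ∀ c, c ≠ a → X q U a c ≤ ⁅P, P⁆ := by
    have h1 : X q U a b ≤ ⁅P, P⁆ := fun x hx =>
      mem_commutator_of_fixed hPp hScop hSP hgen hx.1 (fun s hs => (hSX x hx s hs).symm)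
    intro c hc x hx
    obtain ⟨n, hn, hnb⟩ := hN0tr c hc
    have hnP := hN0P hn
    have hna : n • a = a := h.fix (pP_le q _ hnP)
    have h2 : n⁻¹ * x * n ∈ X q U a b := by
      have := h.conj_X (p := q) n⁻¹ hx
      have hna' : n⁻¹ • a = a := by rw [inv_smul_eq_iff, hna]
      rwa [hna', ← hnb, inv_smul_smul, inv_inv] at this
    have h3 : P ≤ normalizer ((⁅P, P⁆ : Subgroup G) : Set G) :=
      Cfsg.Agent.Lib.CoprimeCommutator.left_le_normalizer_commutator P P
    have h4 := (mem_normalizer_iff.1 (h3 hnP) _).1 (h1 h2)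
    have h5 : n * (n⁻¹ * x * n) * n⁻¹ = x := by group
    rwa [h5] at h4
  have hZP : Z q U a ≤ P := Z_le
  rcases hTalt with hVab | ⟨t, ht, ht1, htt, htc, htv⟩
  · -- `PSL(2,q)`-lines
    have hKZ : KK q U a ≤ Z q U a := by
      intro y hy
      have hyP := (mem_KK.1 hy).1
      have hyU := pP_le q _ hyP
      have hyN : y ∈ N := hUN hyU (KK_smul_mem hy)
      have hyV : π ⟨y, hyN⟩ ∈ V a' := ⟨⟨y, hyN⟩, hyU, rfl⟩
      obtain ⟨w, hwN, hw, hwy⟩ := hcen _ hyV (hVab _ hyV)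
      rw [pi_eq_iff hsm] at hwy
      have hwb : w • b = y • b := hwy b hbL
      have h1 : w⁻¹ * y ∈ X q U a b := mem_X.2 ⟨mul_mem (inv_mem (hZP hw)) hyP, by
        rw [mul_smul, ← hwb, inv_smul_smul]⟩
      have h2 : w ∈ KK q U a := KK_of_comm (hZP hw) (fun c _ x hx => (mem_Z.1 hw).2 x hx.1) h
      have h3 := h.KK_inf_X hab (mul_mem (inv_mem h2) hy) h1
      rw [inv_mul_eq_one] at h3
      rw [← h3]
      exact hw
    have hPZ : P ≤ Z q U a := by
      by_contra hcon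
      obtain ⟨y, hy, hyZ, hyc⟩ := exists_step (isNilpotent_of_le (pP_le q _) (h.nil a)) hcon
      exact hyZ (hKZ (h.second_centre_le hab hXP hy hyc))
    apply hX
    rw [eq_bot_iff_forall]
    intro x hx
    exact h.Z_semireg hab.symm (hPZ hx.1) hx.2
  · -- `PSU(3,q)`-lines
    obtain ⟨s0, hs0N, hs0S, hs0t⟩ := hST t ht
    have hs0A := hSA hs0S
    have hs0o := ((mS s0 hs0N).1 hs0S).2.2
    have hs0s0 : s0 * s0 = 1 := by
      have h1 : π (⟨s0, hs0N⟩ * ⟨s0, hs0N⟩) = 1 := by rw [map_mul, hs0t, htt]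
      rw [pi_eq_one_iff hsm] at h1
      refine h.eq_one_of_fix_line hab (p := q) h1 (fun y hy => h.AL_comm_X hab hy (mul_mem hs0A hs0A)) ?_
      have h3 : orderOf (s0 * s0) ∣ orderOf s0 := by
        rw [← pow_two]
        exact orderOf_pow_dvd 2
      exact Nat.Coprime.coprime_dvd_left h3 hs0o
    have hs01 : s0 ≠ 1 := by
      intro e
      apply ht1
      rw [← hs0t, pi_eq_one_iff hsm]
      intro c _
      change s0 • c = c
      rw [e, one_smul]
    -- fixed points of `s0` lie on the line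
    have hF : ∀ c : Ω, s0 • c = c → c ∈ L q U a b := by
      intro c hc
      have hst : ∀ d : Ω, s0 • d = d → ∀ u ∈ zpowers s0, u • d = d := by
        intro d hd u hu
        have h1 : s0 ∈ stabilizer G d := hd
        have h2 : zpowers s0 ≤ stabilizer G d := by rwa [zpowers_le]
        exact h2 hu
      refine h.lemmaI (p := q) IH hev hab (Y := zpowers s0) ?_ (hst a (hSa s0 hs0S))
        (hst b (hSb s0 hs0S)) ?_ ?_ (hst c hc)
      · intro e
        apply hs01
        have := mem_zpowers s0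
        rwa [e, mem_bot] at this
      · intro u hu v hv
        have h1 : zpowers s0 ≤ AL q U a b := by rwa [zpowers_le]
        exact h.AL_comm_X hab hu (h1 hv)
      · rw [Nat.card_zpowers]
        have h2 : orderOf s0 ∣ 2 := orderOf_dvd_of_pow_eq_one (by rw [pow_two, hs0s0])
        exact Nat.Coprime.coprime_dvd_left h2 (Nat.coprime_two_left.2 hodd)
    have hCt : ∀ y ∈ P, s0 * y = y * s0 → ∃ w ∈ Z q U a, ∃ x ∈ X q U a b, y = w * x := by
      intro y hy hys
      have hyU := pP_le q _ hy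
      have hyb : y • b ∈ L q U a b := by
        apply hF
        rw [← mul_smul, hys, mul_smul, hSb s0 hs0S]
      have hyN : y ∈ N := hUN hyU hyb
      have hyV : π ⟨y, hyN⟩ ∈ V a' := ⟨⟨y, hyN⟩, hyU, rfl⟩
      have hyt : t * π ⟨y, hyN⟩ = π ⟨y, hyN⟩ * t := by
        rw [← hs0t, ← map_mul, ← map_mul]
        exact congrArg π (Subtype.ext hys)
      obtain ⟨w, hwN, hw, hwy⟩ := hcen _ hyV ((htv _ hyV).1 hyt)
      rw [pi_eq_iff hsm] at hwy
      have hwb : w • b = y • b := hwy b hbL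
      refine ⟨w, hw, w⁻¹ * y, mem_X.2 ⟨mul_mem (inv_mem (hZP hw)) hy, by
        rw [mul_smul, ← hwb, inv_smul_smul]⟩, by group⟩
    exact h.unitary_end hab hX hodd (fun c hc => by
      obtain ⟨n, hn, hnb⟩ := hN0tr c hc
      exact ⟨n, hN0P hn, hnb⟩) hSa hSX hgen hXP hs0s0 (hSa s0 hs0S) hCt

/-- the inductive step -/
theorem even_step (HKS : HKSEven.{v}) (IH : EvenHyp.{v} (Nat.card Ω)) (h : KS U)
    (hev : Even (Nat.card Ω)) (hab : a ≠ b)
    (IH2 : ∀ W : Ω → Subgroup G, KS W → W a ≤ U a → W a ≠ U a → ∀ x ∈ W a, x • b = b → x = 1) :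
    ∀ x ∈ U a, x • b = b → x = 1 := by
  intro x hx hxb
  by_contra hx1
  obtain ⟨p, hp, hX⟩ := exists_X_ne_bot hx hxb hx1
  haveI : Fact p.Prime := ⟨hp⟩
  have hodd := h.odd_card hev a
  have hp2 : p ≠ 2 := by
    rintro rfl
    apply hX
    rw [eq_bot_iff_forall]
    intro y hy
    obtain ⟨k, hk⟩ := ((mem_pP (h.nil a)).1 hy.1).2
    have h1 := orderOf_dvd_of_pow_eq_one hk
    have h2 : orderOf y ∣ Nat.card (U a) := by
      have := orderOf_dvd_natCard (⟨y, pP_le 2 _ hy.1⟩ : U a)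
      rwa [Subgroup.orderOf_mk] at this
    have h3 : (orderOf y).Coprime (2 ^ k) := by
      refine Nat.Coprime.pow_right k ?_
      exact Nat.coprime_two_right.2 (Odd.of_dvd_nat hodd h2)
    exact orderOf_eq_one_iff.1 (Nat.Coprime.eq_one_of_dvd h3 h1)
  obtain ⟨H, i1, i2, i3, i4, π, hπ, hsm, hV⟩ := h.exists_line_group (p := p) hab (pP_ne_bot_of_X hX)
  let Λ : Type v := L p U a b
  let a' : L p U a b := ⟨a, h.left_mem_L a b⟩
  let b' : L p U a b := ⟨b, right_mem_L a b⟩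
  have hab' : a' ≠ b' := fun e => hab (congrArg Subtype.val e)
  -- regularity
  have hreg : ∀ c d : L p U a b, c ≠ d →
      ∀ v ∈ ((U c.1).subgroupOf (setStab (L p U a b))).map π, v • d = d → v = 1 := by
    rintro c d hcd _ ⟨u, hu, rfl⟩ hvb
    rw [pi_eq_one_iff hsm]
    have hcd' : c.1 ≠ d.1 := fun e => hcd (Subtype.ext e)
    have h1 : u.1 • d.1 = d.1 := by
      have := hsm u d
      rw [hvb] at this
      exact this.symm
    have h2 : u.1 ∈ X p U c.1 d.1 := h.mem_X_of_mem_U hab hX hcd' hu h1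
    rw [h.X_eq hab c.2 d.2 hcd'] at h2
    exact fun e he => he _ h2
  have hevL : Even (Nat.card (L p U a b)) := by
    refine hV.even_of_odd hab' ?_
    have h1 : Nat.card (((U a).subgroupOf (setStab (L p U a b))).map π) ∣
        Nat.card ((U a).subgroupOf (setStab (L p U a b))) :=
      Subgroup.card_dvd_of_surjective (π.subgroupMap _) (π.subgroupMap_surjective _)
    refine Odd.of_dvd_nat hodd (h1.trans ?_)
    have : Nat.card ((U a).subgroupOf (setStab (L p U a b))) =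
        Nat.card ((U a ⊓ (setStab (L p U a b)) : Subgroup G)) := by
      refine Nat.card_congr ⟨fun x => ⟨x.1.1, x.2, x.1.2⟩, fun x => ⟨⟨x.1, x.2.2⟩, x.2.1⟩,
        fun _ => rfl, fun _ => rfl⟩
    rw [this]
    exact Subgroup.card_dvd_of_le inf_le_left
  rcases HKS H (L p U a b) _ hV hreg hevL a' b' hab' with hA | ⟨q, hq, hpq, -, hT | hR⟩
  · obtain ⟨E₀, hE₀⟩ := h.case_aff hp2 hab hX hπ hsm hA
    obtain ⟨E, hEn, hEsq, hEt⟩ := h.affine_of_affine_lines hp2 hab hX hE₀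
    have hEc : ∀ x ∈ E, ∀ y ∈ E, x * y = y * x := by
      intro x hx y hy
      have h1 := hEsq _ (mul_mem hx hy)
      have hx1 : x⁻¹ = x := inv_eq_of_mul_eq_one_left (hEsq x hx)
      have hy1 : y⁻¹ = y := inv_eq_of_mul_eq_one_left (hEsq y hy)
      have h2 : x * y = (x * y)⁻¹ := eq_inv_of_mul_eq_one_left h1
      rw [h2, mul_inv_rev, hx1, hy1]
    exact hx1 (h.affine_odd hEn hEc hEt hab hodd x hx hxb)
  · exact h.case_tor HKS IH hev hp2 hab hX IH2 hπ hsm hV hq hpq hT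
  · exact h.case_ree hp2 IH hev hab hX hπ hsm hevL hR

end Tor

end KS

end Cfsg.Agent.KantorSeitz
end

-- part: KantorSeitz/Even
section
/-!
# The Kantor–Seitz theorem in even degree: the induction
-/

set_option autoImplicit false
set_option linter.unusedSectionVars false
set_option linter.style.haveILetI false

namespace Cfsg.Agent.KantorSeitz

open Subgroup MulAction

universe v

theorem even_faithful (HKS : HKSEven.{v}) {G Ω : Type v} [Group G] [Finite G] [MulAction G Ω]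
    [Finite Ω] [FaithfulSMul G Ω] (IH : EvenHyp.{v} (Nat.card Ω)) (hev : Even (Nat.card Ω)) :
    ∀ (m : ℕ) (U : Ω → Subgroup G), KS U → ∀ a b : Ω, a ≠ b → Nat.card (U a) < m →
      ∀ x ∈ U a, x • b = b → x = 1 := by
  intro m
  induction m with
  | zero => intro U _ a b _ h; exact absurd h (Nat.not_lt_zero _)
  | succ m ih =>
    intro U h a b hab hcard
    refine h.even_step HKS IH hev hab ?_
    intro W hW hWU hne
    refine ih W hW a b hab ?_
    have h1 : Nat.card (W a) < Nat.card (U a) := by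
      refine lt_of_le_of_ne (Subgroup.card_le_of_le hWU) ?_
      intro e
      exact hne (Subgroup.eq_of_le_of_card_ge hWU e.ge)
    omega

/-- The Kantor–Seitz theorem in even degree. -/
theorem evenHyp_of_HKSEven (HKS : HKSEven.{v}) (n : ℕ) : EvenHyp.{v} n := by
  induction n with
  | zero => intro G Ω _ _ _ _ U _ _ h; exact absurd h (Nat.not_lt_zero _)
  | succ n ih =>
    intro G Ω _ _ _ _ U h hev hcard a b hab x hx hxb
    rcases Nat.lt_succ_iff_lt_or_eq.1 hcard with hlt | heq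
    · exact ih G Ω U h hev hlt a b hab x hx hxb
    · let f := MulAction.toPermHom G Ω
      have hKS := h.map_of_surj f.rangeRestrict f.rangeRestrict_surjective (fun g c => rfl)
      have h1 := even_faithful HKS (G := f.range) (Ω := Ω) (by rw [heq]; exact ih) hev _ _ hKS a b hab
        (Nat.lt_succ_self _) (f.rangeRestrict x) ⟨x, hx, rfl⟩ hxb
      intro c
      have h2 : f.rangeRestrict x • c = c := by rw [h1, one_smul]
      exact h2

/-- The Kantor–Seitz theorem in even degree. -/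
theorem KS.even_regular (HKS : HKSEven.{v}) {G Ω : Type v} [Group G] [Finite G] [MulAction G Ω]
    [Finite Ω] [FaithfulSMul G Ω] {U : Ω → Subgroup G} (h : KS U) (hev : Even (Nat.card Ω))
    {a b : Ω} (hab : a ≠ b) : ∀ x ∈ U a, x • b = b → x = 1 := fun x hx hxb =>
  KS.eq_one_of_fix (Ω := Ω) (evenHyp_of_HKSEven HKS _ G Ω U h hev (Nat.lt_succ_self _) a b hab x hx hxb)

end Cfsg.Agent.KantorSeitz
end

-- part: KantorSeitz/Assembly
section
/-!
# S1145 from the permutation-theoretic form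
-/

set_option autoImplicit false
set_option linter.unusedSectionVars false
set_option linter.style.haveILetI false

namespace Cfsg.Agent.KantorSeitz

open Subgroup MulAction

/-- an invariant nilpotent subgroup of a point stabiliser, transitive on the other points, gives a family -/
theorem KS_of_base {G Ω : Type*} [Group G] [MulAction G Ω] {a : Ω} {N : Subgroup G}
    (hfix : ∀ x ∈ N, x • a = a) (hinv : ∀ g : G, g • a = a → ∀ x ∈ N, g * x * g⁻¹ ∈ N)
    (htr : ∀ b c : Ω, b ≠ a → c ≠ a → ∃ x ∈ N, x • b = c) (hnil : Group.IsNilpotent N)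
    (ht : ∀ c : Ω, ∃ g : G, g • a = c) : KS (ofBase N a) where
  fix := by
    intro c x hx
    obtain ⟨g, rfl⟩ := ht c
    have h1 := hfix _ (hx g rfl)
    rw [mul_smul, mul_smul, inv_smul_eq_iff] at h1
    exact h1
  conj := by
    intro g c x hx k hk
    have h1 := hx (g⁻¹ * k) (by rw [mul_smul, hk, inv_smul_smul])
    have h2 : (g⁻¹ * k)⁻¹ * x * (g⁻¹ * k) = k⁻¹ * (g * x * g⁻¹) * k := by group
    rwa [h2] at h1
  trans := by
    intro c d e hd he
    obtain ⟨g, rfl⟩ := ht c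
    obtain ⟨x, hx, hxd⟩ := htr (g⁻¹ • d) (g⁻¹ • e) (by rw [Ne, inv_smul_eq_iff]; exact hd)
      (by rw [Ne, inv_smul_eq_iff]; exact he)
    refine ⟨g * x * g⁻¹, ?_, ?_⟩
    · rw [mem_ofBase hinv rfl]
      have h3 : g⁻¹ * (g * x * g⁻¹) * g = x := by group
      rwa [h3]
    · rw [mul_smul, mul_smul, hxd, smul_inv_smul]
  nil := by
    intro c
    obtain ⟨g, rfl⟩ := ht c
    have := hnil
    let f : ofBase N a (g • a) →* N :=
      { toFun := fun x => ⟨g⁻¹ * x.1 * g, x.2 g rfl⟩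
        map_one' := Subtype.ext (by change g⁻¹ * 1 * g = 1; group)
        map_mul' := fun x y => Subtype.ext (by
          change g⁻¹ * (x.1 * y.1) * g = (g⁻¹ * x.1 * g) * (g⁻¹ * y.1 * g)
          group) }
    have hf : Function.Injective f := by
      intro x y hxy
      have h1 : g⁻¹ * x.1 * g = g⁻¹ * y.1 * g := congrArg Subtype.val hxy
      exact Subtype.ext (mul_left_cancel (mul_right_cancel h1))
    exact Subgroup.isNilpotent_of_ker_le_center f (by
      rw [(MonoidHom.ker_eq_bot_iff f).2 hf]; exact bot_le)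
  tr := by
    intro c d
    obtain ⟨g, rfl⟩ := ht c
    obtain ⟨k, rfl⟩ := ht d
    exact ⟨k * g⁻¹, by rw [mul_smul, inv_smul_smul]⟩

/-- the conclusion for all split groups of odd degree -/
def OddConcl.{v} : Prop :=
  ∀ (G Ω : Type v) [Group G] [Finite G] [MulAction G Ω] [Finite Ω] [FaithfulSMul G Ω]
    (U : Ω → Subgroup G), KS U → Odd (Nat.card Ω) → ∀ a b : Ω, a ≠ b → Concl U a b

/-- S1145 from `HKSEven` and the odd degree case -/
theorem s1145_of.{v} (HKS : HKSEven.{v}) (hOdd : OddConcl.{v}) {G : Type v} [Group G] [Finite G]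
    (P : Cfsg.BNPair G) (h1 : P.rank = 1) (hcore : P.B.normalCore = ⊥) (U : Subgroup G)
    (hUB : U ≤ P.B) (hUn : ∀ b ∈ P.B, ∀ u ∈ U, b * u * b⁻¹ ∈ U)
    (hUnil : Group.IsNilpotent U) (hsplit : U ⊔ (P.B ⊓ P.N) = P.B) :
    ∃ U₀ : Subgroup G, U₀ ≤ U ∧ (∀ b ∈ P.B, ∀ u ∈ U₀, b * u * b⁻¹ ∈ U₀) ∧
      U₀ ⊔ (P.B ⊓ P.N) = P.B ∧ U₀ ⊓ (P.B ⊓ P.N) = ⊥ := by
  obtain ⟨s, hS⟩ := Cfsg.Agent.StrongEmb.SplitBN.exists_S_eq_singleton P h1
  have hsS : s ∈ P.S := by rw [hS]; rfl
  have hsB : s ∉ P.B := Cfsg.Agent.LieExceptional.BNPairCore.not_mem_B hsS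
  have hUn' : (U.subgroupOf P.B).Normal := by
    rw [Subgroup.normal_subgroupOf_iff hUB]
    intro u b hu hb
    exact hUn b hb u hu
  let a : G ⧸ P.B := ((1 : G) : G ⧸ P.B)
  let b : G ⧸ P.B := (s : G ⧸ P.B)
  have hmk : ∀ g : G, g • a = (g : G ⧸ P.B) := by
    intro g
    change ((g * 1 : G) : G ⧸ P.B) = g
    rw [mul_one]
  have hsta : ∀ g : G, g • a = a ↔ g ∈ P.B := by
    intro g
    rw [hmk]
    change ((g : G ⧸ P.B) = ((1 : G) : G ⧸ P.B)) ↔ _
    rw [QuotientGroup.eq, mul_one, inv_mem_iff]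
  have hab : a ≠ b := by
    intro e
    apply hsB
    rw [← hsta, hmk]
    exact e.symm
  haveI : FaithfulSMul G (G ⧸ P.B) := ⟨by
    intro x y hxy
    have h2 : x⁻¹ * y ∈ P.B.normalCore := by
      rw [Subgroup.normalCore_eq_ker, MonoidHom.mem_ker]
      ext c
      change (x⁻¹ * y) • c = c
      rw [mul_smul, ← hxy c, inv_smul_smul]
    rw [hcore, mem_bot, inv_mul_eq_one] at h2
    exact h2⟩
  have hinv : ∀ g : G, g • a = a → ∀ x ∈ U, g * x * g⁻¹ ∈ U := fun g hg x hx =>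
    hUn g ((hsta g).1 hg) x hx
  have hUb : ∀ c : G ⧸ P.B, c ≠ a → ∃ u ∈ U, u • b = c := by
    intro c hc
    obtain ⟨g, rfl⟩ := QuotientGroup.mk_surjective c
    have hg : g ∉ P.B := fun e => hc (by rw [← hmk]; exact (hsta g).2 e)
    obtain ⟨u, hu, y, hy, rfl⟩ := Cfsg.Agent.StrongEmb.SplitBN.exists_eq_mul P hS hUB hUn' hsplit hg
    refine ⟨u, hu, ?_⟩
    change ((u * s : G) : G ⧸ P.B) = ((u * s * y : G) : G ⧸ P.B)
    rw [QuotientGroup.eq]
    have h2 : (u * s)⁻¹ * (u * s * y) = y := by group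
    rwa [h2]
  have hKS : KS (ofBase U a) := by
    refine KS_of_base (fun x hx => (hsta x).2 (hUB hx)) hinv ?_ hUnil ?_
    · intro c d hc hd
      obtain ⟨u, hu, rfl⟩ := hUb c hc
      obtain ⟨v, hv, rfl⟩ := hUb d hd
      exact ⟨v * u⁻¹, mul_mem hv (inv_mem hu), by rw [mul_smul, inv_smul_smul]⟩
    · intro c
      obtain ⟨g, rfl⟩ := QuotientGroup.mk_surjective c
      exact ⟨g, hmk g⟩
  have hUa : ofBase U a a = U := ofBase_self hinv
  have hHb : ∀ t ∈ P.B ⊓ P.N, t • b = b := by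
    intro t ht
    change ((t * s : G) : G ⧸ P.B) = ((s : G) : G ⧸ P.B)
    rw [QuotientGroup.eq]
    have h2 : (t * s)⁻¹ * s = s⁻¹ * t⁻¹ * s := by group
    rw [h2]
    exact Cfsg.Agent.LieExceptional.BNPairCore.conj_mem_inv
      (Cfsg.Agent.LieExceptional.BNPairCore.mem_N hsS) (inv_mem ht.1) (inv_mem ht.2)
  have hC : Concl (ofBase U a) a b := by
    rcases Nat.even_or_odd (Nat.card (G ⧸ P.B)) with hev | hodd
    · exact Or.inl (hKS.even_regular HKS hev hab)
    · exact hOdd G (G ⧸ P.B) _ hKS hodd a b hab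
  unfold Concl at hC
  rw [hUa] at hC
  have hUH : (∀ x ∈ U ⊓ (P.B ⊓ P.N), x = 1) → ∃ U₀ : Subgroup G, U₀ ≤ U ∧
      (∀ b ∈ P.B, ∀ u ∈ U₀, b * u * b⁻¹ ∈ U₀) ∧
      U₀ ⊔ (P.B ⊓ P.N) = P.B ∧ U₀ ⊓ (P.B ⊓ P.N) = ⊥ := fun h =>
    ⟨U, le_rfl, hUn, hsplit, (eq_bot_iff_forall _).2 h⟩
  rcases hC with hreg | ⟨⟨x₀, hx₀⟩, V, hVU, hVinv, hVreg, hVdec⟩
  · exact hUH (fun x hx => hreg x hx.1 (hHb x hx.2))
  · by_cases hex : ∃ x ∈ U ⊓ (P.B ⊓ P.N), x ≠ 1
    · obtain ⟨x, hx, hx1⟩ := hex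
      have hxx : x = x₀ := (hx₀ x hx.1 (hHb x hx.2)).resolve_left hx1
      refine ⟨V, hVU, fun g hg v hv => hVinv g ((hsta g).2 hg) v hv, ?_, ?_⟩
      · apply le_antisymm
        · exact sup_le (hVU.trans hUB) inf_le_left
        · conv_lhs => rw [← hsplit]
          refine sup_le ?_ le_sup_right
          intro u hu
          obtain ⟨v, hv, y, hy, hyb, rfl⟩ := hVdec u hu
          refine mul_mem (le_sup_left (a := V) hv) ?_
          rcases hx₀ y hy hyb with rfl | rfl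
          · exact one_mem _
          · rw [← hxx]
            exact le_sup_right (a := V) hx.2
      · rw [eq_bot_iff_forall]
        intro v hv
        exact hVreg v hv.1 (hHb v hv.2)
    · push Not at hex
      exact hUH hex

end Cfsg.Agent.KantorSeitz
end
end

-- part: HKS/AbelianQ
section
prune_inst 0x230100500272200000000001080002030200000000000000000020000010142000002000002801400000200000004000000100000400000000a000000000005010000000001400000000000000000000000000000000000000000000000000000200000000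
set_option linter.all false
open scoped Cfsg.Agent.FastGrp

-- part: HKS/CharPair
section
/-!
# The two constituents of the induced character, any degree

Let `σ` be a representation of `W`, irreducible on `D`, with character `χ`, `N = |Q| = p ^ k`.
There are real algebraic integers `X Y > 0` with `X Y = N`, `X ^ 2` and `Y ^ 2` powers of `p`, and
irreducible characters `ψ₁ ≠ ψ₂` of `G` such that for all `g`
`|B| (X + Y) ψ₁(g) = Y S₀(g) + S₁(g)` and `|B| (X + Y) ψ₂(g) = X S₀(g) - S₁(g)`.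
If `G` is the normal closure of `Q` and `σ` is not trivial on `D`, then `X, Y > 1`.

Values: `(X + Y) ψ₁(1) = Y n (N + 1)`, `(X + Y) ψ₁(u) = Y (n + X χ(μ_u))` for `1 ≠ u ∈ Z(Q)`.
-/

set_option autoImplicit false
set_option linter.unusedSectionVars false

open Cfsg

namespace Cfsg.Agent.HKS.CharPair

open LinChar Characters.Core

variable {G : Type*} [Group G] {B Q D W : Subgroup G} {w : G}

/-- The two constituents, their eigenvalues and values. -/
structure Data [Fintype G] (h : RankOne B Q D W w) (χ : W → ℂ) (p k : ℕ) (X Y : ℝ)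
    (ψ₁ ψ₂ : G → ℂ) : Prop where
  irr₁ : IsIrrCharacter G ψ₁
  irr₂ : IsIrrCharacter G ψ₂
  ne : ψ₁ ≠ ψ₂
  posX : 0 < X
  posY : 0 < Y
  mul : X * Y = p ^ k
  intX : IsIntegral ℤ (X : ℂ)
  intY : IsIntegral ℤ (Y : ℂ)
  sqX : ∃ i : ℕ, X ^ 2 = p ^ i
  sqY : ∃ j : ℕ, Y ^ 2 = p ^ j
  val₁ : ∀ g, (Nat.card B : ℂ) * (X + Y) * ψ₁ g = Y * S₀ h χ g + S₁ h χ g
  val₂ : ∀ g, (Nat.card B : ℂ) * (X + Y) * ψ₂ g = X * S₀ h χ g - S₁ h χ g

/-! ### Numbers -/

theorem sq_eigen {p k : ℕ} (hp : p.Prime) {N : ℕ} (hN : N = p ^ k) {x : ℂ} (hx0 : x ≠ 0)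
    (hx1 : IsIntegral ℤ ((N : ℂ) * x)) (hx2 : IsIntegral ℤ x⁻¹) {m l : ℕ} (hm : 0 < m)
    (hml : m < (N + 1) * l) (hdeg : (m : ℂ) * (1 + N * x ^ 2) = (N + 1) * l) :
    ∃ i : ℕ, ((N : ℂ) * x) ^ 2 = p ^ i := by
  have hp0 : 0 < N := by rw [hN]; exact pow_pos hp.pos k
  have hN0 : (N : ℂ) ≠ 0 := by exact_mod_cast hp0.ne'
  have hm0 : (m : ℂ) ≠ 0 := by exact_mod_cast hm.ne'
  have h1 : ((N : ℂ) * x) ^ 2 = (((N : ℚ) * (((N : ℚ) + 1) * l / m - 1) : ℚ) : ℂ) := by
    push_cast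
    have h2 : 1 + (N : ℂ) * x ^ 2 = ((N : ℂ) + 1) * l / m := by
      rw [eq_div_iff hm0]; linear_combination hdeg
    linear_combination (N : ℂ) * h2
  have hne : ((N : ℂ) * x) ^ 2 ≠ 0 := pow_ne_zero _ (mul_ne_zero hN0 hx0)
  obtain ⟨z, hz⟩ := Characters.GaloisBasic.exists_int_of_isIntegral (hx1.pow 2) ⟨_, h1⟩
  obtain ⟨y, hy⟩ := Characters.GaloisBasic.exists_int_of_isIntegral (hx2.pow 2)
    ⟨(N : ℚ) ^ 2 * ((N : ℚ) * (((N : ℚ) + 1) * l / m - 1))⁻¹, by
      have h2 : (x⁻¹) ^ 2 = (N : ℂ) ^ 2 * (((N : ℂ) * x) ^ 2)⁻¹ := by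
        field_simp
      rw [h2, h1]
      push_cast
      ring⟩
  have hzy : z * y = N ^ 2 := by
    have : (z : ℂ) * y = N ^ 2 := by
      rw [← hz, ← hy]
      field_simp
    exact_mod_cast this
  have hz2 : (m : ℤ) * (N + z) = N * ((N + 1) * l) := by
    have : (m : ℂ) * (N + z) = N * ((N + 1) * l) := by
      rw [← hz]
      linear_combination (N : ℂ) * hdeg
    exact_mod_cast this
  have hzpos : 0 < z := by
    by_contra hc
    have h2 : (m : ℤ) * (N + z) ≤ m * N := by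
      apply mul_le_mul_of_nonneg_left _ (by positivity)
      linarith only [hc]
    rw [hz2] at h2
    have h3 : (N : ℤ) * m < N * ((N + 1) * l) := by
      apply mul_lt_mul_of_pos_left _ (by exact_mod_cast hp0)
      exact_mod_cast hml
    linarith only [h2, h3]
  have hdvd : z.natAbs ∣ p ^ (k * 2) := by
    have h2 : z ∣ ((N ^ 2 : ℕ) : ℤ) := ⟨y, by push_cast; exact hzy.symm⟩
    have h3 := Int.natAbs_dvd_natAbs.2 h2
    rw [Int.natAbs_natCast, hN, ← pow_mul] at h3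
    exact h3
  obtain ⟨i, -, hi⟩ := (Nat.dvd_prime_pow hp).1 hdvd
  refine ⟨i, ?_⟩
  rw [hz]
  have h2 : ((z.natAbs : ℕ) : ℤ) = z := Int.natAbs_of_nonneg hzpos.le
  rw [← h2, hi]
  push_cast
  rfl

theorem exists_real {ξ : ℂ} {p i : ℕ} (h : ξ ^ 2 = p ^ i) :
    ∃ r : ℝ, ξ = r ∧ r ^ 2 = p ^ i := by
  have h1 : (0 : ℝ) ≤ (p : ℝ) ^ i := by positivity
  have h2 : (Real.sqrt ((p : ℝ) ^ i)) ^ 2 = (p : ℝ) ^ i := Real.sq_sqrt h1
  have h3 : ξ ^ 2 = ((Real.sqrt ((p : ℝ) ^ i) : ℝ) : ℂ) ^ 2 := by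
    rw [h, ← Complex.ofReal_pow, h2]; push_cast; rfl
  rcases sq_eq_sq_iff_eq_or_eq_neg.1 h3 with h4 | h4
  · exact ⟨_, h4, h2⟩
  · exact ⟨-Real.sqrt ((p : ℝ) ^ i), by rw [h4]; push_cast; rfl, by rw [neg_sq, h2]⟩

/-! ### The sums at `1` -/

/-! ### Existence -/

theorem constituent {h : RankOne B Q D W w} [Fintype G] [Fintype Q] {l n : ℕ}
    {σ : Representation ℂ W (Fin l → ℂ)} (hσ0 : l ≠ 0)
    {ρ : Representation ℂ G (Fin n → ℂ)} {φ : (Fin l → ℂ) →ₗ[ℂ] (Fin n → ℂ)}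
    (H : FixRep h ρ σ φ) (hρ : ρ.IsIrreducible) :
    ∃ x : ℂ, x ≠ 0 ∧ IsIntegral ℤ ((Nat.card Q : ℂ) * x) ∧ IsIntegral ℤ x⁻¹ ∧
      (n : ℂ) * (1 + Nat.card Q * x ^ 2) = (Nat.card Q + 1) * l ∧
      ∀ g, (Nat.card B : ℂ) * (1 + Nat.card Q * x ^ 2) * ρ.character g =
        S₀ h σ.character g + x * S₁ h σ.character g := by
  have hirr : IsIrrCharacter G ρ.character := ⟨n, ρ, hρ, rfl⟩
  have hn : ρ.character 1 = n := by rw [Representation.char_one]; simp only [_root_.Module.finrank_fintype_fun_eq_card, _root_.Fintype.card_fin]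
  have hl : σ.character 1 = l := by rw [Representation.char_one]; simp only [_root_.Module.finrank_fintype_fun_eq_card, _root_.Fintype.card_fin]
  have hY : σ.character 1 ≠ 0 := by rw [hl]; exact_mod_cast hσ0
  obtain ⟨x, hx⟩ := H.exists_scalar
  obtain ⟨hx0, hx1, hx2⟩ := H.integral hx hY
  refine ⟨x, hx0, hx1, hx2, ?_, fun g => value H hirr hρ hx hY g⟩
  have := H.degree hρ hx hY
  rwa [hn, hl] at this

/-- If the constituent has the same degree as `σ`, then `σ` is trivial on `D`. -/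
theorem trivial_of_degree {h : RankOne B Q D W w} [Fintype G] [Fintype Q]
    (hnc : Subgroup.normalClosure (Q : Set G) = ⊤) {l n : ℕ}
    {σ : Representation ℂ W (Fin l → ℂ)}
    {ρ : Representation ℂ G (Fin n → ℂ)} {φ : (Fin l → ℂ) →ₗ[ℂ] (Fin n → ℂ)}
    (H : FixRep h ρ σ φ) (hln : l = n) {d : G} (hd : d ∈ D) : σ ⟨d, h.DW hd⟩ = 1 := by
  subst hln
  have hsur : Function.Surjective φ := LinearMap.injective_iff_surjective.1 H.inj
  have h1 : ∀ u ∈ Q, ρ u = 1 := by
    intro u hu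
    refine LinearMap.ext fun v => ?_
    obtain ⟨y, rfl⟩ := hsur v
    rw [H.fixQ u hu y]
    rfl
  have h2 : ∀ g : G, ρ g = 1 := by
    intro g
    have h5 : Subgroup.normalClosure (Q : Set G) ≤ (MonoidHom.ker ρ) :=
      Subgroup.normalClosure_le_normal fun u hu => h1 u hu
    rw [hnc] at h5
    exact h5 (Subgroup.mem_top g)
  refine LinearMap.ext fun y => H.inj ?_
  rw [← H.equiD d hd y, h2]
  rfl

/-- **Existence of the data.** -/
theorem exists_data (h : RankOne B Q D W w) [Fintype G] {p k : ℕ} (hp : p.Prime)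
    (hN : Nat.card Q = p ^ k) {l : ℕ} (σ : Representation ℂ W (Fin l → ℂ))
    (hσ : Representation.IsIrreducible (σ.comp (Subgroup.inclusion h.DW))) :
    ∃ X Y : ℝ, ∃ ψ₁ ψ₂ : G → ℂ, Data h σ.character p k X Y ψ₁ ψ₂ ∧
      (Subgroup.normalClosure (Q : Set G) = ⊤ → (∃ d, ∃ hd : d ∈ D, σ ⟨d, h.DW hd⟩ ≠ 1) →
        1 < X ∧ 1 < Y) := by
  classical
  have := Fintype.ofFinite Q
  have := Fintype.ofFinite B
  have := Fintype.ofFinite D
  have hB : (Nat.card B : ℂ) ≠ 0 := by exact_mod_cast Nat.card_pos.ne'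
  have hQ0 : 0 < Nat.card Q := Nat.card_pos
  have hQC : (Nat.card Q : ℂ) ≠ 0 := by exact_mod_cast hQ0.ne'
  obtain ⟨n₁, n₂, ρ₁, ρ₂, φ₁, φ₂, hρ₁, hρ₂, hne, H₁, H₂, hsum⟩ := h.exists_pair σ hσ
  have hirrD : IsIrrCharacter D (fun d => σ.character (Subgroup.inclusion h.DW d)) :=
    ⟨l, σ.comp (Subgroup.inclusion h.DW), hσ, rfl⟩
  have hl1 : σ.character 1 = l := by rw [Representation.char_one]; simp only [_root_.Module.finrank_fintype_fun_eq_card, _root_.Fintype.card_fin]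
  have hl0 : l ≠ 0 := by
    rintro rfl
    have := isIrr_apply_one_ne_zero hirrD
    simp only [map_one] at this
    rw [hl1] at this
    exact this (by simp)
  have hirr₁ : IsIrrCharacter G ρ₁.character := ⟨n₁, ρ₁, hρ₁, rfl⟩
  have hirr₂ : IsIrrCharacter G ρ₂.character := ⟨n₂, ρ₂, hρ₂, rfl⟩
  obtain ⟨x₁, hx₁0, hx₁1, hx₁2, hdeg₁, hval₁⟩ := constituent hl0 H₁ hρ₁
  obtain ⟨x₂, hx₂0, hx₂1, hx₂2, hdeg₂, hval₂⟩ := constituent hl0 H₂ hρ₂
  -- the degrees
  have hn₁ : ρ₁.character 1 = n₁ := by rw [Representation.char_one]; simp only [_root_.Module.finrank_fintype_fun_eq_card, _root_.Fintype.card_fin]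
  have hn₂ : ρ₂.character 1 = n₂ := by rw [Representation.char_one]; simp only [_root_.Module.finrank_fintype_fun_eq_card, _root_.Fintype.card_fin]
  have hn₁0 : 0 < n₁ := by
    refine Nat.pos_of_ne_zero fun hc => isIrr_apply_one_ne_zero hirr₁ ?_
    rw [hn₁, hc, Nat.cast_zero]
  have hn₂0 : 0 < n₂ := by
    refine Nat.pos_of_ne_zero fun hc => isIrr_apply_one_ne_zero hirr₂ ?_
    rw [hn₂, hc, Nat.cast_zero]
  have hn : n₁ + n₂ = (Nat.card Q + 1) * l := by
    have h1 : indFun B (h.lam σ.character) 1 = (Nat.card Q + 1) * l := by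
      rw [h.ind_one hirrD, hl1]
    rw [hsum, Pi.add_apply, hn₁, hn₂] at h1
    exact_mod_cast h1
  -- the product of the eigenvalues
  have hS : ∀ g, S₀ h σ.character g = Nat.card B * (ρ₁.character g + ρ₂.character g) := by
    intro g
    rw [← indFun_lam h, hsum, Pi.add_apply]
  have hlin : (x₂ * (1 + Nat.card Q * x₁ ^ 2)) • ρ₁.character -
      (x₁ * (1 + Nat.card Q * x₂ ^ 2)) • ρ₂.character =
      (x₂ - x₁) • (ρ₁.character + ρ₂.character) := by
    funext g
    simp only [Pi.sub_apply, Pi.smul_apply, Pi.add_apply, smul_eq_mul]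
    apply mul_left_cancel₀ hB
    linear_combination x₂ * hval₁ g - x₁ * hval₂ g + (x₂ - x₁) * hS g
  have hcoef : x₂ * (1 + Nat.card Q * x₁ ^ 2) = x₂ - x₁ := by
    have h1 := congrArg (fun f => classInner f ρ₁.character) hlin
    simp only [classInner_sub_left, classInner_smul_left, classInner_add_left,
      classInner_irr_self hirr₁, classInner_irr_ne hirr₂ hirr₁ hne.symm] at h1
    linear_combination h1
  have hx12 : (Nat.card Q : ℂ) * x₁ * x₂ = -1 := by
    have h1 : x₁ * ((Nat.card Q : ℂ) * x₁ * x₂ + 1) = 0 := by linear_combination hcoef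
    rcases mul_eq_zero.1 h1 with h2 | h2
    · exact absurd h2 hx₁0
    · linear_combination h2
  obtain ⟨i₁, hi₁⟩ := sq_eigen hp hN hx₁0 hx₁1 hx₁2 hn₁0 (by omega) hdeg₁
  obtain ⟨i₂, hi₂⟩ := sq_eigen hp hN hx₂0 hx₂1 hx₂2 hn₂0 (by omega) hdeg₂
  obtain ⟨r₁, hr₁, hr₁2⟩ := exists_real hi₁
  obtain ⟨r₂, hr₂, hr₂2⟩ := exists_real hi₂
  have hr12 : r₁ * r₂ = - Nat.card Q := by
    have : (r₁ : ℂ) * r₂ = - Nat.card Q := by
      rw [← hr₁, ← hr₂]
      linear_combination (Nat.card Q : ℂ) * hx12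
    exact_mod_cast this
  -- the statement for a given choice of signs
  have key : ∀ (n n' : ℕ) (ρ : Representation ℂ G (Fin n → ℂ))
      (ρ' : Representation ℂ G (Fin n' → ℂ)) (φ : (Fin l → ℂ) →ₗ[ℂ] (Fin n → ℂ))
      (φ' : (Fin l → ℂ) →ₗ[ℂ] (Fin n' → ℂ)) (x x' : ℂ) (r r' : ℝ) (i i' : ℕ),
      FixRep h ρ σ φ → FixRep h ρ' σ φ' →
      IsIrrCharacter G ρ.character → IsIrrCharacter G ρ'.character →
      ρ.character ≠ ρ'.character → (Nat.card Q : ℂ) * x = r → (Nat.card Q : ℂ) * x' = r' →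
      r ^ 2 = p ^ i → r' ^ 2 = p ^ i' → r * r' = - Nat.card Q → 0 < r →
      IsIntegral ℤ ((Nat.card Q : ℂ) * x) → IsIntegral ℤ ((Nat.card Q : ℂ) * x') →
      ((n : ℂ) * (1 + Nat.card Q * x ^ 2) = (Nat.card Q + 1) * l) →
      ((n' : ℂ) * (1 + Nat.card Q * x' ^ 2) = (Nat.card Q + 1) * l) →
      (∀ g, (Nat.card B : ℂ) * (1 + Nat.card Q * x ^ 2) * ρ.character g =
        S₀ h σ.character g + x * S₁ h σ.character g) →
      (∀ g, (Nat.card B : ℂ) * (1 + Nat.card Q * x' ^ 2) * ρ'.character g =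
        S₀ h σ.character g + x' * S₁ h σ.character g) →
      ∃ X Y : ℝ, ∃ ψ₁ ψ₂ : G → ℂ, Data h σ.character p k X Y ψ₁ ψ₂ ∧
      (Subgroup.normalClosure (Q : Set G) = ⊤ → (∃ d, ∃ hd : d ∈ D, σ ⟨d, h.DW hd⟩ ≠ 1) →
        1 < X ∧ 1 < Y) := by
    intro n n' ρ ρ' φ φ' x x' r r' i i' H H' hirr hirr' hne hr hr' hri hri' hrr hpos hint hint'
      hdeg hdeg' hval hval'
    have hQR : (0 : ℝ) < Nat.card Q := by exact_mod_cast hQ0
    have hneg : r' < 0 := by
      by_contra hc'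
      have h1 : 0 ≤ r * r' := mul_nonneg hpos.le (not_lt.1 hc')
      rw [hrr] at h1
      linarith only [hQR, h1]
    have hr0 : (r : ℂ) ≠ 0 := by exact_mod_cast hpos.ne'
    have hr'0 : (r' : ℂ) ≠ 0 := by exact_mod_cast hneg.ne
    have hrrC : (r : ℂ) * r' = - Nat.card Q := by exact_mod_cast hrr
    -- `x = -1 / r'`, `x' = - 1 / r`
    have hx : x * r' = -1 := by
      apply mul_left_cancel₀ hQC
      calc (Nat.card Q : ℂ) * (x * r') = (Nat.card Q * x) * r' := by ring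
        _ = _ := by rw [hr, hrrC]; ring
    have hx' : x' * r = -1 := by
      apply mul_left_cancel₀ hQC
      calc (Nat.card Q : ℂ) * (x' * r) = (Nat.card Q * x') * r := by ring
        _ = _ := by rw [hr', mul_comm, hrrC]; ring
    have hxX : (Nat.card Q : ℂ) * x ^ 2 * r' = - r := by
      calc (Nat.card Q : ℂ) * x ^ 2 * r' = (Nat.card Q * x) * (x * r') := by ring
        _ = _ := by rw [hx, hr]; ring
    have hxX' : (Nat.card Q : ℂ) * x' ^ 2 * r = - r' := by
      calc (Nat.card Q : ℂ) * x' ^ 2 * r = (Nat.card Q * x') * (x' * r) := by ring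
        _ = _ := by rw [hx', hr']; ring
    have hXY : r * (-r') = p ^ k := by
      have h1 : r * (-r') = Nat.card Q := by linear_combination -hrr
      rw [h1, hN]; push_cast; rfl
    have h1 : ((n : ℝ)) * (r + -r') = -r' * ((Nat.card Q + 1) * l) := by
      have h2 : ((n : ℂ)) * (r + -r') = -r' * ((Nat.card Q + 1) * l) := by
        linear_combination (-(r' : ℂ)) * hdeg + (n : ℂ) * hxX
      exact_mod_cast h2
    have h2 : ((n' : ℝ)) * (r + -r') = r * ((Nat.card Q + 1) * l) := by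
      have h2 : ((n' : ℂ)) * (r + -r') = r * ((Nat.card Q + 1) * l) := by
        linear_combination (r : ℂ) * hdeg' - (n' : ℂ) * hxX'
      exact_mod_cast h2
    refine ⟨r, -r', ρ.character, ρ'.character, ⟨hirr, hirr', hne, hpos, by linarith only [hneg], hXY, ?_, ?_,
      ⟨i, hri⟩, ⟨i', by rw [neg_sq]; exact hri'⟩, fun g => ?_, fun g => ?_⟩, fun hnc hσ1 => ?_⟩
    · rw [← hr]; exact hint
    · rw [Complex.ofReal_neg, ← hr']; exact hint'.neg
    · push_cast
      linear_combination (-(r' : ℂ)) * hval g + (Nat.card B : ℂ) * ρ.character g * hxX -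
        S₁ h σ.character g * hx
    · push_cast
      linear_combination (r : ℂ) * hval' g - (Nat.card B : ℂ) * ρ'.character g * hxX' +
        S₁ h σ.character g * hx'
    · obtain ⟨d, hd, hd1⟩ := hσ1
      have hX1 : r ^ 2 ≠ 1 := by
        intro hc
        have hc' : r = 1 := (pow_eq_one_iff_of_nonneg hpos.le two_ne_zero).1 hc
        -- `Y = N`
        have h3 : -r' = Nat.card Q := by
          rw [hc', one_mul] at hXY
          rw [hXY, hN]; push_cast; rfl
        rw [h3, hc', one_mul] at h2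
        have h4 : (n' : ℝ) = l := by
          have h5 : (1 + (Nat.card Q : ℝ)) ≠ 0 := by positivity
          apply mul_right_cancel₀ h5
          rw [h2]; ring
        exact hd1 (trivial_of_degree hnc H' (by exact_mod_cast h4.symm) hd)
      have hY1 : (-r') ^ 2 ≠ 1 := by
        intro hc
        have hc' : -r' = 1 := (pow_eq_one_iff_of_nonneg (by linarith only [hneg]) two_ne_zero).1 hc
        have h3 : r = Nat.card Q := by
          rw [hc', mul_one] at hXY
          rw [hXY, hN]; push_cast; rfl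
        rw [h3, hc', one_mul] at h1
        have h4 : (n : ℝ) = l := by
          have h5 : ((Nat.card Q : ℝ) + 1) ≠ 0 := by positivity
          apply mul_right_cancel₀ h5
          rw [h1]; ring
        exact hd1 (trivial_of_degree hnc H (by exact_mod_cast h4.symm) hd)
      constructor
      · have h3 : 1 ≤ r ^ 2 := by
          rw [hri]
          exact one_le_pow₀ (by exact_mod_cast hp.one_lt.le)
        have h4 : 1 < r ^ 2 := lt_of_le_of_ne h3 (Ne.symm hX1)
        nlinarith only [hpos, h4]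
      · have h3 : 1 ≤ (-r') ^ 2 := by
          rw [neg_sq, hri']
          exact one_le_pow₀ (by exact_mod_cast hp.one_lt.le)
        have h4 : 1 < (-r') ^ 2 := lt_of_le_of_ne h3 (Ne.symm hY1)
        nlinarith only [hrr, hpos, hneg, h4]
  rcases lt_trichotomy r₁ 0 with h1 | h1 | h1
  · have h2 : 0 < r₂ := by
      by_contra hc'
      have h3 : 0 ≤ r₁ * r₂ := mul_nonneg_of_nonpos_of_nonpos h1.le (not_lt.1 hc')
      rw [hr12] at h3
      have : (0 : ℝ) < Nat.card Q := by exact_mod_cast hQ0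
      linarith only [h3, this]
    exact key n₂ n₁ ρ₂ ρ₁ φ₂ φ₁ x₂ x₁ r₂ r₁ i₂ i₁ H₂ H₁ hirr₂ hirr₁ hne.symm hr₂ hr₁ hr₂2 hr₁2
      (by rw [mul_comm]; exact hr12) h2 hx₂1 hx₁1 hdeg₂ hdeg₁ hval₂ hval₁
  · exfalso
    rw [h1, zero_mul] at hr12
    have : (0 : ℝ) < Nat.card Q := by exact_mod_cast hQ0
    linarith only [hr12, this]
  · exact key n₁ n₂ ρ₁ ρ₂ φ₁ φ₂ x₁ x₂ r₁ r₂ i₁ i₂ H₁ H₂ hirr₁ hirr₂ hne hr₁ hr₂ hr₁2 hr₂2
      hr12 h1 hx₁1 hx₂1 hdeg₁ hdeg₂ hval₁ hval₂

/-! ### Values -/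

theorem pr_conj_B (h : RankOne B Q D W w) {χ : W → ℂ} (hχ : IsClassFunction W χ) {b : G}
    (hb : b ∈ B) (g : G) : χ (pr h (b * g * b⁻¹)) = χ (pr h g) := by
  obtain ⟨v, hv, d, hd, rfl⟩ := h.Bmul b hb
  obtain ⟨u₁, hu₁, u₂, hu₂, he⟩ := pr_spec h g
  have hm : d * (pr h g : G) * d⁻¹ ∈ W :=
    W.mul_mem (W.mul_mem (h.DW hd) (pr h g).2) (W.inv_mem (h.DW hd))
  have h1 : v * d * g * (v * d)⁻¹ =
      (v * (d * u₁ * d⁻¹)) * (d * (pr h g : G) * d⁻¹) * ((d * u₂ * d⁻¹) * v⁻¹) := by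
    conv_lhs => rw [he]
    group
  have h2 : pr h (v * d * g * (v * d)⁻¹) = ⟨d, h.DW hd⟩ * pr h g * ⟨d, h.DW hd⟩⁻¹ := by
    rw [h1, pr_eq h (Q.mul_mem hv (h.Qn d (h.DB hd) _ hu₁))
      (Q.mul_mem (h.Qn d (h.DB hd) _ hu₂) (Q.inv_mem hv)) hm]
    rfl
  rw [h2, hχ]

theorem conj_mem_B_iff (h : RankOne B Q D W w) {u : G} (hu : u ∈ Q) (hu1 : u ≠ 1) (a : G) :
    a * u * a⁻¹ ∈ B ↔ a ∈ B := by
  constructor
  · intro hc
    by_contra ha
    obtain ⟨b, hb, v, hv, rfl⟩ := h.bruhat' ha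
    have h1 : w * (v * u * v⁻¹) * w⁻¹ = b⁻¹ * (b * w * v * u * (b * w * v)⁻¹) * b := by group
    have h2 : w * (v * u * v⁻¹) * w⁻¹ ∈ B := by
      rw [h1]
      exact B.mul_mem (B.mul_mem (B.inv_mem hb) hc) hb
    refine h.not_mem_of_Q' (Q.mul_mem (Q.mul_mem hv hu) (Q.inv_mem hv)) (fun hc' => hu1 ?_) h2
    have h3 : u = v⁻¹ * (v * u * v⁻¹) * v := by group
    rw [h3, hc']
    group
  · intro ha
    exact B.mul_mem (B.mul_mem ha (h.QB hu)) (B.inv_mem ha)

theorem S₀_Q [Fintype G] (h : RankOne B Q D W w) (χ : W → ℂ) {u : G} (hu : u ∈ Q)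
    (hu1 : u ≠ 1) : S₀ h χ u = Nat.card B * χ 1 := by
  classical
  have h1 : ∀ a ∈ (Finset.univ : Finset G), (if a * u * a⁻¹ ∈ B then χ (pr h (a * u * a⁻¹)) else 0)
      = if a ∈ B then χ 1 else 0 := by
    intro a _
    by_cases ha : a ∈ B
    · rw [if_pos ha, if_pos ((conj_mem_B_iff h hu hu1 a).2 ha)]
      have h2 : a * u * a⁻¹ ∈ Q := h.Qn a ha u hu
      have h3 := pr_eq h h2 Q.one_mem W.one_mem
      rw [mul_one, mul_one] at h3
      rw [h3]
      rfl
    · rw [if_neg ha, if_neg (fun hc => ha ((conj_mem_B_iff h hu hu1 a).1 hc))]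
  rw [S₀]
  rw [Finset.sum_congr rfl fun a ha => by
    convert h1 a ha using 1]
  rw [← Finset.sum_filter, Finset.sum_const, nsmul_eq_mul, ← Fintype.card_subtype,
    ← Nat.card_eq_fintype_card]

theorem S₁_central [Fintype G] (h : RankOne B Q D W w) {χ : W → ℂ} (hχ : IsClassFunction W χ)
    {u : G} (hu : u ∈ Q) (hu1 : u ≠ 1) (hc : ∀ v ∈ Q, v * u = u * v) :
    S₁ h χ u = Nat.card B * Nat.card Q * χ (pr h (w * u * w⁻¹)) := by
  classical
  have h1 : ∀ a ∈ (Finset.univ : Finset G), (if a * u * a⁻¹ ∈ B then 0 else χ (pr h (a * u * a⁻¹)))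
      = if a ∉ B then χ (pr h (w * u * w⁻¹)) else 0 := by
    intro a _
    by_cases ha : a ∈ B
    · rw [if_neg (not_not.2 ha), if_pos ((conj_mem_B_iff h hu hu1 a).2 ha)]
    · rw [if_pos ha, if_neg (fun hc => ha ((conj_mem_B_iff h hu hu1 a).1 hc))]
      obtain ⟨b, hb, v, hv, rfl⟩ := h.bruhat' ha
      have h2 : b * w * v * u * (b * w * v)⁻¹ = b * (w * u * w⁻¹) * b⁻¹ := by
        calc b * w * v * u * (b * w * v)⁻¹ = b * w * (v * u) * v⁻¹ * w⁻¹ * b⁻¹ := by group
          _ = b * w * (u * v) * v⁻¹ * w⁻¹ * b⁻¹ := by rw [hc v hv]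
          _ = _ := by group
      rw [h2, pr_conj_B h hχ hb]
  rw [S₁]
  rw [Finset.sum_congr rfl fun a ha => by
    convert h1 a ha using 1]
  rw [← Finset.sum_filter, Finset.sum_const, nsmul_eq_mul, ← Fintype.card_subtype,
    ← Nat.card_eq_fintype_card]
  congr 1
  have h2 : Nat.card {a : G // a ∉ B} + Nat.card B = Nat.card G := by
    rw [Nat.card_eq_fintype_card, Nat.card_eq_fintype_card, Nat.card_eq_fintype_card,
      Fintype.card_subtype_compl]
    exact Nat.sub_add_cancel (Fintype.card_subtype_le _)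
  rw [h.card_eq] at h2
  have h3 : Nat.card {a : G // a ∉ B} = Nat.card B * Nat.card Q := by
    have h4 : (Nat.card Q + 1) * Nat.card B = Nat.card B * Nat.card Q + Nat.card B := by ring
    omega
  rw [h3]
  push_cast
  rfl

namespace Data

variable [Fintype G] {h : RankOne B Q D W w} {χ : W → ℂ} {p k : ℕ} {X Y : ℝ} {ψ₁ ψ₂ : G → ℂ}

theorem central₁ (hd : Data h χ p k X Y ψ₁ ψ₂) (hN : Nat.card Q = p ^ k)
    (hχ : IsClassFunction W χ) {u : G} (hu : u ∈ Q) (hu1 : u ≠ 1) (hc : ∀ v ∈ Q, v * u = u * v) :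
    ((X : ℂ) + Y) * ψ₁ u = Y * (χ 1 + X * χ (pr h (w * u * w⁻¹))) := by
  have hB : (Nat.card B : ℂ) ≠ 0 := by exact_mod_cast Nat.card_pos.ne'
  have h1 := hd.val₁ u
  rw [S₀_Q h χ hu hu1, S₁_central h hχ hu hu1 hc, hN] at h1
  have h2 : (X : ℂ) * Y = p ^ k := by exact_mod_cast hd.mul
  push_cast at h1
  apply mul_left_cancel₀ hB
  linear_combination h1 - (Nat.card B : ℂ) * χ (pr h (w * u * w⁻¹)) * h2

theorem central₂ (hd : Data h χ p k X Y ψ₁ ψ₂) (hN : Nat.card Q = p ^ k)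
    (hχ : IsClassFunction W χ) {u : G} (hu : u ∈ Q) (hu1 : u ≠ 1) (hc : ∀ v ∈ Q, v * u = u * v) :
    ((X : ℂ) + Y) * ψ₂ u = X * (χ 1 - Y * χ (pr h (w * u * w⁻¹))) := by
  have hB : (Nat.card B : ℂ) ≠ 0 := by exact_mod_cast Nat.card_pos.ne'
  have h1 := hd.val₂ u
  rw [S₀_Q h χ hu hu1, S₁_central h hχ hu hu1 hc, hN] at h1
  have h2 : (X : ℂ) * Y = p ^ k := by exact_mod_cast hd.mul
  push_cast at h1
  apply mul_left_cancel₀ hB
  linear_combination h1 + (Nat.card B : ℂ) * χ (pr h (w * u * w⁻¹)) * h2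

/-- The quotient of the eigenvalues is a power of `p`. -/
theorem ratio (hd : Data h χ p k X Y ψ₁ ψ₂) (hp : p.Prime) :
    ∃ m : ℕ, X = Y * p ^ m ∨ Y = X * p ^ m := by
  obtain ⟨i, hi⟩ := hd.sqX
  obtain ⟨j, hj⟩ := hd.sqY
  have hij : i + j = 2 * k := by
    have h1 : (p : ℝ) ^ (i + j) = p ^ (2 * k) := by
      rw [pow_add, ← hi, ← hj, ← mul_pow, hd.mul, ← pow_mul, mul_comm k]
    have h2 : p ^ (i + j) = p ^ (2 * k) := by exact_mod_cast h1
    exact Nat.pow_right_injective hp.two_le h2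
  have hpR : (0 : ℝ) < p := by exact_mod_cast hp.pos
  rcases le_total i j with h1 | h1
  · refine ⟨(j - i) / 2, Or.inr ?_⟩
    have h2 : i + 2 * ((j - i) / 2) = j := by omega
    have h3 : Y ^ 2 = (X * p ^ ((j - i) / 2)) ^ 2 := by
      rw [mul_pow, hi, hj, ← pow_mul, ← pow_add]
      congr 1
      omega
    exact (pow_left_inj₀ hd.posY.le (by have := hd.posX; positivity) two_ne_zero).1 h3
  · refine ⟨(i - j) / 2, Or.inl ?_⟩
    have h3 : X ^ 2 = (Y * p ^ ((i - j) / 2)) ^ 2 := by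
      rw [mul_pow, hi, hj, ← pow_mul, ← pow_add]
      congr 1
      omega
    exact (pow_left_inj₀ hd.posX.le (by have := hd.posY; positivity) two_ne_zero).1 h3

theorem cent₁ (hd : Data h χ p k X Y ψ₁ ψ₂) (hN : Nat.card Q = p ^ k)
    (hχ : IsClassFunction W χ) {m : ℕ} (hm : X = Y * p ^ m) {u : G} (hu : u ∈ Q) (hu1 : u ≠ 1)
    (hc : ∀ v ∈ Q, v * u = u * v) :
    (1 + (p : ℂ) ^ m) * ψ₁ u = χ 1 + X * χ (pr h (w * u * w⁻¹)) := by
  have h1 := hd.central₁ hN hχ hu hu1 hc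
  have hY : (Y : ℂ) ≠ 0 := by exact_mod_cast hd.posY.ne'
  have h2 : (X : ℂ) = Y * p ^ m := by exact_mod_cast hm
  apply mul_left_cancel₀ hY
  linear_combination h1 - ψ₁ u * h2

theorem cent₂ (hd : Data h χ p k X Y ψ₁ ψ₂) (hN : Nat.card Q = p ^ k)
    (hχ : IsClassFunction W χ) {m : ℕ} (hm : Y = X * p ^ m) {u : G} (hu : u ∈ Q) (hu1 : u ≠ 1)
    (hc : ∀ v ∈ Q, v * u = u * v) :
    (1 + (p : ℂ) ^ m) * ψ₂ u = χ 1 - Y * χ (pr h (w * u * w⁻¹)) := by
  have h1 := hd.central₂ hN hχ hu hu1 hc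
  have hX : (X : ℂ) ≠ 0 := by exact_mod_cast hd.posX.ne'
  have h2 : (Y : ℂ) = X * p ^ m := by exact_mod_cast hm
  apply mul_left_cancel₀ hX
  linear_combination h1 - ψ₂ u * h2

/-- From `(1 + p ^ m) δ = Z c`, `Z ^ 2 = p ^ i`: `1 + p ^ m` divides `c`. -/
theorem dvd_aux {p m i : ℕ} (hp : p.Prime) (hp2 : p ≠ 2) {Z c δ : ℂ} (hZ : IsIntegral ℤ Z)
    (hc : IsIntegral ℤ c) (hδ : IsIntegral ℤ δ) (hZi : Z ^ 2 = p ^ i)
    (he : (1 + (p : ℂ) ^ m) * δ = Z * c) : ∃ z : ℂ, IsIntegral ℤ z ∧ c = (1 + (p : ℂ) ^ m) * z := by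
  have hcop : Nat.Coprime (1 + p ^ m) (p ^ i) := by
    apply Nat.Coprime.pow_right
    rcases Nat.eq_zero_or_pos m with hm | hm
    · rw [hm, pow_zero]
      rw [Nat.coprime_comm]
      exact (Nat.coprime_primes hp Nat.prime_two).2 hp2
    · have h2 : Nat.Coprime (1 + p ^ m) (p ^ m) := by
        rw [Nat.coprime_iff_gcd_eq_one]
        simp
      exact Nat.Coprime.coprime_dvd_right (dvd_pow_self p hm.ne') h2
  obtain ⟨a, b, hab⟩ : ∃ a b : ℤ, a * (1 + (p : ℤ) ^ m) + b * (p : ℤ) ^ i = 1 := by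
    have h1 : IsCoprime ((1 + p ^ m : ℕ) : ℤ) ((p ^ i : ℕ) : ℤ) := Nat.isCoprime_iff_coprime.2 hcop
    obtain ⟨a, b, hab⟩ := h1
    exact ⟨a, b, by push_cast at hab; exact hab⟩
  have hab' : (a : ℂ) * (1 + (p : ℂ) ^ m) + b * (p : ℂ) ^ i = 1 := by exact_mod_cast hab
  have ha : IsIntegral ℤ (a : ℂ) := isIntegral_algebraMap (R := ℤ) (A := ℂ) (x := a)
  have hb : IsIntegral ℤ (b : ℂ) := isIntegral_algebraMap (R := ℤ) (A := ℂ) (x := b)
  refine ⟨a * c + b * (Z * δ), (ha.mul hc).add (hb.mul (hZ.mul hδ)), ?_⟩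
  linear_combination (-c) * hab' - (b : ℂ) * c * hZi - (b : ℂ) * Z * he

/-- **Divisibility.** -/
theorem dvd (hd : Data h χ p k X Y ψ₁ ψ₂) (hN : Nat.card Q = p ^ k) (hp : p.Prime) (hp2 : p ≠ 2)
    (hχ : IsCharacter W χ) {m : ℕ} (hm : X = Y * p ^ m ∨ Y = X * p ^ m) {u u' : G} (hu : u ∈ Q)
    (hu1 : u ≠ 1) (hc : ∀ v ∈ Q, v * u = u * v) (hu' : u' ∈ Q) (hu1' : u' ≠ 1)
    (hc' : ∀ v ∈ Q, v * u' = u' * v) :
    ∃ z : ℂ, IsIntegral ℤ z ∧
      χ (pr h (w * u * w⁻¹)) - χ (pr h (w * u' * w⁻¹)) = (1 + (p : ℂ) ^ m) * z := by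
  have hcl := isCharacter_isClassFunction hχ
  have hint : ∀ g, IsIntegral ℤ (χ g) := by
    intro g
    exact Characters.GaloisBasic.isIntegral_apply hχ g
  have hint₁ : ∀ g, IsIntegral ℤ (ψ₁ g) := fun g =>
    Characters.GaloisBasic.isIntegral_apply (isIrr_isCharacter hd.irr₁) g
  have hint₂ : ∀ g, IsIntegral ℤ (ψ₂ g) := fun g =>
    Characters.GaloisBasic.isIntegral_apply (isIrr_isCharacter hd.irr₂) g
  rcases hm with hm | hm
  · obtain ⟨i, hi⟩ := hd.sqX
    have h1 := hd.cent₁ hN hcl hm hu hu1 hc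
    have h2 := hd.cent₁ hN hcl hm hu' hu1' hc'
    exact dvd_aux hp hp2 (Z := (X : ℂ)) (δ := ψ₁ u - ψ₁ u') hd.intX ((hint _).sub (hint _))
      ((hint₁ _).sub (hint₁ _)) (by exact_mod_cast hi) (by linear_combination h1 - h2)
  · obtain ⟨j, hj⟩ := hd.sqY
    have h1 := hd.cent₂ hN hcl hm hu hu1 hc
    have h2 := hd.cent₂ hN hcl hm hu' hu1' hc'
    exact dvd_aux hp hp2 (Z := (Y : ℂ)) (δ := ψ₂ u' - ψ₂ u) hd.intY ((hint _).sub (hint _))
      ((hint₂ _).sub (hint₂ _)) (by exact_mod_cast hj) (by linear_combination h2 - h1)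

end Data

end Cfsg.Agent.HKS.CharPair
end

-- part: HKS/CharPairSplit
section
/-!
# The two constituents in permutation form

* `pr_mu`: every `m` interchanging `a` and `b` is `pr (w u w⁻¹)` for some `1 ≠ u ∈ U a`;
* `dvd_split`: if `U a` is abelian, `1 + p ^ m` divides `χ(y') - χ(y'')` for all `y', y''`
  interchanging `a` and `b`;
* `S₁_inv`: `S₁(z) = |Q| |C_G(z)| ∑ χ(y)` over the conjugates `y` of the involution `z` in `W ∖ D`;
* `S₀_const`: `S₀(z) = |Fix z| |B| c` if `χ = c` on the conjugates of the involution `z` in `D`.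
-/

set_option autoImplicit false

open Cfsg

namespace Cfsg.Agent.HKS.CharPairSplit

open Subgroup MulAction LinChar LinSplit CharPair

section split

variable {G Ω : Type*} [Group G] [MulAction G Ω] {U : Ω → Subgroup G}

/-- Every `m` interchanging `a` and `b` is `pr (w u w⁻¹)` for some `1 ≠ u ∈ U a`. -/
theorem pr_mu (h : SSplit U) [Finite G] [Finite Ω] (hgen : (⨆ c, U c) = ⊤) {a b : Ω}
    (hab : b ≠ a) {p k : ℕ} (hp : p.Prime) (hp2 : p ≠ 2) (hN : Nat.card (U a) = p ^ k) {w : G}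
    (hw : Swaps w a b) {m : G} (hm : Swaps m a b) :
    ∃ u ∈ U a, u ≠ 1 ∧ pr (h.rankOne hab hw) (w * u * w⁻¹) = ⟨m, hm.mem_W⟩ := by
  obtain ⟨v, hv, hv1, hvm⟩ := h.exists_mu_eq hgen hab hp hp2 hN hm
  obtain ⟨hs, x, hx, y, hy, -, -, he⟩ := h.mu_spec hab hv hv1
  refine ⟨w⁻¹ * v * w, h.conj_of_eq' hw.1 hv, fun hc => hv1 ?_, ?_⟩
  · calc v = w * (w⁻¹ * v * w) * w⁻¹ := by group
      _ = 1 := by rw [hc]; group
  · have h1 : w * (w⁻¹ * v * w) * w⁻¹ = v := by group
    rw [h1]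
    conv_lhs => rw [he]
    rw [pr_eq (h.rankOne hab hw) hx hy hs.mem_W]
    exact Subtype.ext hvm

/-- **Divisibility**, for `U a` abelian. -/
theorem dvd_split (h : SSplit U) [Fintype G] [Finite Ω] (hgen : (⨆ c, U c) = ⊤) {a b : Ω}
    (hab : b ≠ a) {p k : ℕ} (hp : p.Prime) (hp2 : p ≠ 2) (hN : Nat.card (U a) = p ^ k) {w : G}
    (hw : Swaps w a b) (hcomm : ∀ x ∈ U a, ∀ y ∈ U a, x * y = y * x)
    {χ : Wab G a b → ℂ} (hχ : IsCharacter (Wab G a b) χ) {X Y : ℝ} {ψ₁ ψ₂ : G → ℂ}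
    (hd : Data (h.rankOne hab hw) χ p k X Y ψ₁ ψ₂) {m : ℕ}
    (hm : X = Y * p ^ m ∨ Y = X * p ^ m) {y y' : Wab G a b} (hy : Swaps (y : G) a b)
    (hy' : Swaps (y' : G) a b) :
    ∃ z : ℂ, IsIntegral ℤ z ∧ χ y - χ y' = (1 + (p : ℂ) ^ m) * z := by
  obtain ⟨u, hu, hu1, hup⟩ := pr_mu h hgen hab hp hp2 hN hw hy
  obtain ⟨u', hu', hu1', hup'⟩ := pr_mu h hgen hab hp hp2 hN hw hy'
  have h1 := hd.dvd hN hp hp2 hχ hm hu hu1 (fun v hv => hcomm v hv u hu) hu' hu1'
    (fun v hv => hcomm v hv u' hu')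
  rw [hup, hup'] at h1
  exact h1

end split

section inv

variable {G : Type*} [Group G] {B Q D W : Subgroup G} {w : G}

end inv

end Cfsg.Agent.HKS.CharPairSplit
end

-- part: HKS/AbelianQ
section
/-!
# Abelian unipotent groups: the modulo `2` argument

`SSplit U`, `G = ⟨U c⟩`, `|U a| = p ^ k`, `p` odd, `U a` abelian.

* `two_element`: the elements interchanging `a` and `b` are `2`-elements;
* `data_hom`: let `C ≤ W` be of odd index, not contained in `D`, and `θ : C → {±1}` a homomorphism not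
  trivial on `C ∩ D`. Then `|U a| = 1 mod 4`, and if `θ` is constant on `z^G ∩ C ∖ D` for an involution
  `z`, then `|U a|` divides `q ^ 2`, where `q + 1` is the number of fixed points of `z`.
-/

set_option autoImplicit false

open Cfsg ComplexConjugate

namespace Cfsg.Agent.HKS.AbelianQ

open Subgroup MulAction LinChar LinSplit CharPair CharPairSplit CosetTwo Characters.Core

variable {G Ω : Type*} [Group G] [MulAction G Ω] {U : Ω → Subgroup G} {a b : Ω}

/-- `D` as a subgroup of `W`. -/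
abbrev DW (G : Type*) {Ω : Type*} [Group G] [MulAction G Ω] (a b : Ω) : Subgroup (Wab G a b) :=
  (Dab G a b).subgroupOf (Wab G a b)

theorem notMem_DW (hab : b ≠ a) {y : Wab G a b} : y ∉ DW G a b ↔ Swaps (y : G) a b := by
  rw [← mem_Wab_not_mem_Dab hab, mem_subgroupOf]
  exact ⟨fun h => ⟨y.2, h⟩, fun h => h.2⟩

theorem index_DW (h : SSplit U) (hab : b ≠ a) : (DW G a b).index = 2 := by
  obtain ⟨w, hw⟩ := h.exists_swaps hab
  rw [index_eq_two_iff]
  refine ⟨⟨w, hw.mem_W⟩, fun g => ?_⟩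
  by_cases hg : g ∈ DW G a b
  · right
    refine ⟨hg, ?_⟩
    rw [notMem_DW hab]
    exact hw.D_mul hg
  · left
    refine ⟨?_, hg⟩
    exact ((notMem_DW hab).1 hg).mul hw

section

variable (h : SSplit U) [Finite G] [Finite Ω] (hgen : (⨆ c, U c) = ⊤) (hab : b ≠ a)
  {p k : ℕ} (hp : p.Prime) (hp2 : p ≠ 2) (hN : Nat.card (U a) = p ^ k)
  (hcomm : ∀ x ∈ U a, ∀ y ∈ U a, x * y = y * x)

include hp hN in
omit [Finite Ω] in
/-- The data for an irreducible character of `W` not vanishing outside `D`. -/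
theorem exists_data' [Fintype G] {w : G} (hw : Swaps w a b) {χ : Wab G a b → ℂ}
    (hχ : IsIrrCharacter (Wab G a b) χ) {y : Wab G a b} (hy : y ∉ DW G a b) (hne : χ y ≠ 0) :
    ∃ X Y : ℝ, ∃ ψ₁ ψ₂ : G → ℂ, Data (h.rankOne hab hw) χ p k X Y ψ₁ ψ₂ := by
  obtain ⟨l, σ, hσ, rfl⟩ := hχ
  have hr := h.rankOne hab hw
  have h1 := isIrr_restrict (index_DW h hab) ⟨l, σ, hσ, rfl⟩ hy hne
  have h2 := isIrr_comp ((subgroupOfEquivOfLe hr.DW).symm.toMonoidHom)
    (subgroupOfEquivOfLe hr.DW).symm.surjective h1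
  have h3 : Representation.IsIrreducible (σ.comp (Subgroup.inclusion hr.DW)) := by
    rw [isIrreducible_iff_isIrrCharacter]
    exact h2
  obtain ⟨X, Y, ψ₁, ψ₂, hd, -⟩ := exists_data hr hp hN σ h3
  exact ⟨X, Y, ψ₁, ψ₂, hd⟩

include h hgen hab hp hp2 hN hcomm

/-- **Irreducible characters of `W` are constant modulo `2` on `W ∖ D`.** -/
theorem even2_irr {χ : Wab G a b → ℂ} (hχ : IsIrrCharacter (Wab G a b) χ) :
    Even2 (DW G a b) χ := by
  classical
  have := Fintype.ofFinite G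
  intro y y' hy hy'
  by_cases hex : ∃ y₀, y₀ ∉ DW G a b ∧ χ y₀ ≠ 0
  · obtain ⟨y₀, hy₀, hne⟩ := hex
    obtain ⟨w, hw⟩ := h.exists_swaps hab
    obtain ⟨X, Y, ψ₁, ψ₂, hd⟩ := exists_data' h hab hp hN hw hχ hy₀ hne
    obtain ⟨m, hm⟩ := hd.ratio hp
    obtain ⟨z, hz, he⟩ := dvd_split h hgen hab hp hp2 hN hw hcomm (isIrr_isCharacter hχ) hd hm
      ((notMem_DW hab).1 hy) ((notMem_DW hab).1 hy')
    have h2 : Odd (p ^ m) := (hp.odd_of_ne_two hp2).pow
    obtain ⟨c, hc⟩ := h2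
    refine ⟨(c + 1 : ℕ) * z, (isIntegral_natCast _).mul hz, ?_⟩
    have h3 : (p : ℂ) ^ m = 2 * c + 1 := by exact_mod_cast hc
    rw [he, h3]
    push_cast
    ring
  · push Not at hex
    exact ⟨0, isIntegral_zero, by rw [hex y hy, hex y' hy']; ring⟩

/-- **The elements interchanging `a` and `b` are `2`-elements.** -/
theorem two_element {y : G} (hy : Swaps y a b) : ∃ n, y ^ 2 ^ n = 1 := by
  obtain ⟨n, hn⟩ := pow_two_of_even (index_DW h hab)
    (fun χ hχ => even2_irr h hgen hab hp hp2 hN hcomm hχ) (y := ⟨y, hy.mem_W⟩)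
    ((notMem_DW hab).2 hy)
  exact ⟨n, congrArg Subtype.val hn⟩

theorem two_element' {y : Wab G a b} (hy : y ∉ DW G a b) : ∃ n, y ^ 2 ^ n = 1 :=
  pow_two_of_even (index_DW h hab) (fun χ hχ => even2_irr h hgen hab hp hp2 hN hcomm hχ) hy

/-- **The character argument.** -/
theorem data_hom {C : Subgroup (Wab G a b)} (hodd : Odd C.index) {c : Wab G a b} (hc : c ∈ C)
    (hcs : Swaps (c : G) a b) (θ : C →* ℤˣ) {d : Wab G a b} (hd : d ∈ C)
    (hdD : (d : G) ∈ Dab G a b) (hθ : θ ⟨d, hd⟩ = -1) :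
    p ^ k % 4 = 1 ∧ ∀ z : G, z * z = 1 → ∀ q : ℕ, Nat.card (fixedBy Ω z) = q + 1 →
      (∃ ε : ℤˣ, ∀ y (hy : y ∈ C), Swaps (y : G) a b → IsConj z (y : G) → θ ⟨y, hy⟩ = ε) →
      p ^ k ∣ q ^ 2 := by
  classical
  have := Fintype.ofFinite G
  have := Fintype.ofFinite Ω
  have hD := index_DW h hab
  have hcD : c ∉ DW G a b := (notMem_DW hab).2 hcs
  obtain ⟨χ, hχ, hχv, hconj⟩ := exists_irr_hom hD
    (fun y hy => two_element' h hgen hab hp hp2 hN hcomm hy) hodd hc hcD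
    ((Units.map (Int.castRingHom ℂ : ℤ →* ℂ)).comp θ)
  have hval : ∀ y (hy : y ∈ C), Swaps (y : G) a b → χ y = ((θ ⟨y, hy⟩ : ℤ) : ℂ) := by
    intro y hy hys
    rw [hχv y hy ((notMem_DW hab).2 hys)]
    rfl
  have hunit : ∀ ε : ℤˣ, ((ε : ℤ) : ℂ) * ((ε : ℤ) : ℂ) = 1 := by
    intro ε
    rcases Int.units_eq_one_or ε with h1 | h1 <;> rw [h1] <;> norm_num
  have hne : χ c ≠ 0 := by
    rw [hval c hc hcs]
    intro h1
    have := hunit (θ ⟨c, hc⟩)
    rw [h1, zero_mul] at this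
    exact zero_ne_one this
  obtain ⟨w, hw⟩ := h.exists_swaps hab
  obtain ⟨X, Y, ψ₁, ψ₂, hdat⟩ := exists_data' h hab hp hN hw hχ hcD hne
  obtain ⟨m, hm⟩ := hdat.ratio hp
  have hch := isIrr_isCharacter hχ
  -- the two values
  have hdc : d * c ∈ C := C.mul_mem hd hc
  have hdcs : Swaps ((d * c : Wab G a b) : G) a b := hcs.D_mul hdD
  have hv2 : χ (d * c) = -χ c := by
    rw [hval _ hdc hdcs, hval c hc hcs]
    have h1 : (⟨d * c, hdc⟩ : C) = ⟨d, hd⟩ * ⟨c, hc⟩ := rfl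
    rw [h1, map_mul, hθ]
    push_cast
    ring
  have hcc : χ c * χ c = 1 := by rw [hval c hc hcs]; exact hunit _
  have hintχ : IsIntegral ℤ (χ c) := Characters.GaloisBasic.isIntegral_apply hch c
  -- `m = 0`
  have hm0 : m = 0 := by
    obtain ⟨z, hz, he⟩ := dvd_split h hgen hab hp hp2 hN hw hcomm hch hdat hm hcs hdcs
    have h1 : (1 + (p : ℂ) ^ m) * (z * χ c) = 2 := by
      rw [hv2] at he
      linear_combination (-χ c) * he + 2 * hcc
    have hne0 : (1 + (p : ℂ) ^ m) ≠ 0 := by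
      have : (1 + p ^ m : ℕ) ≠ 0 := by (clear * -; positivity)
      exact_mod_cast this
    have h2 : ∃ r : ℚ, z * χ c = r := ⟨2 / (1 + (p : ℚ) ^ m), by
      push_cast
      field_simp
      linear_combination h1⟩
    obtain ⟨t, ht⟩ := Characters.GaloisBasic.exists_int_of_isIntegral (hz.mul hintχ) h2
    rw [ht] at h1
    have h3 : (1 + (p : ℤ) ^ m) * t = 2 := by exact_mod_cast h1
    by_contra hm0
    have h4 : 3 ≤ p := by
      have := hp.two_le
      omega
    have h5 : 3 ≤ p ^ m := h4.trans (Nat.le_self_pow hm0 p)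
    have h6 : (3 : ℤ) ≤ (p : ℤ) ^ m := by exact_mod_cast h5
    have h7 : 0 < t := by nlinarith only [h3, h5]
    nlinarith only [h3, h5, h7]
  have hXY : X = Y := by
    rcases hm with hm | hm
    · rw [hm, hm0, pow_zero, mul_one]
    · rw [hm, hm0, pow_zero, mul_one]
  have hXX : (X : ℂ) * X = p ^ k := by
    have h1 := hdat.mul
    rw [← hXY] at h1
    exact_mod_cast h1
  have hint₁ : ∀ g, IsIntegral ℤ (ψ₁ g) := fun g =>
    Characters.GaloisBasic.isIntegral_apply (isIrr_isCharacter hdat.irr₁) g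
  have hint₂ : ∀ g, IsIntegral ℤ (ψ₂ g) := fun g =>
    Characters.GaloisBasic.isIntegral_apply (isIrr_isCharacter hdat.irr₂) g
  constructor
  · -- the values at the elements of `U a`
    have key : ∀ y : Wab G a b, Swaps (y : G) a b → ∃ δ, IsIntegral ℤ δ ∧ 2 * δ = χ 1 + X * χ y := by
      intro y hy
      obtain ⟨u, hu, hu1, hup⟩ := pr_mu h hgen hab hp hp2 hN hw hy
      have h1 := hdat.cent₁ (m := 0) hN (isCharacter_isClassFunction hch)
        (by rw [pow_zero, mul_one]; exact hXY) hu hu1 (fun v hv => hcomm v hv u hu)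
      rw [hup, pow_zero] at h1
      exact ⟨ψ₁ u, hint₁ u, by rw [← h1]; ring⟩
    obtain ⟨δ₁, hδ₁, he₁⟩ := key c hcs
    obtain ⟨δ₂, hδ₂, he₂⟩ := key _ hdcs
    rw [hv2] at he₂
    obtain ⟨n, hn⟩ := isCharacter_apply_one hch
    have h1 : 4 * (δ₁ * δ₂) = (n : ℂ) ^ 2 - p ^ k := by
      rw [← hXX, ← hn]
      linear_combination 2 * δ₂ * he₁ + (χ 1 + X * χ c) * he₂ - (X : ℂ) * X * hcc
    obtain ⟨t, ht⟩ := Characters.GaloisBasic.exists_int_of_isIntegral (hδ₁.mul hδ₂)
      ⟨((n : ℚ) ^ 2 - p ^ k) / 4, by push_cast; linear_combination h1 / 4⟩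
    rw [ht] at h1
    have h2 : 4 * t = (n : ℤ) ^ 2 - p ^ k := by exact_mod_cast h1
    have h3 : Odd (p ^ k) := (hp.odd_of_ne_two hp2).pow
    have h4 : ((p ^ k : ℕ) : ℤ) = (n : ℤ) ^ 2 - 4 * t := by push_cast; linarith only [h2]
    obtain ⟨s, hs⟩ := h3
    have h5 : Odd n := by
      by_contra hc'
      rw [Nat.not_odd_iff_even] at hc'
      obtain ⟨r, hr⟩ := hc'
      rw [hs, hr] at h4
      push_cast at h4
      have : (2 : ℤ) * (s - (2 * r * r - 2 * t)) = -1 := by linear_combination h4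
      omega
    obtain ⟨r, hr⟩ := h5
    have h6 : ((p ^ k : ℕ) : ℤ) = 4 * (r * r + r - t) + 1 := by
      rw [h4, hr]
      push_cast
      ring
    (clear * - h6; omega)
  · rintro z hz q hq ⟨ε, hε⟩
    by_cases hzt : ∃ c₀ : Ω, z • c₀ ≠ c₀
    swap
    · -- `z` acts trivially
      push Not at hzt
      have h1 : Nat.card (fixedBy Ω z) = Nat.card Ω := by
        have : fixedBy Ω z = Set.univ := Set.eq_univ_of_forall hzt
        rw [this, Nat.card_coe_set_eq, Set.ncard_univ]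
      rw [hq, h.card a, hN] at h1
      have h2 : q = p ^ k := by omega
      rw [h2, pow_two]
      exact dvd_mul_right _ _
    obtain ⟨c₀, hc₀⟩ := hzt
    have hB : (Nat.card (stabilizer G a) : ℂ) ≠ 0 := by exact_mod_cast Nat.card_pos.ne'
    have hoddU : Odd (Nat.card (U a)) := by
      rw [hN]
      exact (hp.odd_of_ne_two hp2).pow
    -- the value of `χ` at the conjugates of `z` outside `D`
    have hχz : ∀ y : Wab G a b, Swaps (y : G) a b → IsConj z (y : G) → χ y = ((ε : ℤ) : ℂ) := by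
      intro y hy hyz
      obtain ⟨x, hx⟩ := hconj y ((notMem_DW hab).2 hy)
      have h1 : x⁻¹ * y * x ∉ DW G a b := by
        rw [mem_conj_iff hD]
        exact (notMem_DW hab).2 hy
      have h2 : IsConj z ((x⁻¹ * y * x : Wab G a b) : G) := by
        refine hyz.trans (isConj_iff.2 ⟨((x⁻¹ : Wab G a b) : G), ?_⟩)
        push_cast
        group
      have h3 := hε _ hx ((notMem_DW hab).1 h1) h2
      have h4 := isCharacter_isClassFunction hch y x⁻¹
      rw [inv_inv] at h4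
      rw [← h4, hval _ hx ((notMem_DW hab).1 h1), h3]
    have hS₁ : S₁ (h.rankOne hab hw) χ z = ((ε : ℤ) : ℂ) *
        ((Nat.card Ω - Nat.card (fixedBy Ω z) : ℕ) * Nat.card (stabilizer G a)) := by
      have h1 : S₁ (h.rankOne hab hw) χ z =
          ∑ g : G, if g * z * g⁻¹ ∉ stabilizer G a then ((ε : ℤ) : ℂ) else 0 := by
        refine Finset.sum_congr rfl fun g _ => ?_
        by_cases hg : g * z * g⁻¹ ∈ stabilizer G a
        · rw [if_pos hg, if_neg (not_not.2 hg)]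
        · rw [if_neg hg, if_pos hg]
          have h3 : (g * z * g⁻¹) * (g * z * g⁻¹) = 1 := by
            calc g * z * g⁻¹ * (g * z * g⁻¹) = g * (z * z) * g⁻¹ := by group
              _ = 1 := by rw [hz]; group
          refine hχz _ ((mem_Wab_not_mem_Dab hab).1 ⟨(pr _ _).2, fun hc' => hg ?_⟩)
            ((isConj_iff.2 ⟨g, rfl⟩ : IsConj z (g * z * g⁻¹)).trans (isConj_pr _ hoddU h3))
          exact (pr_mem_D _ _).1 hc'
      rw [h1, ← Finset.sum_filter, Finset.sum_const, nsmul_eq_mul, ← Fintype.card_subtype,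
        ← Nat.card_eq_fintype_card, card_move h a z]
      push_cast
      ring
    have h1 := hdat.val₁ z
    have h2 := hdat.val₂ z
    have hXY' : (Y : ℂ) = X := by rw [hXY]
    rw [hXY'] at h1 h2
    -- `S₁ = |B| X (ψ₁ - ψ₂)`
    have h3 : ((ε : ℤ) : ℂ) * ((Nat.card Ω - Nat.card (fixedBy Ω z) : ℕ) : ℂ) =
        X * (ψ₁ z - ψ₂ z) := by
      apply mul_left_cancel₀ hB
      rw [hS₁] at h1 h2
      linear_combination (h2 - h1) / 2
    have hle : q ≤ p ^ k := by
      have h4 : Nat.card (fixedBy Ω z) ≤ Nat.card Ω :=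
        Nat.card_le_card_of_injective _ Subtype.val_injective
      rw [hq, h.card a, hN] at h4
      omega
    have h4 : Nat.card Ω - Nat.card (fixedBy Ω z) = p ^ k - q := by
      rw [hq, h.card a, hN]
      omega
    rw [h4, Nat.cast_sub hle] at h3
    push_cast at h3
    have h5 : ((p : ℂ) ^ k - q) ^ 2 = p ^ k * (ψ₁ z - ψ₂ z) ^ 2 := by
      have h6 := hunit ε
      calc ((p : ℂ) ^ k - q) ^ 2 = (((ε : ℤ) : ℂ) * ((ε : ℤ) : ℂ)) * ((p : ℂ) ^ k - q) ^ 2 := by
            rw [h6, one_mul]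
        _ = (((ε : ℤ) : ℂ) * ((p : ℂ) ^ k - q)) ^ 2 := by ring
        _ = (X * X) * (ψ₁ z - ψ₂ z) ^ 2 := by rw [h3]; ring
        _ = _ := by rw [hXX]
    have hpk : (p : ℂ) ^ k ≠ 0 := pow_ne_zero _ (by exact_mod_cast hp.ne_zero)
    obtain ⟨t, ht⟩ := Characters.GaloisBasic.exists_int_of_isIntegral
      (((hint₁ z).sub (hint₂ z)).pow 2) ⟨((p : ℚ) ^ k - q) ^ 2 / p ^ k, by
        push_cast
        rw [h5]
        field_simp⟩
    rw [ht] at h5
    have h6 : ((p : ℤ) ^ k - q) ^ 2 = p ^ k * t := by exact_mod_cast h5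
    have h7 : ((p ^ k : ℕ) : ℤ) ∣ ((q ^ 2 : ℕ) : ℤ) := by
      refine ⟨t - p ^ k + 2 * q, ?_⟩
      push_cast
      linear_combination h6
    exact_mod_cast h7

end

end Cfsg.Agent.HKS.AbelianQ
end

private theorem dce_a084e468d01f : _root_.True := by
  try have : _root_.True := by simp only [_root_.Cfsg.Agent.HKS.LinChar.S₀.congr_simp]
  try have : _root_.True := by simp only [_root_.Cfsg.Agent.HKS.LinChar.S₁.congr_simp]
  exact _root_.True.intro
end

-- part: HKS/Dichotomy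
section
prune_inst 0x201034402322020000180012c0001c7282000002006880002040010204854d6080072920ea2015100002aa44003c004811000040420000000a000c00011c05a180800200b148a10022008f002081180000000000000000000000000000000000200000000
set_option linter.all false
open scoped Cfsg.Agent.FastGrp

-- part: HKS/BlockDicho
section
/-!
# A consequence of Brauer's second main theorem

Let `s` be a `p`-element of `G`, `C = C_G(s)`, `R` a normal `p'`-subgroup of `C`, and let `Z` be a
normal subset of `G` with `Z ∩ C = R`. Then an irreducible character `χ` of `G` either satisfies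
`χ(s v) = χ(s)` for all `v ∈ R`, or `∑_{v ∈ R} χ(s v) = 0`, and the alternative is decided by
`∑_{z ∈ Z} χ(z) / χ(1)` modulo `p`.
-/

set_option autoImplicit false

open Cfsg
open scoped ComplexConjugate

namespace Cfsg.Agent.HKS.BlockDicho

open Cfsg.Agent.Blocks Cfsg.Agent.Blocks.SecondMain Cfsg.Agent.Blocks.GroupAlg
  Cfsg.Agent.Characters.Core

variable {G : Type*} [Group G]

theorem blockPart_eq_zero [Finite G] (p : ℕ) [Fact p.Prime] {M : Ideal AlgInt}
    (hM : IsPModular p M) {s : G} (hs : ∃ k : ℕ, orderOf s = p ^ k) (χ : IrrCharacter G)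
    {C : Subgroup G} (hC : C = Subgroup.centralizer ({s} : Set G)) (ψ : IrrCharacter C)
    (hn : ¬ IsInducedBlock M C (blockOf M (ψ : C → ℂ)) (blockOf M (χ : G → ℂ)))
    (y : C) (hy : ¬ p ∣ orderOf y) :
    blockPart (blockOf M (ψ : C → ℂ)) (fun c : C => (χ : G → ℂ) (s * c)) y = 0 := by
  subst hC
  have hMp : M.IsPrime := hM.2.1.isPrime
  have hb : IsPBlock M (blockOf M (ψ : (Subgroup.centralizer ({s} : Set G)) → ℂ)) := ⟨ψ, rfl⟩
  have hB : IsPBlock M (blockOf M (χ : G → ℂ)) := ⟨χ, rfl⟩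
  exact S0923.result p M hM s hs _ hB χ (Basic.mem_blockOf_self χ) _ hb hn y hy

theorem blockPart_eq_finsum [Finite G] (b : Set (IrrCharacter G)) [Fintype G] (θ : G → ℂ)
    (y : G) : blockPart b θ y = ∑ᶠ φ ∈ b, classInner θ (φ : G → ℂ) * (φ : G → ℂ) y := by
  unfold blockPart
  refine finsum_mem_congr rfl fun φ _ => ?_
  congr 1
  convert rfl

/-- Same block, as an equivalence relation. -/
def blockSetoid (G : Type*) [Group G] (M : Ideal AlgInt) (hM : M.IsPrime) :
    Setoid (IrrCharacter G) where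
  r := fun ψ φ => SameBlock M (ψ : G → ℂ) (φ : G → ℂ)
  iseqv :=
    { refl := fun ψ g => by
        rw [sub_self]
        exact Local.memLocalIdeal_zero
      symm := fun {ψ φ} h g => Local.memLocalIdeal_sub_comm (h g)
      trans := fun {ψ φ χ} h h' g => Local.memLocalIdeal_sub_trans (h g) (h' g) }

open Classical in
/-- The generalised decomposition of `χ(s y)` along the blocks inducing the block of `χ`. -/
theorem expansion [Finite G] (p : ℕ) [Fact p.Prime] {M : Ideal AlgInt} (hM : IsPModular p M)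
    {s : G} (hs : ∃ k : ℕ, orderOf s = p ^ k) (χ : IrrCharacter G) {C : Subgroup G}
    (hC : C = Subgroup.centralizer ({s} : Set G)) [Fintype C] [Fintype (IrrCharacter C)]
    (y : C) (hy : ¬ p ∣ orderOf y) :
    (χ : G → ℂ) (s * y) = ∑ ψ ∈ Finset.univ.filter (fun ψ : IrrCharacter C =>
        IsInducedBlock M C (blockOf M (ψ : C → ℂ)) (blockOf M (χ : G → ℂ))),
      classInner (fun c : C => (χ : G → ℂ) (s * c)) (ψ : C → ℂ) * (ψ : C → ℂ) y := by
  have hMp : M.IsPrime := hM.2.1.isPrime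
  have hθcl : IsClassFunction C (fun c : C => (χ : G → ℂ) (s * c)) := by
    intro c a
    have ha : (a : G) * s = s * a := Subgroup.mem_centralizer_singleton_iff.1 (hC.le a.2)
    have : s * ((a * c * a⁻¹ : C) : G) = (a : G) * (s * (c : G)) * (a : G)⁻¹ := by
      push_cast
      rw [← mul_assoc, ← mul_assoc, ← mul_assoc, ← ha]
    simp only [this]
    exact Basic.irr_conj χ.2 _ _
  have h1 := congrFun (classFunction_eq_sum hθcl) y
  rw [Finset.sum_apply] at h1
  simp only [Pi.smul_apply, smul_eq_mul] at h1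
  rw [h1, ← Finset.sum_filter_add_sum_filter_not Finset.univ
    (fun ψ : IrrCharacter C => IsInducedBlock M C (blockOf M (ψ : _ → ℂ))
          (blockOf M (χ : G → ℂ)))]
  rw [add_eq_left]
  refine Finset.sum_cancels_of_partition_cancels (blockSetoid C M hMp) fun ψ hψ => ?_
  have hψn := (Finset.mem_filter.1 hψ).2
  have h3 := blockPart_eq_zero p hM hs χ hC ψ hψn y hy
  rw [blockPart_eq_finsum, finsum_mem_eq_finite_toFinset_sum _ (Set.toFinite _)] at h3
  rw [← h3]
  refine Finset.sum_congr ?_ fun _ _ => rfl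
  ext φ
  simp only [Finset.mem_filter, Finset.mem_univ, true_and, Set.Finite.mem_toFinset]
  constructor
  · rintro ⟨-, h5⟩
    exact Basic.sameBlock_symm h5
  · intro h5
    refine ⟨?_, Basic.sameBlock_symm h5⟩
    rw [Basic.blockOf_eq_of_sameBlock (Basic.sameBlock_symm h5)]
    exact hψn

/-- The sum of the elements of a finite set. -/
noncomputable def setSum [Finite G] (Z : Set G) : MonoidAlgebra ℂ G :=
  ∑ z ∈ (Set.toFinite Z).toFinset, MonoidAlgebra.single z 1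

omit [Group G] in
open Classical in
theorem coeff_setSum [Finite G] (Z : Set G) (g : G) :
    (setSum Z).coeff g = if g ∈ Z then 1 else 0 := by
  rw [setSum, MonoidAlgebra.coeff_sum, Finsupp.finsetSum_apply]
  simp only [MonoidAlgebra.coeff_single, Finsupp.single_apply]
  rw [Finset.sum_ite_eq']
  simp

theorem setSum_mem_center [Finite G] {Z : Set G} (hZ : ∀ z ∈ Z, ∀ g, g * z * g⁻¹ ∈ Z) :
    setSum Z ∈ Subalgebra.center ℂ (MonoidAlgebra ℂ G) := by
  classical
  rw [mem_center_iff]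
  intro z g
  simp only [coeff_setSum]
  have h1 : g * z * g⁻¹ ∈ Z ↔ z ∈ Z := by
    refine ⟨fun h => ?_, fun h => hZ z h g⟩
    have := hZ _ h g⁻¹
    have h2 : g⁻¹ * (g * z * g⁻¹) * g⁻¹⁻¹ = z := by group
    rwa [h2] at this
  simp only [h1]

omit [Group G] in
theorem memR_setSum [Finite G] {p : ℕ} {M : Ideal AlgInt} (hM : IsPModular p M) (Z : Set G) :
    Cfsg.Agent.Blocks.Twist.MemR M (setSum Z) := by
  classical
  have hMp : M.IsPrime := hM.2.1.isPrime
  intro g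
  rw [coeff_setSum]
  split_ifs
  · exact Local.memLocalRing_one
  · exact Local.memLocalRing_zero

/-- The status of `χ`. -/
def Status (M : Ideal AlgInt) [Finite G] (Z : Set G) (χ : G → ℂ) : Prop :=
  ¬ MemLocalIdeal M (omega χ (setSum Z))

/-- A block `b` of `C` inducing the block of `χ` consists of characters with `R` in the kernel if
`χ` has status, and of characters without `R` in the kernel otherwise. -/
theorem sum_R [Finite G] {p : ℕ} {M : Ideal AlgInt} (hM : IsPModular p M)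
    (χ : IrrCharacter G) {C : Subgroup G} (R : Subgroup G) [Fintype R] (hRC : R ≤ C)
    (hRn : ∀ c ∈ C, ∀ v ∈ R, c * v * c⁻¹ ∈ R) (hRp : ¬ p ∣ Nat.card R) (Z : Set G)
    (hZn : ∀ z ∈ Z, ∀ g, g * z * g⁻¹ ∈ Z) (hZC : ∀ z ∈ C, (z ∈ Z ↔ z ∈ R))
    (ψ : IrrCharacter C)
    (hind : IsInducedBlock M C (blockOf M (ψ : C → ℂ)) (blockOf M (χ : G → ℂ))) :
    (Status M Z (χ : G → ℂ) → ∀ v (hv : v ∈ R), (ψ : C → ℂ) ⟨v, hRC hv⟩ = (ψ : C → ℂ) 1) ∧
    (¬ Status M Z (χ : G → ℂ) → ∑ v : R, (ψ : C → ℂ) ⟨v, hRC v.2⟩ = 0) := by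
  classical
  have hMp : M.IsPrime := hM.2.1.isPrime
  have := Fintype.ofFinite C
  have hR' : (R.subgroupOf C).Normal := by
    refine ⟨fun x hx g => ?_⟩
    rw [Subgroup.mem_subgroupOf] at hx ⊢
    exact hRn g g.2 x hx
  have := Fintype.ofFinite (R.subgroupOf C)
  have hψb : ψ ∈ blockOf M (ψ : C → ℂ) := Basic.mem_blockOf_self ψ
  have hχB : χ ∈ blockOf M (χ : G → ℂ) := Basic.mem_blockOf_self χ
  have h1 := omega_res_sub_omega hM hind hψb hχB (setSum_mem_center hZn) (memR_setSum hM Z)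
  have h2 := Local.memLocalIdeal_iff_of_sub h1
  have e := Subgroup.subgroupOfEquivOfLe hRC
  have hcard : Nat.card (R.subgroupOf C) = Nat.card R := Nat.card_congr e.toEquiv
  have hsum : ∑ x : R.subgroupOf C, (ψ : C → ℂ) x = ∑ v : R, (ψ : C → ℂ) ⟨v, hRC v.2⟩ := by
    refine Fintype.sum_equiv (Subgroup.subgroupOfEquivOfLe hRC).toEquiv _ _ fun x => ?_
    rfl
  have hψ1 : (ψ : C → ℂ) 1 ≠ 0 := Basic.irr_one_ne_zero ψ.2
  have h3 : omega (ψ : C → ℂ) (res C (setSum Z)) =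
      (∑ v : R, (ψ : C → ℂ) ⟨v, hRC v.2⟩) / (ψ : C → ℂ) 1 := by
    rw [omega_def, lin_apply]
    congr 1
    rw [← hsum]
    symm
    refine Fintype.sum_of_injective (fun x : R.subgroupOf C => (x : C)) Subtype.val_injective
      (fun x : R.subgroupOf C => (ψ : C → ℂ) x) _ ?_ ?_
    · intro k hk
      rw [coeff_res, coeff_setSum, if_neg, zero_mul]
      intro hkZ
      exact hk ⟨⟨k, Subgroup.mem_subgroupOf.2 ((hZC k k.2).1 hkZ)⟩, rfl⟩
    · intro x
      rw [coeff_res, coeff_setSum, if_pos, one_mul]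
      exact (hZC _ (x : C).2).2 (Subgroup.mem_subgroupOf.1 x.2)
  rw [h3] at h2
  rcases ReynoldsAux.sum_normal_eq_zero_or ψ.2 (R.subgroupOf C) with h4 | h4
  · rw [hsum] at h4
    refine ⟨fun hst => ?_, fun _ => h4⟩
    exfalso
    apply hst
    rw [← h2, h4, zero_div]
    exact Local.memLocalIdeal_zero
  · refine ⟨fun _ v hv => ?_, fun hst => ?_⟩
    · have h5 : ∑ x ∈ Finset.univ.filter (fun x : C => x ∈ R.subgroupOf C), (ψ : C → ℂ) x =
          ((Finset.univ.filter (fun x : C => x ∈ R.subgroupOf C)).card : ℂ) * (ψ : C → ℂ) 1 := by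
        have h6 : ∑ x ∈ Finset.univ.filter (fun x : C => x ∈ R.subgroupOf C), (ψ : C → ℂ) x =
            ∑ x : R.subgroupOf C, (ψ : C → ℂ) x :=
          Finset.sum_subtype _ (by simp) _
        have h7 : (Finset.univ.filter (fun x : C => x ∈ R.subgroupOf C)).card =
            Nat.card (R.subgroupOf C) := by
          rw [Nat.card_eq_fintype_card, Fintype.card_subtype]
        rw [h6, h7, h4]
      exact PrincipalKernel.apply_eq_of_sum_eq (isIrr_isCharacter ψ.2) h5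
        (Finset.mem_filter.2 ⟨Finset.mem_univ _, Subgroup.mem_subgroupOf.2 hv⟩)
    · exfalso
      apply hst
      intro hc
      rw [← h2, ← hsum, h4, mul_div_assoc, div_self hψ1, mul_one, hcard,
        Local.memLocalIdeal_natCast_iff hM] at hc
      exact hRp hc

/-- **The dichotomy.** -/
theorem dichotomy [Finite G] {p : ℕ} [Fact p.Prime] {M : Ideal AlgInt} (hM : IsPModular p M)
    {s : G} (hs : ∃ k : ℕ, orderOf s = p ^ k) (χ : IrrCharacter G) (R : Subgroup G) [Fintype R]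
    (hRs : ∀ v ∈ R, v * s = s * v) (hRn : ∀ c, c * s = s * c → ∀ v ∈ R, c * v * c⁻¹ ∈ R)
    (hRp : ¬ p ∣ Nat.card R) (Z : Set G) (hZn : ∀ z ∈ Z, ∀ g, g * z * g⁻¹ ∈ Z)
    (hZC : ∀ z, z * s = s * z → (z ∈ Z ↔ z ∈ R)) :
    (Status M Z (χ : G → ℂ) → ∀ v ∈ R, (χ : G → ℂ) (s * v) = (χ : G → ℂ) s) ∧
    (¬ Status M Z (χ : G → ℂ) → ∑ v : R, (χ : G → ℂ) (s * v) = 0) := by
  classical
  obtain ⟨C, hC⟩ : ∃ C : Subgroup G, C = Subgroup.centralizer ({s} : Set G) := ⟨_, rfl⟩
  have := Fintype.ofFinite C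
  have := finite_irr (G := C)
  have := Fintype.ofFinite (IrrCharacter C)
  have hmem : ∀ c, c ∈ C ↔ c * s = s * c := by
    intro c
    rw [hC]
    exact Subgroup.mem_centralizer_singleton_iff
  have hRC : R ≤ C := fun v hv => (hmem v).2 (hRs v hv)
  have key : ∀ (v : G) (hv : v ∈ R), (χ : G → ℂ) (s * v) = ∑ ψ ∈ Finset.univ.filter
      (fun ψ : IrrCharacter C =>
        IsInducedBlock M C (blockOf M (ψ : C → ℂ)) (blockOf M (χ : G → ℂ))),
      classInner (fun c : C => (χ : G → ℂ) (s * c)) (ψ : C → ℂ) *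
        (ψ : C → ℂ) ⟨v, hRC hv⟩ := by
    intro v hv
    refine expansion p hM hs χ hC ⟨v, hRC hv⟩ ?_
    intro hp
    apply hRp
    refine hp.trans ?_
    rw [← Subgroup.orderOf_coe]
    change orderOf v ∣ _
    have : orderOf (⟨v, hv⟩ : R) = orderOf v := (Subgroup.orderOf_coe (⟨v, hv⟩ : R)).symm
    rw [← this]
    exact orderOf_dvd_natCard _
  have hR : ∀ ψ : IrrCharacter C,
      IsInducedBlock M C (blockOf M (ψ : C → ℂ)) (blockOf M (χ : G → ℂ)) →
      (Status M Z (χ : G → ℂ) → ∀ v (hv : v ∈ R), (ψ : C → ℂ) ⟨v, hRC hv⟩ = (ψ : C → ℂ) 1) ∧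
      (¬ Status M Z (χ : G → ℂ) → ∑ v : R, (ψ : C → ℂ) ⟨v, hRC v.2⟩ = 0) := fun ψ hψ =>
    sum_R hM χ R hRC (fun c hc => hRn c ((hmem c).1 hc)) hRp Z hZn
      (fun z hz => hZC z ((hmem z).1 hz)) ψ hψ
  constructor
  · intro hst v hv
    have h1 := key 1 R.one_mem
    rw [mul_one] at h1
    rw [key v hv, h1]
    refine Finset.sum_congr rfl fun ψ hψ => ?_
    rw [(hR ψ (Finset.mem_filter.1 hψ).2).1 hst v hv,
      (hR ψ (Finset.mem_filter.1 hψ).2).1 hst 1 R.one_mem]
  · intro hst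
    rw [Finset.sum_congr rfl fun (v : R) _ => key v v.2, Finset.sum_comm]
    refine Finset.sum_eq_zero fun ψ hψ => ?_
    rw [← Finset.mul_sum, (hR ψ (Finset.mem_filter.1 hψ).2).2 hst, mul_zero]

end Cfsg.Agent.HKS.BlockDicho
end

-- part: HKS/Dichotomy
section
/-!
# Rank one groups, `|Q|` not a prime power: characters with `Q`-fixed vectors

`RankOne.const_of_not_primePow`: every irreducible character `χ` of `G` with nonzero `Q`-fixed
vectors is constant on `Q ∖ {1}`.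
-/

set_option autoImplicit false

open Cfsg
open scoped ComplexConjugate

namespace Cfsg.Agent.HKS

open Characters.Core OddOrderLocal.NilpotentCores SuzukiRankOne

namespace RankOne

variable {G : Type*} [Group G] {B Q D W : Subgroup G} {w : G}

theorem normal_Q (h : RankOne B Q D W w) : (Q.subgroupOf B).Normal := by
  refine ⟨fun x hx g => ?_⟩
  rw [Subgroup.mem_subgroupOf] at hx ⊢
  exact h.Qn g g.2 x hx

theorem frattini (h : RankOne B Q D W w) : M1Mackey.Frattini B Q := by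
  intro x hx y hy
  obtain ⟨u, hu, b, hb, rfl⟩ := h.bruhat x hx
  obtain ⟨q, hq, d, hd, rfl⟩ := h.Bmul y hy
  refine ⟨u * d * u⁻¹, B.mul_mem (B.mul_mem (h.QB hu) (h.DB hd)) (B.inv_mem (h.QB hu)), ?_, ?_⟩
  · have h1 : (u * w * b)⁻¹ * (u * d * u⁻¹) * (u * w * b) = b⁻¹ * (w⁻¹ * d * w) * b := by group
    rw [h1]
    exact B.mul_mem (B.mul_mem (B.inv_mem hb) (h.DB (h.winv_conj hd))) hb
  · have h1 : (u * d * u⁻¹)⁻¹ * (q * d) = u * (d⁻¹ * (u⁻¹ * q) * d) := by group
    rw [h1]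
    exact Q.mul_mem hu (h.Qn' (h.DB hd) (Q.mul_mem (Q.inv_mem hu) hq))

theorem card_dsub_le (h : RankOne B Q D W w) [Finite G] {x : G} (hx : x ∉ B) :
    Nat.card (OddOrderCharacters.Clifford.dsub B x) ≤ Nat.card D := by
  obtain ⟨u, hu, b, hb, rfl⟩ := h.bruhat x hx
  have key : ∀ t : OddOrderCharacters.Clifford.dsub B (u * w * b),
      u⁻¹ * ((t : B) : G) * u ∈ D := by
    intro t
    have h1 := (OddOrderCharacters.Clifford.mem_dsub B _ (t : B)).1 t.2
    refine h.conjD _ (B.mul_mem (B.mul_mem (B.inv_mem (h.QB hu)) (t : B).2) (h.QB hu)) ?_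
    have h2 : w⁻¹ * (u⁻¹ * ((t : B) : G) * u) * w =
        b * ((u * w * b)⁻¹ * ((t : B) : G) * (u * w * b)) * b⁻¹ := by group
    rw [h2]
    exact B.mul_mem (B.mul_mem hb h1) (B.inv_mem hb)
  refine Nat.card_le_card_of_injective (fun t => (⟨_, key t⟩ : D)) fun s t hst => ?_
  have h1 : u⁻¹ * ((s : B) : G) * u = u⁻¹ * ((t : B) : G) * u := congrArg Subtype.val hst
  exact Subtype.ext (Subtype.ext (mul_left_cancel (mul_right_cancel h1)))

theorem not_mem_conj (h : RankOne B Q D W w) {v x : G} (hv : v ∈ Q) (hv1 : v ≠ 1) (hx : x ∉ B) :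
    x⁻¹ * v * x ∉ B := by
  obtain ⟨u, hu, b, hb, rfl⟩ := h.bruhat x hx
  intro hc
  have h1 : u⁻¹ * v * u ∈ Q := Q.mul_mem (Q.mul_mem (Q.inv_mem hu) hv) hu
  apply h.not_mem_of_Q h1
  · intro h2
    apply hv1
    calc v = u * (u⁻¹ * v * u) * u⁻¹ := by group
      _ = 1 := by rw [h2]; group
  · have h2 : w⁻¹ * (u⁻¹ * v * u) * w = b * ((u * w * b)⁻¹ * v * (u * w * b)) * b⁻¹ := by group
    rw [h2]
    exact B.mul_mem (B.mul_mem hb hc) (B.inv_mem hb)

/-- An irreducible character with `Q`-fixed vectors is, or is one of two constituents of, a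
character that is constant on `Q ∖ {1}` (with nonzero value). -/
theorem exists_compl (h : RankOne B Q D W w) [Fintype G] [Fintype Q] {χ : G → ℂ}
    (hχ : IsIrrCharacter G χ) (hs : ∑ u : Q, χ u ≠ 0) :
    ∃ c : ℂ, c ≠ 0 ∧ ((∀ u ∈ Q, u ≠ 1 → χ u = c) ∨
      ∃ χ' : G → ℂ, IsIrrCharacter G χ' ∧ ∀ u ∈ Q, u ≠ 1 → χ u + χ' u = c) := by
  classical
  have := Fintype.ofFinite B
  have := h.normal_Q
  have := Fintype.ofFinite (Q.subgroupOf B)
  have hsum : ∑ z : Q.subgroupOf B, χ ((z : B) : G) ≠ 0 := by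
    have h1 : ∑ z : Q.subgroupOf B, χ ((z : B) : G) = ∑ u : Q, χ u :=
      Fintype.sum_equiv (Subgroup.subgroupOfEquivOfLe h.QB).toEquiv _ _ fun x => rfl
    rwa [h1]
  obtain ⟨μ, hμ⟩ := M1Mackey.exists_constituent B Q hχ hsum
  set Λ : G → ℂ := indFun B ((μ : B ⧸ Q.subgroupOf B → ℂ) ∘ QuotientGroup.mk' (Q.subgroupOf B))
    with hΛ
  have hΛc : IsCharacter G Λ := S0148.result B _
    (isIrr_isCharacter (isIrr_comp _ (QuotientGroup.mk'_surjective _) μ.2))
  have hΛQ : ∀ u ∈ Q, u ≠ 1 → Λ u = (μ : B ⧸ Q.subgroupOf B → ℂ) 1 := by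
    intro u hu hu1
    exact M1Mackey.indFun_eq B Q h.QB _ u hu fun x hx => h.not_mem_conj hu hu1 hx
  have hμ1 : (μ : B ⧸ Q.subgroupOf B → ℂ) 1 ≠ 0 := isIrr_apply_one_ne_zero μ.2
  have hnorm := M1Mackey.norm_le_two B Q h.frattini (Nat.card D)
    (fun x hx => h.card_dsub_le hx) (by
      rw [h.card_eq, sq, h.card_B]
      apply le_of_eq
      ring) (μ : B ⧸ Q.subgroupOf B → ℂ) μ.2
  rw [← hΛ] at hnorm
  obtain ⟨k, hk⟩ := classInner_isNat hΛc hΛc
  rw [hk, Complex.natCast_re] at hnorm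
  have hk2 : k ≤ 2 := by exact_mod_cast hnorm
  refine ⟨(μ : B ⧸ Q.subgroupOf B → ℂ) 1, hμ1, ?_⟩
  interval_cases k
  · exfalso
    apply hμ
    have h1 : Λ = 0 := OddOrderCharacters.InnerLite.eq_zero_of_ci_self (by rw [hk]; simp)
    rw [h1]
    exact classInner_zero_left _
  · left
    have h1 : IsIrrCharacter G Λ := isIrr_of_classInner_self hΛc (by rw [hk]; simp)
    have h2 : Λ = χ := by
      by_contra hne
      exact hμ (classInner_irr_ne h1 hχ hne)
    intro u hu hu1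
    rw [← h2]
    exact hΛQ u hu hu1
  · right
    obtain ⟨α, β, hα, hβ, hαβ, hsum'⟩ := exists_add_of_norm_two hΛc (by rw [hk]; simp)
    rw [hsum', classInner_add_left] at hμ
    by_cases h1 : α = χ
    · subst h1
      refine ⟨β, hβ, fun u hu hu1 => ?_⟩
      rw [← hΛQ u hu hu1, hsum']
      rfl
    · by_cases h2 : β = χ
      · subst h2
        refine ⟨α, hα, fun u hu hu1 => ?_⟩
        rw [← hΛQ u hu hu1, hsum', add_comm]
        rfl
      · exfalso
        apply hμ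
        rw [classInner_irr_ne hα hχ h1, classInner_irr_ne hβ hχ h2, add_zero]

theorem mem_oppOf [Finite G] (hQ : Group.IsNilpotent Q) {p : ℕ} [hp : Fact p.Prime] {x : G}
    (hx : x ∈ Q) (hxp : ¬ p ∣ orderOf x) : x ∈ oppOf p Q := by
  have h1 : Subgroup.zpowers x ≤ oppOf p Q := by
    refine le_oppOf hQ (by rwa [Subgroup.zpowers_le]) ?_
    rw [Nat.card_zpowers]
    exact ((Nat.Prime.coprime_iff_not_dvd hp.out).2 hxp).symm
  exact h1 (Subgroup.mem_zpowers x)

theorem not_dvd_of_mem_oppOf [Finite G] {p : ℕ} [hp : Fact p.Prime] {x : G}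
    (hx : x ∈ oppOf p Q) : ¬ p ∣ orderOf x := by
  intro hc
  have h1 := hc.trans ((oppOf p Q).orderOf_dvd_natCard hx)
  have h2 := coprime_oppOf (H := Q) p
  have h3 := Nat.dvd_gcd h1 (dvd_refl p)
  rw [Nat.coprime_iff_gcd_eq_one.1 h2] at h3
  exact hp.out.one_lt.ne' (Nat.dvd_one.1 h3)

/-- `χ(s v) = χ(s)` for a `p`-element `s ≠ 1` and a `p'`-element `v` of `Q`. -/
theorem apply_mul (h : RankOne B Q D W w) [Fintype G] [Fintype Q] (hQ : Group.IsNilpotent Q)
    {χ : G → ℂ} (hχ : IsIrrCharacter G χ) (hsum : ∑ u : Q, χ u ≠ 0) {p : ℕ} [hp : Fact p.Prime]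
    {s : G} (hsQ : s ∈ Q) (hs1 : s ≠ 1) (hs : ∃ k : ℕ, orderOf s = p ^ k) {v : G} (hvQ : v ∈ Q)
    (hv : ¬ p ∣ orderOf v) : χ (s * v) = χ s := by
  classical
  obtain ⟨M, hM⟩ := Blocks.ExistsModular.exists_isPModular hp.out
  have := Fintype.ofFinite (oppOf p Q)
  have hcopr : ∀ v ∈ oppOf p Q, (orderOf v).Coprime (orderOf s) := by
    intro v hv
    obtain ⟨k, hk⟩ := hs
    rw [hk]
    exact Nat.Coprime.pow_right k
      ((Nat.Prime.coprime_iff_not_dvd hp.out).2 (not_dvd_of_mem_oppOf hv)).symm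
  have hRs : ∀ v ∈ oppOf p Q, v * s = s * v := fun v hv =>
    (OddOrderLocal.FittingHall.commute_of_mem_of_coprime_orderOf hQ (oppOf_le hv) hsQ
      (hcopr v hv)).eq
  have hRB : ∀ c ∈ B, ∀ v ∈ oppOf p Q, c * v * c⁻¹ ∈ oppOf p Q := by
    intro c hc v hv
    refine mem_oppOf hQ (h.Qn c hc v (oppOf_le hv)) ?_
    have : orderOf (c * v * c⁻¹) = orderOf v := by
      have := orderOf_injective (MulAut.conj c).toMonoidHom (MulAut.conj c).injective v
      simpa using this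
    rw [this]
    exact not_dvd_of_mem_oppOf hv
  have hsB : ∀ c, c * s = s * c → c ∈ B := fun c hc => h.mem_B_of_commute hsQ hs1 hc
  set Z : Set G := {g | ∃ x : G, x⁻¹ * g * x ∈ oppOf p Q} with hZ
  have hZn : ∀ z ∈ Z, ∀ g, g * z * g⁻¹ ∈ Z := by
    rintro z ⟨x, hx⟩ g
    refine ⟨g * x, ?_⟩
    have : (g * x)⁻¹ * (g * z * g⁻¹) * (g * x) = x⁻¹ * z * x := by group
    rw [this]
    exact hx
  have hZC : ∀ z, z * s = s * z → (z ∈ Z ↔ z ∈ oppOf p Q) := by
    intro z hz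
    constructor
    · rintro ⟨x, hx⟩
      by_cases hxB : x ∈ B
      · have h1 := hRB x hxB _ hx
        have h2 : x * (x⁻¹ * z * x) * x⁻¹ = z := by group
        rwa [h2] at h1
      · by_cases h1 : x⁻¹ * z * x = 1
        · have h2 : z = 1 := by
            calc z = x * (x⁻¹ * z * x) * x⁻¹ := by group
              _ = 1 := by rw [h1]; group
          rw [h2]
          exact Subgroup.one_mem _
        · exfalso
          have h2 := h.not_mem_conj (x := x⁻¹) (oppOf_le hx) h1 (fun hc => hxB (by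
            simpa using B.inv_mem hc))
          apply h2
          have h3 : x⁻¹⁻¹ * (x⁻¹ * z * x) * x⁻¹ = z := by group
          rw [h3]
          exact hsB z hz
    · intro hz'
      exact ⟨1, by simpa using hz'⟩
  have hdich : ∀ ψ : G → ℂ, IsIrrCharacter G ψ →
      (BlockDicho.Status M Z ψ → ∀ v ∈ oppOf p Q, ψ (s * v) = ψ s) ∧
      (¬ BlockDicho.Status M Z ψ → ∑ v : oppOf p Q, ψ (s * v) = 0) := fun ψ hψ =>
    BlockDicho.dichotomy hM hs ⟨ψ, hψ⟩ (oppOf p Q) hRs (fun c hc => hRB c (hsB c hc))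
      (by
        intro hc
        have h2 := coprime_oppOf (H := Q) p
        have h3 := Nat.dvd_gcd hc (dvd_refl p)
        rw [Nat.coprime_iff_gcd_eq_one.1 h2] at h3
        exact hp.out.one_lt.ne' (Nat.dvd_one.1 h3)) Z hZn hZC
  have hvR := mem_oppOf hQ hvQ hv
  have hsv : ∀ v ∈ oppOf p Q, s * v ∈ Q ∧ s * v ≠ 1 := by
    intro v hv
    refine ⟨Q.mul_mem hsQ (oppOf_le hv), fun hc => hs1 ?_⟩
    have h1 : v = s⁻¹ := (inv_eq_of_mul_eq_one_right hc).symm
    have h2 := hcopr v hv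
    rw [h1, orderOf_inv, Nat.coprime_self] at h2
    exact orderOf_eq_one_iff.1 h2
  obtain ⟨c, hc0, hc⟩ := h.exists_compl hχ hsum
  rcases hc with hc | ⟨χ', hχ', hc⟩
  · rw [hc _ (hsv v hvR).1 (hsv v hvR).2, hc s hsQ hs1]
  · by_cases hst : BlockDicho.Status M Z χ
    · exact (hdich χ hχ).1 hst v hvR
    · by_cases hst' : BlockDicho.Status M Z χ'
      · have h1 := (hdich χ' hχ').1 hst' v hvR
        have h2 := hc _ (hsv v hvR).1 (hsv v hvR).2
        have h3 := hc s hsQ hs1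
        rw [h1] at h2
        linear_combination h2 - h3
      · exfalso
        have h1 := (hdich χ hχ).2 hst
        have h2 := (hdich χ' hχ').2 hst'
        have h3 : ∑ v : oppOf p Q, (χ (s * v) + χ' (s * v)) = (Nat.card (oppOf p Q) : ℂ) * c := by
          rw [Finset.sum_congr rfl fun (v : oppOf p Q) _ => hc _ (hsv v v.2).1 (hsv v v.2).2,
            Finset.sum_const, Finset.card_univ, nsmul_eq_mul, Nat.card_eq_fintype_card]
        rw [Finset.sum_add_distrib, h1, h2, add_zero] at h3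
        exact mul_ne_zero card_ne_zero_complex hc0 h3.symm

/-- **Corollary 1.** If `|Q|` is not a prime power, an irreducible character of `G` with nonzero
`Q`-fixed vectors is constant on `Q ∖ {1}`. -/
theorem const_of_not_primePow (h : RankOne B Q D W w) [Finite G] [Fintype Q]
    (hQ : Group.IsNilpotent Q) (hN : ¬ IsPrimePow (Nat.card Q)) {χ : G → ℂ}
    (hχ : IsIrrCharacter G χ) (hsum : ∑ u : Q, χ u ≠ 0) :
    ∀ u ∈ Q, u ≠ 1 → ∀ v ∈ Q, v ≠ 1 → χ u = χ v := by
  classical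
  have := Fintype.ofFinite G
  have hcomm : ∀ x y : G, χ (x * y) = χ (y * x) := Blocks.Basic.irr_mul_comm hχ
  -- reduction to elements of prime power order
  have hred : ∀ u ∈ Q, u ≠ 1 → ∃ p : ℕ, p.Prime ∧ ∃ s ∈ Q, s ≠ 1 ∧
      (∃ k : ℕ, orderOf s = p ^ k) ∧ χ u = χ s := by
    intro u hu hu1
    obtain ⟨p, hp, hpu⟩ := Nat.exists_prime_and_dvd (fun hc => hu1 (orderOf_eq_one_iff.1 hc))
    have := Fact.mk hp
    obtain ⟨s, hs⟩ := Blocks.SecondMain.exists_isPPart hp u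
    obtain ⟨n, hn⟩ := Blocks.PPart.exists_pow_eq (G := G) p
    have hsQ : s ∈ Q := by
      rw [← hn u s hs]
      exact Q.pow_mem hu n
    obtain ⟨v, hsv, -, hsk, hv⟩ := hs
    have hvQ : v ∈ Q := by
      have h1 : v = s⁻¹ * u := by rw [← hsv]; group
      rw [h1]
      exact Q.mul_mem (Q.inv_mem hsQ) hu
    have hs1 : s ≠ 1 := by
      rintro rfl
      rw [one_mul] at hsv
      rw [hsv] at hv
      exact hv hpu
    refine ⟨p, hp, s, hsQ, hs1, hsk, ?_⟩
    rw [← hsv]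
    exact h.apply_mul hQ hχ hsum hsQ hs1 hsk hvQ hv
  -- elements of coprime prime power order
  have hpq : ∀ p q : ℕ, p.Prime → q.Prime → p ≠ q → ∀ s ∈ Q, s ≠ 1 → (∃ k : ℕ, orderOf s = p ^ k) →
      ∀ r ∈ Q, r ≠ 1 → (∃ k : ℕ, orderOf r = q ^ k) → χ s = χ r := by
    intro p q hp hq hne s hs hs1 hsk r hr hr1 hrk
    have := Fact.mk hp
    have := Fact.mk hq
    have hps : ¬ p ∣ orderOf r := by
      obtain ⟨k, hk⟩ := hrk
      rw [hk]
      intro hc
      exact hne ((Nat.prime_dvd_prime_iff_eq hp hq).1 (hp.dvd_of_dvd_pow hc))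
    have hqs : ¬ q ∣ orderOf s := by
      obtain ⟨k, hk⟩ := hsk
      rw [hk]
      intro hc
      exact hne ((Nat.prime_dvd_prime_iff_eq hq hp).1 (hq.dvd_of_dvd_pow hc)).symm
    rw [← h.apply_mul hQ hχ hsum hs hs1 hsk hr hps, ← h.apply_mul hQ hχ hsum hr hr1 hrk hs hqs,
      hcomm]
  -- for each prime there is an element of another prime order
  have hex : ∀ p : ℕ, p.Prime → Nat.card Q ≠ 1 → ∃ q : ℕ, q.Prime ∧ q ≠ p ∧ ∃ r ∈ Q, r ≠ 1 ∧
      ∃ k : ℕ, orderOf r = q ^ k := by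
    intro p hp hQ1
    have h1 : ∃ q : ℕ, q.Prime ∧ q ∣ Nat.card Q ∧ q ≠ p := by
      by_contra hc
      push Not at hc
      have h2 := Nat.eq_prime_pow_of_unique_prime_dvd (Nat.card_pos (α := Q)).ne'
        (fun {d} hd hdQ => hc d hd hdQ)
      apply hN
      rw [h2]
      refine hp.isPrimePow.pow ?_
      intro hc
      rw [hc, pow_zero] at h2
      exact hQ1 h2
    obtain ⟨q, hq, hqQ, hqp⟩ := h1
    have := Fact.mk hq
    obtain ⟨r, hr⟩ := exists_prime_orderOf_dvd_card' q hqQ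
    refine ⟨q, hq, hqp, r, r.2, ?_, 1, ?_⟩
    · intro hc
      have : r = 1 := Subtype.ext hc
      rw [this, orderOf_one] at hr
      exact hq.one_lt.ne hr
    · rw [Subgroup.orderOf_coe, hr, pow_one]
  intro u hu hu1 v hv hv1
  have hQ1 : Nat.card Q ≠ 1 := by
    intro hc
    rw [Subgroup.card_eq_one] at hc
    rw [hc, Subgroup.mem_bot] at hu
    exact hu1 hu
  obtain ⟨p, hp, s, hs, hs1, hsk, hus⟩ := hred u hu hu1
  obtain ⟨q, hq, r, hr, hr1, hrk, hvr⟩ := hred v hv hv1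
  rw [hus, hvr]
  by_cases hne : p = q
  · subst hne
    obtain ⟨q, hq, hqp, t, ht, ht1, htk⟩ := hex p hp hQ1
    rw [hpq p q hp hq hqp.symm s hs hs1 hsk t ht ht1 htk,
      hpq p q hp hq hqp.symm r hr hr1 hrk t ht ht1 htk]
  · exact hpq p q hp hq hne s hs hs1 hsk r hr hr1 hrk

end RankOne

end Cfsg.Agent.HKS
end

private theorem dce_91b474280da1 : _root_.True := by
  try have : _root_.True := by simp only [_root_.Cfsg.Agent.HKS.BlockDicho.setSum.congr_simp]
  try have : _root_.True := by simp only [_root_.Cfsg.Agent.HKS.BlockDicho.setSum.eq_1]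
  exact _root_.True.intro
end

-- part: HKS/LinTriv
section
prune_inst 0x2001014000022000000180000e0003c628200000200688000004202000f810f4000000920b0a0111800022ad44038004811000000422000000a0004000119008000800000b008a000120086002084000000000000000000000000000000000000000000000
set_option linter.all false
open scoped Cfsg.Agent.FastGrp

/-!
# Rank one groups, `|Q|` not a prime power: invariant linear characters of `D`

If `|Q|` is not a prime power and `G` is the normal closure of `Q` then `D` has no nontrivial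
`w`-invariant linear character. Hence `w` inverts `D/D'` and `|D/D'|` is odd.
-/

set_option autoImplicit false

open Cfsg
open scoped ComplexConjugate

namespace Cfsg.Agent.HKS.LinTriv

open Characters.Core

theorem exists_hom_ne_one (Q : Type*) [Group Q] [Finite Q] [Nontrivial Q] [Group.IsSolvable Q] :
    ∃ θ : Q →* ℂˣ, θ ≠ 1 := by
  obtain ⟨x, -, hx⟩ := SetLike.exists_of_lt
    (Group.IsSolvable.commutator_lt_top_of_nontrivial Q)
  have h2 : (Abelianization.of x) ≠ 1 := by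
    intro hc
    exact hx ((QuotientGroup.eq_one_iff x).1 hc)
  obtain ⟨φ, hφ⟩ :=
    CommGroup.exists_apply_ne_one_of_hasEnoughRootsOfUnity (Abelianization Q) ℂ h2
  refine ⟨φ.comp Abelianization.of, fun hc => hφ ?_⟩
  have := DFunLike.congr_fun hc x
  simpa using this

theorem sum_conj_eq_zero {Q : Type*} [Group Q] [Fintype Q] {θ : Q →* ℂˣ} (hθ : θ ≠ 1) :
    ∑ u : Q, conj (θ u : ℂ) = 0 := by
  have h1 : (fun g : Q => ((1 : Q →* ℂˣ) g : ℂ)) ≠ fun g => (θ g : ℂ) := by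
    intro hc
    apply hθ
    ext g
    exact (congrFun hc g).symm
  have h2 := classInner_irr_ne (Characters.Linear.isIrrCharacter_hom (1 : Q →* ℂˣ))
    (Characters.Linear.isIrrCharacter_hom θ) h1
  rw [classInner] at h2
  have h3 : (Nat.card Q : ℂ)⁻¹ ≠ 0 := inv_ne_zero (by exact_mod_cast Nat.card_pos.ne')
  have h4 := (mul_eq_zero.1 h2).resolve_left h3
  simpa only [_root_.MonoidHom.one_apply, _root_.Units.val_one, _root_.one_mul] using h4

/-- A character which is constant on `Q ∖ {1}` with a one-dimensional space of `Q`-fixed vectors. -/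
theorem exists_mult {G : Type*} [Group G] {Q : Subgroup G} [Fintype Q] {χ : G → ℂ}
    (hχ : IsCharacter G χ) {c : ℂ} (hc : ∀ u ∈ Q, u ≠ 1 → χ u = c)
    (h1 : (Nat.card Q : ℂ)⁻¹ * ∑ u : Q, χ u = 1) {θ : Q →* ℂˣ} (hθ : θ ≠ 1) :
    ∃ m : ℕ, c = 1 - m ∧ χ 1 = 1 + m * (Nat.card Q - 1) := by
  classical
  have hN : (Nat.card Q : ℂ) ≠ 0 := by exact_mod_cast Nat.card_pos.ne'
  have e : ∀ u : Q, χ u = c + if u = 1 then χ 1 - c else 0 := by
    intro u
    split_ifs with hu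
    · rw [hu, OneMemClass.coe_one]; ring
    · rw [add_zero]
      exact hc u u.2 fun hh => hu (Subtype.ext hh)
  have key : ∀ f : Q → ℂ, ∑ u : Q, χ u * f u = c * ∑ u : Q, f u + (χ 1 - c) * f 1 := by
    intro f
    have h2 : ∀ u ∈ (Finset.univ : Finset Q), χ u * f u =
        c * f u + if u = 1 then (χ 1 - c) * f u else 0 := by
      intro u _
      rw [e u]
      split_ifs <;> ring
    rw [Finset.sum_congr rfl h2, Finset.sum_add_distrib, ← Finset.mul_sum]
    simp only [_root_.Finset.sum_ite_eq', _root_.Finset.mem_univ, ↓ _root_.reduceIte]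
  obtain ⟨m, hm⟩ := classInner_isNat (isCharacter_comp Q.subtype hχ)
    (Characters.Linear.isCharacter_hom θ)
  rw [classInner] at hm
  have h3 : ∑ g : Q, (χ ∘ Q.subtype) g * conj (θ g : ℂ) = χ 1 - c := by
    have := key fun u => conj (θ u : ℂ)
    rw [sum_conj_eq_zero hθ] at this
    simp only [map_one, Units.val_one, mul_one, mul_zero, zero_add] at this
    rw [← this]
    rfl
  have h4 : ∑ u : Q, χ u = Nat.card Q * c + (χ 1 - c) := by
    have := key fun _ => 1
    simp only [mul_one, Finset.sum_const, Finset.card_univ, nsmul_eq_mul] at this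
    rw [this, ← Nat.card_eq_fintype_card]
    ring
  rw [h3] at hm
  rw [h4] at h1
  have h5 : χ 1 - c = Nat.card Q * m := by
    rw [← hm]
    field_simp
  have h6 : (Nat.card Q : ℂ) * c + (χ 1 - c) = Nat.card Q := by
    have := congrArg (fun z => (Nat.card Q : ℂ) * z) h1
    simpa only [mul_inv_cancel_left₀ hN, _root_.Nat.card_eq_fintype_card, _root_.ne_eq, _root_.Nat.cast_eq_zero, _root_.Fintype.card_ne_zero, _root_.not_false_eq_true, _root_.mul_inv_cancel_left₀, _root_.mul_one] using this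
  have h7 : c = 1 - m := by
    apply mul_left_cancel₀ hN
    linear_combination h6 - h5
  refine ⟨m, h7, ?_⟩
  rw [h7] at h5
  linear_combination h5

end LinTriv

namespace RankOne

open Characters.Core LinChar

variable {G : Type*} [Group G] {B Q D W : Subgroup G} {w : G}

/-- **Corollary 2.** If `|Q|` is not a prime power, the linear characters of `W` are trivial
on `D`. -/
theorem lam_eq_one (h : RankOne B Q D W w) [Finite G] (hQ : Group.IsNilpotent Q)
    (hN : ¬ IsPrimePow (Nat.card Q)) (hnc : Subgroup.normalClosure (Q : Set G) = ⊤)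
    (lam : W →* ℂˣ) {d : G} (hd : d ∈ D) : lam ⟨d, h.DW hd⟩ = 1 := by
  classical
  have := Fintype.ofFinite G
  have := Fintype.ofFinite Q
  have := Fintype.ofFinite D
  by_contra hlam
  have hQ1 : Q ≠ ⊥ := by
    rintro rfl
    apply h.wB
    have h1 : Subgroup.normalClosure ((⊥ : Subgroup G) : Set G) ≤ ⊥ :=
      Subgroup.normalClosure_le_normal le_rfl
    have : w ∈ (⊤ : Subgroup G) := Subgroup.mem_top w
    rw [← hnc] at this
    rw [Subgroup.mem_bot.1 (h1 this)]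
    exact B.one_mem
  have : Nontrivial Q := (Subgroup.nontrivial_iff_ne_bot Q).2 hQ1
  obtain ⟨θ, hθ⟩ := LinTriv.exists_hom_ne_one Q
  have hσ : Representation.IsIrreducible
      ((Characters.Linear.repOfHom lam).comp (Subgroup.inclusion h.DW)) :=
    Characters.Linear.isIrreducible_of_finrank_eq_one _ (by simp)
  obtain ⟨n₁, n₂, ρ₁, ρ₂, φ₁, φ₂, hρ₁, hρ₂, -, H₁, H₂, hsum⟩ :=
    h.exists_pair (Characters.Linear.repOfHom lam) hσ
  have hirr₁ : IsIrrCharacter G ρ₁.character := ⟨n₁, ρ₁, hρ₁, rfl⟩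
  have hirr₂ : IsIrrCharacter G ρ₂.character := ⟨n₂, ρ₂, hρ₂, rfl⟩
  obtain ⟨hn₁, -⟩ := constituent hnc H₁ hρ₁ hd hlam
  obtain ⟨hn₂, -⟩ := constituent hnc H₂ hρ₂ hd hlam
  have hF₁ : (Nat.card Q : ℂ)⁻¹ * ∑ u : Q, ρ₁.character u = 1 := by
    have := H₁.Fq_one
    rw [Characters.Linear.character_repOfHom, Fq] at this
    simpa only [_root_.Nat.card_eq_fintype_card, _root_.one_mul, _root_.map_one, _root_.Units.val_one] using this
  have hF₂ : (Nat.card Q : ℂ)⁻¹ * ∑ u : Q, ρ₂.character u = 1 := by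
    have := H₂.Fq_one
    rw [Characters.Linear.character_repOfHom, Fq] at this
    simpa only [_root_.Nat.card_eq_fintype_card, _root_.one_mul, _root_.map_one, _root_.Units.val_one] using this
  have hs₁ : ∑ u : Q, ρ₁.character u ≠ 0 := fun hc => by simp [hc] at hF₁
  have hs₂ : ∑ u : Q, ρ₂.character u ≠ 0 := fun hc => by simp [hc] at hF₂
  obtain ⟨v, hv, hv1⟩ := Q.bot_or_exists_ne_one.resolve_left hQ1
  obtain ⟨m₁, hm₁, hd₁⟩ := LinTriv.exists_mult (isCharacter_of_rep ρ₁)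
    (fun u hu hu1 => h.const_of_not_primePow hQ hN hirr₁ hs₁ u hu hu1 v hv hv1) hF₁ hθ
  obtain ⟨m₂, hm₂, hd₂⟩ := LinTriv.exists_mult (isCharacter_of_rep ρ₂)
    (fun u hu hu1 => h.const_of_not_primePow hQ hN hirr₂ hs₂ u hu hu1 v hv hv1) hF₂ hθ
  have hirr : IsIrrCharacter D
      (fun d => (fun m => (lam m : ℂ)) (Subgroup.inclusion h.DW d)) :=
    Characters.Linear.isIrrCharacter_hom (lam.comp (Subgroup.inclusion h.DW))
  have h1 := congrFun hsum v
  rw [Characters.Linear.character_repOfHom, h.ind_Q hirr hv hv1, Pi.add_apply, hm₁, hm₂] at h1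
  simp only [map_one, Units.val_one] at h1
  have h2 : m₁ + m₂ = 1 := by
    have : (m₁ : ℂ) + m₂ = 1 := by linear_combination h1
    exact_mod_cast this
  rw [Representation.char_one] at hd₁ hd₂
  rcases Nat.eq_zero_or_pos m₁ with h0 | h0
  · rw [h0] at hd₁
    simp only [_root_.Module.finrank_fintype_fun_eq_card, _root_.Fintype.card_fin, _root_.CharP.cast_eq_zero, _root_.Nat.card_eq_fintype_card, _root_.MulZeroClass.zero_mul, _root_.add_zero, _root_.Nat.cast_eq_one] at hd₁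
    exact hn₁.ne' (by exact_mod_cast hd₁)
  · have h0' : m₂ = 0 := by omega
    rw [h0'] at hd₂
    simp only [_root_.Module.finrank_fintype_fun_eq_card, _root_.Fintype.card_fin, _root_.CharP.cast_eq_zero, _root_.Nat.card_eq_fintype_card, _root_.MulZeroClass.zero_mul, _root_.add_zero, _root_.Nat.cast_eq_one] at hd₂
    exact hn₂.ne' (by exact_mod_cast hd₂)

/-- A `w`-invariant linear character of `D` extends to `W`. -/
theorem exists_extend (h : RankOne B Q D W w) (f : D →* ℂˣ)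
    (hf : ∀ d (hd : d ∈ D), f ⟨w * d * w⁻¹, h.w_conj hd⟩ = f ⟨d, hd⟩) :
    ∃ lam : W →* ℂˣ, ∀ d (hd : d ∈ D), lam ⟨d, h.DW hd⟩ = f ⟨d, hd⟩ := by
  classical
  have hwinv : ∀ g ∈ W, g ∉ D → w⁻¹ * g ∈ D := by
    intro g hg hgD
    obtain ⟨d, hd, rfl⟩ := h.Wmul g hg hgD
    rwa [inv_mul_cancel_left]
  have hww : w * w ∈ D := by
    by_contra hc
    have := hwinv _ (W.mul_mem h.wW h.wW) hc
    rw [inv_mul_cancel_left] at this
    exact h.wD this
  obtain ⟨c, hc⟩ : ∃ c : ℂˣ, c * c = f ⟨w * w, hww⟩ := by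
    obtain ⟨z, hz⟩ := IsAlgClosed.exists_pow_nat_eq ((f ⟨w * w, hww⟩ : ℂˣ) : ℂ) zero_lt_two
    have hz0 : z ≠ 0 := by
      rintro rfl
      rw [zero_pow two_ne_zero] at hz
      exact (f ⟨w * w, hww⟩).ne_zero hz.symm
    refine ⟨Units.mk0 z hz0, Units.ext ?_⟩
    rw [Units.val_mul, Units.val_mk0, ← sq, hz]
  have hinv : ∀ (x : G) (hx : x ∈ D) (y : G) (hy : y ∈ D), w * x * w⁻¹ = y → f ⟨y, hy⟩ = f ⟨x, hx⟩ := by
    intro x hx y hy he
    rw [← hf x hx]
    congr 1
    exact Subtype.ext he.symm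
  let F : W → ℂˣ := fun g => if hg : (g : G) ∈ D then f ⟨g, hg⟩ else
    c * f ⟨w⁻¹ * g, hwinv g g.2 hg⟩
  have hFD : ∀ (g : W) (hg : (g : G) ∈ D), F g = f ⟨g, hg⟩ := fun g hg => dif_pos hg
  have hFN : ∀ (g : W) (hg : (g : G) ∉ D), F g = c * f ⟨w⁻¹ * g, hwinv g g.2 hg⟩ :=
    fun g hg => dif_neg hg
  refine ⟨⟨⟨F, ?_⟩, ?_⟩, fun d hd => hFD _ hd⟩
  · rw [hFD 1 D.one_mem]
    exact map_one f
  · intro g g'
    have hcoe : ((g * g' : W) : G) = (g : G) * g' := rfl
    change F (g * g') = F g * F g'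
    by_cases hg : (g : G) ∈ D
    · by_cases hg' : (g' : G) ∈ D
      · rw [hFD g hg, hFD g' hg', hFD _ (D.mul_mem hg hg'), ← map_mul]
        rfl
      · have h1 : ((g * g' : W) : G) ∉ D := fun hc => hg' (by
          have := D.mul_mem (D.inv_mem hg) hc
          rwa [hcoe, inv_mul_cancel_left] at this)
        rw [hFD g hg, hFN g' hg', hFN _ h1, mul_left_comm,
          hinv (w⁻¹ * g * w) (h.winv_conj hg) g hg (by group), ← map_mul]
        congr 2
        apply Subtype.ext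
        change w⁻¹ * ((g : G) * g') = w⁻¹ * g * w * (w⁻¹ * g')
        group
    · by_cases hg' : (g' : G) ∈ D
      · have h1 : ((g * g' : W) : G) ∉ D := fun hc => hg (by
          have := D.mul_mem hc (D.inv_mem hg')
          rwa [hcoe, mul_inv_cancel_right] at this)
        rw [hFN g hg, hFD g' hg', hFN _ h1, mul_assoc, ← map_mul]
        congr 2
        apply Subtype.ext
        change w⁻¹ * ((g : G) * g') = w⁻¹ * g * g'
        group
      · have h1 : ((g * g' : W) : G) ∈ D := by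
          have e1 : ((g * g' : W) : G) = (w * (w⁻¹ * g) * w⁻¹) * (w * w) * (w⁻¹ * g') := by
            rw [hcoe]; group
          rw [e1]
          exact D.mul_mem (D.mul_mem (h.w_conj (hwinv g g.2 hg)) hww) (hwinv g' g'.2 hg')
        rw [hFN g hg, hFN g' hg', hFD _ h1, mul_mul_mul_comm, hc,
          ← hinv (w⁻¹ * g) (hwinv g g.2 hg) (w * (w⁻¹ * g) * w⁻¹) (h.w_conj (hwinv g g.2 hg)) rfl,
          mul_left_comm, ← map_mul, ← map_mul]
        congr 1
        apply Subtype.ext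
        change (g : G) * g' = w * (w⁻¹ * g) * w⁻¹ * (w * w * (w⁻¹ * g'))
        group

/-- **Corollary 2.** -/
theorem hom_eq_one (h : RankOne B Q D W w) [Finite G] (hQ : Group.IsNilpotent Q)
    (hN : ¬ IsPrimePow (Nat.card Q)) (hnc : Subgroup.normalClosure (Q : Set G) = ⊤)
    (f : D →* ℂˣ) (hf : ∀ d (hd : d ∈ D), f ⟨w * d * w⁻¹, h.w_conj hd⟩ = f ⟨d, hd⟩) : f = 1 := by
  obtain ⟨lam, hlam⟩ := h.exists_extend f hf
  ext ⟨d, hd⟩
  rw [← hlam d hd, h.lam_eq_one hQ hN hnc lam hd]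
  rfl

/-- `w` inverts `D/D'`, and every element of `D/D'` is a square. -/
theorem of_conj (h : RankOne B Q D W w) [Finite G] (hQ : Group.IsNilpotent Q)
    (hN : ¬ IsPrimePow (Nat.card Q)) (hnc : Subgroup.normalClosure (Q : Set G) = ⊤) :
    (∀ x : Abelianization D, ∃ y, x = y * y) ∧ ∀ d (hd : d ∈ D),
    Abelianization.of (⟨w * d * w⁻¹, h.w_conj hd⟩ : D) = (Abelianization.of (⟨d, hd⟩ : D))⁻¹ := by
  classical
  have hww : w * w ∈ D := by
    by_contra hc
    obtain ⟨d, hd, he⟩ := h.Wmul _ (W.mul_mem h.wW h.wW) hc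
    have h1 := mul_left_cancel he
    rw [← h1] at hd
    exact h.wD hd
  -- conjugation by `w`
  let κ : D →* D :=
    { toFun := fun d => ⟨w * d * w⁻¹, h.w_conj d.2⟩
      map_one' := Subtype.ext (by simp)
      map_mul' := fun d e => Subtype.ext (by
        change w * ((d : G) * e) * w⁻¹ = w * d * w⁻¹ * (w * e * w⁻¹)
        group) }
  let α : Abelianization D →* Abelianization D := Abelianization.map κ
  have hα : ∀ d : D, α (Abelianization.of d) = Abelianization.of (κ d) := fun d => rfl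
  have hα2 : ∀ x, α (α x) = x := by
    intro x
    obtain ⟨d, rfl⟩ := QuotientGroup.mk_surjective x
    change α (α (Abelianization.of d)) = Abelianization.of d
    rw [hα, hα]
    have h1 : κ (κ d) = ⟨w * w, hww⟩ * d * ⟨w * w, hww⟩⁻¹ := by
      apply Subtype.ext
      change w * (w * d * w⁻¹) * w⁻¹ = w * w * d * (w * w)⁻¹
      group
    rw [h1, map_mul, map_mul, map_inv, mul_comm (Abelianization.of _), mul_inv_cancel_right]
  let β : Abelianization D →* Abelianization D :=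
    { toFun := fun a => a⁻¹ * α a
      map_one' := by simp
      map_mul' := fun a b => by
        rw [map_mul, mul_inv]
        exact mul_mul_mul_comm _ _ _ _ }
  have hβ : ∀ a, β a = a⁻¹ * α a := fun a => rfl
  have hsurj : ∀ x, ∃ a, x = a⁻¹ * α a := by
    intro x
    have h1 : x ∈ β.range := by
      rw [← CommGroup.forall_monoidHom_apply_eq_one_iff (M := ℂ) β.range x]
      intro φ hφ
      have h2 := h.hom_eq_one hQ hN hnc (φ.comp Abelianization.of) (by
        intro d hd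
        have h3 := hφ (β (Abelianization.of ⟨d, hd⟩)) ⟨_, rfl⟩
        rw [hβ, map_mul, map_inv, inv_mul_eq_one] at h3
        exact h3.symm)
      obtain ⟨d, rfl⟩ := QuotientGroup.mk_surjective x
      exact DFunLike.congr_fun h2 d
    obtain ⟨a, ha⟩ := h1
    exact ⟨a, ha.symm⟩
  have hinv : ∀ x, α x = x⁻¹ := by
    intro x
    obtain ⟨a, rfl⟩ := hsurj x
    rw [map_mul, hα2, map_inv, mul_inv_rev, inv_inv]
  refine ⟨fun x => ?_, fun d hd => ?_⟩
  · obtain ⟨a, rfl⟩ := hsurj x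
    exact ⟨a⁻¹, by rw [hinv]⟩
  · exact hinv (Abelianization.of ⟨d, hd⟩)

end RankOne

end Cfsg.Agent.HKS
end
end
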