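import Cfsg.Prelude.Def_LieExceptional
import Cfsg.Prelude.Def_LieRecognition
import Cfsg.Agent.HKS.LinTriv_m3
import Cfsg.Agent.HKS.FrameSub
import Mathlib
import Cfsg.Agent.HKS.Goals_m3
import Cfsg.Agent.HKS.FrameCount
import Cfsg.Agent.HKS.EndL
import Cfsg.Agent.S0742
import Cfsg.Prelude.Def_Classical
import Cfsg.Prelude.Def_Sz
import Cfsg.Prelude.Def_LieTwisted
import Cfsg.Agent.S1149
import Cfsg.Agent.HKS.Glauberman_m3
import Cfsg.Agent.Lib.NormalAbelian
import Cfsg.Agent.HKS.UniGoalOf_m3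
import Cfsg.Agent.Lib.PSL2Inv
import Cfsg.Agent.Lib.PSL2Outer
import Cfsg.Agent.HKS.Types
import Cfsg.Agent.HKS.CaseThreeAux
import Cfsg.Agent.Lib.SL2Mat
import Cfsg.Agent.FastGrp
import Cfsg.Agent.Prune
set_option linter.all false
prune_inst 0x7fbcfcf98fb8addfdfff7e7ffedddffff9f4ffffffdffbcbffe0ebffcfdf4b02b9452b8d1fea58ff0ef6629430f87b13fbffca3fee6bdc7ffffd5ff41ffbff8fedf7b78051d488340f300ffe03f06f8e7f3fffffffffffffffffffffffffffbeffffffffffff
open scoped Cfsg.Agent.FastGrp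

-- part: HKS/FromBN
section
/-!
# From a split rank one BN-pair of a simple group to a split 2-transitive group
-/

set_option autoImplicit false

namespace Cfsg.Agent.HKS.FromBN

open Subgroup MulAction Cfsg.Agent.KantorSeitz

/-- A split `2`-transitive group with regular unipotent groups is strongly split. -/
theorem toSSplit {G Ω : Type*} [Group G] [MulAction G Ω] [Finite Ω] {U : Ω → Subgroup G}
    (h : KS U) (hreg : ∀ a b : Ω, a ≠ b → ∀ x ∈ U a, x • b = b → x = 1)
    (h3 : 2 < Nat.card Ω) : SSplit U where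
  fix := h.fix
  conj := h.conj
  trans := h.trans
  free := fun {a b x} hab hx hxb => hreg a b (Ne.symm hab) x hx hxb
  nil := h.nil
  three := SSplit.three_of_card h3

/-- The permutation group on the cosets of `B`. -/
theorem exists_KS {G : Type*} [Group G] [Finite G] [IsSimpleGroup G] (P : Cfsg.BNPair G)
    (h1 : P.rank = 1) (hsplit : P.IsSplit) :
    ∃ (N : Subgroup G) (b : G ⧸ P.B), b ≠ ((1 : G) : G ⧸ P.B) ∧ N ≤ P.B ∧
      (∀ b ∈ P.B, ∀ u ∈ N, b * u * b⁻¹ ∈ N) ∧ Group.IsNilpotent N ∧ N ⊔ (P.B ⊓ P.N) = P.B ∧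
      KS (ofBase N ((1 : G) : G ⧸ P.B)) ∧
      ofBase N ((1 : G) : G ⧸ P.B) ((1 : G) : G ⧸ P.B) = N ∧
      FaithfulSMul G (G ⧸ P.B) ∧ 2 < Nat.card (G ⧸ P.B) ∧
      (∀ g : G, g • ((1 : G) : G ⧸ P.B) = ((1 : G) : G ⧸ P.B) ↔ g ∈ P.B) ∧
      (∀ t ∈ P.B ⊓ P.N, t • b = b) := by
  obtain ⟨U, hUB, hUn, hUnil, hsplit⟩ := hsplit
  obtain ⟨s, hS⟩ := Cfsg.Agent.StrongEmb.SplitBN.exists_S_eq_singleton P h1
  have hsS : s ∈ P.S := by rw [hS]; rfl
  have hsB : s ∉ P.B := Cfsg.Agent.LieExceptional.BNPairCore.not_mem_B hsS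
  have hcore : P.B.normalCore = ⊥ := by
    rcases (inferInstance : P.B.normalCore.Normal).eq_bot_or_eq_top with h | h
    · exact h
    · exfalso
      apply hsB
      exact P.B.normalCore_le (by rw [h]; exact mem_top s)
  have hUn' : (U.subgroupOf P.B).Normal := by
    rw [Subgroup.normal_subgroupOf_iff hUB]
    intro u b hu hb
    exact hUn b hb u hu
  let a : G ⧸ P.B := ((1 : G) : G ⧸ P.B)
  let b : G ⧸ P.B := (s : G ⧸ P.B)
  have hmk : ∀ g : G, g • a = (g : G ⧸ P.B) := by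
    intro g
    change ((g * 1 : G) : G ⧸ P.B) = g
    rw [mul_one]
  have hsta : ∀ g : G, g • a = a ↔ g ∈ P.B := by
    intro g
    rw [hmk]
    change ((g : G ⧸ P.B) = ((1 : G) : G ⧸ P.B)) ↔ _
    rw [QuotientGroup.eq, mul_one, inv_mem_iff]
  have hab : a ≠ b := by
    intro e
    apply hsB
    rw [← hsta, hmk]
    exact e.symm
  have hf : FaithfulSMul G (G ⧸ P.B) := ⟨by
    intro x y hxy
    have h2 : x⁻¹ * y ∈ P.B.normalCore := by
      rw [Subgroup.normalCore_eq_ker, MonoidHom.mem_ker]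
      ext c
      change (x⁻¹ * y) • c = c
      rw [mul_smul, ← hxy c, inv_smul_smul]
    rw [hcore, mem_bot, inv_mul_eq_one] at h2
    exact h2⟩
  have hinv : ∀ g : G, g • a = a → ∀ x ∈ U, g * x * g⁻¹ ∈ U := fun g hg x hx =>
    hUn g ((hsta g).1 hg) x hx
  have hUb : ∀ c : G ⧸ P.B, c ≠ a → ∃ u ∈ U, u • b = c := by
    intro c hc
    obtain ⟨g, rfl⟩ := QuotientGroup.mk_surjective c
    have hg : g ∉ P.B := fun e => hc (by rw [← hmk]; exact (hsta g).2 e)
    obtain ⟨u, hu, y, hy, rfl⟩ := Cfsg.Agent.StrongEmb.SplitBN.exists_eq_mul P hS hUB hUn' hsplit hg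
    refine ⟨u, hu, ?_⟩
    change ((u * s : G) : G ⧸ P.B) = ((u * s * y : G) : G ⧸ P.B)
    rw [QuotientGroup.eq]
    have h2 : (u * s)⁻¹ * (u * s * y) = y := by group
    rwa [h2]
  have hKS : KS (ofBase U a) := by
    refine KS_of_base (fun x hx => (hsta x).2 (hUB hx)) hinv ?_ hUnil ?_
    · intro c d hc hd
      obtain ⟨u, hu, rfl⟩ := hUb c hc
      obtain ⟨v, hv, rfl⟩ := hUb d hd
      exact ⟨v * u⁻¹, mul_mem hv (inv_mem hu), by rw [mul_smul, inv_smul_smul]⟩
    · intro c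
      obtain ⟨g, rfl⟩ := QuotientGroup.mk_surjective c
      exact ⟨g, hmk g⟩
  have hHb : ∀ t ∈ P.B ⊓ P.N, t • b = b := by
    intro t ht
    change ((t * s : G) : G ⧸ P.B) = ((s : G) : G ⧸ P.B)
    rw [QuotientGroup.eq]
    have h2 : (t * s)⁻¹ * s = s⁻¹ * t⁻¹ * s := by group
    rw [h2]
    exact Cfsg.Agent.LieExceptional.BNPairCore.conj_mem_inv
      (Cfsg.Agent.LieExceptional.BNPairCore.mem_N hsS) (inv_mem ht.1) (inv_mem ht.2)
  refine ⟨U, b, hab.symm, hUB, hUn, hUnil, hsplit, hKS, ofBase_self hinv, hf, ?_, hsta, hHb⟩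
  -- at least three points: `s B s ≠ B`
  by_contra hcon
  have hne : (a : G ⧸ P.B) ≠ b := hab
  have hall : ∀ c : G ⧸ P.B, c = a ∨ c = b := by
    intro c
    by_contra hc
    push Not at hc
    apply hcon
    classical
    have := Fintype.ofFinite (G ⧸ P.B)
    rw [Nat.card_eq_fintype_card]
    have h4 : ({a, b, c} : Finset (G ⧸ P.B)).card = 3 := by
      rw [Finset.card_insert_of_notMem, Finset.card_insert_of_notMem, Finset.card_singleton]
      · simpa using hc.2.symm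
      · simp only [Finset.mem_insert, Finset.mem_singleton, not_or]
        exact ⟨hab, hc.1.symm⟩
    have h5 := Finset.card_le_univ ({a, b, c} : Finset (G ⧸ P.B))
    omega
  -- then `B` fixes `b`, so `B` is normal
  have hBb : ∀ g ∈ P.B, g • b = b := by
    intro g hg
    rcases hall (g • b) with h4 | h4
    · exfalso
      apply hab
      have h5 := (hsta g).2 hg
      exact MulAction.injective g (h5.trans h4.symm)
    · exact h4
  have hBcore : P.B ≤ P.B.normalCore := by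
    intro g hg
    rw [Subgroup.normalCore_eq_ker, MonoidHom.mem_ker]
    ext c
    change g • c = c
    rcases hall c with rfl | rfl
    · exact (hsta g).2 hg
    · exact hBb g hg
  rw [hcore] at hBcore
  have hB1 : P.B = ⊥ := le_bot_iff.1 hBcore
  apply P.conj_ne s hsS
  have hss : s * s = 1 := by
    have := P.sq_mem s hsS
    rw [hB1] at this
    exact mem_bot.1 this
  rw [hB1]
  ext g
  constructor
  · rintro ⟨b, hb, rfl⟩
    have hb' : b = 1 := mem_bot.1 hb
    subst hb'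
    change s * 1 * s ∈ (⊥ : Subgroup G)
    rw [mul_one, hss]
    exact one_mem _
  · intro hg
    have hg' : g = 1 := mem_bot.1 hg
    subst hg'
    exact ⟨1, one_mem _, by change s * 1 * s = 1; rw [mul_one, hss]⟩

end Cfsg.Agent.HKS.FromBN
end

-- part: HKS/ZassEnd
section
/-!
# An involution with at most two fixed points: Zassenhaus groups
-/

set_option autoImplicit false

namespace Cfsg.Agent.HKS.ZassEnd

open Subgroup MulAction

variable {G Ω : Type*} [Group G] [MulAction G Ω] {U : Ω → Subgroup G}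

/-- an involution fixing only `a` and `b` inverts `U a` -/
theorem inverts_of_two [Finite Ω] (h : SSplit U) {a b : Ω} (hab : b ≠ a) {z : G}
    (hz : z ∈ Dab G a b) (hz2 : z * z = 1) (hfix : ∀ c : Ω, z • c = c → c = a ∨ c = b) :
    ∀ u ∈ U a, z * u * z⁻¹ = u⁻¹ := by
  have := h.finite_U a
  let φ : U a →* U a :=
    { toFun := fun u => ⟨z * u * z⁻¹, h.conj_of_fix hz.1 u.2⟩
      map_one' := Subtype.ext (by change z * 1 * z⁻¹ = 1; group)
      map_mul' := fun u v => Subtype.ext (by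
        change z * (u.1 * v.1) * z⁻¹ = (z * u.1 * z⁻¹) * (z * v.1 * z⁻¹)
        group) }
  have hfpf : MonoidHom.FixedPointFree φ := by
    intro u hu
    have h1 : z * u * z⁻¹ = u := congrArg Subtype.val hu
    have h2 : z • (u : G) • b = (u : G) • b := by
      rw [← mul_smul]
      have h3 : z * u = u * z := by
        calc z * u = z * u * z⁻¹ * z := by group
          _ = u * z := by rw [h1]
      rw [h3, mul_smul, show z • b = b from hz.2]
    rcases hfix _ h2 with h4 | h4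
    · exact absurd h4 (h.smul_ne_center hab u.2)
    · exact Subtype.ext (h.free hab u.2 h4)
  have h5 := hfpf.coe_eq_inv_of_involutive (by
    intro u
    apply Subtype.ext
    change z * (z * u * z⁻¹) * z⁻¹ = u
    calc z * (z * u * z⁻¹) * z⁻¹ = (z * z) * u * (z * z)⁻¹ := by group
      _ = u := by rw [hz2]; group)
  intro u hu
  have h6 := congrFun h5 ⟨u, hu⟩
  exact congrArg Subtype.val h6

theorem card_swaps [Finite Ω] [Finite G] (h : SSplit U) {a b : Ω} (hab : b ≠ a) :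
    Nat.card {s : G // Swaps s a b} = Nat.card (Dab G a b) := by
  obtain ⟨w, hw⟩ := h.exists_swaps hab
  exact Nat.card_congr
    { toFun := fun s => ⟨w⁻¹ * s, hw.inv.mul s.2⟩
      invFun := fun d => ⟨w * d, hw.mul_D d.2⟩
      left_inv := fun s => Subtype.ext (by change w * (w⁻¹ * s.1) = s.1; group)
      right_inv := fun d => Subtype.ext (by change w⁻¹ * (w * d.1) = d.1; group) }

/-- the main case: exactly two fixed points -/
theorem main [Finite Ω] [Finite G] [FaithfulSMul G Ω] (h : SSplit U) (hgen : (⨆ c, U c) = ⊤)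
    (hev : Even (Nat.card Ω)) {a b : Ω} (hab : b ≠ a) {p k : ℕ} (hp : p.Prime) (hp2 : p ≠ 2)
    (hN : Nat.card (U a) = p ^ k) (h2 : 2 ∣ Nat.card (Dab G a b)) {t : G} (ht1 : t ≠ 1)
    (ht2 : t * t = 1) (hF : Nat.card (fixedBy Ω t) = 2) : ∃ q, TL U a b q := by
  classical
  have := Fintype.ofFinite Ω
  have hN' : ∀ c, Nat.card (U c) = p ^ k := fun c => by
    have h3 := h.card c
    rw [h.card a, hN] at h3
    omega
  have hcard : Nat.card Ω = p ^ k + 1 := by rw [h.card a, hN]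
  -- three points
  have h3 : ∀ g : G, ∀ x y z : Ω, x ≠ y → y ≠ z → x ≠ z → g • x = x → g • y = y → g • z = z →
      g = 1 := by
    intro g x y z hxy hyz hxz hx hy hz
    have h4 := (h.two_fix hgen (a := x) (b := y) hxy.symm hp hp2 (hN' x) ht2 hF).2.2 g ⟨hx, hy⟩ z
      hxz.symm hyz.symm hz
    exact eq_of_smul_eq_smul (α := Ω) fun c => by rw [h4 c, one_smul]
  -- move `t` to `Dab a b`
  obtain ⟨c, d, hcd, hc, hd⟩ : ∃ c d : Ω, d ≠ c ∧ t • c = c ∧ t • d = d := by
    obtain ⟨⟨c, hc⟩, ⟨d, hd⟩, hcd, -⟩ := Nat.card_eq_two_iff.1 hF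
    exact ⟨c, d, fun e => hcd (Subtype.ext e.symm), hc, hd⟩
  obtain ⟨g, hg1, hg2⟩ := h.two hcd.symm hab.symm
  obtain ⟨z, hz⟩ : ∃ z, z = g * t * g⁻¹ := ⟨_, rfl⟩
  have hza : z • a = a := by rw [hz, ← hg1, mul_smul, mul_smul, inv_smul_smul, hc]
  have hzb : z • b = b := by rw [hz, ← hg2, mul_smul, mul_smul, inv_smul_smul, hd]
  have hzD : z ∈ Dab G a b := ⟨hza, hzb⟩
  have hz2 : z * z = 1 := by
    rw [hz]
    calc g * t * g⁻¹ * (g * t * g⁻¹) = g * (t * t) * g⁻¹ := by group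
      _ = 1 := by rw [ht2]; group
  have hz1 : z ≠ 1 := by
    intro e
    apply ht1
    have : t = g⁻¹ * z * g := by rw [hz]; group
    rw [this, e]; group
  have hztc : IsConj z t := by
    rw [hz]
    exact (isConj_iff.2 ⟨g, rfl⟩).symm
  have hFz : Nat.card (fixedBy Ω z) = 2 := by rw [SSplit.card_fixedBy_isConj hztc, hF]
  have hfix : ∀ s : G, s ≠ 1 → s ∈ Dab G a b → ∀ c : Ω, s • c = c → c = a ∨ c = b := by
    intro s hs1 hs c hc
    by_contra hcon
    push Not at hcon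
    exact hs1 (h3 s a b c hab.symm hcon.2.symm hcon.1.symm hs.1 hs.2 hc)
  -- `z` is the only involution of `Dab`
  have huniq : ∀ s ∈ Dab G a b, s ≠ 1 → s * s = 1 → s = z := by
    intro s hs hs1 hs2
    have h4 := inverts_of_two h hab hs hs2 (hfix s hs1 hs)
    have h5 := inverts_of_two h hab hzD hz2 (hfix z hz1 hzD)
    by_contra hcon
    have h6 : s * z ≠ 1 := fun e => hcon (by
      rw [← inv_eq_of_mul_eq_one_left hz2]
      exact eq_inv_of_mul_eq_one_left e)
    obtain ⟨c, hca, hcb⟩ := h.three a b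
    obtain ⟨u, hu, huc⟩ := h.trans (a := a) (b := b) (c := c) hab hca
    have h7 : (s * z) • c = c := by
      have h8 : s * z * u * (s * z)⁻¹ = u := by
        calc s * z * u * (s * z)⁻¹ = s * (z * u * z⁻¹) * s⁻¹ := by group
          _ = s * u⁻¹ * s⁻¹ := by rw [h5 u hu]
          _ = (u⁻¹)⁻¹ := h4 _ ((U a).inv_mem hu)
          _ = u := inv_inv u
      have h9 : s * z * u = u * (s * z) := by
        calc s * z * u = s * z * u * (s * z)⁻¹ * (s * z) := by group
          _ = u * (s * z) := by rw [h8]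
      rw [← huc, ← mul_smul, h9, mul_smul, mul_smul s z, hzb, show s • b = b from hs.2]
    rcases hfix (s * z) h6 ((Dab G a b).mul_mem hs hzD) c h7 with h8 | h8
    · exact hca h8
    · exact hcb h8
  -- counting
  have hsw := (h.two_fix hgen hab hp hp2 hN hz2 hFz)
  have e1 := h.card_fix_pairs hab z
  have e2 := h.card_swap_pairs hab hz2
  have h4 : Nat.card {s : G // IsConj z s ∧ s ∈ Dab G a b} = 1 := by
    rw [Nat.card_eq_one_iff_unique]
    refine ⟨⟨fun s s' => Subtype.ext ?_⟩, ⟨⟨z, IsConj.refl z, hzD⟩⟩⟩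
    have h5 : ∀ s : {s : G // IsConj z s ∧ s ∈ Dab G a b}, s.1 = z := by
      rintro ⟨s, hs, hsD⟩
      obtain ⟨g, rfl⟩ := isConj_iff.1 hs
      refine huniq _ hsD ?_ ?_
      · intro e
        apply hz1
        change g * z * g⁻¹ = 1 at e
        have : z = g⁻¹ * (g * z * g⁻¹) * g := by group
        rw [this, e]; group
      · calc g * z * g⁻¹ * (g * z * g⁻¹) = g * (z * z) * g⁻¹ := by group
          _ = 1 := by rw [hz2]; group
    rw [h5 s, h5 s']
  have h5 : Nat.card {s : G // IsConj z s ∧ Swaps s a b} = Nat.card (Dab G a b) := by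
    rw [← card_swaps h hab]
    exact Nat.card_congr (Equiv.subtypeEquivRight fun s => ⟨fun hs => hs.2, fun hs =>
      ⟨hsw.1 s hs, hs⟩⟩)
  rw [h4, hFz, mul_one] at e1
  rw [h5, hFz] at e2
  have hn2 := h.two_lt_card a
  have h6 : Nat.card Ω - 2 = 2 * Nat.card (Dab G a b) := by
    have hpos : 0 < Nat.card {s : G // IsConj z s} := by
      have : Nonempty {s : G // IsConj z s} := ⟨⟨z, IsConj.refl z⟩⟩
      exact Nat.card_pos
    rw [← e1] at e2
    have h7 : Nat.card {s : G // IsConj z s} * (Nat.card Ω - 2) =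
        Nat.card {s : G // IsConj z s} * (2 * Nat.card (Dab G a b)) := by
      rw [e2]; ring
    exact Nat.eq_of_mul_eq_mul_left hpos h7
  -- Zassenhaus
  have hz : Cfsg.IsZassenhausGroup G Ω := by
    refine ⟨inferInstance, ?_, h3, ⟨z, hz1, a, b, hab.symm, hza, hzb⟩, ?_⟩
    · rw [is_two_pretransitive_iff]
      intro x y x' y' hxy hxy'
      exact h.two hxy hxy'
    · intro N hNn hNt
      refine ⟨a, fun hbot => ?_⟩
      -- `N` moves a point
      have hmove : ∃ x ∈ N, ∃ c : Ω, x • c ≠ c := by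
        obtain ⟨x, hx⟩ := hNt.exists_smul_eq a b
        exact ⟨x, x.2, a, by
          intro e
          exact hab (hx.symm.trans e)⟩
      have hsup := h.normal_sup hgen hNn hmove a
      have hzN : z ∈ N := by
        have h7 : z ∈ N ⊔ U a := by rw [hsup]; exact mem_top z
        obtain ⟨n, hn, u, hu, hnu⟩ := Subgroup.mem_sup_of_normal_left.1 h7
        have h8 : u * u ∈ N := by
          have h9 : u = n⁻¹ * z := by rw [← hnu]; group
          have h10 : u * u = n⁻¹ * (z * n⁻¹ * z⁻¹) * (z * z) := by rw [h9]; group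
          rw [h10, hz2, mul_one]
          exact N.mul_mem (N.inv_mem hn) (hNn.conj_mem _ (N.inv_mem hn) z)
        have h9 : u ∈ N := by
          have hodd : Odd (Nat.card (U a)) := by
            rw [hN]
            exact (hp.odd_of_ne_two hp2).pow
          have := h.finite_U a
          obtain ⟨m, hm⟩ := hodd
          have h10 : u ^ (2 * m + 1) = 1 := by
            rw [← hm]
            have := pow_card_eq_one' (x := (⟨u, hu⟩ : U a))
            exact congrArg Subtype.val this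
          have h11 : u = (u * u) ^ (m + 1) := by
            rw [← pow_two, ← pow_mul]
            have : 2 * (m + 1) = (2 * m + 1) + 1 := by ring
            rw [this, pow_succ, h10, one_mul]
          rw [h11]
          exact N.pow_mem h8 _
        rw [← hnu]
        exact N.mul_mem hn h9
      apply hz1
      have h8 : (⟨z, hzN⟩ : N) ∈ stabilizer N a := hza
      rw [hbot] at h8
      exact congrArg Subtype.val (mem_bot.1 h8)
  have hDeq : (stabilizer G a ⊓ stabilizer G b : Subgroup G) = Dab G a b := rfl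
  obtain ⟨p', f, K, i1, i2, hp', hp2', hK, hΩ, ⟨e⟩⟩ := Cfsg.Agent.S0742.result hz hab.symm
    (by rw [hDeq]; exact even_iff_two_dvd.2 h2)
    (by rw [hDeq, ← h6, Nat.card_eq_fintype_card])
  have hk : k ≠ 0 := by
    rintro rfl
    rw [hcard, pow_zero] at hn2
    omega
  have hDpos : 2 ≤ Nat.card (Dab G a b) := Nat.le_of_dvd Nat.card_pos h2
  have hKc : Fintype.card K = p ^ k := by
    rw [hK]
    rw [← Nat.card_eq_fintype_card, hcard] at hΩ
    omega
  refine ⟨_, EndL.tl_of_iso h hab e hp hp2 hk hN (h.not_dvd_Dab hgen hab hp hp2 hN) ?_ ?_ ?_⟩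
  · rw [hN]
    (clear * - h2 hcard hn2 h6 hp2' hK hΩ hk hKc; omega)
  · rw [hKc]
    exact (hp.odd_of_ne_two hp2).pow
  · rw [hKc]
    omega

theorem goalZass.{v} : GoalZass.{v} := by
  intro G Ω _ _ _ _ _ U a b p k hC hp hp2 hN h2 t ht1 ht2 ht3
  classical
  have h := hC.split
  have hN' : ∀ c, Nat.card (U c) = p ^ k := fun c => by
    have h3 := h.card c
    rw [h.card a, hN] at h3
    omega
  have h4 := h.four_dvd hC.gen (fun c => by rw [hN' c]; exact (hp.odd_of_ne_two hp2).pow) ht2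
  have hle : Nat.card (fixedBy Ω t) ≤ Nat.card Ω := Nat.card_le_card_of_injective _ Subtype.val_injective
  have hev := hC.even
  obtain ⟨m, hm⟩ := hev
  obtain ⟨l, hl⟩ := h4
  have hcases : Nat.card (fixedBy Ω t) = 0 ∨ Nat.card (fixedBy Ω t) = 2 := by omega
  rcases hcases with h0 | h2'
  · exfalso
    obtain ⟨s, hs⟩ := exists_prime_orderOf_dvd_card' 2 h2
    have hs2 : (s : G) * s = 1 := by
      have := pow_orderOf_eq_one s
      rw [hs, pow_two] at this
      exact congrArg Subtype.val this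
    have h5 := (h.fpf hC.gen hC.ne hp hp2 hN ht2 (fun c hc => by
      have : Nonempty (fixedBy Ω t) := ⟨⟨c, hc⟩⟩
      have := Nat.card_pos (α := fixedBy Ω t)
      omega)).2.2 s s.2 hs2
    have h6 : (s : G) = 1 := eq_of_smul_eq_smul (α := Ω) fun c => by rw [h5 c, one_smul]
    have : s = 1 := Subtype.ext h6
    rw [this, orderOf_one] at hs
    omega
  · exact Or.inr (Or.inl (main h hC.gen hC.even hC.ne hp hp2 hN h2 ht1 ht2 h2'))

end Cfsg.Agent.HKS.ZassEnd
end

-- part: HKS/Final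
section
/-!
# S1146 from the goals
-/

set_option autoImplicit false

namespace Cfsg.Agent.HKS.Final

open Subgroup MulAction Cfsg.Agent.KantorSeitz

/-- the conclusion of S1146 -/
def Concl1146 (G : Type*) [Group G] : Prop :=
  (∃ (F : Type) (_ : Field F) (_ : Fintype F),
      Nonempty (G ≃* Matrix.ProjectiveSpecialLinearGroup (Fin 2) F)) ∨
    (∃ (F : Type) (_ : Field F) (_ : Fintype F) (q : ℕ), Fintype.card F = q ^ 2 ∧
      Nonempty (G ≃* Cfsg.PSU 3 F q)) ∨
    Cfsg.Lie.IsoSuzuki G ∨ Cfsg.Lie.IsoRee G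

/-- **Goal 8**: the form of the theorem used by the Kantor–Seitz theorem. -/
def GoalIface.{v} : Prop := (∀ n, HKSBelow.{v} n) → HKSEven.{v}

/-- **Goal 9**: S1146 in odd degree. -/
def GoalOddDegree.{u} : Prop := ∀ (G : Type u) [Group G] [Finite G] [IsSimpleGroup G]
  (P : Cfsg.BNPair G), P.rank = 1 → P.IsSplit → Odd (Nat.card (G ⧸ P.B)) → Concl1146 G

theorem mulEquiv_of_top {G H : Type*} [Group G] [Group H]
    (h : ∃ f : (⊤ : Subgroup G) →* H, Function.Surjective f ∧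
      ∀ x : (⊤ : Subgroup G), f x = 1 ↔ (x : G) ∈ (⊥ : Subgroup G)) : Nonempty (G ≃* H) := by
  obtain ⟨f, hf, hf1⟩ := h
  have hinj : Function.Injective f := by
    rw [injective_iff_map_eq_one]
    intro x hx
    exact Subtype.ext (mem_bot.1 ((hf1 x).1 hx))
  exact ⟨(topEquiv (G := G)).symm.trans (MulEquiv.ofBijective f ⟨hinj, hf⟩)⟩

/-- the even degree case of S1146 -/
theorem even_case.{u} (hall : ∀ n, HKSBelow.{u} n) (hI : HKSEven.{u}) {G : Type u} [Group G]
    [Finite G] [IsSimpleGroup G] (P : Cfsg.BNPair G) (h1 : P.rank = 1) (hsplit : P.IsSplit)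
    (hev : Even (Nat.card (G ⧸ P.B))) : Concl1146 G := by
  obtain ⟨N, b, hba, hNB, hNn, hNnil, hNs, hKS, hNa, hfaith, h3, hsta, hfb⟩ :=
    FromBN.exists_KS P h1 hsplit
  set a : G ⧸ P.B := ((1 : G) : G ⧸ P.B) with ha
  have hreg : ∀ c d : G ⧸ P.B, c ≠ d → ∀ x ∈ ofBase N a c, x • d = d → x = 1 := fun c d hcd =>
    hKS.even_regular hI hev hcd
  have h : SSplit (ofBase N a) := FromBN.toSSplit hKS hreg h3
  have hgen : (⨆ c, ofBase N a c) = ⊤ := by
    rcases h.iSup_normal.eq_bot_or_eq_top with h4 | h4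
    · exfalso
      obtain ⟨c, hca, hcb⟩ := h.three a b
      obtain ⟨x, hx, hxb⟩ := h.trans (a := a) (b := b) (c := c) hba hca
      have h5 : x ∈ (⨆ c, ofBase N a c) := mem_iSup_of_mem a hx
      rw [h4] at h5
      rw [mem_bot.1 h5, one_smul] at hxb
      exact hcb hxb.symm
    · exact h4
  have hT := hall (Nat.card (G ⧸ P.B) + 1) G (G ⧸ P.B) (ofBase N a) h hgen hev
    (Nat.lt_succ_self _) a b hba
  rcases hT with hT | ⟨q, hT⟩ | ⟨q, hT⟩ | ⟨n, hT⟩
  · -- affine
    exfalso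
    obtain ⟨E, hEn, -, -, hEt, hEf, -, hEc, -⟩ := h.sharp_normal hev hba hT
    rcases hEn.eq_bot_or_eq_top with h4 | h4
    · obtain ⟨x, hx, hxb⟩ := hEt a b
      rw [h4] at hx
      rw [mem_bot.1 hx, one_smul] at hxb
      exact hba hxb.symm
    · obtain ⟨c, hca, hcb⟩ := h.three a b
      obtain ⟨x, hx, hxb⟩ := h.trans (a := a) (b := b) (c := c) hba hca
      have h5 : x = 1 := hEf a x (by rw [h4]; exact mem_top x) (h.fix hx)
      rw [h5, one_smul] at hxb
      exact hcb hxb.symm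
  · left
    obtain ⟨F, i1, i2, -, hf⟩ := hT.iso
    exact ⟨F, i1, i2, mulEquiv_of_top hf⟩
  · right; left
    obtain ⟨F, i1, i2, hF, hf⟩ := hT.iso
    exact ⟨F, i1, i2, q, hF, mulEquiv_of_top hf⟩
  · right; right; right
    have hBN : P.B ⊓ P.N = Dab G a b := by
      apply le_antisymm
      · intro x hx
        exact ⟨(hsta x).2 hx.1, hfb x hx⟩
      · intro x hx
        have hxB : x ∈ P.B := (hsta x).1 hx.1
        have hNn' : (N.subgroupOf P.B).Normal := by
          rw [Subgroup.normal_subgroupOf_iff hNB]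
          intro u b hu hb
          exact hNn b hb u hu
        obtain ⟨u, hu, y, hy, hxy⟩ :=
          Cfsg.Agent.StrongEmb.SplitBN.exists_eq_mul_inf P hNB hNn' hNs hxB
        have h4 : u • b = b := by
          have h5 : u = x * y⁻¹ := by rw [hxy]; group
          rw [h5, mul_smul, inv_smul_eq_iff.2 (hfb y hy).symm, show x • b = b from hx.2]
        have h5 : u = 1 := h.free hba (by rw [hNa]; exact hu) h4
        rw [hxy, h5, one_mul]
        exact hy
    have hD := hT.data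
    have hcU : Nat.card N = 3 ^ (3 * n) := by
      have h4 := hD.card
      rw [hNa] at h4
      rw [h4, ← pow_mul, mul_comm]
    obtain ⟨z, hz, hz1, hz2, -⟩ := hD.invol
    have hz1' : z ≠ 1 := fun e => hz1 (mem_bot.2 e)
    obtain ⟨K, i1, i2, hK, hC⟩ := hT.centr z hz hz1' hz2
    refine Cfsg.Agent.S1149.result P h1 hD.odd N hNB hNn hNnil hNs ?_ ?_ hcU ?_ ?_ ?_ K hK ?_
      hT.syl
    · rw [eq_bot_iff]
      intro x hx
      have h4 : x • b = b := hfb x hx.2
      exact mem_bot.2 (h.free hba (by rw [hNa]; exact hx.1) h4)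
    · have h4 : P.B.index = Nat.card (G ⧸ P.B) := rfl
      rw [h4, h.card a, hNa, hcU]
    · rw [hBN]
      obtain ⟨e, he, hcyc⟩ := hD.cyc
      refine ⟨⟨⟨e, he⟩, fun x => ?_⟩⟩
      obtain ⟨k, hk⟩ := hcyc x x.2
      refine mem_zpowers_iff.2 ⟨-(k : ℤ), Subtype.ext ?_⟩
      have h4 : (x : G) = (e ^ k)⁻¹ := eq_inv_of_mul_eq_one_left (mem_bot.1 hk)
      rw [h4]
      simp only [zpow_neg, zpow_natCast, SubmonoidClass.mk_pow, InvMemClass.coe_inv]
    · have h4 := hD.cardE
      rw [relIndex_bot_left] at h4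
      rw [hBN, h4]
    · intro x hx hx1 hxo
      rw [eq_bot_iff]
      rintro u ⟨hu, hux⟩
      rw [hBN] at hx
      have h4 : x * u = u * x := (mem_centralizer_singleton_iff.1 hux).symm
      rcases hD.fpf x hx (orderOf x) hxo (mem_bot.2 (pow_orderOf_eq_one x)) u
        (by rw [hNa]; exact hu) h4 with h5 | h5
      · exact absurd (mem_bot.1 h5) hx1
      · exact mem_bot.2 h5
    · exact ⟨z, by rw [hBN]; exact hz, hz1', hz2, hC⟩

/-- **S1146** from the goals. -/
theorem main.{u} (g1 : GoalOdd.{u}) (g2 : GoalPow.{u}) (g4 : GoalFour.{u})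
    (g5 : GoalRank.{u}) (g6 : GoalRee.{u}) (g7 : GoalUni.{u}) (g8 : GoalIface.{u})
    (g9 : GoalOddDegree.{u}) {G : Type u} [Group G] [Finite G] [IsSimpleGroup G]
    (P : Cfsg.BNPair G) (h1 : P.rank = 1) (hsplit : P.IsSplit) :
    (∃ (F : Type) (_ : Field F) (_ : Fintype F),
        Nonempty (G ≃* Matrix.ProjectiveSpecialLinearGroup (Fin 2) F)) ∨
      (∃ (F : Type) (_ : Field F) (_ : Fintype F) (q : ℕ), Fintype.card F = q ^ 2 ∧
        Nonempty (G ≃* Cfsg.PSU 3 F q)) ∨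
      Cfsg.Lie.IsoSuzuki G ∨ Cfsg.Lie.IsoRee G := by
  have hall := HKSBelow.all g1 g2 ZassEnd.goalZass g4 g5 g6 g7
  rcases Nat.even_or_odd (Nat.card (G ⧸ P.B)) with hev | hodd
  · exact even_case hall (g8 hall) P h1 hsplit hev
  · exact g9 G P h1 hsplit hodd

end Cfsg.Agent.HKS.Final
end

-- part: HKS/RankOf
section
/-!
# `GoalRank` from the three cases

`goalRank_of` : `GoalRank` from the cases `U a` abelian; `U a` not abelian, `|U a| ≡ 1 (mod 4)`;
`U a` not abelian, `|U a| ≡ 3 (mod 4)`.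
-/

set_option autoImplicit false

namespace Cfsg.Agent.HKS

open Subgroup MulAction

/-- four-groups in `G_ab`, `U a` abelian -/
def RankAbelian.{v} : Prop := ∀ (G Ω : Type v) [Group G] [Finite G] [MulAction G Ω]
  [FaithfulSMul G Ω] [Finite Ω] (U : Ω → Subgroup G) (a b : Ω) (p k : ℕ), CtxE U a b p k →
  NoFourFix U a b → ∀ s ∈ Dab G a b, ∀ t ∈ Dab G a b, s ≠ 1 → t ≠ 1 → s ≠ t → s * s = 1 →
  t * t = 1 → s * t = t * s → (∀ x ∈ U a, ∀ y ∈ U a, x * y = y * x) → False

/-- four-groups in `G_ab`, `U a` not abelian, `|U a| ≡ m (mod 4)` -/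
def RankCentral.{v} (m : ℕ) : Prop := ∀ (G Ω : Type v) [Group G] [Finite G] [MulAction G Ω]
  [FaithfulSMul G Ω] [Finite Ω] (U : Ω → Subgroup G) (a b : Ω) (p k : ℕ), CtxE U a b p k →
  NoFourFix U a b → ∀ z e : G, FourZero.Cen U a b z → e ∈ Dab G a b → e ≠ 1 → e ≠ z →
  e * e = 1 → z * e = e * z → Nat.card (U a) % 4 = m → False

theorem goalRank_of.{v} (h0 : RankAbelian.{v}) (h1 : RankCentral.{v} 1)
    (h3 : RankCentral.{v} 3) : GoalRank.{v} := by
  intro G Ω _ _ _ _ _ U a b p k C hV s hs t ht hs1 ht1 hss htt hc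
  by_contra hst
  rcases FourZero.exists_central C hV hs ht hs1 ht1 hst hss htt hc with
    hQ | ⟨z, e, Z, he, he1, hez, hee, hze⟩
  · exact h0 G Ω U a b p k C hV s hs t ht hs1 ht1 hst hss htt hc hQ
  · have hodd := FourZero.odd_U C
    obtain ⟨j, hj⟩ := hodd
    rcases Nat.even_or_odd j with ⟨i, hi⟩ | ⟨i, hi⟩
    · exact h1 G Ω U a b p k C hV z e Z he he1 hez hee hze (by omega)
    · exact h3 G Ω U a b p k C hV z e Z he he1 hez hee hze (by omega)

end Cfsg.Agent.HKS
end

-- part: HKS/AbelianCount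
section
/-!
# The counting lemmas for abelian `U a`

`z ∈ Dab a b` an involution such that every element interchanging `a` and `b` commutes with exactly one
conjugate of `z` in `Dab a b`.

* `unique_fix`: every point not fixed by `z` is fixed by exactly one conjugate of `z` commuting with `z`;
* `fpf_of_isolated`, `not_dvd`: if `z` commutes with no other conjugate of `z` in `Dab a b`;
* `count_cube`: if `|U a| = q ^ 3` and `e`, `e z` are conjugates of `z`.
-/

set_option autoImplicit false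

namespace Cfsg.Agent.HKS.AbelianCount

open Subgroup MulAction Cfsg.Agent.HKS.TwoOne

variable {G Ω : Type*} [Group G] [MulAction G Ω] {U : Ω → Subgroup G}

section

variable {a b : Ω} {z : G}

/-- (C0) -/
theorem unique_fix (h : SSplit U) (hab : b ≠ a) (hz2 : z * z = 1)
    (hF : ∀ y : G, Swaps y a b → ∃! z', z' ∈ Dab G a b ∧ IsConj z z' ∧ y * z' = z' * y)
    {c : Ω} (hc : z • c ≠ c) : ∃! z', IsConj z z' ∧ z' * z = z * z' ∧ z' • c = c := by
  obtain ⟨g, hg1, hg2⟩ := h.two (a := c) (b := z • c) (c := a) (d := b) hc.symm hab.symm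
  have hys : Swaps (g * z * g⁻¹) a b := by
    constructor
    · rw [mul_smul, mul_smul, inv_smul_eq_iff.2 hg1.symm, hg2]
    · rw [mul_smul, mul_smul, inv_smul_eq_iff.2 hg2.symm, ← mul_smul z z, hz2, one_smul, hg1]
  obtain ⟨z1, ⟨h1, h2, h3⟩, h4⟩ := hF _ hys
  refine ⟨g⁻¹ * z1 * g, ⟨h2.trans (isConj_iff.2 ⟨g⁻¹, by group⟩), ?_, ?_⟩, ?_⟩
  · calc g⁻¹ * z1 * g * z = g⁻¹ * (z1 * (g * z * g⁻¹)) * g := by group
      _ = g⁻¹ * (g * z * g⁻¹ * z1) * g := by rw [h3]
      _ = _ := by group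
  · rw [mul_smul, mul_smul, hg1, show z1 • a = a from h1.1, inv_smul_eq_iff, hg1]
  · rintro z2 ⟨hz1, hzz, hzc⟩
    have h5 : z2 • z • c = z • c := by rw [← mul_smul, hzz, mul_smul, hzc]
    have h6 : g * z2 * g⁻¹ = z1 := by
      apply h4
      refine ⟨⟨?_, ?_⟩, hz1.trans (isConj_iff.2 ⟨g, rfl⟩), ?_⟩
      · change (g * z2 * g⁻¹) • a = a
        rw [mul_smul, mul_smul, inv_smul_eq_iff.2 hg1.symm, hzc, hg1]
      · change (g * z2 * g⁻¹) • b = b
        rw [mul_smul, mul_smul, inv_smul_eq_iff.2 hg2.symm, h5, hg2]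
      · calc g * z * g⁻¹ * (g * z2 * g⁻¹) = g * (z * z2) * g⁻¹ := by group
          _ = g * (z2 * z) * g⁻¹ := by rw [hzz]
          _ = _ := by group
    rw [← h6]
    group

/-- (C1), first part. -/
theorem fpf_of_isolated (h : SSplit U) [Finite Ω] (hab : b ≠ a) (hz : z ∈ Dab G a b)
    (hz2 : z * z = 1) (hodd : Odd (Nat.card (U a)))
    (hiso : ∀ z' ∈ Dab G a b, IsConj z z' → z' * z = z * z' → z' = z) :
    ∀ y : G, IsConj z y → y * z = z * y → y ≠ z → ∀ c : Ω, z • c = c → y • c ≠ c := by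
  intro y hy hyz hne c hzc hyc
  have hy2 : y * y = 1 := by
    obtain ⟨g, rfl⟩ := isConj_iff.1 hy
    exact mul_self_conj rfl hz2
  -- a second common fixed point
  have hUc : Nat.card (U c) = Nat.card (U a) := by
    have h1 := h.card a
    have h2 := h.card c
    omega
  obtain ⟨d, hdc, hzd, hyd⟩ : ∃ d, d ≠ c ∧ z • d = d ∧ y • d = d := by
    obtain ⟨e, hec, -⟩ := h.three c c
    -- the fixed points of `z` other than `c`
    have h1 : Odd (Nat.card {d : Ω // d ≠ c ∧ z • d = d}) := by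
      obtain ⟨d, hdc, hd⟩ : ∃ d, d ≠ c ∧ z • d = d := by
        by_cases hca : c = a
        · exact ⟨b, by rw [hca]; exact hab, hz.2⟩
        · exact ⟨a, fun e => hca e.symm, hz.1⟩
      have h2 := h.card_fixSub (X := zpowers z) hdc (zpowers_fix hzc) (zpowers_fix hd)
      have hodd' : Odd (Nat.card (U c ⊓ centralizer (zpowers z : Set G) : Subgroup G)) := by
        refine Odd.of_dvd_nat ?_ (card_dvd_of_le (inf_le_left : U c ⊓ centralizer (zpowers z : Set G) ≤ U c))
        rw [hUc]; exact hodd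
      have h3 := card_ne_pt (⟨c, zpowers_fix hzc⟩ : fixSub Ω (zpowers z))
      have h4 : Nat.card {d : Ω // d ≠ c ∧ z • d = d} =
          Nat.card {e : fixSub Ω (zpowers z) // ¬ e = ⟨c, zpowers_fix hzc⟩} := by
        refine Nat.card_congr ⟨fun d => ⟨⟨d.1, zpowers_fix d.2.2⟩, fun e => d.2.1
            (congrArg Subtype.val e)⟩, fun e => ⟨e.1.1, fun e' => e.2 (Subtype.ext e'),
            e.1.2 z (mem_zpowers z)⟩, fun _ => rfl, fun _ => rfl⟩
      rw [h4]
      have h5 : Nat.card {e : fixSub Ω (zpowers z) // ¬ e = ⟨c, zpowers_fix hzc⟩} =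
          Nat.card (U c ⊓ centralizer (zpowers z : Set G) : Subgroup G) := by omega
      rw [h5]
      exact hodd'
    obtain ⟨⟨d, hdc, hd⟩, hx⟩ := exists_fixed h1 (fun x => ⟨y • x.1, fun e => x.2.1
      (MulAction.injective y (by
        change y • x.1 = y • c
        rw [e, hyc])), by
        rw [← mul_smul, ← hyz, mul_smul, x.2.2]⟩) (fun x => Subtype.ext (by
          change y • y • x.1 = x.1
          rw [← mul_smul, hy2, one_smul]))
    exact ⟨d, hdc, hd, congrArg Subtype.val hx⟩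
  -- move `(c, d)` to `(a, b)` inside `C(z)`
  rcases two_cent h hdc hab ⟨hzc, hzd⟩ hz with ⟨g, hg, hgc, hgd⟩ | ⟨hd, hc, -⟩
  · have h1 := hiso (g * y * g⁻¹) (conj_mem_Dab' ⟨hyc, hyd⟩ hgc hgd)
      (hy.trans (isConj_iff.2 ⟨g, rfl⟩)) (by
        calc g * y * g⁻¹ * z = g * y * g⁻¹ * (z * g) * g⁻¹ := by group
          _ = g * (y * z) * g⁻¹ := by rw [hg]; group
          _ = (g * z) * y * g⁻¹ := by rw [hyz]; group
          _ = (z * g) * y * g⁻¹ := by rw [hg]
          _ = _ := by group)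
    apply hne
    have h2 : z = g * z * g⁻¹ := by rw [← hg]; group
    rw [h2] at h1
    exact mul_left_cancel (mul_right_cancel h1)
  · exact hne (hiso y ⟨by rw [hd]; exact hyd, by rw [hc]; exact hyc⟩ hy hyz)

/-- the points moved by `z` -/
theorem card_moved [Finite Ω] (h : SSplit U) (a : Ω) (z : G) :
    Nat.card (U a) + 1 = Nat.card (fixedBy Ω z) + Nat.card {c : Ω // z • c ≠ c} := by
  classical
  have := Fintype.ofFinite Ω
  rw [← h.card a]
  have h1 : Fintype.card {c : Ω // ¬ z • c = c} = Fintype.card Ω - Fintype.card {c : Ω // z • c = c} :=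
    Fintype.card_subtype_compl _
  have h2 : Fintype.card {c : Ω // z • c = c} ≤ Fintype.card Ω := Fintype.card_subtype_le _
  have h3 : Nat.card (fixedBy Ω z) = Fintype.card {c : Ω // z • c = c} := by
    rw [Nat.card_eq_fintype_card]
    exact Fintype.card_congr (Equiv.refl _)
  have h4 : Nat.card {c : Ω // z • c ≠ c} = Fintype.card {c : Ω // ¬ z • c = c} :=
    Nat.card_eq_fintype_card
  rw [h3, h4, h1, Nat.card_eq_fintype_card]
  omega

/-- (C1), the congruence. -/
theorem card_eq_of_isolated (h : SSplit U) [Finite G] [Finite Ω] (hab : b ≠ a) (hz : z ∈ Dab G a b)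
    (hz2 : z * z = 1) (hodd : Odd (Nat.card (U a)))
    (hF : ∀ y : G, Swaps y a b → ∃! z', z' ∈ Dab G a b ∧ IsConj z z' ∧ y * z' = z' * y)
    (hiso : ∀ z' ∈ Dab G a b, IsConj z z' → z' * z = z * z' → z' = z) {q : ℕ}
    (hq : Nat.card (fixedBy Ω z) = q + 1) :
    ∃ m : ℕ, Nat.card (U a) = q + m * (q + 1) ∧ Nat.card {c : Ω // z • c ≠ c} = m * (q + 1) := by
  classical
  have hfpf := fpf_of_isolated h hab hz hz2 hodd hiso
  let T := {y : G // IsConj z y ∧ y * z = z * y ∧ y ≠ z}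
  have := Fintype.ofFinite T
  let f : (Σ y : T, fixedBy Ω (y : G)) → {c : Ω // z • c ≠ c} := fun y =>
    ⟨y.2.1, fun e => hfpf y.1.1 y.1.2.1 y.1.2.2.1 y.1.2.2.2 _ e y.2.2⟩
  have hf : Function.Bijective f := by
    constructor
    · rintro ⟨⟨y, hy1, hy2, hy3⟩, ⟨c, hc⟩⟩ ⟨⟨y', hy1', hy2', hy3'⟩, ⟨c', hc'⟩⟩ he
      have hcc : c = c' := congrArg Subtype.val he
      subst hcc
      have hcz : z • c ≠ c := fun e => hfpf y hy1 hy2 hy3 c e hc
      have hyy : y = y' := (unique_fix h hab hz2 hF hcz).unique ⟨hy1, hy2, hc⟩ ⟨hy1', hy2', hc'⟩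
      subst hyy
      rfl
    · rintro ⟨c, hc⟩
      obtain ⟨y, ⟨hy1, hy2, hy3⟩, -⟩ := unique_fix h hab hz2 hF hc
      exact ⟨⟨⟨y, hy1, hy2, fun e => hc (by rwa [e] at hy3)⟩, ⟨c, hy3⟩⟩, rfl⟩
  let e := (Equiv.ofBijective f hf).symm
  have h1 : Nat.card {c : Ω // z • c ≠ c} = Nat.card T * (q + 1) := by
    rw [Nat.card_congr e, Nat.card_sigma]
    have h3 : ∀ y ∈ (Finset.univ : Finset T), Nat.card (fixedBy Ω (y : G)) = q + 1 := by
      intro y _
      rw [← hq]
      exact (SSplit.card_fixedBy_isConj y.2.1).symm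
    rw [Finset.sum_congr rfl h3, Finset.sum_const, Finset.card_univ, smul_eq_mul,
      Nat.card_eq_fintype_card]
  have h2 := card_moved h a z
  refine ⟨Nat.card T, ?_, h1⟩
  rw [hq, h1] at h2
  omega

/-- (C1), second part. -/
theorem not_dvd (h : SSplit U) [Finite G] [Finite Ω] [FaithfulSMul G Ω] (hab : b ≠ a)
    (hz : z ∈ Dab G a b) (hz2 : z * z = 1) (hz1 : z ≠ 1) (hodd : Odd (Nat.card (U a)))
    (hF : ∀ y : G, Swaps y a b → ∃! z', z' ∈ Dab G a b ∧ IsConj z z' ∧ y * z' = z' * y)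
    (hiso : ∀ z' ∈ Dab G a b, IsConj z z' → z' * z = z * z' → z' = z) {q : ℕ}
    (hq : Nat.card (fixedBy Ω z) = q + 1) : ¬ Nat.card (U a) ∣ q ^ 2 := by
  intro hdvd
  obtain ⟨m, h1, h2⟩ := card_eq_of_isolated h hab hz hz2 hodd hF hiso hq
  have h3 := card_fixedBy_eq h hab hz
  have h4 : q = Nat.card (CU U a z) := by omega
  have h5 : q ∣ Nat.card (U a) := by
    rw [h4]
    exact card_dvd_of_le inf_le_left
  have hq0 : 0 < q := by
    rcases Nat.eq_zero_or_pos q with h0 | h0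
    · rw [h0, zero_dvd_iff] at h5
      rw [h5] at hodd
      exact absurd hodd (by decide)
    · exact h0
  obtain ⟨r, hr⟩ := h5
  have hrq : r ∣ q := by
    rw [hr, pow_two] at hdvd
    exact Nat.dvd_of_mul_dvd_mul_left hq0 hdvd
  have hr_le : r ≤ q := Nat.le_of_dvd hq0 hrq
  have hr0 : 0 < r := by
    rcases Nat.eq_zero_or_pos r with h0 | h0
    · rw [h0, mul_zero] at hr
      rw [hr] at hodd
      exact absurd hodd (by decide)
    · exact h0
  -- `(q + 1) ∣ r - 1`
  have h6 : q * (r - 1) = m * (q + 1) := by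
    have : q * (r - 1) + q = q * r := by
      rw [← Nat.mul_succ]
      congr 1
      omega
    rw [← hr, h1] at this
    omega
  have h7 : (q + 1) ∣ (r - 1) := by
    have h8 : (q + 1) ∣ q * (r - 1) := ⟨m, by rw [h6, mul_comm]⟩
    exact (Nat.Coprime.dvd_of_dvd_mul_left (by simp) h8)
  have h8 : r - 1 = 0 := Nat.eq_zero_of_dvd_of_lt h7 (by omega)
  rw [h8, mul_zero] at h6
  have h9 : Nat.card {c : Ω // z • c ≠ c} = 0 := by rw [h2, ← h6]
  have h10 : ∀ c : Ω, z • c = c := by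
    intro c
    by_contra hc
    have : Nonempty {c : Ω // z • c ≠ c} := ⟨⟨c, hc⟩⟩
    rw [Nat.card_eq_zero] at h9
    rcases h9 with h9 | h9
    · exact h9.false ⟨c, hc⟩
    · exact h9.not_finite (inferInstance : Finite {c : Ω // z • c ≠ c})
  exact hz1 (FaithfulSMul.eq_of_smul_eq_smul (α := Ω) fun c => by rw [h10 c, one_smul])

/-- (C2) -/
theorem count_cube (h : SSplit U) [Finite G] [Finite Ω] (hab : b ≠ a) (hz : z ∈ Dab G a b)
    (hz2 : z * z = 1) (hz1 : z ≠ 1)
    (hF : ∀ y : G, Swaps y a b → ∃! z', z' ∈ Dab G a b ∧ IsConj z z' ∧ y * z' = z' * y) {q : ℕ}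
    (hq : Nat.card (fixedBy Ω z) = q + 1) {e : G} (he : e ∈ Dab G a b) (hze : IsConj z e)
    (hzez : IsConj z (e * z)) (hc : e * z = z * e) (hne : e ≠ z) (hN : Nat.card (U a) = q ^ 3)
    (hfix : ∀ c : Ω, z • c = c → e • c = c → c = a ∨ c = b) (M : Subgroup G)
    (hM : ∀ g ∈ M, g * z = z * g)
    (hM2 : ∀ c d : Ω, z • c = c → z • d = d → c ≠ d → ∃ g ∈ M, g • a = c ∧ g • b = d) :
    ∀ y : G, IsConj z y → y * z = z * y → y ≠ z →
      ∃ g ∈ M, y = g * e * g⁻¹ ∨ y = g * (e * z) * g⁻¹ := by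
  classical
  have := Fintype.ofFinite Ω
  -- the numbering of the points
  let r : Ω → ℕ := fun c => (Fintype.equivFin Ω c : ℕ)
  have hr : ∀ c d, r c = r d → c = d := fun c d hcd =>
    (Fintype.equivFin Ω).injective (Fin.ext hcd)
  have hgg : ∀ c d : Ω, ∃ g : G, (z • c = c → z • d = d → c ≠ d → g ∈ M ∧ g • a = c ∧ g • b = d) := by
    intro c d
    by_cases hcd : z • c = c ∧ z • d = d ∧ c ≠ d
    · obtain ⟨g, hg⟩ := hM2 c d hcd.1 hcd.2.1 hcd.2.2
      exact ⟨g, fun _ _ _ => hg⟩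
    · exact ⟨1, fun h1 h2 h3 => absurd ⟨h1, h2, h3⟩ hcd⟩
  choose gg hgg using hgg
  let f : Ω × Ω → G := fun p => if r p.1 < r p.2 then gg p.1 p.2 * e * (gg p.1 p.2)⁻¹
    else gg p.2 p.1 * (e * z) * (gg p.2 p.1)⁻¹
  have hez2 : e * z ≠ z := by
    intro h1
    apply hz1
    have h2 : e = 1 := mul_eq_right.1 h1
    obtain ⟨g, hg⟩ := isConj_iff.1 hze
    rw [h2] at hg
    exact conj_eq_one_iff.1 hg
  have hezD : e * z ∈ Dab G a b := mul_mem he hz
  -- the properties of conjugates of `e` and `e * z`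
  have key : ∀ x ∈ Dab G a b, IsConj z x → x * z = z * x → x ≠ z →
      (∀ c : Ω, z • c = c → x • c = c → c = a ∨ c = b) → ∀ c d : Ω, z • c = c → z • d = d → c ≠ d →
      IsConj z (gg c d * x * (gg c d)⁻¹) ∧ gg c d * x * (gg c d)⁻¹ * z = z * (gg c d * x * (gg c d)⁻¹) ∧
      gg c d * x * (gg c d)⁻¹ ≠ z ∧ (∀ k : Ω, z • k = k → (gg c d * x * (gg c d)⁻¹) • k = k →
        k = c ∨ k = d) ∧ (gg c d * x * (gg c d)⁻¹) • c = c ∧ (gg c d * x * (gg c d)⁻¹) • d = d := by
    intro x hxD hzx hxz hxne hxf c d hzc hzd hcd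
    obtain ⟨hgM, hg1, hg2⟩ := hgg c d hzc hzd hcd
    have hgz := hM _ hgM
    set g := gg c d
    have hgz' : z * g⁻¹ = g⁻¹ * z := by
      calc z * g⁻¹ = g⁻¹ * (g * z) * g⁻¹ := by group
        _ = g⁻¹ * (z * g) * g⁻¹ := by rw [hgz]
        _ = _ := by group
    refine ⟨hzx.trans (isConj_iff.2 ⟨g, rfl⟩), ?_, ?_, ?_, ?_, ?_⟩
    · calc g * x * g⁻¹ * z = g * x * (g⁻¹ * z) := by group
        _ = g * x * (z * g⁻¹) := by rw [hgz']
        _ = g * (x * z) * g⁻¹ := by group
        _ = (g * z) * x * g⁻¹ := by rw [hxz]; group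
        _ = (z * g) * x * g⁻¹ := by rw [hgz]
        _ = _ := by group
    · intro h1
      apply hxne
      have h2 : z = g * z * g⁻¹ := by rw [hgz]; group
      rw [h2] at h1
      exact mul_left_cancel (mul_right_cancel h1)
    · intro k hzk hxk
      have h1 : z • g⁻¹ • k = g⁻¹ • k := by rw [← mul_smul, hgz', mul_smul, hzk]
      have h2 : x • g⁻¹ • k = g⁻¹ • k := by
        rw [mul_smul, mul_smul] at hxk
        rw [eq_inv_smul_iff, hxk]
      rcases hxf _ h1 h2 with h3 | h3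
      · left
        rw [inv_smul_eq_iff] at h3
        rw [h3, hg1]
      · right
        rw [inv_smul_eq_iff] at h3
        rw [h3, hg2]
    · rw [mul_smul, mul_smul, inv_smul_eq_iff.2 hg1.symm, show x • a = a from hxD.1, hg1]
    · rw [mul_smul, mul_smul, inv_smul_eq_iff.2 hg2.symm, show x • b = b from hxD.2, hg2]
  have hfixz : ∀ c : Ω, z • c = c → (e * z) • c = c → c = a ∨ c = b := by
    intro c h1 h2
    rw [mul_smul, h1] at h2
    exact hfix c h1 h2
  have hf : ∀ c d : Ω, z • c = c → z • d = d → c ≠ d →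
      IsConj z (f (c, d)) ∧ f (c, d) * z = z * f (c, d) ∧ f (c, d) ≠ z ∧
      (∀ k : Ω, z • k = k → f (c, d) • k = k → k = c ∨ k = d) ∧ f (c, d) • c = c ∧
      f (c, d) • d = d ∧ ∃ g ∈ M, f (c, d) = g * e * g⁻¹ ∨ f (c, d) = g * (e * z) * g⁻¹ := by
    intro c d hzc hzd hcd
    by_cases hlt : r c < r d
    · have h1 : f (c, d) = gg c d * e * (gg c d)⁻¹ := if_pos hlt
      rw [h1]
      obtain ⟨k1, k2, k3, k4, k5, k6⟩ := key e he hze hc hne hfix c d hzc hzd hcd
      exact ⟨k1, k2, k3, k4, k5, k6, gg c d, (hgg c d hzc hzd hcd).1, Or.inl rfl⟩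
    · have h1 : f (c, d) = gg d c * (e * z) * (gg d c)⁻¹ := if_neg hlt
      rw [h1]
      obtain ⟨k1, k2, k3, k4, k5, k6⟩ := key (e * z) hezD hzez (by rw [hc, mul_assoc, hc]) hez2 hfixz
        d c hzd hzc hcd.symm
      exact ⟨k1, k2, k3, fun k h2 h3 => (k4 k h2 h3).symm, k6, k5, gg d c,
        (hgg d c hzd hzc hcd.symm).1, Or.inr rfl⟩
  have hinj : ∀ c d c' d' : Ω, z • c = c → z • d = d → c ≠ d → z • c' = c' → z • d' = d' → c' ≠ d' →
      f (c, d) = f (c', d') → c = c' ∧ d = d' := by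
    intro c d c' d' hzc hzd hcd hzc' hzd' hcd' hff
    obtain ⟨-, -, -, k4, -, -, -⟩ := hf c d hzc hzd hcd
    obtain ⟨-, -, -, -, k5, k6, -⟩ := hf c' d' hzc' hzd' hcd'
    rw [← hff] at k5 k6
    have h1 := k4 c' hzc' k5
    have h2 := k4 d' hzd' k6
    by_cases h3 : c' = c
    · have h4 : d' ≠ c := fun e => hcd' (h3.trans e.symm)
      exact ⟨h3.symm, (h2.resolve_left h4).symm⟩
    · exfalso
      have h4 : c' = d := h1.resolve_left h3
      have h5 : d' = c := h2.resolve_right (fun e => hcd' (h4.trans e.symm))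
      subst h4 h5
      rcases lt_trichotomy (r d') (r c') with hlt | heq | hlt
      · have e1 : f (d', c') = gg d' c' * e * (gg d' c')⁻¹ := if_pos hlt
        have e2 : f (c', d') = gg d' c' * (e * z) * (gg d' c')⁻¹ := if_neg (not_lt.2 hlt.le)
        rw [e1, e2] at hff
        exact hz1 (mul_eq_left.1 (mul_left_cancel (mul_right_cancel hff)).symm)
      · exact hcd' (hr _ _ heq).symm
      · have e1 : f (c', d') = gg c' d' * e * (gg c' d')⁻¹ := if_pos hlt
        have e2 : f (d', c') = gg c' d' * (e * z) * (gg c' d')⁻¹ := if_neg (not_lt.2 hlt.le)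
        rw [e1, e2] at hff
        exact hz1 (mul_eq_left.1 (mul_left_cancel (mul_right_cancel hff)))
  -- the counting
  let F : Finset Ω := Finset.univ.filter fun c => z • c = c
  have hFcard : F.card = q + 1 := by
    rw [← hq, Nat.card_eq_fintype_card, Fintype.card_subtype]
    congr 1
  have hmem : ∀ c, c ∈ F ↔ z • c = c := fun c => by simp only [Finset.mem_filter, Finset.mem_univ, true_and, F]
  let A : Ω × Ω → Finset Ω := fun p => Finset.univ.filter fun k => f p • k = k ∧ z • k ≠ k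
  have hAcard : ∀ p ∈ F.offDiag, (A p).card = q - 1 := by
    rintro ⟨c, d⟩ hp
    rw [Finset.mem_offDiag, hmem, hmem] at hp
    obtain ⟨hzc, hzd, hcd⟩ := hp
    obtain ⟨k1, -, -, k4, k5, k6, -⟩ := hf c d hzc hzd hcd
    have h1 : (Finset.univ.filter fun k : Ω => f (c, d) • k = k).card = q + 1 := by
      rw [← hq, SSplit.card_fixedBy_isConj k1, Nat.card_eq_fintype_card, Fintype.card_subtype]
      congr 1
    have h2 : (Finset.univ.filter fun k : Ω => f (c, d) • k = k) = A (c, d) ∪ {c, d} := by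
      ext k
      simp only [A, Finset.mem_filter, Finset.mem_univ, true_and, Finset.mem_union,
        Finset.mem_insert, Finset.mem_singleton]
      constructor
      · intro hk
        by_cases hzk : z • k = k
        · exact Or.inr (k4 k hzk hk)
        · exact Or.inl ⟨hk, hzk⟩
      · rintro (hk | rfl | rfl)
        · exact hk.1
        · exact k5
        · exact k6
    have h3 : Disjoint (A (c, d)) {c, d} := by
      rw [Finset.disjoint_left]
      intro k hk hk'
      simp only [A, Finset.mem_filter, Finset.mem_univ, true_and] at hk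
      simp only [Finset.mem_insert, Finset.mem_singleton] at hk'
      rcases hk' with rfl | rfl
      · exact hk.2 hzc
      · exact hk.2 hzd
    rw [h2, Finset.card_union_of_disjoint h3, Finset.card_pair hcd] at h1
    omega
  have hdisj : (F.offDiag : Set (Ω × Ω)).PairwiseDisjoint A := by
    rintro ⟨c, d⟩ hp ⟨c', d'⟩ hp' hne'
    rw [Finset.mem_coe, Finset.mem_offDiag, hmem, hmem] at hp hp'
    obtain ⟨hzc, hzd, hcd⟩ := hp
    obtain ⟨hzc', hzd', hcd'⟩ := hp'
    rw [Function.onFun, Finset.disjoint_left]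
    intro k hk hk'
    simp only [A, Finset.mem_filter, Finset.mem_univ, true_and] at hk hk'
    obtain ⟨k1, k2, -, -, -, -, -⟩ := hf c d hzc hzd hcd
    obtain ⟨l1, l2, -, -, -, -, -⟩ := hf c' d' hzc' hzd' hcd'
    have h1 := (unique_fix h hab hz2 hF hk.2).unique ⟨k1, k2, hk.1⟩ ⟨l1, l2, hk'.1⟩
    obtain ⟨rfl, rfl⟩ := hinj c d c' d' hzc hzd hcd hzc' hzd' hcd' h1
    exact hne' rfl
  have hcardU : (F.offDiag.biUnion A).card = (q + 1) * q * (q - 1) := by
    rw [Finset.card_biUnion hdisj, Finset.sum_congr rfl hAcard, Finset.sum_const,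
      Finset.offDiag_card, hFcard, smul_eq_mul]
    congr 1
    rw [Nat.mul_succ, Nat.add_sub_cancel]
  have hmoved : (Finset.univ.filter fun k : Ω => z • k ≠ k).card + q = q ^ 3 := by
    have h1 := card_moved h a z
    rw [hq, hN, Nat.card_eq_fintype_card, Fintype.card_subtype] at h1
    omega
  have hq1 : 1 ≤ q := by
    rcases Nat.eq_zero_or_pos q with h0 | h0
    · have h1 := h.two_lt_card a
      rw [h.card a, hN, h0] at h1
      norm_num at h1
    · exact h0
  have hq2 : 2 ≤ q := by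
    rcases Nat.lt_or_ge q 2 with h0 | h0
    · have h2 : q = 1 := by omega
      have h1 := h.two_lt_card a
      rw [h.card a, hN, h2] at h1
      norm_num at h1
    · exact h0
  have hcov : F.offDiag.biUnion A = Finset.univ.filter fun k : Ω => z • k ≠ k := by
    apply Finset.eq_of_subset_of_card_le
    · intro k hk
      obtain ⟨p, -, hk⟩ := Finset.mem_biUnion.1 hk
      simp only [A, Finset.mem_filter, Finset.mem_univ, true_and] at hk
      simpa only [ne_eq, Finset.mem_filter, Finset.mem_univ, true_and] using hk.2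
    · rw [hcardU]
      obtain ⟨s, rfl⟩ : ∃ s, q = s + 1 := ⟨q - 1, by omega⟩
      have h1 : (s + 1) ^ 3 = (s + 1 + 1) * (s + 1) * (s + 1 - 1) + (s + 1) := by
        rw [Nat.add_sub_cancel]; ring
      rw [h1] at hmoved
      omega
  -- the conclusion
  intro y hy hyz hyne
  by_cases hex : ∃ k : Ω, y • k = k ∧ z • k ≠ k
  · obtain ⟨k, hyk, hzk⟩ := hex
    have h1 : k ∈ F.offDiag.biUnion A := by rw [hcov]; simpa only [ne_eq, Finset.mem_filter, Finset.mem_univ, true_and] using hzk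
    obtain ⟨⟨c, d⟩, hp, hk⟩ := Finset.mem_biUnion.1 h1
    rw [Finset.mem_offDiag, hmem, hmem] at hp
    obtain ⟨hzc, hzd, hcd⟩ := hp
    simp only [A, Finset.mem_filter, Finset.mem_univ, true_and] at hk
    obtain ⟨k1, k2, -, -, -, -, k7⟩ := hf c d hzc hzd hcd
    have h2 := (unique_fix h hab hz2 hF hzk).unique ⟨hy, hyz, hyk⟩ ⟨k1, k2, hk.1⟩
    rw [h2]
    exact k7
  · exfalso
    push Not at hex
    -- `Fix y = Fix z`
    have h1 : ∀ k : Ω, z • k = k → y • k = k := by
      have h2 : (Finset.univ.filter fun k : Ω => y • k = k) = F := by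
        apply Finset.eq_of_subset_of_card_le
        · intro k hk
          rw [hmem]
          simp only [Finset.mem_filter, Finset.mem_univ, true_and] at hk
          exact hex k hk
        · rw [hFcard, ← hq, SSplit.card_fixedBy_isConj hy, Nat.card_eq_fintype_card,
            Fintype.card_subtype]
          apply le_of_eq
          congr 1
      intro k hk
      have h3 : k ∈ F := (hmem k).2 hk
      rw [← h2] at h3
      simpa only [Finset.mem_filter, Finset.mem_univ, true_and] using h3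
    have hyD : y ∈ Dab G a b := ⟨h1 a hz.1, h1 b hz.2⟩
    -- an element of `C_{U b}(z)`
    have hzD' : z ∈ Dab G b a := by rw [Dab_symm]; exact hz
    have h2 := card_fixedBy_eq h hab.symm hzD'
    have h3 : 2 ≤ Nat.card (CU U b z) := by omega
    obtain ⟨u, hu, hu1⟩ : ∃ u ∈ CU U b z, u ≠ 1 := by
      have : Nontrivial (CU U b z) := (Finite.one_lt_card_iff_nontrivial).1 (by omega)
      obtain ⟨u, hu⟩ := exists_ne (1 : CU U b z)
      exact ⟨u, u.2, fun e => hu (Subtype.ext e)⟩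
    have huc := mem_CU.1 hu
    have huy : y * u = u * y := by
      refine h.comm_of_fix (X := zpowers z) (a := b) (b := a) (zpowers_fix hz.2) (zpowers_fix hz.1)
        hab.symm (fun c hc => h1 c (hc z (mem_zpowers z))) huc.1 hu.2
    have hs := h.mu_swaps hab huc.1 hu1
    have hm1 := h.mu_comm hab huc.1 hu1 hz huc.2
    have hm2 := h.mu_comm hab huc.1 hu1 hyD huy
    exact hyne ((hF _ hs).unique ⟨hyD, hy, hm2.symm⟩ ⟨hz, IsConj.refl z, hm1.symm⟩)

end

end Cfsg.Agent.HKS.AbelianCount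
end

-- part: HKS/AbelianEnd
section
/-!
# Four-groups in `G_ab` and abelian unipotent groups

`AbelianEnd.abelian_false` : in the context `CtxE`, `NoFourFix`, if `U a` is abelian then `G_ab` has no
four-group.
-/

set_option autoImplicit false
set_option linter.unusedSectionVars false

open Cfsg

namespace Cfsg.Agent.HKS.AbelianEnd

open Subgroup MulAction AbelianQ

/-! ### A central involution -/

/-- Two commuting involutions generate a `2`-group. -/
theorem isPGroup_sup {W : Type*} [Group W] {s t : W} (hs2 : s * s = 1) (ht2 : t * t = 1)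
    (hst : s * t = t * s) : IsPGroup 2 (zpowers s ⊔ zpowers t : Subgroup W) := by
  have key : ∀ x : W, x * x = 1 → IsPGroup 2 (zpowers x) := by
    intro x hx
    rintro ⟨_, ⟨n, rfl⟩⟩
    refine ⟨1, Subtype.ext ?_⟩
    change (x ^ n) ^ 2 ^ 1 = 1
    rw [pow_one, ← zpow_natCast, ← zpow_mul, mul_comm, zpow_mul, zpow_natCast, pow_two, hx, one_zpow]
  refine IsPGroup.to_sup_of_normal_right' (key s hs2) (key t ht2) ?_
  rw [zpowers_le]
  rw [mem_normalizer_iff]
  have h1 : ∀ x ∈ zpowers t, s * x * s⁻¹ = x := by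
    rintro _ ⟨n, rfl⟩
    have h2 : s * t ^ n = t ^ n * s := ((show Commute s t from hst).zpow_right n).eq
    change s * t ^ n * s⁻¹ = t ^ n
    rw [h2, mul_inv_cancel_right]
  intro x
  constructor
  · intro hx
    rw [h1 x hx]
    exact hx
  · intro hx
    have h2 := h1 _ hx
    have h3 : s * x * s⁻¹ = x := by
      have h4 : s * (s * x * s⁻¹) * s⁻¹ = x := by
        calc s * (s * x * s⁻¹) * s⁻¹ = (s * s) * x * (s * s)⁻¹ := by group
          _ = x := by rw [hs2]; group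
      rw [h4] at h2
      exact h2.symm
    rw [h3] at hx
    exact hx

/-- A central involution `z` of a Sylow `2`-subgroup of `W`, lying in the subgroup `D` of index `2`,
and an involution `e ≠ z` of `D` commuting with `z`. -/
theorem exists_central_inv {W : Type*} [Group W] [Finite W] {D : Subgroup W} (hD : D.index = 2)
    {s t : W} (hs : s ∈ D) (ht : t ∈ D) (hs1 : s ≠ 1) (ht1 : t ≠ 1) (hst : s ≠ t)
    (hs2 : s * s = 1) (ht2 : t * t = 1) (hc : s * t = t * s) :
    ∃ z e : W, z ∈ D ∧ e ∈ D ∧ z ≠ 1 ∧ e ≠ 1 ∧ z ≠ e ∧ z * z = 1 ∧ e * e = 1 ∧ z * e = e * z ∧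
      Odd (centralizer {z}).index ∧ ∃ c ∈ centralizer {z}, c ∉ D := by
  have : Fact (Nat.Prime 2) := ⟨Nat.prime_two⟩
  obtain ⟨S, hVS⟩ := (isPGroup_sup hs2 ht2 hc).exists_le_sylow
  have hsS : s ∈ (S : Subgroup W) := hVS (mem_sup_left (mem_zpowers s))
  have htS : t ∈ (S : Subgroup W) := hVS (mem_sup_right (mem_zpowers t))
  have hSn : Group.IsNilpotent (S : Subgroup W) := S.isPGroup'.isNilpotent
  have hDn := normal_of_index_eq_two hD
  have hN : (D.subgroupOf (S : Subgroup W)) ≠ ⊥ := by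
    intro hb
    have h1 : (⟨s, hsS⟩ : (S : Subgroup W)) ∈ D.subgroupOf (S : Subgroup W) := hs
    rw [hb, mem_bot] at h1
    exact hs1 (congrArg Subtype.val h1)
  have hne := Lib.NormalAbelian.normal_inf_center_ne_bot (D.subgroupOf (S : Subgroup W)) hN
  have h2 : 2 ∣ Nat.card (D.subgroupOf (S : Subgroup W) ⊓ Subgroup.center (S : Subgroup W) :
      Subgroup (S : Subgroup W)) := by
    rcases (S.isPGroup'.to_subgroup (D.subgroupOf (S : Subgroup W) ⊓
      Subgroup.center (S : Subgroup W))).card_eq_or_dvd with h | h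
    · exact absurd (card_eq_one.1 h) hne
    · exact h
  obtain ⟨z, hz⟩ := exists_prime_orderOf_dvd_card' 2 h2
  have hz1 : z ≠ 1 := by
    rintro rfl
    rw [orderOf_one] at hz
    omega
  have hz2 : z * z = 1 := by
    have := pow_orderOf_eq_one z
    rwa [hz, pow_two] at this
  set z' : W := ((z : (S : Subgroup W)) : W) with hz'
  have hz'1 : z' ≠ 1 := fun hc' => hz1 (Subtype.ext (Subtype.ext hc'))
  have hz'2 : z' * z' = 1 := congrArg (fun x => ((x : (S : Subgroup W)) : W)) (congrArg Subtype.val hz2)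
  have hcen : ∀ x ∈ (S : Subgroup W), z' * x = x * z' := by
    intro x hx
    have h3 := mem_center_iff.1 z.2.2 ⟨x, hx⟩
    exact (congrArg Subtype.val h3).symm
  have hle : (S : Subgroup W) ≤ centralizer {z'} := by
    intro x hx
    rw [mem_centralizer_singleton_iff]
    exact (hcen x hx).symm
  have hodd : Odd (S : Subgroup W).index := Nat.not_even_iff_odd.1 fun hc' => S.not_dvd_index hc'.two_dvd
  have hout : ∃ c ∈ (S : Subgroup W), c ∉ D := by
    by_contra hc'
    push Not at hc'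
    have h3 : D.index ∣ (S : Subgroup W).index := index_dvd_of_le hc'
    rw [hD] at h3
    exact Nat.not_even_iff_odd.2 hodd (even_iff_two_dvd.2 h3)
  obtain ⟨c, hcS, hcD⟩ := hout
  have hindex : Odd (centralizer {z'}).index := hodd.of_dvd_nat (index_dvd_of_le hle)
  by_cases hzs : z' = s
  · exact ⟨z', t, z.2.1, ht, hz'1, ht1, by rw [hzs]; exact hst, hz'2, ht2, hcen t htS, hindex,
      c, hle hcS, hcD⟩
  · exact ⟨z', s, z.2.1, hs, hz'1, hs1, hzs, hz'2, hs2, hcen s hsS, hindex, c, hle hcS, hcD⟩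

/-! ### A homomorphism onto `{±1}` -/

open scoped Classical in
/-- The homomorphism to `{±1}` with kernel a subgroup of index two. -/
noncomputable def sgnZ {P : Type*} [Group P] {K : Subgroup P} (hK : K.index = 2) : P →* ℤˣ where
  toFun g := if g ∈ K then 1 else -1
  map_one' := if_pos K.one_mem
  map_mul' a b := by
    have := mul_mem_iff_of_index_two hK (a := a) (b := b)
    by_cases ha : a ∈ K <;> by_cases hb : b ∈ K <;> simp only [this, ha, hb, ↓reduceIte, mul_one, iff_false,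
        not_true_eq_false, mul_neg, iff_true, neg_neg]

/-- A nontrivial finite `2`-group has a homomorphism onto `{±1}`. -/
theorem exists_hom {P : Type*} [Group P] [Finite P] (hP : IsPGroup 2 P) (hne : Nontrivial P) :
    ∃ θ : P →* ℤˣ, ∃ x, θ x = -1 := by
  have : Fact (Nat.Prime 2) := ⟨Nat.prime_two⟩
  obtain ⟨n, hn⟩ := IsPGroup.iff_card.1 hP
  have hn0 : n ≠ 0 := by
    rintro rfl
    rw [pow_zero] at hn
    exact (Finite.one_lt_card_iff_nontrivial.2 hne).ne' hn
  obtain ⟨m, rfl⟩ := Nat.exists_eq_succ_of_ne_zero hn0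
  obtain ⟨K, hK⟩ := Sylow.exists_subgroup_card_pow_prime (G := P) 2 (n := m)
    (by rw [hn]; exact pow_dvd_pow 2 (Nat.le_succ m))
  have hi : K.index = 2 := by
    have h1 := K.card_mul_index
    rw [hK, hn, pow_succ] at h1
    exact Nat.eq_of_mul_eq_mul_left (by positivity) h1
  obtain ⟨x, hx⟩ : ∃ x, x ∉ K := by
    by_contra hc
    push Not at hc
    have : K = ⊤ := by rw [eq_top_iff]; exact fun x _ => hc x
    rw [this, index_top] at hi
    omega
  exact ⟨sgnZ hi, x, if_neg hx⟩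

/-! ### The setting -/

variable {G Ω : Type*} [Group G] [MulAction G Ω] {U : Ω → Subgroup G} {a b : Ω} {p k : ℕ}

/-- `z` is an involution of `D`, centralised by an element interchanging `a` and `b`, with an odd number
of conjugates in `W`; `U a` is abelian. -/
structure Abl (U : Ω → Subgroup G) (a b : Ω) (p k : ℕ) (z : G) : Prop where
  C : CtxE U a b p k
  F : NoFourFix U a b
  comm : ∀ x ∈ U a, ∀ y ∈ U a, x * y = y * x
  zD : z ∈ Dab G a b
  z1 : z ≠ 1
  z2 : z * z = 1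
  odd : Odd (centralizer {(⟨z, Dab_le_Wab a b zD⟩ : Wab G a b)}).index
  out : ∃ c : G, Swaps c a b ∧ c * z = z * c

namespace Abl

variable {z : G}

/-- `z` as an element of `W`. -/
def zW (A : Abl U a b p k z) : Wab G a b := ⟨z, Dab_le_Wab a b A.zD⟩

theorem mem_CW (A : Abl U a b p k z) {g : Wab G a b} :
    g ∈ centralizer {A.zW} ↔ (g : G) * z = z * g := by
  rw [mem_centralizer_singleton_iff]
  exact Subtype.ext_iff

theorem oddU (A : Abl U a b p k z) : Odd (Nat.card (U a)) := by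
  rw [A.C.cardU]
  exact (A.C.prime.odd_of_ne_two A.C.p_ne_two).pow

theorem oddU' (A : Abl U a b p k z) [Finite Ω] (c : Ω) : Odd (Nat.card (U c)) := by
  have h1 := A.C.split.card a
  have h2 := A.C.split.card c
  have h3 : Nat.card (U c) = Nat.card (U a) := by omega
  rw [h3]
  exact A.oddU

variable [Finite G] [Finite Ω]

theorem two_element (A : Abl U a b p k z) {y : Wab G a b} (hy : y ∉ DW G a b) :
    ∃ n, y ^ 2 ^ n = 1 :=
  two_element' A.C.split A.C.gen A.C.ne A.C.prime A.C.p_ne_two A.C.cardU A.comm hy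

/-- `C_G(z)` is 2-transitive on `Fix z`. -/
theorem two (A : Abl U a b p k z) {c d : Ω} (hcd : d ≠ c) (hc : z • c = c) (hd : z • d = d) :
    ∃ g : G, z * g = g * z ∧ g • c = a ∧ g • d = b := by
  have h1 := A.C.split.fixed (zpowers z) (SSplit.three_of_card (by
    rw [TwoOne.card_fixSub_zpowers]
    exact A.C.fix z A.z1 A.z2))
  obtain ⟨g, hg1, hg2⟩ := h1.two (a := ⟨c, TwoOne.zpowers_fix hc⟩)
    (b := ⟨d, TwoOne.zpowers_fix hd⟩) (c := ⟨a, TwoOne.zpowers_fix A.zD.1⟩)
    (d := ⟨b, TwoOne.zpowers_fix A.zD.2⟩)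
    (fun e => hcd (congrArg Subtype.val e).symm) (fun e => A.C.ne (congrArg Subtype.val e).symm)
  exact ⟨g, TwoOne.mem_cent_zpowers.1 g.2, congrArg Subtype.val hg1, congrArg Subtype.val hg2⟩

/-- A conjugate of `z` in `D` is a conjugate in `D`. -/
theorem conj_D (A : Abl U a b p k z) {m : G} (hm : IsConj z m) (hmD : m ∈ Dab G a b) :
    ∃ d ∈ Dab G a b, d * z * d⁻¹ = m := by
  obtain ⟨g, rfl⟩ := isConj_iff.1 hm
  have h1 : ∀ c : Ω, (g * z * g⁻¹) • c = c → z • g⁻¹ • c = g⁻¹ • c := by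
    intro c hc
    rwa [eq_inv_smul_iff, ← mul_smul, ← mul_smul]
  obtain ⟨x, hx, hxa, hxb⟩ := A.two (c := g⁻¹ • a) (d := g⁻¹ • b)
    (fun e => A.C.ne (MulAction.injective g⁻¹ e)) (h1 a hmD.1) (h1 b hmD.2)
  have h2 : x * g⁻¹ ∈ Dab G a b := ⟨by
    change (x * g⁻¹) • a = a
    rw [mul_smul, hxa], by
    change (x * g⁻¹) • b = b
    rw [mul_smul, hxb]⟩
  refine ⟨(x * g⁻¹)⁻¹, inv_mem h2, ?_⟩
  calc (x * g⁻¹)⁻¹ * z * (x * g⁻¹)⁻¹⁻¹ = g * (x⁻¹ * (z * x)) * g⁻¹ := by group
    _ = g * (x⁻¹ * (x * z)) * g⁻¹ := by rw [hx]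
    _ = _ := by group

/-- **Every element interchanging `a` and `b` commutes with exactly one conjugate of `z` in `D`.** -/
theorem existsUnique (A : Abl U a b p k z) (y : G) (hy : Swaps y a b) :
    ∃! z', z' ∈ Dab G a b ∧ IsConj z z' ∧ y * z' = z' * y := by
  obtain ⟨c, hc, hcz⟩ := A.out
  obtain ⟨z', ⟨h1, h2⟩, h3⟩ := CosetTwo.existsUnique_comm (index_DW A.C.split A.C.ne)
    (fun y hy => A.two_element hy) (z := A.zW) A.odd (c := ⟨c, hc.mem_W⟩)
    (A.mem_CW.2 hcz) ((notMem_DW A.C.ne).2 hc) (y := ⟨y, hy.mem_W⟩) ((notMem_DW A.C.ne).2 hy)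
  have hn := normal_of_index_eq_two (index_DW A.C.split A.C.ne)
  refine ⟨z', ⟨?_, ?_, congrArg Subtype.val h2⟩, ?_⟩
  · obtain ⟨g, hg⟩ := isConj_iff.1 h1
    rw [← hg]
    exact hn.conj_mem A.zW A.zD g
  · obtain ⟨g, hg⟩ := isConj_iff.1 h1
    exact isConj_iff.2 ⟨g, congrArg Subtype.val hg⟩
  · rintro m ⟨hmD, hm, hmy⟩
    obtain ⟨d, hd, hdm⟩ := A.conj_D hm hmD
    have h4 := h3 ⟨m, Dab_le_Wab a b hmD⟩ ⟨isConj_iff.2 ⟨⟨d, Dab_le_Wab a b hd⟩, Subtype.ext hdm⟩,
      Subtype.ext hmy⟩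
    exact congrArg Subtype.val h4

/-- The number of points fixed by `z`. -/
theorem card_fix (A : Abl U a b p k z) :
    Nat.card (fixedBy Ω z) = Nat.card (TwoOne.CU U a z) + 1 :=
  TwoOne.card_fixedBy_eq A.C.split A.C.ne A.zD

theorem three_le (A : Abl U a b p k z) : 3 ≤ Nat.card (TwoOne.CU U a z) := by
  have h1 := A.C.fix z A.z1 A.z2
  rw [A.card_fix] at h1
  have h2 : Odd (Nat.card (TwoOne.CU U a z)) := A.oddU.of_dvd_nat (card_dvd_of_le inf_le_left)
  obtain ⟨m, hm⟩ := h2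
  omega

theorem exists_ne (A : Abl U a b p k z) : ∃ u ∈ U a, u ≠ 1 ∧ z * u = u * z := by
  have h1 := A.three_le
  by_contra hc
  push Not at hc
  have h2 : TwoOne.CU U a z = ⊥ := by
    rw [eq_bot_iff]
    intro x hx
    rw [TwoOne.mem_CU] at hx
    by_contra hx1
    exact hc x hx.1 (fun e => hx1 (mem_bot.2 e)) hx.2
  rw [h2, card_bot] at h1
  omega

/-- `|Fix z| - 1` and `|U a|` are congruent modulo `4`. -/
theorem mod_four (A : Abl U a b p k z) :
    p ^ k % 4 = Nat.card (TwoOne.CU U a z) % 4 := by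
  have h1 := A.C.split.four_dvd A.C.gen A.oddU' A.z2
  rw [A.card_fix, A.C.split.card a, A.C.cardU] at h1
  have h2 : Nat.card (TwoOne.CU U a z) ≤ p ^ k := by
    rw [← A.C.cardU]
    have : Finite (U a) := A.C.split.finite_U a
    exact card_le_of_le inf_le_left
  omega

/-- An involution `e ≠ z` of `D` commuting with `z` inverts `C_{U a}(z)`. -/
theorem inverts (A : Abl U a b p k z) {e : G} (he : e ∈ Dab G a b) (he1 : e ≠ 1) (he2 : e * e = 1)
    (hez : e ≠ z) (hc : e * z = z * e) {u : G} (hu : u ∈ U a) (huz : z * u = u * z) :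
    e * u * e⁻¹ = u⁻¹ := by
  have hei : e⁻¹ = e := inv_eq_of_mul_eq_one_left he2
  have h1 : e * u * e⁻¹ ∈ U a := A.C.split.conj_of_fix he.1 hu
  have h2 : z * (e * u * e⁻¹) = (e * u * e⁻¹) * z := by
    rw [hei]
    calc z * (e * u * e) = (z * e) * u * e := by group
      _ = e * (z * u) * e := by rw [← hc]; group
      _ = e * u * (z * e) := by rw [huz]; group
      _ = _ := by rw [← hc]; group
  have h3 : u * (e * u * e⁻¹) = 1 := by
    refine A.F z A.zD e he A.z1 he1 (Ne.symm hez) A.z2 he2 hc.symm _ ((U a).mul_mem hu h1) ?_ ?_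
    · calc z * (u * (e * u * e⁻¹)) = (z * u) * (e * u * e⁻¹) := by group
        _ = u * (z * (e * u * e⁻¹)) := by rw [huz]; group
        _ = _ := by rw [h2]; group
    · have h4 := A.comm u hu _ h1
      calc e * (u * (e * u * e⁻¹)) = (e * u * e⁻¹) * (e * e) * u * e⁻¹ := by group
        _ = (e * u * e⁻¹) * u * e⁻¹ := by rw [he2, mul_one]
        _ = u * (e * u * e⁻¹) * e⁻¹ := by rw [h4]
        _ = _ := by rw [hei]
  exact (inv_eq_of_mul_eq_one_right h3).symm

/-- `Fix z ∩ Fix e = {a, b}`. -/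
theorem fix_two (A : Abl U a b p k z) {e : G} (he : e ∈ Dab G a b) (he1 : e ≠ 1) (he2 : e * e = 1)
    (hez : e ≠ z) (hc : e * z = z * e) {c : Ω} (hzc : z • c = c) (hec : e • c = c) :
    c = a ∨ c = b := by
  by_contra hc'
  push Not at hc'
  obtain ⟨u, hu, hub⟩ := A.C.split.trans A.C.ne hc'.1
  have key : ∀ d ∈ Dab G a b, d • c = c → d * u = u * d := by
    intro d hd hdc
    have h1 : d * u * d⁻¹ = u := A.C.split.eq_of_smul_eq A.C.ne (A.C.split.conj_of_fix hd.1 hu) hu (by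
      rw [mul_smul, mul_smul, inv_smul_eq_iff.2 (show b = d • b from hd.2.symm), hub, hdc])
    calc d * u = d * u * d⁻¹ * d := by group
      _ = u * d := by rw [h1]
  have h1 := A.F z A.zD e he A.z1 he1 (Ne.symm hez) A.z2 he2 hc.symm u hu (key z A.zD hzc)
    (key e he hec)
  rw [h1, one_smul] at hub
  exact hc'.2 hub.symm

/-! ### The sign character -/

/-- `C_W(z) → C_G(z)` -/
def toCen (A : Abl U a b p k z) : centralizer {A.zW} →* centralizer (zpowers z : Set G) where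
  toFun g := ⟨((g : Wab G a b) : G), TwoOne.mem_cent_zpowers.2 (A.mem_CW.1 g.2).symm⟩
  map_one' := rfl
  map_mul' _ _ := rfl

/-- the sign of the permutation induced on `Fix z` -/
noncomputable def sg (A : Abl U a b p k z) : centralizer {A.zW} →* ℤˣ :=
  (SignFix.sgn (Ω := Ω) (zpowers z)).comp A.toCen

theorem card_fixSub (A : Abl U a b p k z) :
    Nat.card (fixSub Ω (zpowers z)) = Nat.card (TwoOne.CU U a z) + 1 := by
  rw [TwoOne.card_fixSub_zpowers, A.card_fix]

theorem sg_sq (A : Abl U a b p k z) {g : centralizer {A.zW}}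
    (hg : ((g : Wab G a b) : G) * ((g : Wab G a b) : G) = 1) {m : ℕ}
    (hm : Nat.card {c : Ω // z • c = c ∧ ((g : Wab G a b) : G) • c = c} + 2 * m =
      Nat.card (TwoOne.CU U a z) + 1) : A.sg g = (-1) ^ m := by
  refine SignFix.sgn_sq (X := zpowers z) (g := A.toCen g) ?_ ?_
  · intro c _
    change ((g : Wab G a b) : G) • ((g : Wab G a b) : G) • c = c
    rw [← mul_smul, hg, one_smul]
  · rw [A.card_fixSub, ← hm]
    congr 1
    refine Nat.card_congr (Equiv.subtypeEquivRight fun c => ?_)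
    change (∀ x ∈ zpowers z, x • c = c) ∧ ((g : Wab G a b) : G) • c = c ↔ _
    rw [← mem_fixSub, TwoOne.mem_fixSub_zpowers]

theorem card_fix_two (A : Abl U a b p k z) {e : G} (he : e ∈ Dab G a b) (he1 : e ≠ 1)
    (he2 : e * e = 1) (hez : e ≠ z) (hc : e * z = z * e) :
    Nat.card {c : Ω // z • c = c ∧ e • c = c} = 2 := by
  have h1 : {c : Ω | z • c = c ∧ e • c = c} = {a, b} := by
    ext c
    constructor
    · rintro ⟨h2, h3⟩
      exact A.fix_two he he1 he2 hez hc h2 h3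
    · rintro (rfl | rfl)
      · exact ⟨A.zD.1, he.1⟩
      · exact ⟨A.zD.2, he.2⟩
  have h2 : Nat.card {c : Ω // z • c = c ∧ e • c = c} = Set.ncard {c : Ω | z • c = c ∧ e • c = c} :=
    Nat.card_coe_set_eq _
  rw [h2, h1, Set.ncard_pair A.C.ne.symm]

/-- **`|U a| = 1 mod 4`.** -/
theorem mod_four_one (A : Abl U a b p k z) {e : G} (he : e ∈ Dab G a b) (he1 : e ≠ 1)
    (he2 : e * e = 1) (hez : e ≠ z) (hc : e * z = z * e) : p ^ k % 4 = 1 := by
  by_contra hne
  have hodd : Odd (p ^ k) := (A.C.prime.odd_of_ne_two A.C.p_ne_two).pow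
  have h3 : Nat.card (TwoOne.CU U a z) % 4 = 3 := by
    rw [← A.mod_four]
    obtain ⟨m, hm⟩ := hodd
    omega
  obtain ⟨c, hcs, hcz⟩ := A.out
  set q := Nat.card (TwoOne.CU U a z) with hq
  let eW : centralizer {A.zW} := ⟨⟨e, Dab_le_Wab a b he⟩, A.mem_CW.2 hc⟩
  have h4 : A.sg eW = -1 := by
    rw [A.sg_sq (g := eW) he2 (m := (q - 1) / 2)]
    · have : Odd ((q - 1) / 2) := by rw [Nat.odd_iff]; omega
      exact this.neg_one_pow
    · change Nat.card {c : Ω // z • c = c ∧ e • c = c} + _ = _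
      rw [A.card_fix_two he he1 he2 hez hc]
      omega
  have h5 := data_hom A.C.split A.C.gen A.C.ne A.C.prime A.C.p_ne_two A.C.cardU A.comm A.odd
    (c := ⟨c, hcs.mem_W⟩) (A.mem_CW.2 hcz) hcs A.sg (d := ⟨e, Dab_le_Wab a b he⟩) eW.2 he h4
  exact hne h5.1

/-- Every element interchanging `a` and `b` is conjugate into `C_W(z)`. -/
theorem exists_conj_mem (A : Abl U a b p k z) {y : G} (hy : Swaps y a b) :
    ∃ g ∈ Wab G a b, Swaps (g * y * g⁻¹) a b ∧ (g * y * g⁻¹) * z = z * (g * y * g⁻¹) := by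
  obtain ⟨z', ⟨h1, h2, h3⟩, -⟩ := A.existsUnique y hy
  obtain ⟨d, hd, rfl⟩ := A.conj_D h2 h1
  refine ⟨d⁻¹, Dab_le_Wab a b (inv_mem hd), ?_, ?_⟩
  · have h4 := hy.conj d⁻¹
    rwa [show d⁻¹ • a = a from (inv_mem hd).1, show d⁻¹ • b = b from (inv_mem hd).2] at h4
  · calc d⁻¹ * y * d⁻¹⁻¹ * z = d⁻¹ * (y * (d * z * d⁻¹)) * d := by group
      _ = d⁻¹ * ((d * z * d⁻¹) * y) * d := by rw [h3]
      _ = _ := by group

variable [FaithfulSMul G Ω]

/-- `z` has a conjugate interchanging `a` and `b` and commuting with `z`. -/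
theorem exists_swap (A : Abl U a b p k z) :
    ∃ y : G, IsConj z y ∧ Swaps y a b ∧ y * z = z * y := by
  obtain ⟨c₀, hc₀⟩ : ∃ c₀ : Ω, z • c₀ ≠ c₀ := by
    by_contra hc
    push Not at hc
    exact A.z1 (FaithfulSMul.eq_of_smul_eq_smul (α := Ω) fun c => by rw [hc c, one_smul])
  obtain ⟨y, hy, hys⟩ := A.C.split.exists_conj_swaps A.C.ne A.z2 hc₀
  obtain ⟨g, -, h1, h2⟩ := A.exists_conj_mem hys
  exact ⟨_, hy.trans (isConj_iff.2 ⟨g, rfl⟩), h1, h2⟩

/-- **Isolated case**: some conjugate of `z` in `D` commutes with `z`. -/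
theorem exists_comm (A : Abl U a b p k z) (h1 : p ^ k % 4 = 1) :
    ∃ e ∈ Dab G a b, IsConj z e ∧ e * z = z * e ∧ e ≠ z := by
  by_contra hiso
  push Not at hiso
  set q := Nat.card (TwoOne.CU U a z) with hq
  have hq4 : q % 4 = 1 := by rw [hq, ← A.mod_four, h1]
  have hfpf := AbelianCount.fpf_of_isolated A.C.split A.C.ne A.zD A.z2 A.oddU hiso
  have hnd := AbelianCount.not_dvd A.C.split A.C.ne A.zD A.z2 A.z1 A.oddU A.existsUnique hiso
    (q := q) A.card_fix
  rw [A.C.cardU] at hnd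
  -- the sign of the conjugates of `z` in `C_W(z) ∖ D`
  have hsg : ∀ y (hy : y ∈ centralizer {A.zW}), Swaps (y : G) a b → IsConj z (y : G) →
      A.sg ⟨y, hy⟩ = -1 := by
    intro y hy hys hyz
    have hy2 : (y : G) * y = 1 := by
      obtain ⟨g, hg⟩ := isConj_iff.1 hyz
      exact TwoOne.mul_self_conj hg.symm A.z2
    rw [A.sg_sq (g := ⟨y, hy⟩) hy2 (m := (q + 1) / 2)]
    · have : Odd ((q + 1) / 2) := by rw [Nat.odd_iff]; omega
      exact this.neg_one_pow
    · have h2 : IsEmpty {c : Ω // z • c = c ∧ (y : G) • c = c} := by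
        refine ⟨fun c => hfpf y hyz (A.mem_CW.1 hy) ?_ c.1 c.2.1 c.2.2⟩
        intro hc
        rw [hc] at hys
        exact A.C.ne (hys.1.symm.trans A.zD.1)
      change Nat.card {c : Ω // z • c = c ∧ (y : G) • c = c} + _ = _
      rw [Nat.card_of_isEmpty]
      (clear * - hq4; omega)
  -- an element of `genFix` interchanging `a` and `b`
  obtain ⟨u, hu, hu1, huz⟩ := A.exists_ne
  have hX : zpowers z ≤ Dab G b a := by
    rw [zpowers_le, Dab_symm]
    exact A.zD
  have hm := PP1.mu_mem_genFix A.C.split A.C.ne.symm hX hu hu1 (TwoOne.mem_cent_zpowers.2 huz)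
  have hms := (A.C.split.mu_swaps A.C.ne.symm hu hu1).symm
  set m := SSplit.mu U b a u with hmdef
  have hmz : m * z = z * m := (TwoOne.mem_cent_zpowers.1 (PP1.genFix_le_centralizer _ hm)).symm
  let mW : centralizer {A.zW} := ⟨⟨m, hms.mem_W⟩, A.mem_CW.2 hmz⟩
  have hsm : A.sg mW = 1 := SignFix.sgn_genFix A.oddU' hm
  obtain ⟨y, hyz, hys, hyc⟩ := A.exists_swap
  let yW : centralizer {A.zW} := ⟨⟨y, hys.mem_W⟩, A.mem_CW.2 hyc⟩
  have hd : A.sg (yW * mW⁻¹) = -1 := by
    rw [map_mul, map_inv, hsm, inv_one, mul_one]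
    exact hsg ⟨y, hys.mem_W⟩ yW.2 hys hyz
  have h5 := data_hom A.C.split A.C.gen A.C.ne A.C.prime A.C.p_ne_two A.C.cardU A.comm A.odd
    (c := ⟨m, hms.mem_W⟩) mW.2 hms A.sg (d := ((yW * mW⁻¹ : centralizer {A.zW}) : Wab G a b))
    (yW * mW⁻¹).2 (hys.mul hms.inv) hd
  exact hnd (h5.2 z A.z2 q A.card_fix ⟨-1, hsg⟩)

/-! ### The second case -/

theorem mul_self_mul {x y : G} (hx : x * x = 1) (hy : y * y = 1) (hc : x * y = y * x) :
    (x * y) * (x * y) = 1 := by
  calc (x * y) * (x * y) = x * (y * x) * y := by group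
    _ = (x * x) * (y * y) := by rw [← hc]; group
    _ = 1 := by rw [hx, hy, mul_one]

/-- `|U a| = |C(z)| |C(e)| |C(ez)|`, if these have the same order `q`. -/
theorem card_cube (A : Abl U a b p k z) {e : G} (he : e ∈ Dab G a b) (he1 : e ≠ 1)
    (he2 : e * e = 1) (hez : e ≠ z) (hc : e * z = z * e) (hze : IsConj z e)
    (hzez : IsConj z (e * z)) : Nat.card (U a) = Nat.card (TwoOne.CU U a z) ^ 3 := by
  have : Finite (U a) := A.C.split.finite_U a
  have hezD : e * z ∈ Dab G a b := mul_mem he A.zD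
  have hez2 : (e * z) * (e * z) = 1 := mul_self_mul he2 A.z2 hc
  have hez1 : e * z ≠ 1 := fun h => hez (by
    have h1 : z⁻¹ = z := inv_eq_of_mul_eq_one_left A.z2
    rw [← h1]; exact eq_inv_of_mul_eq_one_left h)
  have hq : ∀ f ∈ Dab G a b, IsConj z f → Nat.card (TwoOne.CU U a f) =
      Nat.card (TwoOne.CU U a z) := by
    intro f hf hzf
    have h1 := TwoOne.card_fixedBy_eq A.C.split A.C.ne hf
    have h2 := A.card_fix
    have h3 := SSplit.card_fixedBy_isConj (Ω := Ω) hzf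
    omega
  have h1 := hq e he hze
  have h2 := hq (e * z) hezD hzez
  -- every element fixed by two of the three is trivial
  have hF : ∀ u ∈ U a, z * u = u * z → e * u = u * e → u = 1 := fun u hu h3 h4 =>
    A.F z A.zD e he A.z1 he1 (Ne.symm hez) A.z2 he2 hc.symm u hu h3 h4
  -- the action
  have hconj : ∀ d ∈ Dab G a b, ∀ u ∈ U a, d * u * d⁻¹ ∈ U a := fun d hd u hu =>
    A.C.split.conj_of_fix hd.1 hu
  have hcomm' : ∀ {x y : G}, x * y = y * x → x * y * x⁻¹ = y := fun h => by rw [h]; group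
  have hinv : ∀ f ∈ Dab G a b, f * f = 1 → f⁻¹ = f := fun f _ h => inv_eq_of_mul_eq_one_left h
  -- `u * (f u f⁻¹)` is centralised by `f`
  have hcen : ∀ f ∈ Dab G a b, f * f = 1 → ∀ u ∈ U a, u * (f * u * f⁻¹) ∈ TwoOne.CU U a f := by
    intro f hf hf2 u hu
    rw [TwoOne.mem_CU]
    refine ⟨(U a).mul_mem hu (hconj f hf u hu), ?_⟩
    have h5 := A.comm u hu _ (hconj f hf u hu)
    calc f * (u * (f * u * f⁻¹)) = (f * u * f⁻¹) * (f * f) * u * f⁻¹ := by group
      _ = (f * u * f⁻¹) * u * f⁻¹ := by rw [hf2, mul_one]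
      _ = u * (f * u * f⁻¹) * f⁻¹ := by rw [h5]
      _ = u * (f * u * f⁻¹) * f := by rw [hinv f hf hf2]
  apply le_antisymm
  · -- `u ↦ (u u^z, u u^e, u u^(ez))`
    let φ : U a → (TwoOne.CU U a z) × (TwoOne.CU U a e) × (TwoOne.CU U a (e * z)) := fun u =>
      (⟨_, hcen z A.zD A.z2 u u.2⟩, ⟨_, hcen e he he2 u u.2⟩, ⟨_, hcen (e * z) hezD hez2 u u.2⟩)
    have hφ : Function.Injective φ := by
      intro u v huv
      have e1 : (u : G) * (z * u * z⁻¹) = v * (z * v * z⁻¹) :=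
        congrArg (fun x => ((x.1 : TwoOne.CU U a z) : G)) huv
      have e2 : (u : G) * (e * u * e⁻¹) = v * (e * v * e⁻¹) :=
        congrArg (fun x => ((x.2.1 : TwoOne.CU U a e) : G)) huv
      have e3 : (u : G) * ((e * z) * u * (e * z)⁻¹) = v * ((e * z) * v * (e * z)⁻¹) :=
        congrArg (fun x => ((x.2.2 : TwoOne.CU U a (e * z)) : G)) huv
      -- work with `t = u v⁻¹`
      set t : G := u * (v : G)⁻¹ with ht
      have htU : t ∈ U a := (U a).mul_mem u.2 ((U a).inv_mem v.2)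
      have key : ∀ f ∈ Dab G a b, (u : G) * (f * u * f⁻¹) = v * (f * v * f⁻¹) →
          f * t * f⁻¹ = t⁻¹ := by
        intro f hf h5
        have h6 := A.comm _ (hconj f hf v v.2) _ u.2
        have h7 : t * (f * t * f⁻¹) = 1 := by
          have h8 : f * t * f⁻¹ = (f * u * f⁻¹) * (f * v * f⁻¹)⁻¹ := by rw [ht]; group
          have h9 : (u : G) * (f * u * f⁻¹) * (f * v * f⁻¹)⁻¹ = v := by rw [h5]; group
          have h10 := A.comm (v : G)⁻¹ ((U a).inv_mem v.2) _
            ((U a).mul_mem (hconj f hf u u.2) ((U a).inv_mem (hconj f hf v v.2)))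
          calc t * (f * t * f⁻¹) = u * ((v : G)⁻¹ * ((f * u * f⁻¹) * (f * v * f⁻¹)⁻¹)) := by
                rw [h8, ht]; group
            _ = u * (f * u * f⁻¹) * (f * v * f⁻¹)⁻¹ * (v : G)⁻¹ := by rw [h10]; group
            _ = 1 := by rw [h9, mul_inv_cancel]
        exact (inv_eq_of_mul_eq_one_right h7).symm
      have k1 := key z A.zD e1
      have k2 := key e he e2
      have k3 := key (e * z) hezD e3
      -- `ez` inverts and centralises `t`
      have k4 : (e * z) * t * (e * z)⁻¹ = t := by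
        calc (e * z) * t * (e * z)⁻¹ = e * (z * t * z⁻¹) * e⁻¹ := by group
          _ = (e * t * e⁻¹)⁻¹ := by rw [k1]; group
          _ = t := by rw [k2, inv_inv]
      have k5 : t⁻¹ = t := by rw [← k3, k4]
      have k6 : t = 1 := by
        have k7 : z * t = t * z := by
          rw [k5] at k1
          calc z * t = z * t * z⁻¹ * z := by group
            _ = t * z := by rw [k1]
        have k8 : e * t = t * e := by
          rw [k5] at k2
          calc e * t = e * t * e⁻¹ * e := by group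
            _ = t * e := by rw [k2]
        exact hF t htU k7 k8
      exact Subtype.ext (mul_inv_eq_one.1 k6)
    have h5 := Nat.card_le_card_of_injective φ hφ
    rw [Nat.card_prod, Nat.card_prod, h1, h2] at h5
    calc Nat.card (U a) ≤ _ := h5
      _ = _ := by ring
  · let ψ : (TwoOne.CU U a z) × (TwoOne.CU U a e) × (TwoOne.CU U a (e * z)) → U a := fun x =>
      ⟨(x.1 : G) * x.2.1 * x.2.2, (U a).mul_mem ((U a).mul_mem (TwoOne.mem_CU.1 x.1.2).1
        (TwoOne.mem_CU.1 x.2.1.2).1) (TwoOne.mem_CU.1 x.2.2.2).1⟩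
    have hψ : Function.Injective ψ := by
      -- a relation `x y w = 1`
      have key : ∀ x ∈ U a, ∀ y ∈ U a, ∀ w ∈ U a, z * x = x * z → e * y = y * e →
          (e * z) * w = w * (e * z) → x * y * w = 1 → x = 1 ∧ y = 1 ∧ w = 1 := by
        intro x hx y hy w hw hxz hye hwez hxyw
        -- `z` inverts `y` and `w`
        have hzy : z * y * z⁻¹ = y⁻¹ := by
          have h5 : y * (z * y * z⁻¹) = 1 := by
            have h6 := hcen z A.zD A.z2 y hy
            rw [TwoOne.mem_CU] at h6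
            refine hF _ h6.1 h6.2 ?_
            calc e * (y * (z * y * z⁻¹)) = (e * y) * z * y * z⁻¹ := by group
              _ = y * (e * z) * y * z⁻¹ := by rw [hye]; group
              _ = y * z * (e * y) * z⁻¹ := by rw [hc]; group
              _ = y * z * y * (e * z⁻¹) := by rw [hye]; group
              _ = y * z * y * (z⁻¹ * e) := by
                rw [hinv z A.zD A.z2, hc]
              _ = _ := by group
          exact (inv_eq_of_mul_eq_one_right h5).symm
        have hez' : ∀ t : G, (e * z) * t = t * (e * z) → e * t * e⁻¹ = z * t * z⁻¹ := by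
          intro t ht
          have h5 : e * (z * t * z⁻¹) * e⁻¹ = t := by
            calc e * (z * t * z⁻¹) * e⁻¹ = (e * z) * t * (e * z)⁻¹ := by group
              _ = t := hcomm' ht
          have h6 : z * t * z⁻¹ = e⁻¹ * t * e := by
            calc z * t * z⁻¹ = e⁻¹ * (e * (z * t * z⁻¹) * e⁻¹) * e := by group
              _ = _ := by rw [h5]
          rw [h6, hinv e he he2]
        have hzw : z * w * z⁻¹ = w⁻¹ := by
          have h5 : w * (z * w * z⁻¹) = 1 := by
            have h6 := hcen z A.zD A.z2 w hw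
            rw [TwoOne.mem_CU] at h6
            refine hF _ h6.1 h6.2 ?_
            have h7 := hcen e he he2 w hw
            rw [TwoOne.mem_CU, hez' w hwez] at h7
            exact h7.2
          exact (inv_eq_of_mul_eq_one_right h5).symm
        have h5 : x * y⁻¹ * w⁻¹ = 1 := by
          calc x * y⁻¹ * w⁻¹ = (z * x * z⁻¹) * (z * y * z⁻¹) * (z * w * z⁻¹) := by
                rw [hcomm' hxz, hzy, hzw]
            _ = z * (x * y * w) * z⁻¹ := by group
            _ = 1 := by rw [hxyw]; group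
        -- `x = w y` and `x = (y w)⁻¹`
        have h6 : x = w * y := by
          calc x = x * y⁻¹ * w⁻¹ * (w * y) := by group
            _ = w * y := by rw [h5, one_mul]
        have h7 : x⁻¹ = y * w := by
          calc x⁻¹ = x⁻¹ * (x * y * w) := by rw [hxyw, mul_one]
            _ = y * w := by group
        have h8 : x⁻¹ = x := by rw [h7, A.comm y hy w hw, ← h6]
        have hsq : ∀ t ∈ U a, t⁻¹ = t → t = 1 := by
          intro t ht htt
          have h9 : t ^ 2 = 1 := by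
            rw [pow_two]
            nth_rewrite 1 [← htt]
            exact inv_mul_cancel t
          have h10 : (⟨t, ht⟩ : U a) ^ 2 = 1 := Subtype.ext h9
          have h11 := orderOf_dvd_of_pow_eq_one h10
          have h12 := A.oddU.of_dvd_nat (orderOf_dvd_natCard (⟨t, ht⟩ : U a))
          rcases (Nat.dvd_prime Nat.prime_two).1 h11 with h13 | h13
          · exact congrArg Subtype.val (orderOf_eq_one_iff.1 h13)
          · rw [h13] at h12
            exact absurd h12 (by decide)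
        have hx1 : x = 1 := hsq x hx h8
        rw [hx1, one_mul] at hxyw
        have hwy : w = y⁻¹ := (inv_eq_of_mul_eq_one_right hxyw).symm
        -- `e` centralises `y` and `ez` centralises `y`, so `z` does
        have hzy' : z * y = y * z := by
          have h9 : (e * z) * y = y * (e * z) := by
            have h10 : (e * z) * y⁻¹ = y⁻¹ * (e * z) := by rw [← hwy]; exact hwez
            calc (e * z) * y = y * (y⁻¹ * (e * z)) * y := by group
              _ = y * ((e * z) * y⁻¹) * y := by rw [h10]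
              _ = _ := by group
          have h11 : e * (z * y) = e * (y * z) := by
            calc e * (z * y) = (e * z) * y := by group
              _ = y * (e * z) := h9
              _ = (y * e) * z := by group
              _ = e * (y * z) := by rw [← hye]; group
          exact mul_left_cancel h11
        have hy1 : y = 1 := hF y hy hzy' hye
        exact ⟨hx1, hy1, by rw [hwy, hy1, inv_one]⟩
      intro x y hxy
      obtain ⟨x1, x2, x3⟩ := x
      obtain ⟨y1, y2, y3⟩ := y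
      have h5 : (x1 : G) * x2 * x3 = y1 * y2 * y3 := congrArg Subtype.val hxy
      have m1 := TwoOne.mem_CU.1 x1.2
      have m2 := TwoOne.mem_CU.1 x2.2
      have m3 := TwoOne.mem_CU.1 x3.2
      have n1 := TwoOne.mem_CU.1 y1.2
      have n2 := TwoOne.mem_CU.1 y2.2
      have n3 := TwoOne.mem_CU.1 y3.2
      have hdiv : ∀ {f s t : G}, f * s = s * f → f * t = t * f →
          f * (s * t⁻¹) = s * t⁻¹ * f := by
        intro f s t hs ht
        exact ((show Commute f s from hs).mul_right (show Commute f t from ht).inv_right).eq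
      have c1 := A.comm (x2 : G) m2.1 (y1 : G)⁻¹ ((U a).inv_mem n1.1)
      have h6 : ((x1 : G) * (y1 : G)⁻¹) * (x2 * (y2 : G)⁻¹) * (x3 * (y3 : G)⁻¹) = 1 := by
        let _ : CommGroup (U a) :=
          { (inferInstance : Group (U a)) with
            mul_comm := fun x y => Subtype.ext (A.comm x x.2 y y.2) }
        have h7 : (⟨x1, m1.1⟩ * ⟨x2, m2.1⟩ * ⟨x3, m3.1⟩ : U a) =
            ⟨y1, n1.1⟩ * ⟨y2, n2.1⟩ * ⟨y3, n3.1⟩ := Subtype.ext h5
        have h8 : ((⟨x1, m1.1⟩ * ⟨y1, n1.1⟩⁻¹) * (⟨x2, m2.1⟩ * ⟨y2, n2.1⟩⁻¹) *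
            (⟨x3, m3.1⟩ * ⟨y3, n3.1⟩⁻¹) : U a) = 1 := by
          calc _ = (⟨x1, m1.1⟩ * ⟨x2, m2.1⟩ * ⟨x3, m3.1⟩ : U a) *
                (⟨y1, n1.1⟩ * ⟨y2, n2.1⟩ * ⟨y3, n3.1⟩)⁻¹ := by
                rw [mul_inv, mul_inv]
                simp only [mul_left_comm, mul_assoc]
            _ = 1 := by rw [h7, mul_inv_cancel]
        exact congrArg Subtype.val h8
      obtain ⟨k1, k2, k3⟩ := key _ ((U a).mul_mem m1.1 ((U a).inv_mem n1.1)) _
        ((U a).mul_mem m2.1 ((U a).inv_mem n2.1)) _ ((U a).mul_mem m3.1 ((U a).inv_mem n3.1))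
        (hdiv m1.2 n1.2) (hdiv m2.2 n2.2) (hdiv m3.2 n3.2) h6
      have l1 : x1 = y1 := Subtype.ext (mul_inv_eq_one.1 k1)
      have l2 : x2 = y2 := Subtype.ext (mul_inv_eq_one.1 k2)
      have l3 : x3 = y3 := Subtype.ext (mul_inv_eq_one.1 k3)
      rw [l1, l2, l3]
    have h5 := Nat.card_le_card_of_injective ψ hψ
    rw [Nat.card_prod, Nat.card_prod, h1, h2] at h5
    calc _ = _ := by ring
      _ ≤ Nat.card (U a) := h5

end Abl

end Cfsg.Agent.HKS.AbelianEnd
end

-- part: HKS/AbelianFinal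
section
/-!
# Four-groups in `G_ab` and abelian unipotent groups: the end

`abelian_false` : in the context `CtxE`, `NoFourFix`, if `U a` is abelian then `G_ab` has no
four-group.
-/

set_option autoImplicit false
set_option linter.unusedSectionVars false

open Cfsg

namespace Cfsg.Agent.HKS.AbelianEnd

open Subgroup MulAction AbelianQ

variable {G Ω : Type*} [Group G] [MulAction G Ω] {U : Ω → Subgroup G} {a b : Ω} {p k : ℕ}

/-- If `z ∈ genFix U ⟨z⟩` then `z` is the only involution of `genFix U ⟨z⟩`. -/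
def OneInv (U : Ω → Subgroup G) (z : G) : Prop :=
  z ∈ genFix U (zpowers z) → ∀ x ∈ genFix U (zpowers z), x * x = 1 → x = 1 ∨ x = z

namespace Abl

variable {z : G} [Finite G] [Finite Ω]

/-- `genFix U ⟨z⟩` is 2-transitive on `Fix z`. -/
theorem two_genFix (A : Abl U a b p k z) {c d : Ω} (hc : z • c = c) (hd : z • d = d)
    (hcd : c ≠ d) : ∃ g ∈ genFix U (zpowers z), g • a = c ∧ g • b = d := by
  have h1 := (A.C.split.fixed (zpowers z) (SSplit.three_of_card (by
    rw [TwoOne.card_fixSub_zpowers]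
    exact A.C.fix z A.z1 A.z2))).gen
  obtain ⟨g, hg1, hg2⟩ := h1.two (a := ⟨a, TwoOne.zpowers_fix A.zD.1⟩)
    (b := ⟨b, TwoOne.zpowers_fix A.zD.2⟩) (c := ⟨c, TwoOne.zpowers_fix hc⟩)
    (d := ⟨d, TwoOne.zpowers_fix hd⟩)
    (fun e => A.C.ne (congrArg Subtype.val e).symm) (fun e => hcd (congrArg Subtype.val e))
  refine ⟨((g : centralizer (zpowers z : Set G)) : G), ?_, congrArg Subtype.val hg1,
    congrArg Subtype.val hg2⟩
  rw [← map_iSup_famFix]
  exact ⟨g.1, g.2, rfl⟩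

theorem conj_gen (A : Abl U a b p k z) {d g : G} (hd : d * z = z * d)
    (hg : g ∈ genFix U (zpowers z)) : d * g * d⁻¹ ∈ genFix U (zpowers z) := by
  refine PP1.conj_genFix A.C.split ?_ hg
  rintro _ ⟨n, rfl⟩
  have h1 : Commute d (z ^ n) := (show Commute d z from hd).zpow_right n
  have h2 : d⁻¹ * z ^ n * d = z ^ n := by
    rw [mul_assoc, ← h1.eq, inv_mul_cancel_left]
  change d⁻¹ * z ^ n * d ∈ zpowers z
  rw [h2]
  exact zpow_mem (mem_zpowers z) n

variable [FaithfulSMul G Ω]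

/-- The element `m = μ_u` of the second case. -/
theorem exists_m (A : Abl U a b p k z) {e : G} (he : e ∈ Dab G a b) (hze : IsConj z e)
    (hc : e * z = z * e) (hez : e ≠ z) :
    ∃ m ∈ genFix U (zpowers z), Swaps m a b ∧ m * z = z * m ∧ z ∈ zpowers m ∧
      ∃ j : ℕ, (m ^ j)⁻¹ * e * m ^ j = e * z := by
  have he2 : e * e = 1 := by
    obtain ⟨g, hg⟩ := isConj_iff.1 hze
    exact TwoOne.mul_self_conj hg.symm A.z2
  have he1 : e ≠ 1 := by
    rintro rfl
    obtain ⟨g, hg⟩ := isConj_iff.1 hze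
    exact A.z1 (conj_eq_one_iff.1 hg)
  have hei : e⁻¹ = e := inv_eq_of_mul_eq_one_left he2
  have hzi : z⁻¹ = z := inv_eq_of_mul_eq_one_left A.z2
  obtain ⟨u, hu, hu1, huz⟩ := A.exists_ne
  have hX : zpowers z ≤ Dab G b a := by
    rw [zpowers_le, Dab_symm]
    exact A.zD
  have hm := PP1.mu_mem_genFix A.C.split A.C.ne.symm hX hu hu1 (TwoOne.mem_cent_zpowers.2 huz)
  have hms := (A.C.split.mu_swaps A.C.ne.symm hu hu1).symm
  have hinv := A.C.split.mu_inverted A.C.ne.symm hu hu1 (z := e) (by rw [Dab_symm]; exact he)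
    (A.inverts he he1 he2 hez hc hu huz)
  set m := SSplit.mu U b a u with hmdef
  have hmz : m * z = z * m := (TwoOne.mem_cent_zpowers.1 (PP1.genFix_le_centralizer _ hm)).symm
  -- `m` does not commute with `e`
  have hne : m * e ≠ e * m := fun hme =>
    hez ((A.existsUnique m hms).unique ⟨he, hze, hme⟩ ⟨A.zD, IsConj.refl z, hmz⟩)
  have hpow : ∀ n : ℕ, e * m ^ n * e⁻¹ = (m ^ n)⁻¹ := fun n => by
    rw [TwoOne.conj_pow', hinv, inv_pow]
  -- the order of `m`
  obtain ⟨n, hn⟩ := A.two_element (y := ⟨m, hms.mem_W⟩) ((notMem_DW A.C.ne).2 hms)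
  have hex : ∃ n, m ^ 2 ^ n = 1 := ⟨n, congrArg Subtype.val hn⟩
  classical
  set r := Nat.find hex with hr
  have hr1 : m ^ 2 ^ r = 1 := Nat.find_spec hex
  have hrmin : ∀ j, j < r → m ^ 2 ^ j ≠ 1 := fun j hj => Nat.find_min hex hj
  have hr2 : 2 ≤ r := by
    by_contra hlt
    have h1 : m ^ 2 ^ 1 = 1 := by
      have h2 : r = 0 ∨ r = 1 := by omega
      rcases h2 with h2 | h2
      · rw [h2, pow_zero, pow_one] at hr1
        rw [hr1, one_pow]
      · rwa [h2] at hr1
    rw [pow_one, pow_two] at h1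
    have h2 : m⁻¹ = m := inv_eq_of_mul_eq_one_left h1
    rw [h2] at hinv
    apply hne
    calc m * e = e * m * e⁻¹ * e := by rw [hinv]
      _ = e * m := by group
  obtain ⟨s, hs⟩ : ∃ s, r = s + 2 := ⟨r - 2, by omega⟩
  set z₁ := m ^ 2 ^ (s + 1) with hz₁
  have hz₁1 : z₁ ≠ 1 := hrmin (s + 1) (by omega)
  have hz₁2 : z₁ * z₁ = 1 := by
    rw [hz₁, ← pow_add, ← two_mul, ← pow_succ']
    rw [hs] at hr1
    exact hr1
  have hz₁i : z₁⁻¹ = z₁ := inv_eq_of_mul_eq_one_left hz₁2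
  have hz₁D : z₁ ∈ Dab G a b := by
    rw [hz₁, pow_succ', pow_mul, pow_two]
    exact pow_mem (hms.mul hms) _
  have hz₁z : z₁ * z = z * z₁ := ((show Commute m z from hmz).pow_left _).eq
  have hz₁e : z₁ * e = e * z₁ := by
    have h1 := hpow (2 ^ (s + 1))
    rw [← hz₁, hz₁i] at h1
    calc z₁ * e = e * z₁ * e⁻¹ * e := by rw [h1]
      _ = e * z₁ := by group
  have hz₁m : z₁ * m = m * z₁ := ((Commute.refl m).pow_left _).eq
  -- `z₁ = z`
  have hzz : z₁ = z := by
    by_contra hzz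
    have hf2 : (z₁ * e) * (z₁ * e) = 1 := mul_self_mul hz₁2 he2 hz₁e
    have hfD : z₁ * e ∈ Dab G a b := mul_mem hz₁D he
    have hf1 : z₁ * e ≠ 1 := by
      intro h1
      have h2 : e = z₁ := by
        rw [← hz₁i]
        exact eq_inv_of_mul_eq_one_right h1
      exact hne (by rw [h2]; exact hz₁m.symm)
    have hfz : z₁ * e ≠ z := by
      intro h1
      have h2 : e = z₁ * z := by
        rw [← h1, ← mul_assoc, hz₁2, one_mul]
      apply hne
      rw [h2]
      calc m * (z₁ * z) = (m * z₁) * z := by group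
        _ = z₁ * (m * z) := by rw [← hz₁m]; group
        _ = z₁ * z * m := by rw [hmz]; group
    have hfc : (z₁ * e) * z = z * (z₁ * e) := by
      calc (z₁ * e) * z = z₁ * (e * z) := by group
        _ = z₁ * z * e := by rw [hc]; group
        _ = _ := by rw [hz₁z]; group
    have i1 := A.inverts hz₁D hz₁1 hz₁2 hzz hz₁z hu huz
    have i2 := A.inverts he he1 he2 hez hc hu huz
    have i3 : (z₁ * e) * u * (z₁ * e)⁻¹ = u := by
      calc (z₁ * e) * u * (z₁ * e)⁻¹ = z₁ * (e * u * e⁻¹) * z₁⁻¹ := by group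
        _ = (z₁ * u * z₁⁻¹)⁻¹ := by rw [i2]; group
        _ = u := by rw [i1, inv_inv]
    apply hu1
    refine A.F z A.zD _ hfD A.z1 hf1 (Ne.symm hfz) A.z2 hf2 hfc.symm u hu huz ?_
    calc (z₁ * e) * u = (z₁ * e) * u * (z₁ * e)⁻¹ * (z₁ * e) := by group
      _ = u * (z₁ * e) := by rw [i3]
  refine ⟨m, hm, hms, hmz, ?_, 2 ^ s, ?_⟩
  · rw [← hzz, hz₁]
    exact pow_mem (mem_zpowers m) _
  · have h1 := hpow (2 ^ s)
    calc (m ^ 2 ^ s)⁻¹ * e * m ^ 2 ^ s = (e * m ^ 2 ^ s * e⁻¹) * e * m ^ 2 ^ s := by rw [h1]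
      _ = e * (m ^ 2 ^ s * m ^ 2 ^ s) := by group
      _ = e * z := by
          rw [← pow_add, ← two_mul, ← pow_succ', ← hzz]

/-- **The second case is impossible.** -/
theorem two_false (A : Abl U a b p k z) (hS : OneInv U z) {e : G} (he : e ∈ Dab G a b)
    (hze : IsConj z e) (hc : e * z = z * e) (hez : e ≠ z) : False := by
  classical
  have he2 : e * e = 1 := by
    obtain ⟨g, hg⟩ := isConj_iff.1 hze
    exact TwoOne.mul_self_conj hg.symm A.z2
  have he1 : e ≠ 1 := by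
    rintro rfl
    obtain ⟨g, hg⟩ := isConj_iff.1 hze
    exact A.z1 (conj_eq_one_iff.1 hg)
  obtain ⟨m, hm, hms, hmz, hzm, j, hj⟩ := A.exists_m he hze hc hez
  set M := genFix U (zpowers z) with hM
  have hzM : z ∈ M := (zpowers_le.2 hm) hzm
  have heM : e ∉ M := fun h => (hS hzM e h he2).elim he1 hez
  have hzez : IsConj z (e * z) := hze.trans (isConj_iff.2 ⟨(m ^ j)⁻¹, by rw [inv_inv]; exact hj⟩)
  have hcube := A.card_cube he he1 he2 hez hc hze hzez
  have hcount := AbelianCount.count_cube A.C.split A.C.ne A.zD A.z2 A.z1 A.existsUnique A.card_fix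
    he hze hzez hc hez hcube (fun c h1 h2 => A.fix_two he he1 he2 hez hc h1 h2) M
    (fun g hg => (TwoOne.mem_cent_zpowers.1 (PP1.genFix_le_centralizer _ hg)).symm)
    (fun c d h1 h2 h3 => A.two_genFix h1 h2 h3)
  -- all conjugates are in `M e`
  have hcos : ∀ y : G, IsConj z y → y * z = z * y → y ≠ z → y * e⁻¹ ∈ M := by
    intro y hy hyz hyne
    have key : ∀ g ∈ M, (g * e * g⁻¹) * e⁻¹ ∈ M := by
      intro g hg
      have h1 := A.conj_gen hc (M.inv_mem hg)
      have h2 : (g * e * g⁻¹) * e⁻¹ = g * (e * g⁻¹ * e⁻¹) := by group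
      rw [h2]
      exact M.mul_mem hg h1
    obtain ⟨g, hg, rfl | rfl⟩ := hcount y hy hyz hyne
    · exact key g hg
    · have h1 : g * (e * z) * g⁻¹ = (g * (m ^ j)⁻¹) * e * (g * (m ^ j)⁻¹)⁻¹ := by
        rw [← hj]; group
      rw [h1]
      exact key _ (M.mul_mem hg (M.inv_mem (M.pow_mem hm j)))
  -- the homomorphism
  let ι : centralizer {A.zW} →* G := (Wab G a b).subtype.comp (Subgroup.subtype _)
  let R : Subgroup (centralizer {A.zW}) := M.comap ι
  have hR : R.Normal := by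
    constructor
    intro x hx g
    exact A.conj_gen (A.mem_CW.1 g.2) hx
  let mW : centralizer {A.zW} := ⟨⟨m, hms.mem_W⟩, A.mem_CW.2 hmz⟩
  let eW : centralizer {A.zW} := ⟨⟨e, Dab_le_Wab a b he⟩, A.mem_CW.2 hc⟩
  have hmR : mW ∈ R := hm
  have hDW := index_DW A.C.split A.C.ne
  have hmk : ∀ g : centralizer {A.zW}, ((g * mW : centralizer {A.zW}) :
      centralizer {A.zW} ⧸ R) = (g : centralizer {A.zW} ⧸ R) := by
    intro g
    rw [QuotientGroup.eq]
    have h1 : (g * mW)⁻¹ * g = mW⁻¹ := by group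
    rw [h1]
    exact R.inv_mem hmR
  have hP : IsPGroup 2 (centralizer {A.zW} ⧸ R) := by
    intro x
    obtain ⟨g, rfl⟩ := QuotientGroup.mk_surjective x
    have key : ∀ g : centralizer {A.zW}, (g : Wab G a b) ∉ DW G a b →
        ∃ n, ((g : centralizer {A.zW} ⧸ R)) ^ 2 ^ n = 1 := by
      intro g hg
      obtain ⟨n, hn⟩ := A.two_element hg
      refine ⟨n, ?_⟩
      have h1 : g ^ 2 ^ n = 1 := Subtype.ext hn
      rw [← QuotientGroup.mk_pow, h1, QuotientGroup.mk_one]
    by_cases hg : (g : Wab G a b) ∈ DW G a b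
    · obtain ⟨n, hn⟩ := key (g * mW) (by
        rw [notMem_DW A.C.ne]
        exact hms.D_mul hg)
      exact ⟨n, by rw [hmk] at hn; exact hn⟩
    · exact key g hg
  have heR : eW ∉ R := heM
  have hnt : Nontrivial (centralizer {A.zW} ⧸ R) :=
    ⟨⟨(eW : centralizer {A.zW} ⧸ R), 1, fun h => heR ((QuotientGroup.eq_one_iff eW).1 h)⟩⟩
  obtain ⟨θ₀, x, hx⟩ := exists_hom hP hnt
  obtain ⟨g, rfl⟩ := QuotientGroup.mk_surjective x
  set θ : centralizer {A.zW} →* ℤˣ := θ₀.comp (QuotientGroup.mk' R) with hθ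
  have hθv : ∀ y, θ y = θ₀ (y : centralizer {A.zW} ⧸ R) := fun y => rfl
  -- an element of `D`
  obtain ⟨d, hdD, hd⟩ : ∃ d : centralizer {A.zW}, (((d : Wab G a b) : G)) ∈ Dab G a b ∧
      θ d = -1 := by
    by_cases hg : (g : Wab G a b) ∈ DW G a b
    · exact ⟨g, hg, hx⟩
    · refine ⟨g * mW, ((notMem_DW A.C.ne).1 hg).mul hms, ?_⟩
      rw [hθv, hmk]
      exact hx
  have hconst : ∀ y (hy : y ∈ centralizer {A.zW}), Swaps (y : G) a b → IsConj z (y : G) →
      θ ⟨y, hy⟩ = θ eW := by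
    intro y hy hys hyz
    have hyne : (y : G) ≠ z := by
      intro h1
      rw [h1] at hys
      exact A.C.ne (hys.1.symm.trans A.zD.1)
    have h1 := hcos y hyz (A.mem_CW.1 hy) hyne
    have h2 : ((⟨y, hy⟩ : centralizer {A.zW}) * eW⁻¹) ∈ R := h1
    have h3 : θ ((⟨y, hy⟩ : centralizer {A.zW}) * eW⁻¹) = 1 := by
      rw [hθv, (QuotientGroup.eq_one_iff _).2 h2, map_one]
    rw [map_mul, map_inv] at h3
    exact mul_inv_eq_one.1 h3
  have h5 := data_hom A.C.split A.C.gen A.C.ne A.C.prime A.C.p_ne_two A.C.cardU A.comm A.odd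
    (c := ⟨m, hms.mem_W⟩) mW.2 hms θ (d := (d : Wab G a b)) d.2 hdD hd
  have h6 := h5.2 z A.z2 _ A.card_fix ⟨_, hconst⟩
  rw [← A.C.cardU, hcube] at h6
  have h7 := A.three_le
  have h8 := Nat.le_of_dvd (by positivity) h6
  have h9 : Nat.card (TwoOne.CU U a z) ^ 2 < Nat.card (TwoOne.CU U a z) ^ 3 :=
    Nat.pow_lt_pow_right (by omega) (by norm_num)
  omega

end Abl

/-- The type at `⟨z⟩` is `PSL(2,q)`. -/
theorem Abl.type_DL [Finite G] [Finite Ω] {z : G} (A : Abl U a b p k z) (h1 : p ^ k % 4 = 1) :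
    ∃ q, DL (genFix U (zpowers z)) (U a ⊓ centralizer (zpowers z : Set G))
      (Dab G a b ⊓ genFix U (zpowers z)) (kerFix Ω (zpowers z))
      (fun w => w ∈ genFix U (zpowers z) ∧ Swaps w a b) q := by
  have hX : zpowers z ≤ Dab G a b := zpowers_le.2 A.zD
  have hzK : z ∈ kerFix Ω (zpowers z) := fun c hc => hc z (mem_zpowers z)
  have hne : U a ⊓ centralizer (zpowers z : Set G) ≠ ⊥ := by
    intro hb
    obtain ⟨u, hu, hu1, huz⟩ := A.exists_ne
    have h2 : u ∈ U a ⊓ centralizer (zpowers z : Set G) := ⟨hu, TwoOne.mem_cent_zpowers.2 huz⟩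
    rw [hb] at h2
    exact hu1 (mem_bot.1 h2)
  have hbad : ∀ z' ∈ Dab G a b ⊓ genFix U (zpowers z), z' ∉ kerFix Ω (zpowers z) → z' * z' = 1 →
      ∀ u ∈ U a ⊓ centralizer (zpowers z : Set G), z' * u = u * z' → u = 1 := by
    intro z' hz' hz'K hz'2 u hu huz
    refine A.F z A.zD z' hz'.1 A.z1 ?_ ?_ A.z2 hz'2 ?_ u hu.1 (TwoOne.mem_cent_zpowers.1 hu.2) huz
    · rintro rfl
      exact hz'K (one_mem _)
    · rintro rfl
      exact hz'K hzK
    · exact TwoOne.mem_cent_zpowers.1 (PP1.genFix_le_centralizer _ hz'.2)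
  rcases A.C.IH (zpowers z) hX (by rw [Ne, zpowers_eq_bot]; exact A.z1) hne with hT | hT | hT | hT
  · exfalso
    obtain ⟨s, hs, he⟩ := hT.card
    obtain ⟨r, rfl⟩ : ∃ r, s = r + 2 := ⟨s - 2, by omega⟩
    have h3 := A.mod_four
    have h4 : Nat.card (TwoOne.CU U a z) + 1 = 4 * 2 ^ r := by
      rw [TwoOne.CU, he, pow_add]; ring
    (clear * - h1 h3 h4; omega)
  · exact hT
  · exfalso
    obtain ⟨q, hT⟩ := hT
    obtain ⟨z', hz', hz'K, hz'2, hz'c⟩ := hT.invol
    have h3 := hT.cardZ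
    have h4 : (U a ⊓ centralizer (zpowers z : Set G)) ⊓
        centralizer ((U a ⊓ centralizer (zpowers z : Set G) : Subgroup G) : Set G) ≠ ⊥ := by
      intro hb
      rw [hb, card_bot] at h3
      exact hT.pow.one_lt.ne h3
    obtain ⟨⟨u, hu⟩, hu1⟩ := Subgroup.ne_bot_iff_exists_ne_one.1 h4
    have hu' := mem_inf.1 hu
    refine hu1 (Subtype.ext (hbad z' hz' hz'K hz'2 u hu'.1 ((hz'c u hu'.1).2 fun v hv => ?_)))
    exact (mem_centralizer_iff.1 hu'.2 v hv).symm
  · exfalso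
    obtain ⟨n, hT⟩ := hT
    obtain ⟨z', hz', hz'K, hz'2, hz'c⟩ := hT.invol
    have h4 : (U a ⊓ centralizer (zpowers z : Set G)) ⊓ centralizer ({z'} : Set G) ≠ ⊥ := by
      intro hb
      rw [hb, card_bot] at hz'c
      have h5 : 1 < 3 ^ n := Nat.one_lt_pow hT.odd.pos.ne' (by norm_num)
      omega
    obtain ⟨⟨u, hu⟩, hu1⟩ := Subgroup.ne_bot_iff_exists_ne_one.1 h4
    have hu' := mem_inf.1 hu
    refine hu1 (Subtype.ext (hbad z' hz' hz'K hz'2 u hu'.1 ?_))
    exact (mem_centralizer_singleton_iff.1 hu'.2).symm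

/-- `z` is the only involution of `genFix U ⟨z⟩`, if it lies there. -/
theorem Abl.oneInv [Finite G] [Finite Ω] {z : G} (A : Abl U a b p k z) (h1 : p ^ k % 4 = 1) :
    OneInv U z := by
  intro hz x hx hx2
  obtain ⟨q, hT⟩ := A.type_DL h1
  obtain ⟨F, i1, i2, hF, φ, S⟩ := SLCoord.exists_slx_of_DL A.C.split A.C.ne
    (TwoOne.zpowers_fix A.zD.1) (TwoOne.zpowers_fix A.zD.2) hT
  obtain ⟨hn, hinj⟩ := S.neg_eq A.C.split A.z1 hz
  rw [← S.range_eq A.C.split] at hx
  obtain ⟨g, rfl⟩ := hx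
  rw [← map_mul, ← map_one φ] at hx2
  have hg := hinj hx2
  have h2 : (2 : F) ≠ 0 := SLCoord.two_ne_zero_of_odd (by rw [hF]; exact hT.odd)
  rcases Cfsg.Agent.Lib.PSL2Inv.sq_eq_one h2 hg with h3 | h3
  · left; rw [h3, map_one]
  · right; rw [h3, hn]

/-- **`U a` is not abelian if `G_ab` has a four-group.** -/
theorem abelian_false' [Finite G] [Finite Ω] [FaithfulSMul G Ω] (C : CtxE U a b p k)
    (hF : NoFourFix U a b)
    (hcomm : ∀ x ∈ U a, ∀ y ∈ U a, x * y = y * x) {s t : G} (hs : s ∈ Dab G a b)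
    (ht : t ∈ Dab G a b) (hs1 : s ≠ 1) (ht1 : t ≠ 1) (hst : s ≠ t) (hs2 : s * s = 1)
    (ht2 : t * t = 1) (hc : s * t = t * s) : False := by
  obtain ⟨z, e, hz, he, hz1, he1, hze, hz2, he2, hc', hodd, c, hcz, hcD⟩ :=
    exists_central_inv (W := Wab G a b) (index_DW C.split C.ne)
      (s := ⟨s, Dab_le_Wab a b hs⟩) (t := ⟨t, Dab_le_Wab a b ht⟩) hs ht
      (fun h => hs1 (congrArg Subtype.val h)) (fun h => ht1 (congrArg Subtype.val h))
      (fun h => hst (congrArg Subtype.val h)) (Subtype.ext hs2) (Subtype.ext ht2) (Subtype.ext hc)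
  have hzD : (z : G) ∈ Dab G a b := hz
  have heD : (e : G) ∈ Dab G a b := he
  have A : Abl U a b p k (z : G) :=
    { C := C
      F := hF
      comm := hcomm
      zD := hzD
      z1 := fun h => hz1 (Subtype.ext h)
      z2 := congrArg Subtype.val hz2
      odd := hodd
      out := ⟨c, (notMem_DW C.ne).1 hcD,
        congrArg Subtype.val (mem_centralizer_singleton_iff.1 hcz)⟩ }
  have h1 := A.mod_four_one heD (fun h => he1 (Subtype.ext h)) (congrArg Subtype.val he2)
    (fun h => hze (Subtype.ext h).symm) (congrArg Subtype.val hc').symm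
  obtain ⟨e', he', h2, h3, h4⟩ := A.exists_comm h1
  exact A.two_false (A.oneInv h1) he' h2 h3 h4

end Cfsg.Agent.HKS.AbelianEnd
end

-- part: HKS/CentralTransfer
section
/-!
# A transfer argument for an element `k` of order 4 with `k² = z`

* `transfer_sq`: let `z` be an involution of the finite group `G`, `C = C_G(z)`, `LAM : C → A` a
  homomorphism to a commutative group, trivial on `z^G ∩ C`, `k ∈ C` with `k² = z` such that no
  element of `z^G ∩ C` except `z` commutes with `k`. Then the transfer of `LAM` has value `LAM k` at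
  `k`.
-/

set_option autoImplicit false

namespace Cfsg.Agent.HKS.CentralTransfer

open Subgroup MulAction

variable {G A : Type*} [Group G] [CommGroup A]

theorem orbit_subsingleton_iff {X : Type*} [MulAction G X] (g : G) (x : X) :
    g • x = x → ∀ y : X, y ∈ orbit (zpowers g) x → y = x := by
  intro h y hy
  obtain ⟨⟨n, hn⟩, rfl⟩ := hy
  obtain ⟨i, rfl⟩ := mem_zpowers_iff.1 hn
  change g ^ i • x = x
  exact (mem_stabilizer_iff.1 ((stabilizer G x).zpow_mem (mem_stabilizer_iff.2 h) i))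

/-- **The transfer argument.** -/
theorem transfer_sq [Finite G] (z : G) (hz : z * z = 1) (C : Subgroup G)
    (hmC : ∀ g : G, g ∈ C ↔ g * z = z * g) (LAM : C →* A)
    (k : G) (hk : k ∈ C) (hkz : k * k = z)
    (hcomm : ∀ y : G, IsConj z y → k * y = y * k → y = z)
    (hlam : ∀ y : C, IsConj z (y : G) → LAM y = 1) :
    LAM.transfer k = LAM ⟨k, hk⟩ := by
  classical
  let _ : Fintype (Quotient (orbitRel (zpowers k) (G ⧸ C))) := Fintype.ofFinite _
  rw [MonoidHom.transfer_eq_prod_quotient_orbitRel_zpowers_quot]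
  have hk4 : k ^ 4 = 1 := by
    have : k ^ 4 = (k * k) * (k * k) := by simp only [pow_succ, pow_zero, one_mul, mul_assoc]
    rw [this, hkz, hz]
  -- the class of `C`
  set q0 : Quotient (orbitRel (zpowers k) (G ⧸ C)) := Quotient.mk'' ((1 : G) : G ⧸ C) with hq0
  have hfix1 : k • ((1 : G) : G ⧸ C) = ((1 : G) : G ⧸ C) := by
    change ((k * 1 : G) : G ⧸ C) = _
    rw [QuotientGroup.eq]
    simpa using hk
  have hq0out : q0.out = ((1 : G) : G ⧸ C) := by
    have h1 : (Quotient.mk'' q0.out : Quotient (orbitRel (zpowers k) (G ⧸ C))) =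
        Quotient.mk'' ((1 : G) : G ⧸ C) := by
      rw [← hq0]; exact Quotient.out_eq' q0
    have h2 : q0.out ∈ orbit (zpowers k) ((1 : G) : G ⧸ C) := by
      have := Quotient.exact' h1
      exact this
    exact orbit_subsingleton_iff k _ hfix1 _ h2
  have hval : ∀ q : Quotient (orbitRel (zpowers k) (G ⧸ C)), q ≠ q0 →
      LAM ⟨q.out.out⁻¹ * k ^ Function.minimalPeriod (k • ·) q.out * q.out.out,
            QuotientGroup.out_conj_pow_minimalPeriod_mem C k q.out⟩ = 1 := by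
    intro q hq
    set t : G := q.out.out with ht
    have htq : (t : G ⧸ C) = q.out := by rw [ht]; exact QuotientGroup.out_eq' _
    set m := Function.minimalPeriod (k • ·) q.out with hm
    have hmem : t⁻¹ * k ^ m * t ∈ C := QuotientGroup.out_conj_pow_minimalPeriod_mem C k q.out
    -- `m ∣ 4`
    have hm4 : m ∣ 4 := by
      rw [hm]
      apply Function.IsPeriodicPt.minimalPeriod_dvd
      change (fun x : G ⧸ C => k • x)^[4] q.out = q.out
      rw [smul_iterate]
      simp [hk4]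
    have hm' : m = 1 ∨ m = 2 ∨ m = 4 := by
      have h1 : m ≤ 4 := Nat.le_of_dvd (by norm_num) hm4
      have h2 : m ≠ 0 := by rintro h; rw [h] at hm4; simp at hm4
      interval_cases m
      · exact absurd rfl h2
      · exact Or.inl rfl
      · exact Or.inr (Or.inl rfl)
      · exact absurd hm4 (by decide)
      · exact Or.inr (Or.inr rfl)
    rcases hm' with h | h | h
    · exfalso
      rw [h, pow_one] at hmem
      -- `k` commutes with `t z t⁻¹`
      have h1 : (t⁻¹ * k * t) * z = z * (t⁻¹ * k * t) := (hmC _).1 hmem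
      have h2 : k * (t * z * t⁻¹) = (t * z * t⁻¹) * k := by
        have := congrArg (fun x => t * x * t⁻¹) h1
        simpa only [mul_assoc, mul_inv_cancel_left, mul_inv_cancel, mul_one] using this
      have h3 := hcomm (t * z * t⁻¹) (isConj_iff.2 ⟨t, rfl⟩) h2
      have h4 : t ∈ C := by
        rw [hmC]
        calc t * z = (t * z * t⁻¹) * t := by group
          _ = z * t := by rw [h3]
      apply hq
      have h5 : q.out = ((1 : G) : G ⧸ C) := by
        rw [← htq, QuotientGroup.eq]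
        simpa using h4
      rw [← Quotient.out_eq' q, h5]
    · have h1 : t⁻¹ * k ^ m * t = t⁻¹ * z * t := by rw [h, pow_two, hkz]
      apply hlam
      change IsConj z (t⁻¹ * k ^ m * t)
      rw [h1]
      exact isConj_iff.2 ⟨t⁻¹, by group⟩
    · have h1 : t⁻¹ * k ^ m * t = 1 := by rw [h, hk4]; group
      have h2 : (⟨t⁻¹ * k ^ m * t, hmem⟩ : C) = 1 := Subtype.ext h1
      rw [h2, map_one]
  rw [Finset.prod_eq_single q0 (fun q _ hq => hval q hq) (fun h => absurd (Finset.mem_univ _) h)]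
  -- the value at `q0`
  set t : G := q0.out.out with ht
  have htC : t ∈ C := by
    have h1 : (t : G ⧸ C) = ((1 : G) : G ⧸ C) := by
      rw [ht, ← hq0out]; exact QuotientGroup.out_eq' _
    have h2 := QuotientGroup.eq.1 h1.symm
    simpa using h2
  have hm1 : Function.minimalPeriod (k • ·) q0.out = 1 := by
    rw [Function.minimalPeriod_eq_one_iff_isFixedPt, hq0out]
    exact hfix1
  have hmem := QuotientGroup.out_conj_pow_minimalPeriod_mem C k q0.out
  have h1 : (⟨t⁻¹ * k ^ Function.minimalPeriod (k • ·) q0.out * t, hmem⟩ : C) =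
      (⟨t, htC⟩ : C)⁻¹ * ⟨k, hk⟩ * ⟨t, htC⟩ := by
    apply Subtype.ext
    change t⁻¹ * k ^ Function.minimalPeriod (k • ·) q0.out * t = t⁻¹ * k * t
    rw [hm1, pow_one]
  have h2 : LAM ⟨q0.out.out⁻¹ * k ^ Function.minimalPeriod (k • ·) q0.out * q0.out.out, hmem⟩ =
      LAM ((⟨t, htC⟩ : C)⁻¹ * ⟨k, hk⟩ * ⟨t, htC⟩) := congrArg LAM h1
  rw [h2, map_mul, map_mul, map_inv, mul_comm (LAM _)⁻¹, mul_assoc, inv_mul_cancel, mul_one]

/-! ### The contradiction -/

/-- The data of step (3a) of the Hering–Kantor–Seitz theorem, in abstract form: `C = C_G(z)`, `M` the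
group `L_z`, `K` the pointwise stabiliser of the fixed points of `z`, `D` the stabiliser of two of
them, `z'` a conjugate of `z` interchanging them. -/
structure Data (z z' : G) (C M K D : Subgroup G) : Prop where
  zz : z * z = 1
  memC : ∀ g : G, g ∈ C ↔ g * z = z * g
  M_le : M ≤ C
  M_norm : ∀ c ∈ C, ∀ m ∈ M, c * m * c⁻¹ ∈ M
  K_le : K ≤ C
  K_norm : ∀ c ∈ C, ∀ m ∈ K, c * m * c⁻¹ ∈ K
  KM : ∀ x ∈ K, ∀ m ∈ M, x * m = m * x
  D_le : D ≤ C
  MD : ∀ c ∈ C, ∃ m ∈ M, ∃ d ∈ D, c = m * d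
  zK : z ∈ K
  z'C : z' ∈ C
  z'z' : z' * z' = 1
  /-- `[z', K] ≤ ⟨z⟩` -/
  z'K : ∀ x ∈ K, z' * x = x * z' ∨ z' * x = x * z' * z
  /-- `[z', D] ≤ H⟨z⟩` -/
  z'D : ∀ d ∈ D, ∃ m ∈ M, d * z' * d⁻¹ = z' * m ∨ d * z' * d⁻¹ = z' * m * z
  MK : ∀ x ∈ M, x ∈ K → x = 1 ∨ x = z
  z'M : ∀ m ∈ M, z' * m ∉ K

namespace Data

variable {z z' : G} {C M K D : Subgroup G}

theorem z_comm (h : Data z z' C M K D) {c : G} (hc : c ∈ C) : c * z = z * c := (h.memC c).1 hc

/-- the elements of `K` commuting with `z'` -/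
def K0 (z' : G) (K : Subgroup G) : Subgroup G := K ⊓ centralizer ({z'} : Set G)

theorem mem_K0 {x : G} : x ∈ K0 z' K ↔ x ∈ K ∧ x * z' = z' * x := by
  rw [K0, mem_inf, mem_centralizer_singleton_iff]

theorem conj_K0 (h : Data z z' C M K D) {d x : G} (hd : d ∈ D) (hx : x ∈ K) :
    d * x * d⁻¹ ∈ K0 z' K ↔ x ∈ K0 z' K := by
  obtain ⟨m, hm, h1⟩ := h.z'D d⁻¹ (D.inv_mem hd)
  rw [inv_inv] at h1
  have hxm := h.KM x hx m hm
  have hxz := h.z_comm (h.K_le hx)
  -- `x` commutes with `d⁻¹ z' d` iff it commutes with `z'`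
  have key : x * (d⁻¹ * z' * d) = (d⁻¹ * z' * d) * x ↔ x * z' = z' * x := by
    rcases h1 with h1 | h1
    · rw [h1, ← mul_assoc, mul_assoc z' m x, ← hxm, ← mul_assoc z' x m]
      exact mul_left_inj m
    · rw [h1]
      have e1 : x * (z' * m * z) = (x * z') * (m * z) := by group
      have e2 : z' * m * z * x = (z' * x) * (m * z) := by
        calc z' * m * z * x = z' * m * (z * x) := by group
          _ = z' * m * (x * z) := by rw [hxz]
          _ = z' * (m * x) * z := by group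
          _ = z' * (x * m) * z := by rw [hxm]
          _ = _ := by group
      rw [e1, e2]
      exact mul_left_inj (m * z)
  rw [mem_K0, mem_K0]
  constructor
  · rintro ⟨-, h2⟩
    refine ⟨hx, key.1 ?_⟩
    have := congrArg (fun y => d⁻¹ * y * d) h2
    simpa only [mul_assoc, inv_mul_cancel_left, inv_mul_cancel, mul_one] using this
  · rintro ⟨-, h2⟩
    refine ⟨h.K_norm d (h.D_le hd) x hx, ?_⟩
    have := congrArg (fun y => d * y * d⁻¹) (key.2 h2)
    simpa only [mul_assoc, mul_inv_cancel, mul_one, mul_inv_cancel_left] using this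

theorem conj_K0' (h : Data z z' C M K D) {c x : G} (hc : c ∈ C) (hx : x ∈ K) :
    c * x * c⁻¹ ∈ K0 z' K ↔ x ∈ K0 z' K := by
  obtain ⟨m, hm, d, hd, rfl⟩ := h.MD c hc
  have h1 : m * d * x * (m * d)⁻¹ = d * x * d⁻¹ := by
    have := h.KM _ (h.K_norm d (h.D_le hd) x hx) m hm
    calc m * d * x * (m * d)⁻¹ = (m * (d * x * d⁻¹)) * m⁻¹ := by group
      _ = ((d * x * d⁻¹) * m) * m⁻¹ := by rw [this]
      _ = _ := by group
  rw [h1]
  exact h.conj_K0 hd hx

/-- the index of `K0` in `K` is at most 2 -/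
theorem mul_K0 (h : Data z z' C M K D) {x y : G} (hx : x ∈ K) (hy : y ∈ K)
    (hx0 : x ∉ K0 z' K) (hy0 : y ∉ K0 z' K) : x * y ∈ K0 z' K := by
  have h1 : z' * x = x * z' * z := by
    rcases h.z'K x hx with h1 | h1
    · exact absurd (mem_K0.2 ⟨hx, h1.symm⟩) hx0
    · exact h1
  have h2 : z' * y = y * z' * z := by
    rcases h.z'K y hy with h1 | h1
    · exact absurd (mem_K0.2 ⟨hy, h1.symm⟩) hy0
    · exact h1
  rw [mem_K0]
  refine ⟨K.mul_mem hx hy, ?_⟩
  have hyz := h.z_comm (h.K_le hy)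
  calc x * y * z' = x * y * z' * (z * z) := by rw [h.zz, mul_one]
    _ = x * (y * z' * z) * z := by group
    _ = x * (z' * y) * z := by rw [h2]
    _ = (x * z') * (y * z) := by group
    _ = (x * z') * (z * y) := by rw [hyz]
    _ = (x * z' * z) * y := by group
    _ = (z' * x) * y := by rw [h1]
    _ = _ := by group

theorem comm_K0 (h : Data z z' C M K D) {c x : G} (hc : c ∈ C) (hx : x ∈ K) :
    c * x * c⁻¹ * x⁻¹ ∈ K0 z' K := by
  by_cases hx0 : x ∈ K0 z' K
  · exact mul_mem ((h.conj_K0' hc hx).2 hx0) (inv_mem hx0)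
  · exact h.mul_K0 (h.K_norm c hc x hx) (K.inv_mem hx) (fun h1 => hx0 ((h.conj_K0' hc hx).1 h1))
      (fun h1 => hx0 (by simpa using (K0 z' K).inv_mem h1))

/-- The normal subgroup `M⟨z'⟩K0` of `C`. -/
def N0 (h : Data z z' C M K D) : Subgroup G where
  carrier := {g | ∃ m ∈ M, ∃ x ∈ K0 z' K, g = m * x ∨ g = z' * m * x}
  mul_mem' := by
    rintro _ _ ⟨m, hm, x, hx, hg⟩ ⟨m', hm', x', hx', hg'⟩
    have hxm' : x * m' = m' * x := h.KM x (mem_K0.1 hx).1 m' hm'
    have hxz' : x * z' = z' * x := (mem_K0.1 hx).2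
    have hz'm : z' * m * z'⁻¹ ∈ M := h.M_norm z' h.z'C m hm
    have hz' : z'⁻¹ = z' := inv_eq_of_mul_eq_one_right h.z'z'
    rcases hg with rfl | rfl <;> rcases hg' with rfl | rfl
    · refine ⟨m * m', mul_mem hm hm', x * x', mul_mem hx hx', Or.inl ?_⟩
      calc m * x * (m' * x') = m * (x * m') * x' := by group
        _ = m * (m' * x) * x' := by rw [hxm']
        _ = _ := by group
    · refine ⟨(z' * m * z'⁻¹) * m', mul_mem hz'm hm', x * x', mul_mem hx hx', Or.inr ?_⟩
      calc m * x * (z' * m' * x') = m * (x * z') * m' * x' := by group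
        _ = m * (z' * x) * m' * x' := by rw [hxz']
        _ = m * z' * (x * m') * x' := by group
        _ = m * z' * (m' * x) * x' := by rw [hxm']
        _ = (z' * z') * m * z'⁻¹ * m' * (x * x') := by
          rw [h.z'z', hz']; group
        _ = _ := by group
    · refine ⟨m * m', mul_mem hm hm', x * x', mul_mem hx hx', Or.inr ?_⟩
      calc z' * m * x * (m' * x') = z' * m * (x * m') * x' := by group
        _ = z' * m * (m' * x) * x' := by rw [hxm']
        _ = _ := by group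
    · refine ⟨(z' * m * z'⁻¹) * m', mul_mem hz'm hm', x * x', mul_mem hx hx', Or.inl ?_⟩
      calc z' * m * x * (z' * m' * x') = z' * m * (x * z') * m' * x' := by group
        _ = z' * m * (z' * x) * m' * x' := by rw [hxz']
        _ = z' * m * z' * (x * m') * x' := by group
        _ = z' * m * z' * (m' * x) * x' := by rw [hxm']
        _ = _ := by rw [hz']; group
  one_mem' := ⟨1, M.one_mem, 1, (K0 z' K).one_mem, Or.inl (by group)⟩
  inv_mem' := by
    rintro _ ⟨m, hm, x, hx, hg⟩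
    have hxm : x * m = m * x := h.KM x (mem_K0.1 hx).1 m hm
    have hxz' : x * z' = z' * x := (mem_K0.1 hx).2
    have hz'm : z' * m⁻¹ * z'⁻¹ ∈ M := h.M_norm z' h.z'C _ (M.inv_mem hm)
    have hz' : z'⁻¹ = z' := inv_eq_of_mul_eq_one_right h.z'z'
    rcases hg with rfl | rfl
    · refine ⟨m⁻¹, M.inv_mem hm, x⁻¹, inv_mem hx, Or.inl ?_⟩
      rw [← hxm]; group
    · refine ⟨z' * m⁻¹ * z'⁻¹, hz'm, x⁻¹, inv_mem hx, Or.inr ?_⟩
      have h1 : z' * m * x = x * (z' * m) := by
        rw [mul_assoc, ← hxm, ← mul_assoc, ← hxz', mul_assoc]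
      rw [h1, mul_inv_rev, mul_inv_rev]
      calc m⁻¹ * z'⁻¹ * x⁻¹ = (z' * z') * m⁻¹ * z'⁻¹ * x⁻¹ := by rw [h.z'z', one_mul]
        _ = _ := by group

theorem M_le_N0 (h : Data z z' C M K D) {m : G} (hm : m ∈ M) : m ∈ h.N0 :=
  ⟨m, hm, 1, (K0 z' K).one_mem, Or.inl (by group)⟩

theorem K0_le_N0 (h : Data z z' C M K D) {x : G} (hx : x ∈ K0 z' K) : x ∈ h.N0 :=
  ⟨1, M.one_mem, x, hx, Or.inl (by group)⟩

theorem z'_mem_N0 (h : Data z z' C M K D) : z' ∈ h.N0 :=
  ⟨1, M.one_mem, 1, (K0 z' K).one_mem, Or.inr (by group)⟩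

theorem z_mem_K0 (h : Data z z' C M K D) : z ∈ K0 z' K :=
  mem_K0.2 ⟨h.zK, (h.z_comm h.z'C).symm⟩

theorem z_mem_N0 (h : Data z z' C M K D) : z ∈ h.N0 := h.K0_le_N0 h.z_mem_K0

theorem conj_z'_mem (h : Data z z' C M K D) {c : G} (hc : c ∈ C) : c * z' * c⁻¹ ∈ h.N0 := by
  obtain ⟨m, hm, d, hd, rfl⟩ := h.MD c hc
  obtain ⟨n, hn, h1⟩ := h.z'D d hd
  have h2 : d * z' * d⁻¹ ∈ h.N0 := by
    rcases h1 with h1 | h1
    · rw [h1]; exact mul_mem h.z'_mem_N0 (h.M_le_N0 hn)
    · rw [h1]; exact mul_mem (mul_mem h.z'_mem_N0 (h.M_le_N0 hn)) h.z_mem_N0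
  have h3 : m * d * z' * (m * d)⁻¹ = m * (d * z' * d⁻¹) * m⁻¹ := by group
  rw [h3]
  exact mul_mem (mul_mem (h.M_le_N0 hm) h2) (inv_mem (h.M_le_N0 hm))

theorem N0_norm (h : Data z z' C M K D) {c g : G} (hc : c ∈ C) (hg : g ∈ h.N0) :
    c * g * c⁻¹ ∈ h.N0 := by
  obtain ⟨m, hm, x, hx, hg⟩ := hg
  have h1 : c * m * c⁻¹ ∈ h.N0 := h.M_le_N0 (h.M_norm c hc m hm)
  have h2 : c * x * c⁻¹ ∈ h.N0 := h.K0_le_N0 ((h.conj_K0' hc (mem_K0.1 hx).1).2 hx)
  rcases hg with rfl | rfl
  · have h3 : c * (m * x) * c⁻¹ = (c * m * c⁻¹) * (c * x * c⁻¹) := by group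
    rw [h3]; exact mul_mem h1 h2
  · have h3 : c * (z' * m * x) * c⁻¹ = (c * z' * c⁻¹) * (c * m * c⁻¹) * (c * x * c⁻¹) := by group
    rw [h3]; exact mul_mem (mul_mem (h.conj_z'_mem hc) h1) h2

theorem N0_inf_K (h : Data z z' C M K D) {k : G} (hk : k ∈ K) (hN : k ∈ h.N0) : k ∈ K0 z' K := by
  obtain ⟨m, hm, x, hx, rfl | rfl⟩ := hN
  · have h1 : m ∈ K := by
      have := K.mul_mem hk (K.inv_mem (mem_K0.1 hx).1)
      simpa only [mul_inv_cancel_right] using this
    rcases h.MK m hm h1 with rfl | rfl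
    · simpa using hx
    · exact mul_mem h.z_mem_K0 hx
  · exfalso
    apply h.z'M m hm
    have := K.mul_mem hk (K.inv_mem (mem_K0.1 hx).1)
    simpa using this

/-- commutators of elements of `C` lie in `N0`, if the kernel of `σ : D → (cyclic group)` lies in
`M K ⟨z'⟩` -/
theorem comm_mem_N0 (h : Data z z' C M K D) {A0 : Type*} [Group A0] [IsCyclic A0] (σ : D →* A0)
    (hσ : ∀ d : D, σ d = 1 → ∃ m ∈ M, ∃ x ∈ K, (d : G) = m * x ∨ (d : G) = z' * m * x)
    {c c' : G} (hc : c ∈ C) (hc' : c' ∈ C) : c * c' * c⁻¹ * c'⁻¹ ∈ h.N0 := by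
  classical
  -- the quotient
  let N : Subgroup C := h.N0.subgroupOf C
  have hN : N.Normal := ⟨fun n hn g => by
    rw [mem_subgroupOf] at hn ⊢
    exact h.N0_norm g.2 hn⟩
  let π : C →* C ⧸ N := QuotientGroup.mk' N
  have hπ1 : ∀ c : C, π c = 1 ↔ (c : G) ∈ h.N0 := by
    intro c
    rw [QuotientGroup.mk'_apply, QuotientGroup.eq_one_iff, mem_subgroupOf]
  -- elements of `K` are central
  have hcen : ∀ x : C, (x : G) ∈ K → ∀ y : C, π x * π y = π y * π x := by
    intro x hx y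
    have h1 : π (y * x * y⁻¹ * x⁻¹) = 1 := (hπ1 _).2 (h.K0_le_N0 (h.comm_K0 y.2 hx))
    rw [map_mul, map_mul, map_mul, map_inv, map_inv] at h1
    have h2 := congrArg (fun t => t * π x * π y) h1
    simpa only [one_mul, mul_assoc, inv_mul_cancel, mul_one] using h2.symm
  -- the image of `ker σ` is central
  have hcen2 : ∀ (d : D), σ d = 1 → ∀ y : C, π ⟨d, h.D_le d.2⟩ * π y = π y * π ⟨d, h.D_le d.2⟩ := by
    intro d hd y
    obtain ⟨m, hm, x, hx, h1⟩ := hσ d hd
    have h2 : π ⟨d, h.D_le d.2⟩ = π ⟨x, h.K_le hx⟩ := by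
      rcases h1 with h1 | h1
      · have h3 : (⟨d, h.D_le d.2⟩ : C) = ⟨m, h.M_le hm⟩ * ⟨x, h.K_le hx⟩ := Subtype.ext h1
        rw [h3, map_mul, (hπ1 ⟨m, h.M_le hm⟩).2 (h.M_le_N0 hm), one_mul]
      · have h3 : (⟨d, h.D_le d.2⟩ : C) = ⟨z', h.z'C⟩ * ⟨m, h.M_le hm⟩ * ⟨x, h.K_le hx⟩ :=
          Subtype.ext h1
        rw [h3, map_mul, map_mul, (hπ1 ⟨m, h.M_le hm⟩).2 (h.M_le_N0 hm), mul_one,
          (hπ1 ⟨z', h.z'C⟩).2 h.z'_mem_N0, one_mul]
    rw [h2]
    exact hcen ⟨x, h.K_le hx⟩ hx y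
  -- representatives in `D`
  have hrep : ∀ c : C, ∃ d : D, π c = π ⟨d, h.D_le d.2⟩ := by
    intro c
    obtain ⟨m, hm, d, hd, h1⟩ := h.MD c c.2
    refine ⟨⟨d, hd⟩, ?_⟩
    have h3 : c = ⟨m, h.M_le hm⟩ * ⟨d, h.D_le hd⟩ := Subtype.ext h1
    rw [h3, map_mul, (hπ1 ⟨m, h.M_le hm⟩).2 (h.M_le_N0 hm), one_mul]
  -- a generator of the image of `σ`
  have hcyc : IsCyclic σ.range := inferInstance
  obtain ⟨⟨_, g, rfl⟩, hg⟩ := hcyc.exists_generator
  let γ : C := ⟨g, h.D_le g.2⟩
  have hform : ∀ c : C, ∃ i : ℤ, ∃ e : D, σ e = 1 ∧ π c = π γ ^ i * π ⟨e, h.D_le e.2⟩ := by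
    intro c
    obtain ⟨d, hd⟩ := hrep c
    obtain ⟨i, hi⟩ := mem_zpowers_iff.1 (hg ⟨σ d, d, rfl⟩)
    have hi' : σ g ^ i = σ d := congrArg Subtype.val hi
    refine ⟨i, g ^ (-i) * d, ?_, ?_⟩
    · rw [map_mul, map_zpow, ← hi', ← zpow_add, neg_add_cancel, zpow_zero]
    · rw [hd, ← map_zpow, ← map_mul]
      congr 1
      apply Subtype.ext
      simp only [zpow_neg, coe_mul, InvMemClass.coe_inv, SubgroupClass.coe_zpow, mul_inv_cancel_left, γ]
  have hcomm : ∀ x y : C, π x * π y = π y * π x := by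
    intro x y
    obtain ⟨i, e, he, hx⟩ := hform x
    obtain ⟨j, e', he', hy⟩ := hform y
    have hce := hcen2 e he
    have hce' := hcen2 e' he'
    have h1 : Commute (π x) (π y) := by
      rw [hx, hy]
      have a1 : Commute (π ⟨e, h.D_le e.2⟩) (π γ ^ j) := (show Commute _ _ from hce γ).zpow_right j
      have a2 : Commute (π ⟨e, h.D_le e.2⟩) (π ⟨e', h.D_le e'.2⟩) := hce _
      have a3 : Commute (π γ ^ i) (π ⟨e', h.D_le e'.2⟩) :=
        ((show Commute _ _ from hce' γ).symm).zpow_left i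
      have a4 : Commute (π γ ^ i) (π γ ^ j) := (Commute.refl _).zpow_zpow i j
      exact ((a4.mul_right a3).mul_left (a1.mul_right a2))
    exact h1
  have h1 : π (⟨c, hc⟩ * ⟨c', hc'⟩ * ⟨c, hc⟩⁻¹ * ⟨c', hc'⟩⁻¹) = 1 := by
    rw [map_mul, map_mul, map_mul, hcomm ⟨c, hc⟩ ⟨c', hc'⟩, map_inv, map_inv]
    group
  exact (hπ1 _).1 h1

/-- **The contradiction** -/
theorem false (h : Data z z' C M K D) [Finite G] {A0 : Type*} [Group A0] [IsCyclic A0] (σ : D →* A0)
    (hσ : ∀ d : D, σ d = 1 → ∃ m ∈ M, ∃ x ∈ K, (d : G) = m * x ∨ (d : G) = z' * m * x)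
    (hcl : ∀ y : G, IsConj z y → y ∈ C → y = z ∨ ∃ m ∈ M, ∃ c ∈ C, c * y * c⁻¹ = z' * m ∨
      c * y * c⁻¹ = z' * m * z)
    {k : G} (hkK : k ∈ K) (hkz : k * k = z) (hkz' : k * z' ≠ z' * k)
    (hcomm : ∀ y : G, IsConj z y → k * y = y * k → y = z)
    (hgen : ∀ (S : Subgroup G), S.Normal → (∀ x y : G, x * y * x⁻¹ * y⁻¹ ∈ S) → k * k ∈ S → k ∈ S) :
    False := by
  classical
  let N : Subgroup C := h.N0.subgroupOf C
  have hN : N.Normal := ⟨fun n hn g => by
    rw [mem_subgroupOf] at hn ⊢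
    exact h.N0_norm g.2 hn⟩
  have hcommQ : ∀ x y : C ⧸ N, x * y = y * x := by
    intro x y
    obtain ⟨x, rfl⟩ := QuotientGroup.mk'_surjective N x
    obtain ⟨y, rfl⟩ := QuotientGroup.mk'_surjective N y
    have h1 : QuotientGroup.mk' N (x * y * x⁻¹ * y⁻¹) = 1 := by
      rw [QuotientGroup.mk'_apply, QuotientGroup.eq_one_iff, mem_subgroupOf]
      exact h.comm_mem_N0 σ hσ x.2 y.2
    rw [map_mul, map_mul, map_mul, map_inv, map_inv] at h1
    have h2 := congrArg (fun t => t * QuotientGroup.mk' N y * QuotientGroup.mk' N x) h1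
    simpa only [QuotientGroup.mk'_apply, mul_assoc, inv_mul_cancel, mul_one, one_mul] using h2
  let _ : CommGroup (C ⧸ N) := { (inferInstance : Group (C ⧸ N)) with mul_comm := hcommQ }
  let LAM : C →* C ⧸ N := QuotientGroup.mk' N
  have hL1 : ∀ c : C, LAM c = 1 ↔ (c : G) ∈ h.N0 := by
    intro c
    change QuotientGroup.mk' N c = 1 ↔ _
    rw [QuotientGroup.mk'_apply, QuotientGroup.eq_one_iff, mem_subgroupOf]
  have hkC := h.K_le hkK
  have htr : LAM.transfer k = LAM ⟨k, hkC⟩ := by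
    refine transfer_sq z h.zz C h.memC LAM k hkC hkz hcomm ?_
    intro y hy
    rw [hL1]
    rcases hcl y hy y.2 with h1 | ⟨m, hm, c, hc, h1⟩
    · rw [h1]; exact h.z_mem_N0
    · have h2 : c * y * c⁻¹ ∈ h.N0 := by
        rcases h1 with h1 | h1
        · rw [h1]; exact mul_mem h.z'_mem_N0 (h.M_le_N0 hm)
        · rw [h1]; exact mul_mem (mul_mem h.z'_mem_N0 (h.M_le_N0 hm)) h.z_mem_N0
      have h3 := h.N0_norm (C.inv_mem hc) h2
      have h4 : c⁻¹ * (c * y * c⁻¹) * c⁻¹⁻¹ = (y : G) := by group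
      rwa [h4] at h3
  have hkN : k ∉ h.N0 := fun h1 => hkz' (mem_K0.1 (h.N0_inf_K hkK h1)).2
  have h1 : k ∈ (LAM.transfer).ker := by
    apply hgen _ inferInstance
    · intro x y
      rw [MonoidHom.mem_ker, map_mul, map_mul, map_mul, map_inv, map_inv, mul_comm (LAM.transfer x)]
      group
    · rw [MonoidHom.mem_ker, map_mul, htr, ← map_mul, hL1]
      change k * k ∈ h.N0
      rw [hkz]; exact h.z_mem_N0
  rw [MonoidHom.mem_ker, htr, hL1] at h1
  exact hkN h1

end Data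

end Cfsg.Agent.HKS.CentralTransfer
end

-- part: HKS/CentralZCoo
section
/-!
# Coordinates on the fixed points of a central involution of `W`, `q = 1 mod 4`

`Coo U a b z T` : the group `C_G(z)` acts on `Fix(z) = {a} ∪ {T s • b}` as a subgroup of `PΓL(2,F)`.
Under this hypothesis we determine the conjugates of `z` interchanging `a` and `b` (`|U a| = q³`,
`q = 1 mod 4`): they act as `s ↦ c / s`, `c` not a square, and over each `c` there are exactly two of
them, `y` and `y z`.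
-/

set_option autoImplicit false

namespace Cfsg.Agent.HKS.CentralZ

open Subgroup MulAction CentralN

section field

variable {F : Type*} [Field F] [Finite F]

theorem isSquare_mul_of_not {x y : F} (hx : ¬ IsSquare x) (hy : ¬ IsSquare y) : IsSquare (x * y) := by
  classical
  have := Fintype.ofFinite F
  have hx0 : x ≠ 0 := by rintro rfl; exact hx (IsSquare.zero)
  have hy0 : y ≠ 0 := by rintro rfl; exact hy (IsSquare.zero)
  by_cases h2 : ringChar F = 2
  · exact absurd (FiniteField.isSquare_of_char_two h2 x) hx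
  · have h1 := (quadraticChar_neg_one_iff_not_isSquare (F := F)).2 hx
    have h3 := (quadraticChar_neg_one_iff_not_isSquare (F := F)).2 hy
    rw [← quadraticChar_one_iff_isSquare (mul_ne_zero hx0 hy0), map_mul, h1, h3]
    norm_num

omit [Finite F] in
theorem not_isSquare_mul {x y : F} (hx : IsSquare x) (hx0 : x ≠ 0) (hy : ¬ IsSquare y) :
    ¬ IsSquare (x * y) := by
  intro h
  apply hy
  have := h.div hx
  rwa [mul_div_cancel_left₀ _ hx0] at this

theorem isSquare_div_of_not {x y : F} (hx : ¬ IsSquare x) (hy : ¬ IsSquare y) : IsSquare (x / y) := by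
  rw [div_eq_mul_inv]
  apply isSquare_mul_of_not hx
  intro h
  exact hy (by simpa only [inv_inv] using h.inv)

theorem exists_nonsq (h2 : (2 : F) ≠ 0) : ∃ ν : F, ¬ IsSquare ν := by
  have := Fintype.ofFinite F
  exact FiniteField.exists_nonsquare (F := F) (by
    intro h
    apply h2
    have : ((2 : ℕ) : F) = 0 := (ringChar.spec F 2).2 (by rw [h])
    exact_mod_cast this)

theorem card_nonsq_eq (h2 : (2 : F) ≠ 0) :
    Nat.card {c : F // ¬ IsSquare c} = Nat.card {c : F // IsSquare c ∧ c ≠ 0} := by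
  obtain ⟨ν, hν⟩ := exists_nonsq h2
  have hν0 : ν ≠ 0 := by rintro rfl; exact hν (IsSquare.zero)
  exact Nat.card_congr ⟨fun c => ⟨ν * c, isSquare_mul_of_not hν c.2, mul_ne_zero hν0 (by
        intro h; exact c.2 (by rw [h]; exact IsSquare.zero))⟩,
      fun c => ⟨ν⁻¹ * c, by
        rw [mul_comm]
        apply not_isSquare_mul c.2.1 c.2.2
        intro h
        exact hν (by simpa only [inv_inv] using h.inv)⟩,
      fun c => Subtype.ext (by simp [hν0]), fun c => Subtype.ext (by simp only [ne_eq, hν0, not_false_eq_true,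
          mul_inv_cancel_left₀])⟩

/-- The number of nonsquares. -/
theorem card_nonsq (h2 : (2 : F) ≠ 0) : 2 * Nat.card {c : F // ¬ IsSquare c} + 1 = Nat.card F := by
  classical
  have e2 : F ≃ {c : F // ¬ IsSquare c} ⊕ ({c : F // IsSquare c ∧ c ≠ 0} ⊕ Unit) :=
    ⟨fun c => if h : IsSquare c then (if h0 : c = 0 then Sum.inr (Sum.inr ()) else
        Sum.inr (Sum.inl ⟨c, h, h0⟩)) else Sum.inl ⟨c, h⟩,
      fun x => match x with
        | Sum.inl c => c
        | Sum.inr (Sum.inl c) => c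
        | Sum.inr (Sum.inr _) => 0, by
        intro c
        by_cases h : IsSquare c
        · by_cases h0 : c = 0
          · simp only [h0, IsSquare.zero, ↓reduceDIte, ne_eq]
          · simp only [h, ↓reduceDIte, h0, ne_eq]
        · simp only [h, ↓reduceDIte, ne_eq], by
        rintro (c | c | c)
        · simp only [ne_eq, c.2, ↓reduceDIte, Subtype.coe_eta]
        · simp only [ne_eq, c.2.1, ↓reduceDIte, c.2.2, Subtype.coe_eta]
        · simp only [ne_eq, IsSquare.zero, ↓reduceDIte]⟩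
  rw [Nat.card_congr e2, Nat.card_sum, Nat.card_sum, ← card_nonsq_eq h2]
  simp only [Nat.card_eq_fintype_card, Fintype.card_unique]
  ring

end field

section general

/-- A permutation of order 4 whose square has no fixed points: the number of points is divisible
by 4. -/
theorem four_dvd {X : Type*} [Finite X] (f : Equiv.Perm X) (h4 : f ^ 4 = 1)
    (h2 : ∀ x, f (f x) ≠ x) : 4 ∣ Nat.card X := by
  classical
  have := Fintype.ofFinite X
  rcases isEmpty_or_nonempty X with h | ⟨⟨x0⟩⟩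
  · rw [Nat.card_eq_zero.2 (Or.inl h)]; exact dvd_zero _
  have hord : orderOf f = 2 ^ (1 + 1) := by
    refine orderOf_eq_prime_pow ?_ h4
    intro h
    apply h2 x0
    have := Equiv.congr_fun h x0
    simpa only [pow_succ, pow_zero, one_mul, Equiv.Perm.coe_mul, Function.comp_apply, Equiv.Perm.coe_one, id_eq] using this
  have hcard : Nat.card (zpowers f) = 4 := by rw [Nat.card_zpowers, hord]; norm_num
  rw [← hcard, Nat.card_eq_fintype_card, Nat.card_eq_fintype_card,
    MulAction.card_eq_sum_card_group_div_card_stabilizer (zpowers f) X]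
  apply Finset.dvd_sum
  intro ω _
  have h1 : Fintype.card (stabilizer (zpowers f) ω.out) = 1 := by
    rw [Fintype.card_eq_one_iff]
    refine ⟨1, fun g => ?_⟩
    obtain ⟨⟨g, hg⟩, hgs⟩ := g
    apply Subtype.ext
    apply Subtype.ext
    change g = 1
    have hgs' : g (ω.out) = ω.out := hgs
    obtain ⟨n, hn, rfl⟩ : ∃ n < 4, f ^ n = g := by
      obtain ⟨n, hn⟩ := (mem_powers_iff_mem_zpowers.2 hg)
      refine ⟨n % 4, Nat.mod_lt _ (by norm_num), ?_⟩
      have h5 : f ^ n = g := hn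
      rw [← h5]
      conv_rhs => rw [← Nat.div_add_mod n 4, pow_add, pow_mul, h4, one_pow, one_mul]
    have h5 := h2 ω.out
    interval_cases n
    · exact pow_zero _
    · exfalso
      rw [pow_one] at hgs'
      apply h5
      rw [hgs', hgs']
    · exfalso
      apply h5
      simpa only [pow_succ, pow_zero, one_mul, Equiv.Perm.coe_mul, Function.comp_apply] using hgs'
    · exfalso
      have h6 : (f ^ 3) ((f ^ 3) ω.out) = ω.out := by rw [hgs', hgs']
      rw [← Equiv.Perm.mul_apply, ← pow_add] at h6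
      have h7 : f ^ (3 + 3) = f ^ 2 := by
        have : f ^ (3 + 3) = f ^ 4 * f ^ 2 := by rw [← pow_add]
        rw [this, h4, one_mul]
      rw [h7] at h6
      apply h5
      simpa only [pow_succ, pow_zero, one_mul, Equiv.Perm.coe_mul, Function.comp_apply] using h6
  rw [h1, Nat.div_one]

end general

/-! ### Coordinates -/

variable {G Ω : Type*} [Group G] [MulAction G Ω] {U : Ω → Subgroup G} {a b : Ω} {z : G}
  {F : Type*} [Field F]

/-- `g` acts as `s ↦ c * s`. -/
def Lin (T : F → G) (b : Ω) (c : F) (g : G) : Prop := ∀ s, g • T s • b = T (c * s) • b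

/-- `g` acts as `s ↦ c / s`. -/
def Inv (T : F → G) (b : Ω) (c : F) (g : G) : Prop := ∀ s, s ≠ 0 → g • T s • b = T (c * s⁻¹) • b

/-- Coordinates on the fixed points of `z`: the group `C_G(z)` acts as a subgroup of `PΓL(2,F)`, the
group `genFix U ⟨z⟩` as `PSL(2,F)`. -/
structure Coo (U : Ω → Subgroup G) (a b : Ω) (z : G) (T : F → G) : Prop where
  T_mem : ∀ s, T s ∈ U a
  T_comm : ∀ s, z * T s = T s * z
  T_surj : ∀ u ∈ U a, z * u = u * z → ∃ s, T s = u
  T_inj : Function.Injective T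
  T_add : ∀ s t, T (s + t) = T s * T t
  diag : ∀ d ∈ Dab G a b, ∃ (c : F) (σ : F ≃+* F), c ≠ 0 ∧ ∀ s, d • T s • b = T (c * σ s) • b
  anti : ∀ w : G, Swaps w a b → ∃ (c : F) (σ : F ≃+* F), c ≠ 0 ∧
    ∀ s, s ≠ 0 → w • T s • b = T (c * σ s⁻¹) • b
  tor : ∀ h ∈ Dab G a b ⊓ genFix U (zpowers z), ∃ r, r ≠ 0 ∧ Lin T b (r * r) h
  tor' : ∀ r, r ≠ 0 → ∃ h ∈ Dab G a b ⊓ genFix U (zpowers z), Lin T b (r * r) h
  weyl : ∃ w ∈ genFix U (zpowers z), Swaps w a b ∧ ∃ r, r ≠ 0 ∧ Inv T b (-(r * r)) w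

namespace Coo

variable {T : F → G}

theorem T_zero (X : Coo U a b z T) : T 0 = 1 := by
  have h := X.T_add 0 0
  rw [add_zero] at h
  exact mul_eq_left.mp h.symm

theorem T_neg (X : Coo U a b z T) (s : F) : T (-s) = (T s)⁻¹ := by
  apply eq_inv_of_mul_eq_one_left
  rw [← X.T_add, neg_add_cancel, X.T_zero]

/-- the points -/
theorem pt_inj (C : Cen U a b z) (X : Coo U a b z T) {s t : F} (h : T s • b = T t • b) : s = t :=
  X.T_inj (C.h.eq_of_smul_eq C.ab (X.T_mem s) (X.T_mem t) h)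

theorem fix_pt (C : Cen U a b z) (X : Coo U a b z T) (s : F) : z • T s • b = T s • b := by
  rw [← mul_smul, X.T_comm, mul_smul, show z • b = b from C.zD.2]

theorem pt_ne (C : Cen U a b z) (X : Coo U a b z T) (s : F) : T s • b ≠ a :=
  C.h.smul_ne_center C.ab (X.T_mem s)

theorem exists_pt (C : Cen U a b z) (X : Coo U a b z T) {c : Ω} (hc : z • c = c) (hca : c ≠ a) :
    ∃ s, T s • b = c := by
  obtain ⟨u, hu, hub⟩ := C.h.trans C.ab hca
  have h1 : z * u = u * z := by
    apply mem_cen.1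
    refine C.h.comm_of_fixSub (fun x hx => (C.X_le hx).1) (fun x hx => (C.X_le hx).2) C.ab hu ?_
    rw [hub]
    exact mem_fix.2 hc
  obtain ⟨s, rfl⟩ := X.T_surj u hu h1
  exact ⟨s, hub⟩

theorem pt_zero (X : Coo U a b z T) : T 0 • b = b := by rw [X.T_zero, one_smul]

/-- `K` -/
theorem mem_K (C : Cen U a b z) (X : Coo U a b z T) {g : G} (hg : g • a = a)
    (h : ∀ s, g • T s • b = T s • b) : g ∈ kerFix Ω (zpowers z) := by
  rw [mem_kerFix]
  intro c hc
  by_cases hca : c = a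
  · rw [hca, hg]
  · obtain ⟨s, rfl⟩ := X.exists_pt C (mem_fix.1 hc) hca
    exact h s

theorem K_act (C : Cen U a b z) (X : Coo U a b z T) {g : G} (hg : g ∈ kerFix Ω (zpowers z)) (s : F) :
    g • T s • b = T s • b := by
  rw [mem_kerFix] at hg
  exact hg _ (mem_fix.2 (X.fix_pt C s))

theorem lin_of_K (C : Cen U a b z) (X : Coo U a b z T) {g : G}
    (hg : g ∈ kerFix Ω (zpowers z)) : Lin T b 1 g := by
  intro s
  rw [X.K_act C hg, one_mul]

theorem mem_K_of_lin (C : Cen U a b z) (X : Coo U a b z T) {g : G} (hg : g • a = a)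
    (h : Lin T b 1 g) : g ∈ kerFix Ω (zpowers z) :=
  X.mem_K C hg fun s => by rw [h s, one_mul]

theorem lin_mul {T : F → G} {b : Ω} {c c' : F} {g g' : G} (h : Lin T b c g) (h' : Lin T b c' g') :
    Lin T b (c * c') (g * g') := by
  intro s
  rw [mul_smul, h', h, mul_assoc]

theorem lin_inv {T : F → G} {b : Ω} {c : F} {g : G} (hc : c ≠ 0) (h : Lin T b c g) :
    Lin T b c⁻¹ g⁻¹ := by
  intro s
  rw [inv_smul_eq_iff, h, ← mul_assoc, mul_inv_cancel₀ hc, one_mul]

theorem inv_mul (X : Coo U a b z T) {c c' : F} {g g' : G} (hc' : c' ≠ 0)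
    (hg : Swaps g a b) (hg' : Swaps g' a b) (h : Inv T b c g) (h' : Inv T b c' g') :
    Lin T b (c * c'⁻¹) (g * g') := by
  intro s
  by_cases hs : s = 0
  · rw [hs, mul_zero, X.pt_zero, mul_smul, hg'.2, hg.1]
  · rw [mul_smul, h' s hs, h _ (mul_ne_zero hc' (inv_ne_zero hs))]
    congr 2
    rw [mul_inv, inv_inv, mul_assoc]

theorem lin_mul_inv {T : F → G} {b : Ω} {c c' : F} {g g' : G} (h : Lin T b c g)
    (h' : Inv T b c' g') : Inv T b (c * c') (g * g') := by
  intro s hs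
  rw [mul_smul, h' s hs, h, mul_assoc]

theorem inv_mul_lin {T : F → G} {b : Ω} {c c' : F} {g g' : G} (hc' : c' ≠ 0) (h : Inv T b c g)
    (h' : Lin T b c' g') : Inv T b (c * c'⁻¹) (g * g') := by
  intro s hs
  rw [mul_smul, h' s, h _ (mul_ne_zero hc' hs)]
  congr 2
  rw [mul_inv, mul_assoc]

/-- conjugation of `s ↦ c/s` by `s ↦ r s` -/
theorem inv_conj {T : F → G} {b : Ω} {c r : F} {g y : G} (hr : r ≠ 0) (h : Lin T b r g)
    (h' : Inv T b c y) : Inv T b (r * r * c) (g * y * g⁻¹) := by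
  have h1 := inv_mul_lin (inv_ne_zero hr) (lin_mul_inv h h') (lin_inv hr h)
  rw [inv_inv] at h1
  have : r * r * c = r * c * r := by ring
  rw [this]
  exact h1

theorem inv_unique (C : Cen U a b z) (X : Coo U a b z T) {c c' : F} {g : G} (h : Inv T b c g)
    (h' : Inv T b c' g) : c = c' := by
  have h1 := h 1 one_ne_zero
  rw [h' 1 one_ne_zero, inv_one, mul_one, mul_one] at h1
  exact (X.pt_inj C h1).symm

theorem lin_unique (C : Cen U a b z) (X : Coo U a b z T) {c c' : F} {g : G} (h : Lin T b c g)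
    (h' : Lin T b c' g) : c = c' := by
  have h1 := h 1
  rw [h' 1, mul_one, mul_one] at h1
  exact (X.pt_inj C h1).symm

/-- an involution interchanging `a` and `b`, without fixed points on `Fix z`. -/
theorem inv_of_fpf [Finite F] (h2 : (2 : F) ≠ 0) (C : Cen U a b z) (X : Coo U a b z T) {y : G}
    (hy : Swaps y a b) (hyy : y * y = 1) (hfpf : ∀ c : Ω, z • c = c → y • c ≠ c) :
    ∃ c : F, ¬ IsSquare c ∧ Inv T b c y := by
  obtain ⟨c, σ, hc, hσ⟩ := X.anti y hy
  -- `y² = 1`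
  have h1 : ∀ s, s ≠ 0 → c * (σ c)⁻¹ * σ (σ s) = s := by
    intro s hs
    have h3 : y • y • T s • b = T s • b := by rw [← mul_smul, hyy, one_smul]
    have hne : c * σ s⁻¹ ≠ 0 := by
      apply mul_ne_zero hc
      rw [map_ne_zero_iff _ σ.injective]
      exact inv_ne_zero hs
    rw [hσ s hs, hσ _ hne] at h3
    have h4 := X.pt_inj C h3
    simp only [mul_inv, map_mul, map_inv₀, inv_inv] at h4
    rw [mul_assoc]
    exact h4
  have hcc : σ c = c := by
    have h3 := h1 1 one_ne_zero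
    rw [map_one, map_one, mul_one] at h3
    have hσc : σ c ≠ 0 := by rw [map_ne_zero_iff _ σ.injective]; exact hc
    rw [mul_inv_eq_one₀ hσc] at h3
    exact h3.symm
  have hσσ : ∀ s, σ (σ s) = s := by
    intro s
    by_cases hs : s = 0
    · rw [hs, map_zero, map_zero]
    · have h3 := h1 s hs
      rw [hcc, mul_inv_cancel₀ hc, one_mul] at h3
      exact h3
  -- `σ = 1`
  have hid : ∀ s, σ s = s := by
    by_contra hne
    push Not at hne
    obtain ⟨x, hx⟩ := hne
    obtain ⟨l, hl⟩ := Lib.PSL2Outer.exists_norm h2 σ hσσ (δ := x - σ x)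
      (sub_ne_zero.2 (Ne.symm hx)) (by rw [map_sub, hσσ]; ring) hcc
    have hl0 : l ≠ 0 := by
      rintro rfl
      rw [zero_mul] at hl
      exact hc hl.symm
    apply hfpf _ (X.fix_pt C l)
    rw [hσ l hl0, ← hl, map_inv₀]
    congr 2
    have : σ l ≠ 0 := by rw [map_ne_zero_iff _ σ.injective]; exact hl0
    field_simp
  refine ⟨c, ?_, fun s hs => by rw [hσ s hs, hid]⟩
  rintro ⟨x, hx⟩
  have hx0 : x ≠ 0 := by
    rintro rfl
    rw [zero_mul] at hx
    exact hc hx
  apply hfpf _ (X.fix_pt C x)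
  rw [hσ x hx0, hid, hx]
  congr 2
  field_simp

end Coo

end Cfsg.Agent.HKS.CentralZ
end

-- part: HKS/CentralZFib
section
/-!
# The conjugates of `z` interchanging `a` and `b`

`|F| = q = 1 mod 4`, `|z^G ∩ Dw| = q - 1`, `z` the only involution of `kerFix Ω ⟨z⟩`. Then over each
nonsquare `c` there are exactly two conjugates `y`, `y z` of `z` acting as `s ↦ c / s`.
-/

set_option autoImplicit false

namespace Cfsg.Agent.HKS.CentralZ

open Subgroup MulAction CentralN

variable {G Ω : Type*} [Group G] [MulAction G Ω] {U : Ω → Subgroup G} {a b : Ω} {z : G}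
  {F : Type*} [Field F] {T : F → G}

/-- The hypotheses. -/
structure Fib (U : Ω → Subgroup G) (a b : Ω) (z : G) (T : F → G) : Prop where
  C : Cen U a b z
  X : Coo U a b z T
  odd : Odd (Nat.card (U a))
  four : Nat.card F % 4 = 1
  cardJ : Nat.card {m : G // IsConj z m ∧ Swaps m a b} = Nat.card F - 1
  kinv : ∀ x ∈ kerFix Ω (zpowers z), x * x = 1 → x = 1 ∨ x = z

namespace Fib

theorem two_ne [Finite F] (H : Fib U a b z T) : (2 : F) ≠ 0 := by
  intro h
  have := Fintype.ofFinite F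
  have hch : CharP F 2 := CharTwo.of_one_ne_zero_of_two_eq_zero one_ne_zero h
  have h3 := FiniteField.even_card_of_char_two (F := F) (ringChar.eq F 2 ▸ rfl : ringChar F = 2)
  have h4 := H.four
  rw [Nat.card_eq_fintype_card] at h4
  omega

theorem neg_one_sq [Finite F] (H : Fib U a b z T) : IsSquare (-1 : F) := by
  have := Fintype.ofFinite F
  rw [FiniteField.isSquare_neg_one_iff]
  have h4 := H.four
  rw [Nat.card_eq_fintype_card] at h4
  (clear * - h4; omega)

theorem exists_inv [Finite F] [Finite Ω] (H : Fib U a b z T) {y : G} (hy : IsConj z y)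
    (hs : Swaps y a b) : ∃ c : F, ¬ IsSquare c ∧ Inv T b c y :=
  H.X.inv_of_fpf H.two_ne H.C hs (H.C.sq_of hy) fun _ hc => H.C.fpf H.odd hy hs hc

theorem mem_C (H : Fib U a b z T) {g : G} (hg : g ∈ Wab G a b) : g * z = z * g :=
  (H.C.cW g hg).symm

theorem mem_cenW (H : Fib U a b z T) {g : G} (hg : g ∈ Wab G a b) :
    g ∈ centralizer (zpowers z : Set G) := mem_cen.2 (H.C.cW g hg)

/-- conjugation of `genFix` by elements of `C_G(z)` -/
theorem conj_M (H : Fib U a b z T) {g m : G} (hg : g ∈ centralizer (zpowers z : Set G))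
    (hm : m ∈ genFix U (zpowers z)) : g * m * g⁻¹ ∈ genFix U (zpowers z) := by
  apply PP1.conj_genFix H.C.h _ hm
  intro x hx
  have h1 : x * g = g * x := mem_centralizer_iff.1 hg x hx
  have h2 : g⁻¹ * x * g = x := by
    rw [mul_assoc, h1]; group
  rwa [h2]

theorem conj_M' (H : Fib U a b z T) {g m : G} (hg : g ∈ centralizer (zpowers z : Set G))
    (hm : m ∈ genFix U (zpowers z)) : g⁻¹ * m * g ∈ genFix U (zpowers z) := by
  have := H.conj_M ((centralizer (zpowers z : Set G)).inv_mem hg) hm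
  rwa [inv_inv] at this

/-- For every `r ≠ 0` there is an element of `D` acting as `s ↦ r s` and conjugating `z'` into
`z' M`. -/
theorem exists_lin [Finite F] (H : Fib U a b z T) {z' : G} (hs : Swaps z' a b)
    {ν : F} (hν : ¬ IsSquare ν) (hinv : Inv T b ν z') {r : F} (hr : r ≠ 0) :
    ∃ g ∈ Dab G a b, Lin T b r g ∧ ∃ m ∈ genFix U (zpowers z), g * z' * g⁻¹ = z' * m := by
  have hν0 : ν ≠ 0 := by rintro rfl; exact hν (IsSquare.zero)
  have hz'C := H.mem_cenW hs.mem_W
  have hMC : genFix U (zpowers z) ≤ centralizer (zpowers z : Set G) := PP1.genFix_le_centralizer _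
  -- elements of `M`
  have hM : ∀ g ∈ genFix U (zpowers z), ∃ m ∈ genFix U (zpowers z), g * z' * g⁻¹ = z' * m := by
    intro g hg
    refine ⟨z'⁻¹ * g * z' * g⁻¹, mul_mem (H.conj_M' hz'C hg) (inv_mem hg), by group⟩
  have hmul : ∀ g g' : G, g ∈ centralizer (zpowers z : Set G) →
      (∃ m ∈ genFix U (zpowers z), g * z' * g⁻¹ = z' * m) →
      (∃ m ∈ genFix U (zpowers z), g' * z' * g'⁻¹ = z' * m) →
      ∃ m ∈ genFix U (zpowers z), (g * g') * z' * (g * g')⁻¹ = z' * m := by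
    rintro g g' hg ⟨m, hm, h1⟩ ⟨m', hm', h2⟩
    refine ⟨m * (g * m' * g⁻¹), mul_mem hm (H.conj_M hg hm'), ?_⟩
    calc g * g' * z' * (g * g')⁻¹ = g * (g' * z' * g'⁻¹) * g⁻¹ := by group
      _ = (g * z' * g⁻¹) * (g * m' * g⁻¹) := by rw [h2]; group
      _ = _ := by rw [h1]; group
  by_cases hrs : IsSquare r
  · obtain ⟨t, ht⟩ := hrs
    have ht0 : t ≠ 0 := by rintro rfl; rw [zero_mul] at ht; exact hr ht
    obtain ⟨h, hh, hl⟩ := H.X.tor' t ht0
    exact ⟨h, hh.1, by rw [ht]; exact hl, hM h hh.2⟩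
  · obtain ⟨w, hw, hws, r0, hr0, hwi⟩ := H.X.weyl
    -- `r = t² ν / (-r0²)`
    have hsq : IsSquare (r * (ν * (-(r0 * r0))⁻¹)⁻¹) := by
      have e : r * (ν * (-(r0 * r0))⁻¹)⁻¹ = (r / ν) * ((-1) * (r0 * r0)) := by
        field_simp
      rw [e]
      refine (isSquare_div_of_not hrs hν).mul (H.neg_one_sq.mul ⟨r0, rfl⟩)
    obtain ⟨t, ht⟩ := hsq
    have hne : ν * (-(r0 * r0))⁻¹ ≠ 0 :=
      mul_ne_zero hν0 (inv_ne_zero (neg_ne_zero.2 (mul_ne_zero hr0 hr0)))
    have ht0 : t ≠ 0 := by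
      rintro rfl
      rw [zero_mul] at ht
      exact (mul_ne_zero hr (inv_ne_zero hne)) ht
    obtain ⟨h, hh, hl⟩ := H.X.tor' t ht0
    have h1 := H.X.inv_mul (neg_ne_zero.2 (mul_ne_zero hr0 hr0)) hs hws hinv hwi
    have h2 := Coo.lin_mul hl h1
    have h3 : z' * w ∈ Dab G a b := hs.mul hws
    refine ⟨h * (z' * w), mul_mem hh.1 h3, ?_, ?_⟩
    · rw [← ht, mul_assoc, inv_mul_cancel₀ hne, mul_one] at h2
      exact h2
    · apply hmul h (z' * w) (hMC hh.2) (hM h hh.2)
      apply hmul z' w hz'C _ (hM w hw)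
      exact ⟨1, one_mem _, by group⟩

variable [Finite F] [Finite Ω] [Finite G]

theorem fib_card (H : Fib U a b z T) {z' : G} (hs : Swaps z' a b)
    {ν : F} (hν : ¬ IsSquare ν) (hinv : Inv T b ν z') :
    Nat.card {y : G // (IsConj z y ∧ Swaps y a b) ∧ Inv T b ν y} = 2 := by
  classical
  have := Fintype.ofFinite F
  have hν0 : ν ≠ 0 := by rintro rfl; exact hν (IsSquare.zero)
  -- the map to the nonsquares
  choose f hf hf' using fun y : {y : G // IsConj z y ∧ Swaps y a b} => H.exists_inv y.2.1 y.2.2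
  let φ : {y : G // IsConj z y ∧ Swaps y a b} → {c : F // ¬ IsSquare c} := fun y => ⟨f y, hf y⟩
  have hfib : ∀ c : {c : F // ¬ IsSquare c}, Nat.card {y // φ y = c} =
      Nat.card {y : G // (IsConj z y ∧ Swaps y a b) ∧ Inv T b ν y} := by
    intro c
    have hc0 : (c : F) ≠ 0 := by intro h; exact c.2 (by rw [h]; exact IsSquare.zero)
    -- `c = r² ν`
    obtain ⟨r, hr⟩ := isSquare_div_of_not c.2 hν
    have hr0 : r ≠ 0 := by
      rintro rfl
      rw [zero_mul] at hr
      exact (div_ne_zero hc0 hν0) hr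
    have hrc : r * r * ν = c := by rw [← hr, div_mul_cancel₀ _ hν0]
    obtain ⟨g, hg, hl, -⟩ := H.exists_lin hs hν hinv hr0
    have hsw : ∀ y : G, Swaps y a b → Swaps (g * y * g⁻¹) a b := by
      intro y hy
      have := hy.conj g
      rwa [show g • a = a from hg.1, show g • b = b from hg.2] at this
    have hg' : g⁻¹ ∈ Dab G a b := inv_mem hg
    have hsw' : ∀ y : G, Swaps y a b → Swaps (g⁻¹ * y * g) a b := by
      intro y hy
      have := hy.conj g⁻¹
      rwa [show g⁻¹ • a = a from hg'.1, show g⁻¹ • b = b from hg'.2, inv_inv] at this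
    refine Nat.card_congr ⟨fun y => ⟨g⁻¹ * y.1.1 * g, ?_⟩, fun y => ⟨⟨g * y.1 * g⁻¹, ?_⟩, ?_⟩, ?_, ?_⟩
    · refine ⟨⟨y.1.2.1.trans (isConj_iff.2 ⟨g⁻¹, by group⟩), hsw' _ y.1.2.2⟩, ?_⟩
      have h1 : Inv T b c y.1.1 := by
        have h2 := hf' y.1
        have h3 : f y.1 = c := congrArg Subtype.val y.2
        rwa [h3] at h2
      have h2 := Coo.inv_conj (inv_ne_zero hr0) (Coo.lin_inv hr0 hl) h1
      rw [inv_inv] at h2
      have h3 : r⁻¹ * r⁻¹ * (c : F) = ν := by rw [← hrc]; field_simp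
      rwa [h3] at h2
    · exact ⟨y.2.1.1.trans (isConj_iff.2 ⟨g, rfl⟩), hsw _ y.2.1.2⟩
    · apply Subtype.ext
      have h2 := Coo.inv_conj hr0 hl y.2.2
      rw [hrc] at h2
      exact H.X.inv_unique H.C (hf' _) h2
    · intro y
      apply Subtype.ext
      apply Subtype.ext
      change g * (g⁻¹ * y.1.1 * g) * g⁻¹ = y.1.1
      group
    · intro y
      apply Subtype.ext
      change g⁻¹ * (g * y.1 * g⁻¹) * g = y.1
      group
  have h1 : Nat.card {m : G // IsConj z m ∧ Swaps m a b} =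
      Nat.card {c : F // ¬ IsSquare c} *
        Nat.card {y : G // (IsConj z y ∧ Swaps y a b) ∧ Inv T b ν y} := by
    rw [← Nat.card_congr (Equiv.sigmaFiberEquiv φ), Nat.card_sigma]
    rw [Finset.sum_congr rfl (fun c _ => hfib c), Finset.sum_const, Finset.card_univ, smul_eq_mul,
      ← Nat.card_eq_fintype_card]
  have h2 := card_nonsq H.two_ne
  rw [H.cardJ] at h1
  have h3 : 0 < Nat.card {c : F // ¬ IsSquare c} := by
    have : Nonempty {c : F // ¬ IsSquare c} := ⟨⟨ν, hν⟩⟩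
    exact Nat.card_pos
  have h4 : Nat.card {c : F // ¬ IsSquare c} * Nat.card {y : G // (IsConj z y ∧ Swaps y a b) ∧
      Inv T b ν y} = Nat.card {c : F // ¬ IsSquare c} * 2 := by omega
  exact Nat.eq_of_mul_eq_mul_left h3 h4

omit [Finite F] [Finite Ω] [Finite G] in
theorem K_le_D (H : Fib U a b z T) {x : G} (hx : x ∈ kerFix Ω (zpowers z)) : x ∈ Dab G a b := by
  rw [mem_kerFix] at hx
  exact ⟨hx a (mem_fix.2 H.C.zD.1), hx b (mem_fix.2 H.C.zD.2)⟩

/-- **Over each nonsquare there are exactly two conjugates of `z`.** -/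
theorem fib (H : Fib U a b z T) {y : G} (hy : IsConj z y) (hs : Swaps y a b) :
    (IsConj z (y * z)) ∧ ∀ x ∈ kerFix Ω (zpowers z), IsConj z (y * x) → x = 1 ∨ x = z := by
  classical
  obtain ⟨ν, hν, hinv⟩ := H.exists_inv hy hs
  have hν0 : ν ≠ 0 := by rintro rfl; exact hν (IsSquare.zero)
  have hcard := H.fib_card hs hν hinv
  have hyy := H.C.sq_of hy
  obtain ⟨⟨y2, ⟨hy2, hs2⟩, hinv2⟩, hne, huniq⟩ :=
    (Nat.card_eq_two_iff' (⟨y, ⟨hy, hs⟩, hinv⟩ :
      {y : G // (IsConj z y ∧ Swaps y a b) ∧ Inv T b ν y})).1 hcard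
  have hall : ∀ y' : G, IsConj z y' → Swaps y' a b → Inv T b ν y' → y' = y ∨ y' = y2 := by
    intro y' h1 h2 h3
    by_cases h4 : y' = y
    · exact Or.inl h4
    · right
      have := huniq ⟨y', ⟨h1, h2⟩, h3⟩ (fun h => h4 (congrArg Subtype.val h))
      exact congrArg Subtype.val this
  have hne' : y2 ≠ y := fun h => hne (Subtype.ext h)
  -- `κ = y y2`
  have hκK : y * y2 ∈ kerFix Ω (zpowers z) := by
    apply H.X.mem_K_of_lin H.C
    · rw [mul_smul, hs2.1, hs.2]
    · have := H.X.inv_mul hν0 hs hs2 hinv hinv2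
      rwa [mul_inv_cancel₀ hν0] at this
  set κ := y * y2 with hκ
  have hy2κ : y2 = y * κ := by rw [hκ, ← mul_assoc, hyy, one_mul]
  have hκD := H.K_le_D hκK
  have hy22 := H.C.sq_of hy2
  have hyinv : y⁻¹ = y := inv_eq_of_mul_eq_one_right hyy
  have h1 : κ * y * κ = y := by
    have h2 : y * (κ * y * κ) = 1 := by
      calc y * (κ * y * κ) = (y * κ) * (y * κ) := by group
        _ = 1 := by rw [← hy2κ, hy22]
    calc κ * y * κ = y⁻¹ * (y * (κ * y * κ)) := by group
      _ = y := by rw [h2, mul_one, hyinv]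
  have h2 : κ⁻¹ * y * κ = y * (κ * κ) := by
    calc κ⁻¹ * y * κ = κ⁻¹ * (κ * y * κ) * κ := by rw [h1]
      _ = _ := by group
  have h3 : y * (κ * κ) = y ∨ y * (κ * κ) = y2 := by
    apply hall
    · rw [← h2]; exact hy.trans (isConj_iff.2 ⟨κ⁻¹, by group⟩)
    · exact hs.mul_D (mul_mem hκD hκD)
    · have h4 := Coo.inv_mul_lin (T := T) (b := b) one_ne_zero hinv
        (H.X.lin_of_K H.C (mul_mem hκK hκK))
      rwa [inv_one, mul_one] at h4
  have hκ1 : κ ≠ 1 := by
    intro h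
    apply hne'
    rw [hy2κ, h, mul_one]
  have hκz : κ = z := by
    have h4 : κ * κ = 1 := by
      rcases h3 with h3 | h3
      · exact mul_eq_left.mp h3
      · rw [hy2κ] at h3
        have := mul_left_cancel h3
        exact absurd (mul_eq_left.mp this) hκ1
    rcases H.kinv κ hκK h4 with h5 | h5
    · exact absurd h5 hκ1
    · exact h5
  rw [hκz] at hy2κ
  refine ⟨by rw [← hy2κ]; exact hy2, ?_⟩
  intro x hx hyx
  have h4 : y * x = y ∨ y * x = y2 := by
    apply hall _ hyx (hs.mul_D (H.K_le_D hx))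
    have h5 := Coo.inv_mul_lin (T := T) (b := b) one_ne_zero hinv (H.X.lin_of_K H.C hx)
    rwa [inv_one, mul_one] at h5
  rcases h4 with h4 | h4
  · exact Or.inl (mul_eq_left.mp h4)
  · rw [hy2κ] at h4
    exact Or.inr (mul_left_cancel h4)

/-- `[y, K] ≤ ⟨z⟩` -/
theorem comm_K (H : Fib U a b z T) {y : G} (hy : IsConj z y) (hs : Swaps y a b) {x : G}
    (hx : x ∈ kerFix Ω (zpowers z)) : y * x = x * y ∨ y * x = x * y * z := by
  have hxD := H.K_le_D hx
  have hyC := H.mem_cenW hs.mem_W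
  have hyinv : y⁻¹ = y := inv_eq_of_mul_eq_one_right (H.C.sq_of hy)
  -- `y⁻¹ x⁻¹ y x ∈ K`
  have h1 : y⁻¹ * x * y ∈ kerFix Ω (zpowers z) := by
    rw [mem_kerFix]
    intro c hc
    have h2 : ∀ x ∈ zpowers z, x • y • c = y • c := by
      intro x hx
      rw [← mul_smul, mem_centralizer_iff.1 hyC x hx, mul_smul, hc x hx]
    rw [mul_smul, mul_smul, inv_smul_eq_iff]
    exact mem_kerFix.1 hx _ h2
  have h2 : (y⁻¹ * x * y)⁻¹ * x ∈ kerFix Ω (zpowers z) := mul_mem (inv_mem h1) hx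
  have h3 : y * ((y⁻¹ * x * y)⁻¹ * x) = x⁻¹ * y * x := by
    calc y * ((y⁻¹ * x * y)⁻¹ * x) = y * y⁻¹ * x⁻¹ * y * x := by group
      _ = _ := by group
  have h4 : IsConj z (y * ((y⁻¹ * x * y)⁻¹ * x)) := by
    rw [h3]; exact hy.trans (isConj_iff.2 ⟨x⁻¹, by group⟩)
  rcases (H.fib hy hs).2 _ h2 h4 with h5 | h5
  · left
    rw [h5, mul_one] at h3
    calc y * x = x * (x⁻¹ * y * x) := by group
      _ = x * y := by rw [← h3]
  · right
    rw [h5] at h3
    calc y * x = x * (x⁻¹ * y * x) := by group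
      _ = x * y * z := by rw [← h3]; group

/-- Two conjugates of `z` interchanging `a` and `b`: `y ∈ z' M ∪ z' M z`. -/
theorem mem_coset (H : Fib U a b z T) {z' y : G} (hz' : IsConj z z') (hs' : Swaps z' a b)
    (hy : IsConj z y) (hs : Swaps y a b) :
    ∃ m ∈ genFix U (zpowers z), y = z' * m ∨ y = z' * m * z := by
  obtain ⟨ν, hν, hinv⟩ := H.exists_inv hz' hs'
  obtain ⟨c, hc, hinvc⟩ := H.exists_inv hy hs
  have hν0 : ν ≠ 0 := by rintro rfl; exact hν (IsSquare.zero)
  have hc0 : c ≠ 0 := by rintro rfl; exact hc (IsSquare.zero)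
  obtain ⟨r, hr⟩ := isSquare_div_of_not hc hν
  have hr0 : r ≠ 0 := by
    rintro rfl
    rw [zero_mul] at hr
    exact (div_ne_zero hc0 hν0) hr
  obtain ⟨g, hg, hl, m, hm, hgm⟩ := H.exists_lin hs' hν hinv hr0
  have h1 := Coo.inv_conj hr0 hl hinv
  rw [← hr, div_mul_cancel₀ _ hν0] at h1
  set y' := g * z' * g⁻¹ with hy'
  have hy'c : IsConj z y' := hz'.trans (isConj_iff.2 ⟨g, rfl⟩)
  have hy's : Swaps y' a b := by
    have := hs'.conj g
    rwa [show g • a = a from hg.1, show g • b = b from hg.2] at this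
  have hy'y' := H.C.sq_of hy'c
  have h2 : y' * y ∈ kerFix Ω (zpowers z) := by
    apply H.X.mem_K_of_lin H.C
    · rw [mul_smul, hs.1, hy's.2]
    · have := H.X.inv_mul hc0 hy's hs h1 hinvc
      rwa [mul_inv_cancel₀ hc0] at this
  have h3 : y = y' * (y' * y) := by rw [← mul_assoc, hy'y', one_mul]
  have h4 : IsConj z (y' * (y' * y)) := by rw [← h3]; exact hy
  refine ⟨m, hm, ?_⟩
  rcases (H.fib hy'c hy's).2 _ h2 h4 with h5 | h5
  · left
    rw [h3, h5, mul_one, hgm]
  · right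
    rw [h3, h5, hgm]

end Fib

end Cfsg.Agent.HKS.CentralZ
end

-- part: HKS/CentralZData
section
/-!
# Case `q = 1 mod 4`, `z` central in `W`: the contradiction from an element `k` with `k² = z`
-/

set_option autoImplicit false

namespace Cfsg.Agent.HKS.CentralZ

open Subgroup MulAction CentralN

theorem isCyclic_ringAut (F : Type*) [Field F] [Finite F] : IsCyclic (F ≃+* F) := by
  obtain ⟨p, hp⟩ := CharP.exists F
  have hpp : Fact p.Prime := ⟨CharP.char_is_prime F p⟩
  let _ : Algebra (ZMod p) F := ZMod.algebra F p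
  let φ : (F ≃ₐ[ZMod p] F) →* (F ≃+* F) :=
    { toFun := fun σ => σ.toRingEquiv
      map_one' := rfl
      map_mul' := fun _ _ => rfl }
  have hφ : Function.Surjective φ := by
    intro σ
    refine ⟨AlgEquiv.ofRingEquiv (f := σ) ?_, ?_⟩
    · intro x
      have : (σ : F →+* F).comp (algebraMap (ZMod p) F) = algebraMap (ZMod p) F :=
        Subsingleton.elim _ _
      exact RingHom.congr_fun this x
    · ext x
      rfl
  exact isCyclic_of_surjective φ hφ

section

variable {G Ω : Type*} [Group G] [MulAction G Ω] {U : Ω → Subgroup G} {a b : Ω} {z : G}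

/-- `genFix U ⟨z⟩` is 2-transitive on the fixed points of `z`. -/
theorem two_M [Finite Ω] (C : Cen U a b z) {c d : Ω} (hcd : d ≠ c) (hc : z • c = c)
    (hd : z • d = d) : ∃ g ∈ genFix U (zpowers z), g • a = c ∧ g • b = d := by
  have h1 := (C.h.fixed (zpowers z) (SSplit.three_of_card (by
    rw [C.card_fixSub]
    have := C.one_lt
    omega))).gen
  obtain ⟨g, hg1, hg2⟩ := h1.two (a := ⟨a, mem_fix.2 C.zD.1⟩) (b := ⟨b, mem_fix.2 C.zD.2⟩)
    (c := ⟨c, mem_fix.2 hc⟩) (d := ⟨d, mem_fix.2 hd⟩)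
    (fun e => C.ab (congrArg Subtype.val e).symm) (fun e => hcd (congrArg Subtype.val e).symm)
  refine ⟨embFix U (zpowers z) g, ?_, congrArg Subtype.val hg1, congrArg Subtype.val hg2⟩
  rw [← map_iSup_famFix]
  exact ⟨(g : centralizer (zpowers z : Set G)), g.2, rfl⟩

/-- In a group generated by groups of order `n` odd: a normal subgroup with commutative quotient
containing `k²` contains `k`. -/
theorem odd_gen [Finite Ω] (h : SSplit U) (hgen : (⨆ c, U c) = ⊤) (hodd : Odd (Nat.card (U a)))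
    (S : Subgroup G) (hS : S.Normal) (hcomm : ∀ x y : G, x * y * x⁻¹ * y⁻¹ ∈ S) {k : G}
    (hk : k * k ∈ S) : k ∈ S := by
  set n := Nat.card (U a) with hn
  have hcard : ∀ c, Nat.card (U c) = n := by
    intro c
    have h1 := h.card a
    have h2 := h.card c
    omega
  let π : G →* G ⧸ S := QuotientGroup.mk' S
  have hπ : ∀ g : G, π g = 1 ↔ g ∈ S := by
    intro g
    rw [QuotientGroup.mk'_apply, QuotientGroup.eq_one_iff]
  have hc : ∀ x y : G, Commute (π x) (π y) := by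
    intro x y
    have h1 : π (x * y * x⁻¹ * y⁻¹) = 1 := (hπ _).2 (hcomm x y)
    rw [map_mul, map_mul, map_mul, map_inv, map_inv] at h1
    have h2 := congrArg (fun t => t * π y * π x) h1
    change π x * π y = π y * π x
    simpa only [mul_assoc, inv_mul_cancel, mul_one, one_mul] using h2
  let A : Subgroup G :=
    { carrier := {g | π g ^ n = 1}
      mul_mem' := by
        intro x y hx hy
        change π (x * y) ^ n = 1
        rw [map_mul, (hc x y).mul_pow, show π x ^ n = 1 from hx, show π y ^ n = 1 from hy, mul_one]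
      one_mem' := by
        change π 1 ^ n = 1
        rw [map_one, one_pow]
      inv_mem' := by
        intro x hx
        change π x⁻¹ ^ n = 1
        rw [map_inv, inv_pow, show π x ^ n = 1 from hx, inv_one] }
  have hA : (⨆ c, U c) ≤ A := by
    rw [iSup_le_iff]
    intro c x hx
    change π x ^ n = 1
    have h1 : (⟨x, hx⟩ : U c) ^ Nat.card (U c) = 1 := pow_card_eq_one'
    rw [hcard c] at h1
    have h2 : x ^ n = 1 := congrArg Subtype.val h1
    rw [← map_pow, h2, map_one]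
  rw [hgen] at hA
  have h1 : π k ^ n = 1 := hA (mem_top k)
  obtain ⟨s, hs⟩ := hodd
  have h2 : π k ^ 2 = 1 := by
    rw [pow_two, ← map_mul]
    exact (hπ _).2 hk
  rw [hs, pow_succ, pow_mul, h2, one_pow, one_mul] at h1
  exact (hπ _).1 h1

end

variable {G Ω : Type*} [Group G] [MulAction G Ω] {U : Ω → Subgroup G} {a b : Ω} {z : G}
  {F : Type*} [Field F] {T : F → G}

namespace Fib

variable [Finite Ω]

theorem exists_conj_swap (H : Fib U a b z T) {y : G} (hy : IsConj z y) (hyz : y * z = z * y)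
    (hne : y ≠ z) : ∃ g ∈ centralizer (zpowers z : Set G), Swaps (g * y * g⁻¹) a b := by
  have hyy := H.C.sq_of hy
  obtain ⟨c, hc, hcy⟩ : ∃ c, z • c = c ∧ y • c ≠ c := by
    by_contra hcon
    push Not at hcon
    apply hne
    exact H.C.eq_of_mem_D hy ⟨hcon a H.C.zD.1, hcon b H.C.zD.2⟩
  have hzy : z • y • c = y • c := by rw [← mul_smul, ← hyz, mul_smul, hc]
  obtain ⟨g, hg, hga, hgb⟩ := H.C.two hcy hc hzy
  refine ⟨g, mem_cen.2 hg, ?_, ?_⟩
  · rw [mul_smul, mul_smul, inv_smul_eq_iff.2 hga.symm, hgb]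
  · rw [mul_smul, mul_smul, inv_smul_eq_iff.2 hgb.symm, ← mul_smul y y, hyy, one_smul, hga]

/-- a conjugate `y ≠ z` of `z` commuting with `z` has no fixed point on `Fix z`. -/
theorem fpf' (H : Fib U a b z T) {y : G} (hy : IsConj z y) (hyz : y * z = z * y)
    (hne : y ≠ z) {c : Ω} (hc : z • c = c) : y • c ≠ c := by
  intro hyc
  obtain ⟨g, hg, hs⟩ := H.exists_conj_swap hy hyz hne
  have h1 : z • g • c = g • c := by rw [← mul_smul, mem_cen.1 hg, mul_smul, hc]
  apply H.C.fpf H.odd (hy.trans (isConj_iff.2 ⟨g, rfl⟩)) hs h1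
  rw [mul_smul, mul_smul, inv_smul_smul, hyc]

theorem card_fix (H : Fib U a b z T) : Nat.card (fixedBy Ω z) = Nat.card F + 1 := by
  rw [H.C.card_fixedBy]
  congr 1
  refine (Nat.card_congr (Equiv.ofBijective (fun s : F =>
    (⟨T s, H.X.T_mem s, mem_cen.2 (H.X.T_comm s)⟩ :
      (U a ⊓ centralizer (zpowers z : Set G) : Subgroup G))) ⟨?_, ?_⟩)).symm
  · intro s t hst
    exact H.X.T_inj (congrArg Subtype.val hst)
  · rintro ⟨u, hu, huz⟩
    obtain ⟨s, rfl⟩ := H.X.T_surj u hu (mem_cen.1 huz)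
    exact ⟨s, rfl⟩

/-- **No conjugate `≠ z` of `z` commutes with `k`, if `k² = z`.** -/
theorem comm_k (H : Fib U a b z T) {k : G} (hk : k * k = z) {y : G} (hy : IsConj z y)
    (hky : k * y = y * k) : y = z := by
  classical
  by_contra hne
  have hyz : y * z = z * y := by
    rw [← hk]
    calc y * (k * k) = (y * k) * k := by group
      _ = (k * y) * k := by rw [hky]
      _ = k * (y * k) := by group
      _ = k * (k * y) := by rw [hky]
      _ = _ := by group
  have hfix : ∀ c : Ω, y • c = c → y • k • c = k • c := by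
    intro c hc
    rw [← mul_smul, ← hky, mul_smul, hc]
  have hk4 : (k * k) * (k * k) = 1 := by rw [hk, H.C.sq]
  -- the permutation of the fixed points of `y`
  let f : Equiv.Perm (fixedBy Ω y) :=
    { toFun := fun c => ⟨k • c.1, hfix c.1 c.2⟩
      invFun := fun c => ⟨(k * k * k) • c.1, by
        rw [mem_fixedBy, mul_smul, mul_smul]
        exact hfix _ (hfix _ (hfix _ c.2))⟩
      left_inv := by
        intro c
        apply Subtype.ext
        change (k * k * k) • k • c.1 = c.1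
        rw [← mul_smul, mul_assoc (k * k) k k, hk4, one_smul]
      right_inv := by
        intro c
        apply Subtype.ext
        change k • (k * k * k) • c.1 = c.1
        rw [← mul_smul, ← mul_assoc, ← mul_assoc, mul_assoc (k * k) k k, hk4, one_smul] }
  have hf : ∀ c : fixedBy Ω y, ((f c : fixedBy Ω y) : Ω) = k • (c : Ω) := fun _ => rfl
  have h1 : 4 ∣ Nat.card (fixedBy Ω y) := by
    apply four_dvd f
    · ext c
      rw [pow_succ, pow_succ, pow_succ, pow_one]
      change k • k • k • k • (c : Ω) = c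
      rw [← mul_smul, ← mul_smul, ← mul_smul, mul_assoc (k * k) k k, hk4, one_smul]
    · intro c hc
      have h2 : (k * k) • (c : Ω) = c := by
        rw [mul_smul]
        exact congrArg Subtype.val hc
      rw [hk] at h2
      exact H.fpf' hy hyz hne h2 c.2
  rw [← SSplit.card_fixedBy_isConj hy, H.card_fix] at h1
  have := H.four
  omega

/-- `z' M ∩ K = ∅` -/
theorem not_mem_K [Finite F] (H : Fib U a b z T) {z' : G} (hz' : IsConj z z') (hs : Swaps z' a b)
    {m : G} (hm : m ∈ genFix U (zpowers z)) : z' * m ∉ kerFix Ω (zpowers z) := by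
  intro hK
  obtain ⟨ν, hν, hinv⟩ := H.exists_inv hz' hs
  obtain ⟨w, hw, hws, r0, hr0, hwi⟩ := H.X.weyl
  have hD := H.K_le_D hK
  have hms : Swaps m a b := by
    have h1 : m = z'⁻¹ * (z' * m) := by group
    rw [h1]
    exact hs.inv.mul_D hD
  obtain ⟨t, ht, hl⟩ := H.X.tor (m * w⁻¹) ⟨hms.mul hws.inv, (genFix U (zpowers z)).mul_mem hm
    ((genFix U (zpowers z)).inv_mem hw)⟩
  have h1 := Coo.lin_mul_inv hl hwi
  rw [inv_mul_cancel_right] at h1
  have hne : t * t * -(r0 * r0) ≠ 0 :=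
    mul_ne_zero (mul_ne_zero ht ht) (neg_ne_zero.2 (mul_ne_zero hr0 hr0))
  have h2 := H.X.inv_mul hne hs hms hinv h1
  have h3 := H.X.lin_unique H.C h2 (H.X.lin_of_K H.C hK)
  have h4 : ν = t * t * -(r0 * r0) := by
    have := (mul_inv_eq_one₀ hne).1 h3
    exact this
  apply hν
  rw [h4]
  have h5 : t * t * -(r0 * r0) = (-1) * ((t * r0) * (t * r0)) := by ring
  rw [h5]
  exact H.neg_one_sq.mul ⟨_, rfl⟩

variable [Finite F] [Finite G]

/-- **The data** -/
theorem data (H : Fib U a b z T)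
    (hMK : ∀ x ∈ genFix U (zpowers z), x ∈ kerFix Ω (zpowers z) → x = 1 ∨ x = z)
    {z' : G} (hz' : IsConj z z') (hs : Swaps z' a b) :
    CentralTransfer.Data z z' (centralizer (zpowers z : Set G)) (genFix U (zpowers z))
      (kerFix Ω (zpowers z)) (Dab G a b) where
  zz := H.C.sq
  memC := fun g => ⟨fun hg => (mem_cen.1 hg).symm, fun hg => mem_cen.2 hg.symm⟩
  M_le := PP1.genFix_le_centralizer _
  M_norm := fun c hc m hm => H.conj_M hc hm
  K_le := fun x hx => H.mem_cenW (Dab_le_Wab a b (H.K_le_D hx))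
  K_norm := by
    intro c hc x hx
    rw [mem_kerFix]
    intro d hd
    rw [mul_smul, mul_smul, smul_eq_iff_eq_inv_smul]
    refine mem_kerFix.1 hx _ ?_
    intro y hy
    have h1 : c⁻¹ ∈ centralizer (zpowers z : Set G) := inv_mem hc
    rw [← mul_smul, mem_centralizer_iff.1 h1 y hy, mul_smul, hd y hy]
  KM := fun x hx m hm => PP1.comm_genFix H.C.h H.C.ab H.C.X_le (mem_kerFix.1 hx) hm
  D_le := H.C.D_le
  MD := by
    intro c hc
    have hc' := mem_cen.1 hc
    have h1 : ∀ d : Ω, z • d = d → z • c • d = c • d := by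
      intro d hd
      rw [← mul_smul, hc', mul_smul, hd]
    obtain ⟨g, hg, hga, hgb⟩ := two_M H.C (c := c • a) (d := c • b)
      (fun e => H.C.ab (MulAction.injective c e)) (h1 a H.C.zD.1) (h1 b H.C.zD.2)
    refine ⟨g, hg, g⁻¹ * c, ⟨?_, ?_⟩, by group⟩
    · change (g⁻¹ * c) • a = a
      rw [mul_smul, inv_smul_eq_iff, hga]
    · change (g⁻¹ * c) • b = b
      rw [mul_smul, inv_smul_eq_iff, hgb]
  zK := by
    rw [mem_kerFix]
    intro c hc
    exact mem_fix.1 hc
  z'C := H.mem_cenW hs.mem_W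
  z'z' := H.C.sq_of hz'
  z'K := fun x hx => H.comm_K hz' hs hx
  z'D := by
    intro d hd
    have h1 : Swaps (d * z' * d⁻¹) a b := by
      have := hs.conj d
      rwa [show d • a = a from hd.1, show d • b = b from hd.2] at this
    obtain ⟨m, hm, h2⟩ := H.mem_coset hz' hs (hz'.trans (isConj_iff.2 ⟨d, rfl⟩)) h1
    exact ⟨m, hm, h2⟩
  MK := hMK
  z'M := fun m hm => H.not_mem_K hz' hs hm

omit [Finite Ω] [Finite F] [Finite G] in
theorem exists_sigma (H : Fib U a b z T) : ∃ σ : Dab G a b →* (F ≃+* F),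
    ∀ d : Dab G a b, ∃ c : F, c ≠ 0 ∧ ∀ s, (d : G) • T s • b = T (c * σ d s) • b := by
  classical
  choose c f hc hf using fun d : Dab G a b => H.X.diag d d.2
  have huniq : ∀ (c c' : F) (σ σ' : F ≃+* F), c ≠ 0 → c' ≠ 0 → (∀ s, T (c * σ s) • b =
      T (c' * σ' s) • b) → σ = σ' := by
    intro c c' σ σ' hc hc' h
    have h1 : ∀ s, c * σ s = c' * σ' s := fun s => H.X.pt_inj H.C (h s)
    have h2 : c = c' := by
      have := h1 1
      rwa [map_one, map_one, mul_one, mul_one] at this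
    ext s
    have := h1 s
    rw [h2] at this
    exact mul_left_cancel₀ hc' this
  refine ⟨MonoidHom.mk' f ?_, fun d => ⟨c d, hc d, hf d⟩⟩
  intro d d'
  apply huniq (c (d * d')) (c d * f d (c d')) (f (d * d')) (f d * f d') (hc _)
    (mul_ne_zero (hc d) (by rw [map_ne_zero_iff _ (f d).injective]; exact hc d'))
  intro s
  rw [← hf (d * d') s]
  change ((d : G) * d') • T s • b = _
  rw [mul_smul, hf d' s, hf d]
  congr 2
  rw [map_mul, mul_assoc]
  rfl

/-- **The contradiction from an element `k` with `k² = z`.** -/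
theorem false_of_k (H : Fib U a b z T) (hgen : (⨆ c, U c) = ⊤)
    (hMK : ∀ x ∈ genFix U (zpowers z), x ∈ kerFix Ω (zpowers z) → x = 1 ∨ x = z)
    {z' : G} (hz' : IsConj z z') (hs : Swaps z' a b)
    {k : G} (hkK : k ∈ kerFix Ω (zpowers z)) (hk : k * k = z) : False := by
  have := isCyclic_ringAut F
  obtain ⟨σ, hσ⟩ := H.exists_sigma
  have D := H.data hMK hz' hs
  obtain ⟨ν, hν, hinv⟩ := H.exists_inv hz' hs
  have hν0 : ν ≠ 0 := by rintro rfl; exact hν (IsSquare.zero)
  obtain ⟨w, hw, hws, r0, hr0, hwi⟩ := H.X.weyl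
  refine D.false σ ?_ ?_ hkK hk ?_ ?_ ?_
  · intro d hd
    obtain ⟨c, hc, hcs⟩ := hσ d
    rw [hd] at hcs
    have hl : Lin T b c (d : G) := fun s => hcs s
    by_cases hsq : IsSquare c
    · obtain ⟨t, ht⟩ := hsq
      have ht0 : t ≠ 0 := by rintro rfl; rw [zero_mul] at ht; exact hc ht
      obtain ⟨h, hh, hlh⟩ := H.X.tor' t ht0
      refine ⟨h, hh.2, h⁻¹ * d, ?_, Or.inl (by group)⟩
      apply H.X.mem_K_of_lin H.C
      · rw [mul_smul, show (d : G) • a = a from d.2.1, inv_smul_eq_iff]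
        exact hh.1.1.symm
      · have := Coo.lin_mul (Coo.lin_inv (mul_ne_zero ht0 ht0) hlh) hl
        rwa [← ht, inv_mul_cancel₀ hc] at this
    · -- `c = ν (-r0²)⁻¹ t²`
      have hsq' : IsSquare (c * (ν * (-(r0 * r0))⁻¹)⁻¹) := by
        have e : c * (ν * (-(r0 * r0))⁻¹)⁻¹ = (c / ν) * ((-1) * (r0 * r0)) := by
          field_simp
        rw [e]
        refine (isSquare_div_of_not hsq hν).mul (H.neg_one_sq.mul ⟨r0, rfl⟩)
      obtain ⟨t, ht⟩ := hsq'
      have hne : ν * (-(r0 * r0))⁻¹ ≠ 0 :=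
        mul_ne_zero hν0 (inv_ne_zero (neg_ne_zero.2 (mul_ne_zero hr0 hr0)))
      have ht0 : t ≠ 0 := by
        rintro rfl
        rw [zero_mul] at ht
        exact (mul_ne_zero hc (inv_ne_zero hne)) ht
      obtain ⟨h, hh, hlh⟩ := H.X.tor' t ht0
      have h1 := H.X.inv_mul (neg_ne_zero.2 (mul_ne_zero hr0 hr0)) hs hws hinv hwi
      have h2 := Coo.lin_mul h1 hlh
      have h3 : ν * (-(r0 * r0))⁻¹ * (t * t) = c := by
        rw [← ht, mul_comm, mul_assoc, inv_mul_cancel₀ hne, mul_one]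
      rw [h3] at h2
      refine ⟨w * h, mul_mem hw hh.2, (z' * w * h)⁻¹ * d, ?_, Or.inr (by group)⟩
      apply H.X.mem_K_of_lin H.C
      · rw [mul_smul, show (d : G) • a = a from d.2.1, inv_smul_eq_iff]
        exact (mul_mem (hs.mul hws) hh.1).1.symm
      · have := Coo.lin_mul (Coo.lin_inv hc h2) hl
        rwa [inv_mul_cancel₀ hc] at this
  · intro y hy hyC
    by_cases hne : y = z
    · exact Or.inl hne
    · right
      obtain ⟨g, hg, hgs⟩ := H.exists_conj_swap hy (mem_cen.1 hyC).symm hne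
      obtain ⟨m, hm, h2⟩ := H.mem_coset hz' hs (hy.trans (isConj_iff.2 ⟨g, rfl⟩)) hgs
      exact ⟨m, hm, g, hg, h2⟩
  · intro hcomm
    have h1 := H.comm_k hk hz' hcomm
    rw [h1] at hs
    exact H.C.ab (hs.1.symm.trans H.C.zD.1)
  · intro y hy hky
    exact H.comm_k hk hy hky
  · intro S hS hcomm hkS
    exact odd_gen H.C.h hgen H.odd S hS hcomm hkS

end Fib

end Cfsg.Agent.HKS.CentralZ
end

-- part: HKS/CentralZK
section
/-!
# Case `q = 1 mod 4`, `z` central in `W`: existence of `k` with `k² = z`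
-/

set_option autoImplicit false

namespace Cfsg.Agent.HKS.CentralZ

open Subgroup MulAction CentralN

variable {G Ω : Type*} [Group G] [MulAction G Ω] {U : Ω → Subgroup G} {a b : Ω} {z : G}
  {F : Type*} [Field F] {T : F → G}

/-- an involution commuting with `z`, with a fixed point on `Fix z`, has two of them. -/
theorem exists_second [Finite Ω] (C : Cen U a b z) (hodd : Odd (Nat.card (U a))) {y : G}
    (hyz : y * z = z * y) (hyy : y * y = 1) {c : Ω} (hc : z • c = c) (hyc : y • c = c) :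
    ∃ d, d ≠ c ∧ z • d = d ∧ y • d = d := by
  classical
  by_contra hcon
  push Not at hcon
  have := Fintype.ofFinite (fixSub Ω (zpowers z))
  have hmz : y ∈ centralizer (zpowers z : Set G) := mem_cen.2 hyz.symm
  let f : Function.End (fixSub Ω (zpowers z)) :=
    fun c => (⟨y, hmz⟩ : centralizer (zpowers z : Set G)) • c
  have hf : f ^ 2 ^ 1 = 1 := by
    rw [pow_one, pow_two]
    funext c
    apply Subtype.ext
    change y • y • (c : Ω) = c
    rw [← mul_smul, hyy, one_smul]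
  have : Fact (Nat.Prime 2) := ⟨Nat.prime_two⟩
  have h1 := Equiv.Perm.card_fixedPoints_modEq hf
  have h2 : Odd (Nat.card (U a ⊓ centralizer (zpowers z : Set G) : Subgroup G)) := by
    have := C.finite_U'
    exact hodd.of_dvd_nat (Subgroup.card_dvd_of_le inf_le_left)
  have h3 : Fintype.card (fixSub Ω (zpowers z)) =
      Nat.card (U a ⊓ centralizer (zpowers z : Set G) : Subgroup G) + 1 := by
    rw [← C.card_fixSub, Nat.card_eq_fintype_card]
  have h4 : ∀ d : fixSub Ω (zpowers z), y • (d : Ω) = d → (d : Ω) = c := by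
    intro d hd
    by_contra hdc
    exact hcon d hdc (mem_fix.1 d.2) hd
  have h5 : Fintype.card (Function.fixedPoints f) = 1 := by
    rw [Fintype.card_eq_one_iff]
    refine ⟨⟨⟨c, mem_fix.2 hc⟩, Subtype.ext hyc⟩, ?_⟩
    rintro ⟨d, hd⟩
    exact Subtype.ext (Subtype.ext (h4 d (congrArg Subtype.val hd)))
  rw [h3] at h1
  have h6 := h1.trans (by rw [h5] : _ ≡ 1 [MOD 2])
  obtain ⟨s, hs⟩ := h2
  rw [hs] at h6
  have := h6
  unfold Nat.ModEq at this
  omega

namespace Fib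

variable [Finite Ω] [Finite F]

omit [Finite Ω] in
theorem exists_sqrt (H : Fib U a b z T) : ∃ r : F, r ≠ 0 ∧ r * r = -1 := by
  obtain ⟨r, hr⟩ := H.neg_one_sq
  refine ⟨r, ?_, hr.symm⟩
  rintro rfl
  rw [zero_mul] at hr
  exact (neg_ne_zero.2 one_ne_zero) hr

omit [Finite Ω] in
/-- `j ∈ H` acting as `-1`. -/
theorem exists_j (H : Fib U a b z T) : ∃ j ∈ Dab G a b ⊓ genFix U (zpowers z),
    Lin T b (-1 : F) j := by
  obtain ⟨r, hr, hrr⟩ := H.exists_sqrt
  obtain ⟨j, hj, hl⟩ := H.X.tor' r hr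
  rw [hrr] at hl
  exact ⟨j, hj, hl⟩

omit [Finite Ω] in
theorem not_lin_K (H : Fib U a b z T) {j : G} (hj : Lin T b (-1 : F) j) :
    j ∉ kerFix Ω (zpowers z) := by
  intro hK
  have h1 := H.X.lin_unique H.C hj (H.X.lin_of_K H.C hK)
  apply H.two_ne
  linear_combination (-1 : F) * h1

/-- **`k`, if `z ∈ genFix U ⟨z⟩`.** -/
theorem exists_k_of_mem (H : Fib U a b z T)
    (hMK : ∀ x ∈ genFix U (zpowers z), x ∈ kerFix Ω (zpowers z) → x = 1 ∨ x = z)
    (hM : ∀ x ∈ genFix U (zpowers z), x * x = 1 → x = 1 ∨ x = z)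
    {e : G} (he : e ∈ Dab G a b) (hee : e * e = 1)
    (hinv : ∀ u ∈ U a, z * u = u * z → e * u * e⁻¹ = u⁻¹) :
    ∃ k ∈ kerFix Ω (zpowers z), k * k = z := by
  obtain ⟨j, hj, hl⟩ := H.exists_j
  have hle : Lin T b (-1 : F) e := by
    intro s
    have h1 := hinv (T s) (H.X.T_mem s) (H.X.T_comm s)
    rw [← H.X.T_neg] at h1
    have h2 : e * T s = T (-s) * e := by rw [← h1]; group
    rw [← mul_smul, h2, mul_smul, show e • b = b from he.2]
    congr 2
    ring
  have hk : j⁻¹ * e ∈ kerFix Ω (zpowers z) := by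
    apply H.X.mem_K_of_lin H.C
    · rw [mul_smul, show e • a = a from he.1, inv_smul_eq_iff]
      exact hj.1.1.symm
    · have := Coo.lin_mul (Coo.lin_inv (neg_ne_zero.2 one_ne_zero) hl) hle
      rwa [inv_mul_cancel₀ (neg_ne_zero.2 one_ne_zero)] at this
  refine ⟨j⁻¹ * e, hk, ?_⟩
  have hjj : j * j = 1 ∨ j * j = z := by
    apply hMK _ (mul_mem hj.2 hj.2)
    apply H.X.mem_K_of_lin H.C
    · rw [mul_smul, show j • a = a from hj.1.1, show j • a = a from hj.1.1]
    · have := Coo.lin_mul hl hl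
      rwa [neg_mul_neg, one_mul] at this
  have hjK := H.not_lin_K hl
  have hzK : z ∈ kerFix Ω (zpowers z) := by
    rw [mem_kerFix]
    intro c hc
    exact mem_fix.1 hc
  have hjz : j * j = z := by
    rcases hjj with h1 | h1
    · exfalso
      rcases hM j hj.2 h1 with h2 | h2
      · exact hjK (by rw [h2]; exact one_mem _)
      · exact hjK (by rw [h2]; exact hzK)
    · exact h1
  have hcomm : (j⁻¹ * e) * j = j * (j⁻¹ * e) :=
    PP1.comm_genFix H.C.h H.C.ab H.C.X_le (mem_kerFix.1 hk) hj.2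
  have h1 : (j⁻¹ * e) * (j⁻¹ * e) * (j * j) = 1 := by
    calc (j⁻¹ * e) * (j⁻¹ * e) * (j * j) = (j⁻¹ * e) * ((j⁻¹ * e) * j) * j := by group
      _ = (j⁻¹ * e) * (j * (j⁻¹ * e)) * j := by rw [hcomm]
      _ = ((j⁻¹ * e) * j) * ((j⁻¹ * e) * j) := by group
      _ = (j * (j⁻¹ * e)) * (j * (j⁻¹ * e)) := by rw [hcomm]
      _ = e * e := by group
      _ = 1 := hee
  have hzinv : z⁻¹ = z := inv_eq_of_mul_eq_one_right H.C.sq
  rw [hjz] at h1
  rw [eq_inv_of_mul_eq_one_left h1, hzinv]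

variable [Finite G]

/-- An involution interchanging `a` and `b`, f.p.f. on `Fix z` and not conjugate to `z` gives `k`. -/
theorem exists_k_of_fpf (H : Fib U a b z T) {z' : G} (hz' : IsConj z z') (hs : Swaps z' a b)
    {y : G} (hys : Swaps y a b) (hyy : y * y = 1) (hfpf : ∀ c : Ω, z • c = c → y • c ≠ c)
    (hyz : ¬ IsConj z y) : ∃ k ∈ kerFix Ω (zpowers z), k * k = z := by
  obtain ⟨ν, hν, hinv⟩ := H.exists_inv hz' hs
  obtain ⟨c, hc, hinvc⟩ := H.X.inv_of_fpf H.two_ne H.C hys hyy hfpf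
  have hν0 : ν ≠ 0 := by rintro rfl; exact hν (IsSquare.zero)
  have hc0 : c ≠ 0 := by rintro rfl; exact hc (IsSquare.zero)
  obtain ⟨r, hr⟩ := isSquare_div_of_not hc hν
  have hr0 : r ≠ 0 := by
    rintro rfl
    rw [zero_mul] at hr
    exact (div_ne_zero hc0 hν0) hr
  obtain ⟨g, hg, hl, -⟩ := H.exists_lin hs hν hinv hr0
  have h1 := Coo.inv_conj hr0 hl hinv
  rw [← hr, div_mul_cancel₀ _ hν0] at h1
  set y' := g * z' * g⁻¹ with hy'
  have hy'c : IsConj z y' := hz'.trans (isConj_iff.2 ⟨g, rfl⟩)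
  have hy's : Swaps y' a b := by
    have := hs.conj g
    rwa [show g • a = a from hg.1, show g • b = b from hg.2] at this
  have hy'y' := H.C.sq_of hy'c
  have hκ : y' * y ∈ kerFix Ω (zpowers z) := by
    apply H.X.mem_K_of_lin H.C
    · rw [mul_smul, hys.1, hy's.2]
    · have := H.X.inv_mul hc0 hy's hys h1 hinvc
      rwa [mul_inv_cancel₀ hc0] at this
  set κ := y' * y with hκd
  have hyκ : y = y' * κ := by rw [hκd, ← mul_assoc, hy'y', one_mul]
  have hκz : κ * z = z * κ := H.mem_C (Dab_le_Wab a b (H.K_le_D hκ))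
  have hyz' : y' * z = z * y' := H.mem_C hy's.mem_W
  rcases H.comm_K hy'c hy's hκ with h2 | h2
  · exfalso
    have h3 : κ * κ = 1 := by
      calc κ * κ = (y' * y') * κ * κ := by rw [hy'y', one_mul]
        _ = y' * (y' * κ) * κ := by group
        _ = y' * (κ * y') * κ := by rw [h2]
        _ = (y' * κ) * (y' * κ) := by group
        _ = 1 := by rw [← hyκ, hyy]
    apply hyz
    rcases H.kinv κ hκ h3 with h4 | h4
    · rw [hyκ, h4, mul_one]; exact hy'c
    · rw [hyκ, h4]; exact (H.fib hy'c hy's).1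
  · refine ⟨κ, hκ, ?_⟩
    have h3 : κ * κ * z = 1 := by
      calc κ * κ * z = κ * (κ * z) := by group
        _ = κ * (z * κ) := by rw [hκz]
        _ = κ * (y' * y') * z * κ := by rw [hy'y']; group
        _ = (κ * y') * (y' * z) * κ := by group
        _ = (κ * y') * (z * y') * κ := by rw [hyz']
        _ = (κ * y' * z) * (y' * κ) := by group
        _ = (y' * κ) * (y' * κ) := by rw [h2]
        _ = 1 := by rw [← hyκ, hyy]
    have hzinv : z⁻¹ = z := inv_eq_of_mul_eq_one_right H.C.sq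
    rw [eq_inv_of_mul_eq_one_left h3, hzinv]

/-- If `t ∈ {j, j z}` is central in `W`, `n_t ≤ q`, there is a conjugate of `t` interchanging `a` and
`b` without fixed points on `Fix z`. -/
theorem exists_fpf (H : Fib U a b z T) (hN : Nat.card (U a) = Nat.card F ^ 3)
    (hMK : ∀ x ∈ genFix U (zpowers z), x ∈ kerFix Ω (zpowers z) → x = 1 ∨ x = z)
    (hzM : z ∉ genFix U (zpowers z)) {t : G} (Ct : Cen U a b t)
    (ht : t ∈ genFix U (zpowers z) ∨ t * z ∈ genFix U (zpowers z))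
    (hn : Nat.card (U a ⊓ centralizer (zpowers t : Set G) : Subgroup G) ≤ Nat.card F) :
    ∃ y, IsConj t y ∧ Swaps y a b ∧ ∀ c : Ω, z • c = c → y • c ≠ c := by
  classical
  by_contra hcon
  push Not at hcon
  have hMK' : ∀ x ∈ genFix U (zpowers z), x ∈ kerFix Ω (zpowers z) → x = 1 := by
    intro x hx hxK
    rcases hMK x hx hxK with h1 | h1
    · exact h1
    · exact absurd (h1 ▸ hx) hzM
  have hMC : genFix U (zpowers z) ≤ centralizer (zpowers z : Set G) := PP1.genFix_le_centralizer _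
  obtain ⟨w, hw, hws, r0, hr0, hwi⟩ := H.X.weyl
  -- all conjugates lie in `M` (in `M z`)
  have h1 : ∀ y, IsConj t y → Swaps y a b → ∃ g ∈ genFix U (zpowers z), y = g * t * g⁻¹ := by
    intro y hy hs
    obtain ⟨c, hc, hyc⟩ := hcon y hy hs
    have hyz : y * z = z * y := H.mem_C hs.mem_W
    obtain ⟨d, hdc, hd, hyd⟩ := exists_second H.C H.odd hyz (Ct.sq_of hy) hc hyc
    obtain ⟨g, hg, hga, hgb⟩ := two_M H.C hdc hc hd
    refine ⟨g, hg, ?_⟩
    have h2 : g⁻¹ * y * g = t := by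
      apply Ct.eq_of_mem_D (hy.trans (isConj_iff.2 ⟨g⁻¹, by group⟩))
      constructor
      · change (g⁻¹ * y * g) • a = a
        rw [mul_smul, mul_smul, hga, hyc, inv_smul_eq_iff, hga]
      · change (g⁻¹ * y * g) • b = b
        rw [mul_smul, mul_smul, hgb, hyd, inv_smul_eq_iff, hgb]
    rw [← h2]; group
  have hzM' : ∀ g ∈ genFix U (zpowers z), g * z = z * g := fun g hg =>
    (mem_cen.1 (hMC hg)).symm
  have hz2 := H.C.sq
  -- `y` or `y z` in `M`
  have h2 : (∀ y, IsConj t y → Swaps y a b → y ∈ genFix U (zpowers z)) ∨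
      (∀ y, IsConj t y → Swaps y a b → y * z ∈ genFix U (zpowers z)) := by
    rcases ht with ht | ht
    · left
      intro y hy hs
      obtain ⟨g, hg, rfl⟩ := h1 y hy hs
      exact mul_mem (mul_mem hg ht) (inv_mem hg)
    · right
      intro y hy hs
      obtain ⟨g, hg, rfl⟩ := h1 y hy hs
      have h3 : g * t * g⁻¹ * z = g * (t * z) * g⁻¹ := by
        have h4 := hzM' g⁻¹ (inv_mem hg)
        rw [mul_assoc, h4]; group
      rw [h3]
      exact mul_mem (mul_mem hg ht) (inv_mem hg)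
  -- the value
  have h3 : ∀ y, IsConj t y → Swaps y a b → ∃ c : F, (IsSquare c ∧ c ≠ 0) ∧ Inv T b c y := by
    intro y hy hs
    have hval : ∀ x ∈ genFix U (zpowers z), Swaps x a b → ∃ c : F, (IsSquare c ∧ c ≠ 0) ∧
        Inv T b c x := by
      intro x hx hxs
      obtain ⟨r, hr, hl⟩ := H.X.tor (x * w⁻¹) ⟨hxs.mul hws.inv, mul_mem hx
        ((genFix U (zpowers z)).inv_mem hw)⟩
      have h4 := Coo.lin_mul_inv hl hwi
      rw [inv_mul_cancel_right] at h4
      refine ⟨_, ⟨?_, mul_ne_zero (mul_ne_zero hr hr) (neg_ne_zero.2 (mul_ne_zero hr0 hr0))⟩, h4⟩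
      have h5 : r * r * -(r0 * r0) = (-1) * ((r * r0) * (r * r0)) := by ring
      rw [h5]
      exact H.neg_one_sq.mul ⟨_, rfl⟩
    rcases h2 with h2 | h2
    · exact hval y (h2 y hy hs) hs
    · obtain ⟨c, hc, hi⟩ := hval (y * z) (h2 y hy hs) (hs.mul_D H.C.zD)
      refine ⟨c, hc, fun s hs0 => ?_⟩
      rw [← hi s hs0, mul_smul, H.X.fix_pt H.C]
  choose f hf hf' using fun y : {y : G // IsConj t y ∧ Swaps y a b} => h3 y y.2.1 y.2.2
  have hinj : Function.Injective (fun y : {y : G // IsConj t y ∧ Swaps y a b} =>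
      (⟨f y, hf y⟩ : {c : F // IsSquare c ∧ c ≠ 0})) := by
    rintro ⟨y1, hy1, hs1⟩ ⟨y2, hy2, hs2⟩ heq
    have heq' : f ⟨y1, hy1, hs1⟩ = f ⟨y2, hy2, hs2⟩ := congrArg Subtype.val heq
    have hi1 := hf' ⟨y1, hy1, hs1⟩
    have hi2 := hf' ⟨y2, hy2, hs2⟩
    rw [heq'] at hi1
    have hc0 := (hf ⟨y2, hy2, hs2⟩).2
    have h4 : y1 * y2 ∈ kerFix Ω (zpowers z) := by
      apply H.X.mem_K_of_lin H.C
      · rw [mul_smul, hs2.1, hs1.2]
      · have := H.X.inv_mul hc0 hs1 hs2 hi1 hi2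
        rwa [mul_inv_cancel₀ hc0] at this
    have h5 : y1 * y2 ∈ genFix U (zpowers z) := by
      rcases h2 with h2 | h2
      · exact mul_mem (h2 y1 hy1 hs1) (h2 y2 hy2 hs2)
      · have h6 := mul_mem (h2 y1 hy1 hs1) (h2 y2 hy2 hs2)
        have h7 : y1 * z * (y2 * z) = y1 * y2 := by
          have h8 : y2 * z = z * y2 := H.mem_C hs2.mem_W
          rw [h8]
          calc y1 * z * (z * y2) = y1 * (z * z) * y2 := by group
            _ = y1 * y2 := by rw [hz2, mul_one]
        rwa [h7] at h6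
    have h6 := hMK' _ h5 h4
    apply Subtype.ext
    change y1 = y2
    rw [eq_inv_of_mul_eq_one_left h6]
    exact inv_eq_of_mul_eq_one_right (Ct.sq_of hy2)
  have hJ := Nat.card_le_card_of_injective _ hinj
  have hcard := card_nonsq (F := F) H.two_ne
  rw [card_nonsq_eq (F := F) H.two_ne] at hcard
  have hJt := Ct.card_J
  rw [hN] at hJt
  set n := Nat.card (U a ⊓ centralizer (zpowers t : Set G) : Subgroup G)
  set J := Nat.card {y : G // IsConj t y ∧ Swaps y a b}
  set S := Nat.card {c : F // IsSquare c ∧ c ≠ 0}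
  set q := Nat.card F
  have hq : q = 2 * S + 1 := hcard.symm
  have hS : 0 < S := by
    have : Nonempty {c : F // IsSquare c ∧ c ≠ 0} := ⟨⟨1, ⟨1, by ring⟩, one_ne_zero⟩⟩
    exact Nat.card_pos
  have h4 : J * ((n + 1) * n) ≤ S * ((q + 1) * q) :=
    Nat.mul_le_mul hJ (Nat.mul_le_mul (by (clear * - hn hcard; omega)) hn)
  have h5 : q ^ 3 - n ≤ S * ((q + 1) * q) := by rw [← hJt]; exact h4
  have h6 : q ^ 3 ≤ S * ((q + 1) * q) + q := by omega
  have h7 : q ^ 3 = 2 * (S * ((q + 1) * q)) + q := by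
    rw [hq]; ring
  have h8 : 0 < S * ((q + 1) * q) := Nat.mul_pos hS (Nat.mul_pos (by omega) (by omega))
  omega

/-- **`k`, if `z ∉ genFix U ⟨z⟩`.** -/
theorem exists_k_of_not_mem (H : Fib U a b z T) (hN : Nat.card (U a) = Nat.card F ^ 3)
    (hMK : ∀ x ∈ genFix U (zpowers z), x ∈ kerFix Ω (zpowers z) → x = 1 ∨ x = z)
    (hzM : z ∉ genFix U (zpowers z)) {z' : G} (hz' : IsConj z z') (hs : Swaps z' a b)
    (hz1 : z ≠ 1)
    (hfix : ∀ t : G, t ≠ 1 → t * t = 1 → 2 < Nat.card (fixedBy Ω t))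
    (hform : ∀ j ∈ Dab G a b, j ≠ 1 → j ≠ z → j * j = 1 → Nat.card (U a) =
      Nat.card (U a ⊓ centralizer (zpowers z : Set G) : Subgroup G) *
      Nat.card (U a ⊓ centralizer (zpowers j : Set G) : Subgroup G) *
      Nat.card (U a ⊓ centralizer (zpowers (j * z) : Set G) : Subgroup G)) :
    ∃ k ∈ kerFix Ω (zpowers z), k * k = z := by
  have hMK' : ∀ x ∈ genFix U (zpowers z), x ∈ kerFix Ω (zpowers z) → x = 1 := by
    intro x hx hxK
    rcases hMK x hx hxK with h1 | h1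
    · exact h1
    · exact absurd (h1 ▸ hx) hzM
  have hMC : genFix U (zpowers z) ≤ centralizer (zpowers z : Set G) := PP1.genFix_le_centralizer _
  obtain ⟨j, hj, hl⟩ := H.exists_j
  have hjK := H.not_lin_K hl
  have hj1 : j ≠ 1 := by rintro rfl; exact hjK (one_mem _)
  have hjz : j ≠ z := by rintro rfl; exact hzM hj.2
  have hjj : j * j = 1 := by
    apply hMK' _ (mul_mem hj.2 hj.2)
    apply H.X.mem_K_of_lin H.C
    · rw [mul_smul, show j • a = a from hj.1.1, show j • a = a from hj.1.1]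
    · have := Coo.lin_mul hl hl
      rwa [neg_mul_neg, one_mul] at this
  have hjzc : j * z = z * j := H.mem_C (Dab_le_Wab a b hj.1)
  -- uniqueness of `j`
  have hjuniq : ∀ x ∈ Dab G a b ⊓ genFix U (zpowers z), x * x = 1 → x ≠ 1 → x = j := by
    intro x hx hxx hx1
    obtain ⟨r, hr, hlx⟩ := H.X.tor x hx
    have h1 := Coo.lin_mul hlx hlx
    rw [hxx] at h1
    have h2 : r * r * (r * r) = 1 := H.X.lin_unique H.C h1 (H.X.lin_of_K H.C (one_mem _))
    have h3 : (r * r - 1) * (r * r + 1) = 0 := by linear_combination h2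
    rcases mul_eq_zero.1 h3 with h4 | h4
    · exfalso
      apply hx1
      apply hMK' x hx.2
      apply H.X.mem_K_of_lin H.C hx.1.1
      rwa [sub_eq_zero.1 h4] at hlx
    · have h5 : r * r = -1 := eq_neg_of_add_eq_zero_left h4
      rw [h5] at hlx
      have h6 : x * j = 1 := by
        apply hMK' _ (mul_mem hx.2 hj.2)
        apply H.X.mem_K_of_lin H.C
        · rw [mul_smul, show j • a = a from hj.1.1, show x • a = a from hx.1.1]
        · have := Coo.lin_mul hlx hl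
          rwa [neg_mul_neg, one_mul] at this
      rw [eq_inv_of_mul_eq_one_left h6]
      exact inv_eq_of_mul_eq_one_right hjj
  have hcW : ∀ g ∈ Wab G a b, j * g = g * j := by
    intro g hg
    have h1 : g * j * g⁻¹ = j := by
      apply hjuniq
      · refine ⟨?_, H.conj_M (H.mem_cenW hg) hj.2⟩
        rcases hg with hg | hg
        · exact (Dab G a b).mul_mem ((Dab G a b).mul_mem hg hj.1) ((Dab G a b).inv_mem hg)
        · constructor
          · change (g * j * g⁻¹) • a = a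
            rw [mul_smul, mul_smul, inv_smul_eq_iff.2 hg.2.symm, show j • b = b from hj.1.2]
            exact hg.2
          · change (g * j * g⁻¹) • b = b
            rw [mul_smul, mul_smul, inv_smul_eq_iff.2 hg.1.symm, show j • a = a from hj.1.1]
            exact hg.1
      · calc g * j * g⁻¹ * (g * j * g⁻¹) = g * (j * j) * g⁻¹ := by group
          _ = 1 := by rw [hjj]; group
      · intro h
        apply hj1
        have : j = g⁻¹ * (g * j * g⁻¹) * g := by group
        rw [this, h]; group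
    calc j * g = (g * j * g⁻¹) * g := by rw [h1]
      _ = g * j := by group
  have hthree : ∀ t ∈ Dab G a b, t ≠ 1 → t * t = 1 → ∃ u ∈ U a, u ≠ 1 ∧ t * u = u * t := by
    intro t ht ht1 htt
    have h1 := hfix t ht1 htt
    have h2 : Nat.card (fixedBy Ω t) =
        Nat.card (U a ⊓ centralizer (zpowers t : Set G) : Subgroup G) + 1 := by
      rw [← H.C.h.card_fixSub H.C.ab (X := zpowers t) (fun x hx => by
          have h3 : zpowers t ≤ Dab G a b := by rw [zpowers_le]; exact ht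
          exact (h3 hx).1) (fun x hx => by
          have h3 : zpowers t ≤ Dab G a b := by rw [zpowers_le]; exact ht
          exact (h3 hx).2)]
      exact Nat.card_congr (Equiv.subtypeEquivRight fun c => mem_fix.symm)
    rw [h2] at h1
    have h3 : 1 < Nat.card (U a ⊓ centralizer (zpowers t : Set G) : Subgroup G) := by omega
    have h4 : (U a ⊓ centralizer (zpowers t : Set G) : Subgroup G) ≠ ⊥ := by
      intro h
      rw [h, card_bot] at h3
      omega
    obtain ⟨u, hu1⟩ := Subgroup.ne_bot_iff_exists_ne_one.1 h4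
    exact ⟨u, u.2.1, fun h => hu1 (Subtype.ext h), mem_cen.1 u.2.2⟩
  have Cj : Cen U a b j := ⟨H.C.h, H.C.ab, hj.1, hjj, hcW, hthree j hj.1 hj1 hjj⟩
  have hjzD : j * z ∈ Dab G a b := mul_mem hj.1 H.C.zD
  have hjz1 : j * z ≠ 1 := by
    intro h
    apply hjz
    rw [eq_inv_of_mul_eq_one_left h]
    exact inv_eq_of_mul_eq_one_right H.C.sq
  have hjzz : (j * z) * (j * z) = 1 := by
    calc (j * z) * (j * z) = j * (z * j) * z := by group
      _ = j * (j * z) * z := by rw [hjzc]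
      _ = (j * j) * (z * z) := by group
      _ = 1 := by rw [hjj, H.C.sq, one_mul]
  have Cjz : Cen U a b (j * z) := ⟨H.C.h, H.C.ab, hjzD, hjzz, fun g hg => by
    calc j * z * g = j * (z * g) := by group
      _ = j * (g * z) := by rw [H.C.cW g hg]
      _ = (j * g) * z := by group
      _ = (g * j) * z := by rw [hcW g hg]
      _ = _ := by group, hthree _ hjzD hjz1 hjzz⟩
  -- the formula
  have hq : Nat.card (U a ⊓ centralizer (zpowers z : Set G) : Subgroup G) = Nat.card F := by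
    have h1 := H.card_fix
    rw [H.C.card_fixedBy] at h1
    omega
  have h1 := hform j hj.1 hj1 hjz hjj
  rw [hN, hq] at h1
  have hq0 : 0 < Nat.card F := Nat.card_pos
  have h2 : Nat.card F * Nat.card F =
      Nat.card (U a ⊓ centralizer (zpowers j : Set G) : Subgroup G) *
      Nat.card (U a ⊓ centralizer (zpowers (j * z) : Set G) : Subgroup G) := by
    apply Nat.eq_of_mul_eq_mul_left hq0
    rw [← mul_assoc, ← mul_assoc, ← h1]
    ring
  have hzconj : ∀ t, t ∈ Dab G a b → t ≠ z → ∀ y, IsConj t y → ¬ IsConj z y := by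
    intro t ht htz y hy hzy
    apply htz
    exact H.C.eq_of_mem_D (hzy.trans hy.symm) ht
  rcases le_or_gt (Nat.card (U a ⊓ centralizer (zpowers j : Set G) : Subgroup G)) (Nat.card F)
    with h3 | h3
  · obtain ⟨y, hy, hys, hfpf⟩ := H.exists_fpf hN hMK hzM Cj (Or.inl hj.2) h3
    exact H.exists_k_of_fpf hz' hs hys (Cj.sq_of hy) hfpf (hzconj j hj.1 hjz y hy)
  · have h4 : Nat.card (U a ⊓ centralizer (zpowers (j * z) : Set G) : Subgroup G) ≤ Nat.card F := by
      by_contra hcon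
      push Not at hcon
      have := Nat.mul_lt_mul_of_lt_of_lt h3 hcon
      rw [← h2] at this
      exact lt_irrefl _ this
    have hjz' : j * z ≠ z := by
      intro h
      exact hj1 (mul_eq_right.mp h)
    obtain ⟨y, hy, hys, hfpf⟩ := H.exists_fpf hN hMK hzM Cjz (Or.inr (by
      rw [mul_assoc, H.C.sq, mul_one]; exact hj.2)) h4
    exact H.exists_k_of_fpf hz' hs hys (Cjz.sq_of hy) hfpf (hzconj _ hjzD hjz' y hy)

/-- **Case `q = 1 mod 4`, `z` central in `W`, is impossible.** -/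
theorem false (H : Fib U a b z T) (hgen : (⨆ c, U c) = ⊤) (hz1 : z ≠ 1)
    (hN : Nat.card (U a) = Nat.card F ^ 3)
    (hMK : ∀ x ∈ genFix U (zpowers z), x ∈ kerFix Ω (zpowers z) → x = 1 ∨ x = z)
    (hM : z ∈ genFix U (zpowers z) → ∀ x ∈ genFix U (zpowers z), x * x = 1 → x = 1 ∨ x = z)
    (hfix : ∀ t : G, t ≠ 1 → t * t = 1 → 2 < Nat.card (fixedBy Ω t))
    (hform : ∀ j ∈ Dab G a b, j ≠ 1 → j ≠ z → j * j = 1 → Nat.card (U a) =
      Nat.card (U a ⊓ centralizer (zpowers z : Set G) : Subgroup G) *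
      Nat.card (U a ⊓ centralizer (zpowers j : Set G) : Subgroup G) *
      Nat.card (U a ⊓ centralizer (zpowers (j * z) : Set G) : Subgroup G))
    {e : G} (he : e ∈ Dab G a b) (hee : e * e = 1)
    (hinv : ∀ u ∈ U a, z * u = u * z → e * u * e⁻¹ = u⁻¹) : False := by
  -- `z'`
  have hq1 : 1 < Nat.card F := Finite.one_lt_card
  have hq4 := H.four
  have hJ : 0 < Nat.card {m : G // IsConj z m ∧ Swaps m a b} := by rw [H.cardJ]; omega
  obtain ⟨⟨z', hz', hs⟩⟩ := (Nat.card_pos_iff.1 hJ).1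
  obtain ⟨k, hkK, hk⟩ : ∃ k ∈ kerFix Ω (zpowers z), k * k = z := by
    by_cases hzM : z ∈ genFix U (zpowers z)
    · exact H.exists_k_of_mem hMK (hM hzM) he hee hinv
    · exact H.exists_k_of_not_mem hN hMK hzM hz' hs hz1 hfix hform
  exact H.false_of_k hgen hMK hz' hs hkK hk

end Fib

end Cfsg.Agent.HKS.CentralZ
end

-- part: HKS/CentralZInst
section
/-!
# `U a` not abelian, `|U a| = 1 mod 4`, four-groups in `G_ab`

`coo_of_slx` : the coordinates `Coo` from `SLX`; `rankCentral_one : RankCentral 1`.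
-/

set_option autoImplicit false

namespace Cfsg.Agent.HKS.CentralZ

open Subgroup MulAction CentralN SLCoord Cfsg.Agent.ONan.SL2Hom Cfsg.Agent.HKS.SLRel

section field

variable {F : Type*} [Field F]

/-- An additive map which is multiplicative for a square and an arbitrary element is
multiplicative. -/
theorem mul_of_sq (h2 : (2 : F) ≠ 0) (σ : F → F) (hadd : ∀ x y, σ (x + y) = σ x + σ y)
    (hsq : ∀ u c, σ (u * u * c) = σ (u * u) * σ c) (x c : F) : σ (x * c) = σ x * σ c := by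
  have h0 : σ 0 = 0 := by
    have := hadd 0 0
    rw [add_zero] at this
    exact (left_eq_add.mp this)
  have hneg : ∀ y, σ (-y) = - σ y := by
    intro y
    have := hadd y (-y)
    rw [add_neg_cancel, h0] at this
    exact (neg_eq_of_add_eq_zero_right this.symm).symm
  have hsub : ∀ y w, σ (y - w) = σ y - σ w := by
    intro y w
    rw [sub_eq_add_neg, hadd, hneg, ← sub_eq_add_neg]
  have hx : x = ((x + 1) / 2) * ((x + 1) / 2) - ((x - 1) / 2) * ((x - 1) / 2) := by
    field_simp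
    ring
  have hxc : x * c = ((x + 1) / 2) * ((x + 1) / 2) * c - ((x - 1) / 2) * ((x - 1) / 2) * c := by
    conv_lhs => rw [hx]
    ring
  rw [hxc, hsub, hsq, hsq, ← sub_mul, ← hsub, ← hx]

end field

variable {G Ω : Type*} [Group G] [MulAction G Ω] {U : Ω → Subgroup G} {a b : Ω} {z : G}
  {F : Type*} [Field F] {φ : Matrix.SpecialLinearGroup (Fin 2) F →* G}

theorem conj_M0 (h : SSplit U) {g m : G} (hg : g ∈ centralizer (zpowers z : Set G))
    (hm : m ∈ genFix U (zpowers z)) : g * m * g⁻¹ ∈ genFix U (zpowers z) := by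
  apply PP1.conj_genFix h _ hm
  intro x hx
  have h1 : x * g = g * x := mem_centralizer_iff.1 hg x hx
  have h2 : g⁻¹ * x * g = x := by
    rw [mul_assoc, h1]; group
  rwa [h2]

theorem nM_conj (r : F) (hr : r ≠ 0) (s : F) :
    nM r hr * tM s * (nM r hr)⁻¹ = tM (r ^ 2 * s) := by
  rw [nM_tM, mul_inv_cancel_right]

theorem exists_diag [Finite F] (h2 : (2 : F) ≠ 0) (C : Cen U a b z)
    (S : SLX U (zpowers z) a b φ) {d : G} (hd : d ∈ Dab G a b) :
    ∃ (c : F) (σ : F ≃+* F), c ≠ 0 ∧ ∀ s, d • φ (tM s) • b = φ (tM (c * σ s)) • b := by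
  classical
  have hdC : d ∈ centralizer (zpowers z : Set G) := mem_cen.2 (C.cW d (Dab_le_Wab a b hd))
  have h1 : ∀ s, ∃ s', φ (tM s') = d * φ (tM s) * d⁻¹ := fun s =>
    S.up_surj _ (conj_mem C.h hd.1 hdC (S.up s))
  choose α hα using h1
  have hadd : ∀ s t, α (s + t) = α s + α t := by
    intro s t
    apply S.tM_inj
    rw [hα, tM_add, tM_add, map_mul, map_mul, hα, hα]
    group
  have hinj : Function.Injective α := by
    intro s t hst
    apply S.tM_inj
    have h3 : φ (tM (α s)) = φ (tM (α t)) := by rw [hst]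
    rw [hα, hα] at h3
    exact mul_left_cancel (mul_right_cancel h3)
  have h0 : α 0 = 0 := by
    have := hadd 0 0
    rw [add_zero] at this
    exact (left_eq_add.mp this)
  have htor : ∀ r, r ≠ 0 → ∃ r', ∀ s, α (r * r * s) = r' * α s := by
    intro r hr
    have h3 : d * φ (nM r hr) * d⁻¹ ∈ genFix U (zpowers z) := conj_M0 C.h hdC (S.nM_gen r hr)
    have h4 : d * φ (nM r hr) * d⁻¹ ∈ Dab G a b :=
      (Dab G a b).mul_mem ((Dab G a b).mul_mem hd (S.nM_mem C.h r hr)) ((Dab G a b).inv_mem hd)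
    rw [← S.range_eq C.h] at h3
    obtain ⟨A, hA⟩ := h3
    obtain ⟨r', hr', rfl⟩ := S.eq_nM C.h (A := A) (by rw [hA]; exact h4.1) (by rw [hA]; exact h4.2)
    refine ⟨r' ^ 2, fun s => ?_⟩
    apply S.tM_inj
    have e1 : r * r * s = r ^ 2 * s := by ring
    rw [hα, e1, ← nM_conj r hr s, ← nM_conj r' hr' (α s), map_mul, map_mul, map_inv, map_mul,
      map_mul, map_inv, hα, hA]
    group
  have hc : α 1 ≠ 0 := by
    intro h
    exact one_ne_zero (hinj (h.trans h0.symm))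
  have hsq : ∀ u c : F, α (u * u * c) / α 1 = α (u * u) / α 1 * (α c / α 1) := by
    intro u c
    by_cases hu : u = 0
    · rw [hu, zero_mul, zero_mul, h0, zero_div, zero_mul]
    · obtain ⟨r', hr'⟩ := htor u hu
      have h3 := hr' 1
      rw [mul_one] at h3
      rw [hr', h3]
      field_simp
  have hadd' : ∀ x y, α (x + y) / α 1 = α x / α 1 + α y / α 1 := by
    intro x y
    rw [hadd, add_div]
  let σ₀ : F →+* F :=
    { toFun := fun s => α s / α 1
      map_one' := div_self hc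
      map_mul' := mul_of_sq h2 (fun s => α s / α 1) hadd' hsq
      map_zero' := by rw [h0, zero_div]
      map_add' := hadd' }
  have hbij : Function.Bijective σ₀ := Finite.injective_iff_bijective.1 σ₀.injective
  refine ⟨α 1, RingEquiv.ofBijective σ₀ hbij, hc, fun s => ?_⟩
  have h3 : α 1 * RingEquiv.ofBijective σ₀ hbij s = α s := by
    change α 1 * (α s / α 1) = α s
    field_simp
  rw [h3, hα, mul_smul, mul_smul, inv_smul_eq_iff.2 (show b = d • b from hd.2.symm)]

/-- `φ (mM c)` acts as `s ↦ - c² / s`. -/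
theorem mM_act (h : SSplit U) (S : SLX U (zpowers z) a b φ) {c : F} (hc : c ≠ 0) {s : F}
    (hs : s ≠ 0) : φ (mM c hc) • φ (tM s) • b = φ (tM (-(c * c) * s⁻¹)) • b := by
  have h1 : ((tM (-(c * c) * s⁻¹))⁻¹ * (mM c hc * tM s)).1 0 1 = 0 := by
    rw [tM_inv]
    simp only [mul_apply', tM_00, tM_01, tM_11, mM_00, mM_01, mM_10, mM_11]
    field_simp
    ring
  have h2 := (S.fix_b_iff h _).2 h1
  rw [map_mul, map_inv, map_mul, mul_smul, inv_smul_eq_iff, mul_smul] at h2
  exact h2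

theorem coo_of_slx [Finite F] (h2 : (2 : F) ≠ 0) (C : Cen U a b z)
    (S : SLX U (zpowers z) a b φ) : Coo U a b z (fun s => φ (tM s)) where
  T_mem := fun s => (S.up s).1
  T_comm := fun s => mem_cen.1 (S.up s).2
  T_surj := fun u hu huz => S.up_surj u ⟨hu, mem_cen.2 huz⟩
  T_inj := fun _ _ hst => S.tM_inj hst
  T_add := fun s t => by
    rw [tM_add, map_mul]
  diag := fun d hd => exists_diag h2 C S hd
  anti := by
    intro w hw
    have hm := S.mM_swaps C.h 1 one_ne_zero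
    obtain ⟨c, σ, hc, hσ⟩ := exists_diag h2 C S (hw.mul hm.inv)
    refine ⟨-c, σ, neg_ne_zero.2 hc, fun s hs => ?_⟩
    have h1 : w • φ (tM s) • b = (w * (φ (mM 1 one_ne_zero))⁻¹) • φ (mM 1 one_ne_zero) •
        φ (tM s) • b := by
      rw [mul_smul, inv_smul_smul]
    rw [h1, mM_act C.h S one_ne_zero hs, hσ]
    congr 3
    rw [mul_one, neg_mul, one_mul, map_neg]
    ring
  tor := by
    intro h hh
    have h3 := hh.2
    rw [← S.range_eq C.h] at h3
    obtain ⟨A, rfl⟩ := h3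
    obtain ⟨r, hr, rfl⟩ := S.eq_nM C.h (A := A) hh.1.1 hh.1.2
    refine ⟨r, hr, fun s => ?_⟩
    rw [← mul_smul, ← map_mul, nM_tM, map_mul, mul_smul,
      show φ (nM r hr) • b = b from (S.nM_mem C.h r hr).2, pow_two]
  tor' := by
    intro r hr
    refine ⟨φ (nM r hr), ⟨S.nM_mem C.h r hr, S.nM_gen r hr⟩, fun s => ?_⟩
    rw [← mul_smul, ← map_mul, nM_tM, map_mul, mul_smul,
      show φ (nM r hr) • b = b from (S.nM_mem C.h r hr).2, pow_two]
  weyl := by
    refine ⟨φ (mM 1 one_ne_zero), S.mM_gen 1 one_ne_zero, S.mM_swaps C.h 1 one_ne_zero, 1,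
      one_ne_zero, fun s hs => ?_⟩
    rw [mM_act C.h S one_ne_zero hs]

/-- an element of order two of `SL₂` is `-1`. -/
theorem sq_eq_one (h2 : (2 : F) ≠ 0) {A : Matrix.SpecialLinearGroup (Fin 2) F} (hA : A * A = 1) :
    A = 1 ∨ A = -1 := by
  have hd := det_eq A
  have h00 : A.1 0 0 * A.1 0 0 + A.1 0 1 * A.1 1 0 = 1 := by
    have := mul_apply' A A 0 0
    rw [hA] at this
    simpa only [Fin.isValue, Matrix.SpecialLinearGroup.coe_one, Matrix.one_apply_eq] using this.symm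
  have h01 : A.1 0 0 * A.1 0 1 + A.1 0 1 * A.1 1 1 = 0 := by
    have := mul_apply' A A 0 1
    rw [hA] at this
    simpa only [Fin.isValue, Matrix.SpecialLinearGroup.coe_one, ne_eq, zero_ne_one, not_false_eq_true, Matrix.one_apply_ne] using this.symm
  have h10 : A.1 1 0 * A.1 0 0 + A.1 1 1 * A.1 1 0 = 0 := by
    have := mul_apply' A A 1 0
    rw [hA] at this
    simpa only [Fin.isValue, Matrix.SpecialLinearGroup.coe_one, ne_eq, one_ne_zero, not_false_eq_true, Matrix.one_apply_ne] using this.symm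
  have h11 : A.1 1 0 * A.1 0 1 + A.1 1 1 * A.1 1 1 = 1 := by
    have := mul_apply' A A 1 1
    rw [hA] at this
    simpa only [Fin.isValue, Matrix.SpecialLinearGroup.coe_one, Matrix.one_apply_eq] using this.symm
  -- trace `t`: `t A₀₁ = t A₁₀ = 0`, `t A₀₀ = 2`
  have ht : (A.1 0 0 + A.1 1 1) * A.1 0 0 = 2 := by linear_combination h00 + hd
  have ht0 : A.1 0 0 + A.1 1 1 ≠ 0 := by
    intro h
    rw [h, zero_mul] at ht
    exact h2 ht.symm
  have e01 : A.1 0 1 = 0 := by
    have : (A.1 0 0 + A.1 1 1) * A.1 0 1 = 0 := by linear_combination h01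
    exact (mul_eq_zero.1 this).resolve_left ht0
  have e10 : A.1 1 0 = 0 := by
    have : (A.1 0 0 + A.1 1 1) * A.1 1 0 = 0 := by linear_combination h10
    exact (mul_eq_zero.1 this).resolve_left ht0
  rw [e01, zero_mul, add_zero] at h00
  rw [e01, mul_zero, zero_add] at h11
  have ht' : (A.1 0 0 + A.1 1 1) * A.1 1 1 = 2 := by
    rw [e01, zero_mul, sub_zero] at hd
    linear_combination h11 + hd
  have he : A.1 0 0 = A.1 1 1 := mul_left_cancel₀ ht0 (ht.trans ht'.symm)
  rcases mul_self_eq_one_iff.1 h00 with h3 | h3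
  · left
    apply ext'
    · rw [h3]; simp
    · rw [e01]; simp only [Fin.isValue, Matrix.SpecialLinearGroup.coe_one, ne_eq, zero_ne_one, not_false_eq_true,
        Matrix.one_apply_ne]
    · rw [e10]; simp
    · rw [← he, h3]; simp
  · right
    apply ext'
    · rw [h3]; simp
    · rw [e01]; simp only [Fin.isValue, Matrix.SpecialLinearGroup.coe_neg, Matrix.SpecialLinearGroup.coe_one,
        Matrix.neg_apply, ne_eq, zero_ne_one, not_false_eq_true, Matrix.one_apply_ne, neg_zero]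
    · rw [e10]; simp
    · rw [← he, h3]; simp

/-- the number of elements of `U a` commuting with `s`. -/
theorem card_conj {P : Subgroup G} (α : MulAut P) {s : G} (hα : ∀ x : P, ((α x : P) : G) = s * x * s⁻¹) :
    Nat.card {x : P // α x = x} = Nat.card (P ⊓ centralizer (zpowers s : Set G) : Subgroup G) := by
  refine Nat.card_congr ⟨fun x => ⟨x.1.1, x.1.2, mem_cen.2 ?_⟩, fun x => ⟨⟨x.1, x.2.1⟩, ?_⟩,
    fun _ => rfl, fun _ => rfl⟩
  · have h1 := congrArg Subtype.val x.2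
    rw [hα] at h1
    calc s * (x.1 : G) = s * x.1 * s⁻¹ * s := by group
      _ = x.1 * s := by rw [h1]
  · apply Subtype.ext
    rw [hα]
    have h1 := mem_cen.1 x.2.2
    change s * x.1 * s⁻¹ = x.1
    rw [h1]; group

/-- **The product formula.** -/
theorem card_prod (h : SSplit U) (hodd : Odd (Nat.card (U a))) {s t : G}
    (hs : s ∈ Dab G a b) (ht : t ∈ Dab G a b) (hss : s * s = 1) (htt : t * t = 1)
    (hst : s * t = t * s) (hV : ∀ u ∈ U a, s * u = u * s → t * u = u * t → u = 1) :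
    Nat.card (U a) = Nat.card (U a ⊓ centralizer (zpowers s : Set G) : Subgroup G) *
      Nat.card (U a ⊓ centralizer (zpowers t : Set G) : Subgroup G) *
      Nat.card (U a ⊓ centralizer (zpowers (s * t) : Set G) : Subgroup G) := by
  classical
  -- conjugation
  have hcj : ∀ g : G, g ∈ Dab G a b → ∃ α : MulAut (U a), ∀ x : U a, ((α x : U a) : G) =
      g * x * g⁻¹ := by
    intro g hg
    refine ⟨{ toFun := fun x => ⟨g * x * g⁻¹, h.conj_of_fix hg.1 x.2⟩
              invFun := fun x => ⟨g⁻¹ * x * g, h.conj_of_fix' hg.1 x.2⟩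
              left_inv := fun x => Subtype.ext (by
                change g⁻¹ * (g * x * g⁻¹) * g = x
                group)
              right_inv := fun x => Subtype.ext (by
                change g * (g⁻¹ * x * g) * g⁻¹ = x
                group)
              map_mul' := fun x y => Subtype.ext (by
                change g * (x * y) * g⁻¹ = (g * x * g⁻¹) * (g * y * g⁻¹)
                group) }, fun _ => rfl⟩
  obtain ⟨α, hα⟩ := hcj s hs
  obtain ⟨β, hβ⟩ := hcj t ht
  have hαβ : ∀ x : U a, (((α * β) x : U a) : G) = (s * t) * x * (s * t)⁻¹ := by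
    intro x
    rw [MulAut.mul_apply, hα, hβ]
    group
  have hsi : s⁻¹ = s := inv_eq_of_mul_eq_one_right hss
  have hti : t⁻¹ = t := inv_eq_of_mul_eq_one_right htt
  have hαα : α * α = 1 := by
    ext x
    rw [MulAut.mul_apply, hα, hα]
    change s * (s * x * s⁻¹) * s⁻¹ = x
    calc s * (s * x * s⁻¹) * s⁻¹ = (s * s) * x * (s * s)⁻¹ := by group
      _ = x := by rw [hss]; group
  have hββ : β * β = 1 := by
    ext x
    rw [MulAut.mul_apply, hβ, hβ]
    change t * (t * x * t⁻¹) * t⁻¹ = x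
    calc t * (t * x * t⁻¹) * t⁻¹ = (t * t) * x * (t * t)⁻¹ := by group
      _ = x := by rw [htt]; group
  have hcomm : α * β = β * α := by
    ext x
    rw [hαβ, MulAut.mul_apply, hβ, hα]
    calc s * t * x * (s * t)⁻¹ = (t * s) * x * (t * s)⁻¹ := by rw [hst]
      _ = _ := by group
  have h1 := Rig.card_four hodd hαα hββ hcomm
  rw [card_conj α hα, card_conj β hβ, card_conj (α * β) hαβ] at h1
  have h2 : Nat.card {x : U a // α x = x ∧ β x = x} = 1 := by
    rw [Nat.card_eq_one_iff_exists]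
    refine ⟨⟨1, map_one _, map_one _⟩, ?_⟩
    rintro ⟨x, hx1, hx2⟩
    apply Subtype.ext
    apply Subtype.ext
    change (x : G) = 1
    apply hV x x.2
    · have h3 := congrArg Subtype.val hx1
      rw [hα] at h3
      calc s * (x : G) = s * x * s⁻¹ * s := by group
        _ = x * s := by rw [h3]
    · have h3 := congrArg Subtype.val hx2
      rw [hβ] at h3
      calc t * (x : G) = t * x * t⁻¹ * t := by group
        _ = x * t := by rw [h3]
  rw [h2, one_pow, mul_one] at h1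
  exact h1

/-- the type at `⟨z⟩` is `DL`. -/
theorem exists_slx [Finite Ω] {p k : ℕ} (C : CtxE U a b p k) (Z : FourZero.Cen U a b z)
    (hC : Cen U a b z)
    (hq : Nat.card (U a ⊓ centralizer (zpowers z : Set G) : Subgroup G) % 4 = 1) :
    ∃ (F : Type) (_ : Field F) (_ : Fintype F), Fintype.card F =
        Nat.card (U a ⊓ centralizer (zpowers z : Set G) : Subgroup G) ∧
      ∃ φ : Matrix.SpecialLinearGroup (Fin 2) F →* G, SLX U (zpowers z) a b φ := by
  have hX1 : zpowers z ≠ ⊥ := by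
    rw [Ne, zpowers_eq_bot]
    exact Z.ne_one
  have hone := hC.one_lt
  have hP1 : U a ⊓ centralizer (zpowers z : Set G) ≠ ⊥ := by
    intro h
    rw [h, card_bot] at hone
    omega
  have hcomm : ∀ u ∈ U a ⊓ centralizer (zpowers z : Set G), ∀ v ∈ U a, u * v = v * u := by
    intro u hu v hv
    exact (Z.cU u hu.1).1 (mem_cen.1 hu.2) v hv
  have hfa : ∀ x ∈ zpowers z, x • a = a := fun x hx => (hC.X_le hx).1
  have hfb : ∀ x ∈ zpowers z, x • b = b := fun x hx => (hC.X_le hx).2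
  rcases C.IH (zpowers z) hC.X_le hX1 hP1 with hT | ⟨q, hT⟩ | ⟨q, hT⟩ | ⟨n, hT⟩
  · exfalso
    obtain ⟨s, hs, h1⟩ := hT.card
    have h4 : 4 ∣ 2 ^ s := by
      have : (4 : ℕ) = 2 ^ 2 := by norm_num
      rw [this]
      exact pow_dvd_pow 2 hs
    rw [← h1] at h4
    (clear * - hq h4; omega)
  · obtain ⟨F, i1, i2, hF, φ, S⟩ := exists_slx_of_DL hC.h hC.ab hfa hfb hT
    exact ⟨F, i1, i2, by rw [hF, hT.card], φ, S⟩
  · exfalso
    have h1 : (U a ⊓ centralizer (zpowers z : Set G)) ⊓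
        centralizer ((U a ⊓ centralizer (zpowers z : Set G) : Subgroup G) : Set G) =
        U a ⊓ centralizer (zpowers z : Set G) := by
      apply inf_eq_left.2
      intro u hu
      rw [mem_centralizer_iff]
      intro v hv
      exact (hcomm u hu v hv.1).symm
    have h2 := hT.cardZ
    rw [h1, hT.card] at h2
    have h3 := hT.pow.one_lt
    have h4 : q < q ^ 3 := by
      calc q = q ^ 1 := (pow_one q).symm
        _ < q ^ 3 := Nat.pow_lt_pow_right h3 (by norm_num)
    omega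
  · exfalso
    obtain ⟨u, hu, v, hv, h1⟩ := hT.ncomm
    exact h1 (hcomm u hu v hv.1)

end Cfsg.Agent.HKS.CentralZ

namespace Cfsg.Agent.HKS

open Subgroup MulAction CentralN CentralZ SLCoord Cfsg.Agent.ONan.SL2Hom

/-- **`U a` not abelian, `|U a| = 1 mod 4`, four-groups in `G_ab`: impossible.** -/
theorem rankCentral_one.{v} : RankCentral.{v} 1 := by
  intro G Ω _ _ _ _ _ U a b p k C hV z e Z he he1 hez hee hze hmod
  have hodd := FourZero.odd_U C
  have hC : CentralN.Cen U a b z :=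
    ⟨C.split, C.ne, Z.zD, Z.sq, Z.cW, FourZero.P_ne_bot' C Z.zD Z.ne_one Z.sq⟩
  have hinv : ∀ u ∈ U a, z * u = u * z → e * u * e⁻¹ = u⁻¹ := fun u hu hzu =>
    FourZero.inverts C hV Z.zD he Z.ne_one he1 (Ne.symm hez) Z.sq hee hze hu hzu
  -- a point moved by `z`
  obtain ⟨c₀, hc₀⟩ : ∃ c₀ : Ω, z • c₀ ≠ c₀ := by
    by_contra hcon
    push Not at hcon
    apply Z.ne_one
    exact eq_of_smul_eq_smul (α := Ω) fun c => by rw [hcon c, one_smul]
  obtain ⟨e0, he0, hk, hq, hN, hJ⟩ := hC.cube' C.gen C.prime C.p_ne_two C.cardU hc₀ he hinv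
  have hq4 : p ^ e0 % 4 = 1 := by
    have h1 : (p ^ e0) ^ 3 % 4 = 1 := by rw [← hN]; exact hmod
    have h2 : p ^ e0 % 4 = 0 ∨ p ^ e0 % 4 = 1 ∨ p ^ e0 % 4 = 2 ∨ p ^ e0 % 4 = 3 := by (clear * - ; omega)
    rcases h2 with h2 | h2 | h2 | h2
    · rw [Nat.pow_mod, h2] at h1; norm_num at h1
    · exact h2
    · rw [Nat.pow_mod, h2] at h1; norm_num at h1
    · rw [Nat.pow_mod, h2] at h1; norm_num at h1
  obtain ⟨F, i1, i2, hF, φ, S⟩ := exists_slx C Z hC (by rw [hq]; exact hq4)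
  rw [hq] at hF
  have hF' : Nat.card F = p ^ e0 := by rw [Nat.card_eq_fintype_card, hF]
  have h2 : (2 : F) ≠ 0 := by
    intro h
    have hch : CharP F 2 := CharTwo.of_one_ne_zero_of_two_eq_zero one_ne_zero h
    have h3 := FiniteField.even_card_of_char_two (F := F) (ringChar.eq F 2 ▸ rfl : ringChar F = 2)
    omega
  have X := coo_of_slx h2 hC S
  have hkinv : ∀ x ∈ kerFix Ω (zpowers z), x * x = 1 → x = 1 ∨ x = z := by
    intro x hx hxx
    by_cases hx1 : x = 1
    · exact Or.inl hx1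
    · exact Or.inr (Z.ker_invol C hV hx hxx hx1)
  have H : Fib U a b z (fun s => φ (tM s)) :=
    { C := hC
      X := X
      odd := hodd
      four := by rw [hF']; exact hq4
      cardJ := by rw [hF']; exact hJ
      kinv := hkinv }
  have hMK : ∀ x ∈ genFix U (zpowers z), x ∈ kerFix Ω (zpowers z) → x = 1 ∨ x = z := by
    intro x hx hxK
    apply hkinv x hxK
    rcases S.eq_neg C.split hx hxK with h | h
    · rw [h, one_mul]
    · rw [h, ← map_mul, neg_mul_neg, one_mul, map_one]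
  refine H.false C.gen Z.ne_one (by rw [hF']; exact hN) hMK ?_ C.fix ?_ he hee hinv
  · intro hzM x hx hxx
    obtain ⟨hneg, hinj⟩ := S.neg_eq C.split Z.ne_one hzM
    rw [← S.range_eq C.split] at hx
    obtain ⟨A, rfl⟩ := hx
    rw [← map_mul] at hxx
    have h1 : A * A = 1 := hinj (by rw [hxx, map_one])
    rcases sq_eq_one h2 h1 with h | h
    · left; rw [h, map_one]
    · right; rw [h, hneg]
  · intro j hj hj1 hjz hjj
    have hjc : z * j = j * z := Z.cW j (Dab_le_Wab a b hj)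
    have h1 := card_prod C.split hodd Z.zD hj Z.sq hjj hjc
      (hV z Z.zD j hj Z.ne_one hj1 (Ne.symm hjz) Z.sq hjj hjc)
    rw [← hjc]
    exact h1

end Cfsg.Agent.HKS
end

-- part: HKS/CaseThree
section
/-!
# Central involution, `q = 3 mod 4`, `N = q^3` (#6838 (3b))

`CaseThree.Cfg U a b z M` : the situation; `M` is the group generated by the `C_{U c}(z)`,
`K = kerFix Ω (zpowers z)`. `CaseThree.Cfg.false` : there is no involution `e ≠ z` in `Dab`.
-/

set_option autoImplicit false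

namespace Cfsg.Agent.HKS.CaseThree

open Subgroup MulAction

variable {G Ω : Type*} [Group G] [MulAction G Ω]

theorem mem_K {z k : G} : k ∈ kerFix Ω (zpowers z) ↔ ∀ c : Ω, z • c = c → k • c = c := by
  rw [mem_kerFix]
  constructor
  · intro h c hc
    refine h c fun x hx => ?_
    obtain ⟨n, rfl⟩ := mem_zpowers_iff.1 hx
    exact (zpow_mem (K := stabilizer G c) hc n : z ^ n ∈ stabilizer G c)
  · intro h c hc
    exact h c (hc z (mem_zpowers z))

/-- The situation of (3b). -/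
structure Cfg (U : Ω → Subgroup G) (a b : Ω) (z : G) (M : Subgroup G) (q : ℕ) : Prop where
  h : SSplit U
  gen : (⨆ c, U c) = ⊤
  odd : ∀ c, Odd (Nat.card (U c))
  ab : b ≠ a
  zD : z ∈ Dab G a b
  z1 : z ≠ 1
  zz : z * z = 1
  /-- `z` is central in `Wab` -/
  zW : ∀ w ∈ Wab G a b, w * z = z * w
  /-- `z` is the only conjugate of `z` in `Dab` -/
  uz : ∀ g : G, g * z * g⁻¹ ∈ Dab G a b → g * z * g⁻¹ = z
  /-- no further involution fixes all points of `Fix z` -/
  Kz : ∀ k ∈ kerFix Ω (zpowers z), k * k = 1 → k = 1 ∨ k = z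
  MC : ∀ m ∈ M, m * z = z * m
  Mn : ∀ g : G, g * z = z * g → ∀ m ∈ M, g * m * g⁻¹ ∈ M
  MKc : ∀ m ∈ M, ∀ k ∈ kerFix Ω (zpowers z), m * k = k * m
  Mtr : ∀ c d : Ω, c ≠ d → z • c = c → z • d = d → ∃ m ∈ M, m • c = a ∧ m • d = b
  MK : ∀ m ∈ M, m ∈ kerFix Ω (zpowers z) → m = 1 ∨ m = z
  Mz : z ∈ M → ∀ m ∈ M, m * m = 1 → m = 1 ∨ m = z
  Msw : ∀ m ∈ M, Swaps m a b → m * m ∈ kerFix Ω (zpowers z)
  Mcj : ∀ l ∈ M, ∀ m ∈ M, Swaps l a b → Swaps m a b →
    ∃ x ∈ M, x ∈ Dab G a b ∧ x * l * x⁻¹ * m⁻¹ ∈ kerFix Ω (zpowers z)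
  cardE : 2 * (kerFix Ω (zpowers z)).relIndex (Dab G a b ⊓ M) = q - 1
  inner : ∀ y : G, y * z = z * y → y * y = 1 → (∀ c : Ω, z • c = c → y • c ≠ c) →
    ∃ l ∈ M, y * l⁻¹ ∈ kerFix Ω (zpowers z)
  cardZ : Nat.card (U a ⊓ centralizer (zpowers z : Set G) : Subgroup G) = q
  cardU : Nat.card (U a) = q ^ 3
  q4 : q % 4 = 3
  /-- four-groups of `Dab` have only two fixed points -/
  four : ∀ t ∈ Dab G a b, t * t = 1 → t ≠ 1 → t ≠ z → ∀ u ∈ U a, u * t = t * u → u * z = z * u → u = 1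

namespace Cfg

variable {U : Ω → Subgroup G} {a b : Ω} {z : G} {M : Subgroup G} {q : ℕ}

theorem z_inv (C : Cfg U a b z M q) : z⁻¹ = z := inv_eq_of_mul_eq_one_left C.zz

/-- uniqueness of the conjugate of `z` fixing two points -/
theorem unique (C : Cfg U a b z M q) {c d : Ω} (hcd : c ≠ d) (hc : z • c = c) (hd : z • d = d)
    {g : G} (h1 : (g * z * g⁻¹) • c = c) (h2 : (g * z * g⁻¹) • d = d) : g * z * g⁻¹ = z := by
  obtain ⟨x, hx1, hx2⟩ := C.h.two (a := c) (b := d) (c := a) (d := b) hcd C.ab.symm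
  have h3 : x * z * x⁻¹ = z := by
    refine C.uz x (mem_Dab.2 ⟨?_, ?_⟩)
    · rw [mul_smul, mul_smul, inv_smul_eq_iff.2 hx1.symm, hc, hx1]
    · rw [mul_smul, mul_smul, inv_smul_eq_iff.2 hx2.symm, hd, hx2]
  have h4 : (x * g) * z * (x * g)⁻¹ = z := by
    refine C.uz (x * g) ?_
    have e : (x * g) * z * (x * g)⁻¹ = x * (g * z * g⁻¹) * x⁻¹ := by group
    rw [e]
    refine mem_Dab.2 ⟨?_, ?_⟩
    · rw [mul_smul, mul_smul, inv_smul_eq_iff.2 hx1.symm, h1, hx1]
    · rw [mul_smul, mul_smul, inv_smul_eq_iff.2 hx2.symm, h2, hx2]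
  have h5 : x⁻¹ * (x * z * x⁻¹) * x = x⁻¹ * ((x * g) * z * (x * g)⁻¹) * x := by rw [h3, h4]
  have h6 : x⁻¹ * (x * z * x⁻¹) * x = z := by group
  have h7 : x⁻¹ * ((x * g) * z * (x * g)⁻¹) * x = g * z * g⁻¹ := by group
  rw [← h7, ← h5, h6]

variable [Finite Ω]

theorem card_fix (C : Cfg U a b z M q) : Nat.card {c : Ω // z • c = c} = q + 1 := by
  have h1 := C.h.card_fixSub (X := zpowers z) C.ab (fun x hx => by
    obtain ⟨n, rfl⟩ := mem_zpowers_iff.1 hx
    exact (zpow_mem (K := stabilizer G a) C.zD.1 n : z ^ n ∈ stabilizer G a)) (fun x hx => by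
    obtain ⟨n, rfl⟩ := mem_zpowers_iff.1 hx
    exact (zpow_mem (K := stabilizer G b) C.zD.2 n : z ^ n ∈ stabilizer G b))
  rw [C.cardZ] at h1
  rw [← h1]
  refine Nat.card_congr (Equiv.subtypeEquivRight fun c => ?_)
  constructor
  · intro hc x hx
    obtain ⟨n, rfl⟩ := mem_zpowers_iff.1 hx
    exact (zpow_mem (K := stabilizer G c) hc n : z ^ n ∈ stabilizer G c)
  · intro hc
    exact hc z (mem_zpowers z)

theorem even_fix (C : Cfg U a b z M q) : Even (Nat.card {c : Ω // z • c = c}) := by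
  rw [C.card_fix]
  have := C.q4
  exact Nat.even_iff.2 (by omega)

/-- an involution commuting with `z` with a fixed point in `Fix z` has two. -/
theorem exists_two (C : Cfg U a b z M q) {y : G} (hy : y * z = z * y) (hy2 : y * y = 1) {c : Ω}
    (hc : z • c = c) (hyc : y • c = c) : ∃ d, d ≠ c ∧ z • d = d ∧ y • d = d := by
  let f : {c : Ω // z • c = c} → {c : Ω // z • c = c} := fun x => ⟨y • x.1, by
    rw [← mul_smul, ← hy, mul_smul, x.2]⟩
  have hf : ∀ x, f (f x) = x := fun x => Subtype.ext (by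
    change y • y • x.1 = x.1
    rw [← mul_smul, hy2, one_smul])
  obtain ⟨d, hd1, hd2⟩ := exists_fixed_ne C.even_fix f hf (x := ⟨c, hc⟩) (Subtype.ext hyc)
  exact ⟨d.1, fun e => hd1 (Subtype.ext e), d.2, congrArg Subtype.val hd2⟩

/-- another conjugate of `z` commuting with `z` has no fixed point in `Fix z`. -/
theorem fpf (C : Cfg U a b z M q) {g : G} (hne : g * z * g⁻¹ ≠ z)
    (hc : (g * z * g⁻¹) * z = z * (g * z * g⁻¹)) {c : Ω} (hzc : z • c = c) :
    (g * z * g⁻¹) • c ≠ c := by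
  intro h1
  have h2 : (g * z * g⁻¹) * (g * z * g⁻¹) = 1 := by
    calc (g * z * g⁻¹) * (g * z * g⁻¹) = g * (z * z) * g⁻¹ := by group
      _ = 1 := by rw [C.zz]; group
  obtain ⟨d, hd1, hd2, hd3⟩ := C.exists_two hc h2 hzc h1
  exact hne (C.unique hd1.symm hzc hd2 h1 hd3)

omit [Finite Ω] in
theorem K_le_D (C : Cfg U a b z M q) {k : G} (hk : k ∈ kerFix Ω (zpowers z)) :
    k ∈ Dab G a b := ⟨mem_K.1 hk a C.zD.1, mem_K.1 hk b C.zD.2⟩

omit [Finite Ω] in
theorem K_comm (C : Cfg U a b z M q) {k : G} (hk : k ∈ kerFix Ω (zpowers z)) :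
    k * z = z * k := C.zW k (Dab_le_Wab a b (C.K_le_D hk))

omit [Finite Ω] in
theorem zK (_C : Cfg U a b z M q) : z ∈ kerFix Ω (zpowers z) := mem_K.2 fun _ h => h

omit [Finite Ω] in
theorem K_conj (_C : Cfg U a b z M q) {g k : G} (hg : g * z = z * g)
    (hk : k ∈ kerFix Ω (zpowers z)) : g * k * g⁻¹ ∈ kerFix Ω (zpowers z) := by
  rw [mem_K]
  intro c hc
  have h1 : z • g⁻¹ • c = g⁻¹ • c := by
    have e : z * g⁻¹ = g⁻¹ * z := by
      calc z * g⁻¹ = g⁻¹ * (g * z) * g⁻¹ := by group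
        _ = g⁻¹ * z := by rw [hg]; group
    rw [← mul_smul, e, mul_smul, hc]
  rw [mul_smul, mul_smul, mem_K.1 hk _ h1, smul_inv_smul]

omit [Finite Ω] in
/-- `C_G(z) = M D` -/
theorem exists_mul (C : Cfg U a b z M q) {g : G} (hg : g * z = z * g) :
    ∃ m ∈ M, m * g ∈ Dab G a b := by
  have h1 : ∀ c : Ω, z • c = c → z • g • c = g • c := fun c hc => by
    rw [← mul_smul, ← hg, mul_smul, hc]
  obtain ⟨m, hm, hm1, hm2⟩ := C.Mtr (g • a) (g • b)
    (fun e => C.ab (MulAction.injective g e).symm) (h1 a C.zD.1) (h1 b C.zD.2)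
  exact ⟨m, hm, by rw [mem_Dab, mul_smul, mul_smul]; exact ⟨hm1, hm2⟩⟩

variable [Finite G]

/-- the number of conjugates of `z` -/
theorem card_class (C : Cfg U a b z M q) :
    Nat.card {s : G // IsConj z s} = q ^ 2 * (q ^ 2 - q + 1) := by
  have h1 := C.h.card_fix_pairs C.ab z
  have h2 : Nat.card {s : G // IsConj z s ∧ s ∈ Dab G a b} = 1 := by
    rw [Nat.card_eq_one_iff_unique]
    refine ⟨⟨fun x y => ?_⟩, ⟨⟨z, IsConj.refl z, C.zD⟩⟩⟩
    have h3 : ∀ x : {s : G // IsConj z s ∧ s ∈ Dab G a b}, x.1 = z := by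
      rintro ⟨x, hx1, hx2⟩
      obtain ⟨g, rfl⟩ := isConj_iff.1 hx1
      exact C.uz g hx2
    exact Subtype.ext ((h3 x).trans (h3 y).symm)
  have h3 : Nat.card (fixedBy Ω z) = q + 1 := C.card_fix
  have h4 : Nat.card Ω = q ^ 3 + 1 := by rw [C.h.card a, C.cardU]
  rw [h2, h3, h4, mul_one, Nat.add_sub_cancel, Nat.add_sub_cancel] at h1
  have h5 : (q ^ 3 + 1) * q ^ 3 = (q ^ 2 * (q ^ 2 - q + 1)) * ((q + 1) * q) := by
    have hq := C.q4
    obtain ⟨r, rfl⟩ : ∃ r, q = r + 1 := ⟨q - 1, by (clear * - hq; omega)⟩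
    have e : (r + 1) ^ 2 - (r + 1) + 1 = r ^ 2 + r + 1 := by
      have : (r + 1) ^ 2 = r ^ 2 + r + (r + 1) := by ring
      omega
    rw [e]
    ring
  rw [h5] at h1
  have h6 : 0 < (q + 1) * q := by
    have := C.q4
    have hq : 0 < q := by omega
    positivity
  exact Nat.eq_of_mul_eq_mul_right h6 h1

theorem odd_class (C : Cfg U a b z M q) : Odd (Nat.card {s : G // IsConj z s}) := by
  rw [C.card_class]
  have hq : Odd q := Nat.odd_iff.2 (by have := C.q4; omega)
  have h1 : Even (q ^ 2 - q) := by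
    rw [Nat.even_sub (Nat.le_self_pow two_ne_zero q)]
    constructor
    · intro h
      exact absurd hq.pow (Nat.not_odd_iff_even.2 h)
    · intro h
      exact absurd hq (Nat.not_odd_iff_even.2 h)
  exact hq.pow.mul h1.add_one

/-- the conjugates of `z` interchanging `a` and `b` -/
theorem card_J (C : Cfg U a b z M q) :
    Nat.card {s : G // IsConj z s ∧ Swaps s a b} = q - 1 := by
  have h1 := C.h.card_swap_pairs C.ab C.zz
  have h3 : Nat.card (fixedBy Ω z) = q + 1 := C.card_fix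
  have h4 : Nat.card Ω = q ^ 3 + 1 := by rw [C.h.card a, C.cardU]
  rw [C.card_class, h3, h4, Nat.add_sub_cancel] at h1
  have hq := C.q4
  obtain ⟨r, rfl⟩ : ∃ r, q = r + 1 := ⟨q - 1, by (clear * - hq; omega)⟩
  have e : (r + 1) ^ 2 - (r + 1) + 1 = r ^ 2 + r + 1 := by
    have : (r + 1) ^ 2 = r ^ 2 + r + (r + 1) := by ring
    (clear * - hq this; omega)
  have e' : (r + 1) ^ 3 + 1 - (r + 1 + 1) = (r + 1) * (r * (r + 2)) := by
    have : (r + 1) ^ 3 + 1 = (r + 1) * (r * (r + 2)) + (r + 1 + 1) := by ring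
    omega
  rw [e, e'] at h1
  have h5 : (r + 1) ^ 2 * (r ^ 2 + r + 1) * ((r + 1) * (r * (r + 2))) =
      (((r + 1) ^ 3 + 1) * (r + 1) ^ 3) * r := by ring
  rw [h5] at h1
  have h6 : 0 < ((r + 1) ^ 3 + 1) * (r + 1) ^ 3 := by positivity
  rw [Nat.add_sub_cancel]
  exact (Nat.eq_of_mul_eq_mul_left h6 h1).symm

/-! ### Inner elements -/

omit [Finite G] [Finite Ω] in
theorem exists_inner (C : Cfg U a b z M q) {y : G} (hy : y * z = z * y) (hy2 : y * y = 1)
    (hf : ∀ c : Ω, z • c = c → y • c ≠ c) :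
    ∃ l ∈ M, ∃ k ∈ kerFix Ω (zpowers z), y = l * k := by
  obtain ⟨l, hl, hk⟩ := C.inner y hy hy2 hf
  refine ⟨l, hl, _, hk, ?_⟩
  rw [C.MKc l hl _ hk]
  group

omit [Finite G] [Finite Ω] in
theorem sq_of_isConj (C : Cfg U a b z M q) {s : G} (hs : IsConj z s) : s * s = 1 := by
  obtain ⟨g, rfl⟩ := isConj_iff.1 hs
  calc g * z * g⁻¹ * (g * z * g⁻¹) = g * (z * z) * g⁻¹ := by group
    _ = 1 := by rw [C.zz]; group

omit [Finite G] [Finite Ω] in
theorem swaps_mul_K (C : Cfg U a b z M q) {l k : G} (hk : k ∈ kerFix Ω (zpowers z)) :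
    Swaps (l * k) a b ↔ Swaps l a b := by
  have hka := (C.K_le_D hk).1
  have hkb := (C.K_le_D hk).2
  have h1 : k • a = a := hka
  have h2 : k • b = b := hkb
  rw [Swaps, Swaps, mul_smul, mul_smul, h1, h2]

omit [Finite G] in
theorem J_inner (C : Cfg U a b z M q) {s : G} (hs : IsConj z s) (hsw : Swaps s a b) :
    ∃ l ∈ M, Swaps l a b ∧ ∃ k ∈ kerFix Ω (zpowers z), s = l * k := by
  obtain ⟨g, hg⟩ := isConj_iff.1 hs
  have hne : g * z * g⁻¹ ≠ z := by
    rw [hg]
    rintro rfl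
    have h1 : s • a = a := C.zD.1
    exact C.ab (hsw.1.symm.trans h1)
  have hc : s * z = z * s := C.zW s hsw.mem_W
  obtain ⟨l, hl, k, hk, he⟩ := C.exists_inner hc (C.sq_of_isConj hs) (by
    intro c hzc
    rw [← hg]
    exact C.fpf hne (by rw [hg]; exact hc) hzc)
  exact ⟨l, hl, (C.swaps_mul_K hk).1 (by rw [← he]; exact hsw), k, hk, he⟩

omit [Finite G] [Finite Ω] in
theorem exists_l (C : Cfg U a b z M q) : ∃ l ∈ M, Swaps l a b := by
  obtain ⟨m, hm, h1, h2⟩ := C.Mtr b a C.ab C.zD.2 C.zD.1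
  exact ⟨m, hm, h2, h1⟩

omit [Finite G] [Finite Ω] in
theorem card_S (C : Cfg U a b z M q) :
    Nat.card {l : G // l ∈ M ∧ Swaps l a b} = Nat.card (Dab G a b ⊓ M : Subgroup G) := by
  obtain ⟨m, hm, hs⟩ := C.exists_l
  refine Nat.card_congr ⟨fun l => ⟨m⁻¹ * l, hs.inv.mul l.2.2, M.mul_mem (M.inv_mem hm) l.2.1⟩,
    fun d => ⟨m * d, M.mul_mem hm d.2.2, hs.mul_D d.2.1⟩, ?_, ?_⟩
  · intro l; apply Subtype.ext; simp only [mul_inv_cancel_left]
  · intro d; apply Subtype.ext; simp only [inv_mul_cancel_left]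

theorem card_two {α : Type*} {P : α → Prop} {c d : α} (hcd : c ≠ d)
    (h : ∀ x, P x ↔ x = c ∨ x = d) : Nat.card {x // P x} = 2 := by
  have h1 : Nat.card {x // P x} = Nat.card ({c, d} : Set α) :=
    Nat.card_congr (Equiv.subtypeEquivRight fun x => by rw [h x]; rfl)
  rw [h1, Nat.card_coe_set_eq, Set.ncard_pair hcd]

omit [Finite G] [Finite Ω] in
/-- the common fixed points of `z` and an involution of `Dab` -/
theorem fix_two (C : Cfg U a b z M q) {t : G} (ht : t ∈ Dab G a b) (ht2 : t * t = 1) (ht1 : t ≠ 1)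
    (htz : t ≠ z) (c : Ω) : (t • c = c ∧ z • c = c) ↔ c = a ∨ c = b := by
  constructor
  · rintro ⟨h1, h2⟩
    by_cases hca : c = a
    · exact Or.inl hca
    right
    obtain ⟨u, hu, huc⟩ := C.h.trans C.ab hca
    have key : ∀ x : G, x • a = a → x • b = b → x • c = c → u * x = x * u := by
      intro x hxa hxb hxc
      have h3 : x * u * x⁻¹ = u := C.h.eq_of_smul_eq C.ab (C.h.conj_of_fix hxa hu) hu (by
        rw [mul_smul, mul_smul, inv_smul_eq_iff.2 hxb.symm, huc, hxc])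
      calc u * x = x * u * x⁻¹ * x := by rw [h3]
        _ = x * u := by group
    have h4 := C.four t ht ht2 ht1 htz u hu (key t ht.1 ht.2 h1) (key z C.zD.1 C.zD.2 h2)
    rw [← huc, h4, one_smul]
  · rintro (rfl | rfl)
    · exact ⟨ht.1, C.zD.1⟩
    · exact ⟨ht.2, C.zD.2⟩

/-! ### The case `z ∉ M` -/

omit [Finite G] [Finite Ω] in
theorem p_MK (C : Cfg U a b z M q) (hz : z ∉ M) {m : G} (hm : m ∈ M)
    (hm' : m ∈ kerFix Ω (zpowers z)) : m = 1 := by
  rcases C.MK m hm hm' with h1 | h1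
  · exact h1
  · exact absurd (h1 ▸ hm) hz

omit [Finite G] [Finite Ω] in
theorem p_sq (C : Cfg U a b z M q) (hz : z ∉ M) {l : G} (hl : l ∈ M) (hs : Swaps l a b) :
    l * l = 1 := C.p_MK hz (mul_mem hl hl) (C.Msw l hl hs)

omit [Finite Ω] [Finite G] in
theorem p_card (C : Cfg U a b z M q) (hz : z ∉ M) :
    2 * Nat.card {l : G // l ∈ M ∧ Swaps l a b} = q - 1 := by
  rw [C.card_S, ← C.cardE]
  congr 1
  have h1 : kerFix Ω (zpowers z) ⊓ (Dab G a b ⊓ M) = ⊥ := by
    rw [eq_bot_iff]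
    intro x hx
    exact mem_bot.2 (C.p_MK hz hx.2.2 hx.1)
  rw [← inf_relIndex_right, h1, relIndex_bot_left]

omit [Finite G] [Finite Ω] in
/-- commuting elements of `M` and `K` whose product is an involution -/
theorem p_k (C : Cfg U a b z M q) (hz : z ∉ M) {l k : G} (hl : l ∈ M)
    (hk : k ∈ kerFix Ω (zpowers z)) (h : (l * k) * (l * k) = 1) : l * l = 1 ∧ (k = 1 ∨ k = z) := by
  have h1 : (l * k) * (l * k) = (l * l) * (k * k) := by
    calc (l * k) * (l * k) = l * (k * l) * k := by group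
      _ = l * (l * k) * k := by rw [C.MKc l hl k hk]
      _ = _ := by group
  rw [h1] at h
  have h2 : l * l = (k * k)⁻¹ := eq_inv_of_mul_eq_one_left h
  have h3 : l * l = 1 := C.p_MK hz (mul_mem hl hl) (by rw [h2]; exact inv_mem (mul_mem hk hk))
  refine ⟨h3, C.Kz k hk ?_⟩
  rw [h3, one_mul] at h
  exact h

/-- every element `l ∈ M` interchanging `a` and `b`, and `l z`, is conjugate to `z` -/
theorem p_conj (C : Cfg U a b z M q) (hz : z ∉ M) {l : G} (hl : l ∈ M) (hs : Swaps l a b) :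
    IsConj z l ∧ IsConj z (l * z) := by
  classical
  let Ψ : {l : G // l ∈ M ∧ Swaps l a b} × Bool → G := fun p => p.1.1 * (if p.2 then z else 1)
  have h1 : {s : G | IsConj z s ∧ Swaps s a b} ⊆ Set.range Ψ := by
    rintro s ⟨hs1, hs2⟩
    obtain ⟨l, hl, hls, k, hk, rfl⟩ := C.J_inner hs1 hs2
    rcases (C.p_k hz hl hk (C.sq_of_isConj hs1)).2 with rfl | rfl
    · exact ⟨(⟨l, hl, hls⟩, false), rfl⟩
    · exact ⟨(⟨l, hl, hls⟩, true), rfl⟩
  have h2 : (Set.range Ψ).ncard ≤ {s : G | IsConj z s ∧ Swaps s a b}.ncard := by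
    have h3 : {s : G | IsConj z s ∧ Swaps s a b}.ncard = q - 1 := by
      rw [← C.card_J, ← Nat.card_coe_set_eq]
      rfl
    rw [h3, ← C.p_card hz, ← Nat.card_coe_set_eq]
    refine (Nat.card_le_card_of_surjective _ Set.rangeFactorization_surjective).trans ?_
    rw [Nat.card_prod, Nat.card_eq_fintype_card (α := Bool), Fintype.card_bool, mul_comm]
  have h4 := Set.eq_of_subset_of_ncard_le h1 h2 (Set.toFinite _)
  have h5 : l ∈ Set.range Ψ := ⟨(⟨l, hl, hs⟩, false), mul_one l⟩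
  have h6 : l * z ∈ Set.range Ψ := ⟨(⟨l, hl, hs⟩, true), rfl⟩
  rw [← h4] at h5 h6
  exact ⟨h5.1, h6.1⟩

/-- an involution commuting with `z`, not conjugate to `z`, has exactly two fixed points on
`Fix z`. -/
theorem p_two (C : Cfg U a b z M q) (hz : z ∉ M) {y : G} (hy : y * z = z * y) (hy2 : y * y = 1)
    (hy1 : y ≠ 1) (hn : ¬ IsConj z y) :
    ∃ c d : Ω, c ≠ d ∧ ∀ x, (y • x = x ∧ z • x = x) ↔ x = c ∨ x = d := by
  by_cases hf : ∀ c : Ω, z • c = c → y • c ≠ c
  · exfalso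
    obtain ⟨l, hl, k, hk, rfl⟩ := C.exists_inner hy hy2 hf
    obtain ⟨h1, h2⟩ := C.p_k hz hl hk hy2
    have h3 : z • l • a = l • a := by
      rw [← mul_smul, ← C.MC l hl, mul_smul, show z • a = a from C.zD.1]
    have h4 : l • a ≠ a := by
      intro h5
      refine hf a C.zD.1 ?_
      rw [mul_smul, show k • a = a from mem_K.1 hk a C.zD.1, h5]
    obtain ⟨m, hm, hm1, hm2⟩ := C.Mtr a (l • a) h4.symm C.zD.1 h3
    have h5 : Swaps (m * l * m⁻¹) a b := by
      constructor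
      · rw [mul_smul, mul_smul, inv_smul_eq_iff.2 hm1.symm, hm2]
      · rw [mul_smul, mul_smul, inv_smul_eq_iff.2 hm2.symm, ← mul_smul l l, h1, one_smul, hm1]
    obtain ⟨h6, h7⟩ := C.p_conj hz (mul_mem (mul_mem hm hl) (inv_mem hm)) h5
    rcases h2 with rfl | rfl
    · apply hn
      rw [mul_one]
      exact h6.trans (isConj_iff.2 ⟨m⁻¹, by group⟩)
    · apply hn
      refine h7.trans (isConj_iff.2 ⟨m⁻¹, ?_⟩)
      have h8 : m⁻¹ * k * m = k := by
        rw [mul_assoc, ← C.MC m hm]; group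
      calc m⁻¹ * (m * l * m⁻¹ * k) * m⁻¹⁻¹ = l * (m⁻¹ * k * m) := by group
        _ = l * k := by rw [h8]
  · push Not at hf
    obtain ⟨c, hc, hyc⟩ := hf
    obtain ⟨d, hd, hzd, hyd⟩ := C.exists_two hy hy2 hc hyc
    obtain ⟨m, hm, hm1, hm2⟩ := C.Mtr c d hd.symm hc hzd
    refine ⟨c, d, hd.symm, fun x => ?_⟩
    have hD : m * y * m⁻¹ ∈ Dab G a b := mem_Dab.2 ⟨by
      rw [mul_smul, mul_smul, inv_smul_eq_iff.2 hm1.symm, hyc, hm1], by
      rw [mul_smul, mul_smul, inv_smul_eq_iff.2 hm2.symm, hyd, hm2]⟩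
    have hmz : m * z * m⁻¹ = z := by rw [C.MC m hm]; group
    have h1 := C.fix_two hD (by
      calc m * y * m⁻¹ * (m * y * m⁻¹) = m * (y * y) * m⁻¹ := by group
        _ = 1 := by rw [hy2]; group) (fun e => hy1 (by
      calc y = m⁻¹ * (m * y * m⁻¹) * m := by group
        _ = 1 := by rw [e]; group)) (fun e => hn (isConj_iff.2 ⟨m⁻¹, by
      rw [← e]; group⟩)) (m • x)
    have h2 : (m * y * m⁻¹) • m • x = m • x ↔ y • x = x := by
      rw [mul_smul, inv_smul_smul, mul_smul]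
      exact ⟨fun e => MulAction.injective m e, fun e => by rw [e]⟩
    have h3 : z • m • x = m • x ↔ z • x = x := by
      rw [← mul_smul, ← C.MC m hm, mul_smul]
      exact ⟨fun e => MulAction.injective m e, fun e => by rw [e]⟩
    rw [h2, h3] at h1
    rw [h1, ← hm1, ← hm2]
    exact ⟨fun e => e.imp (fun e => MulAction.injective m e) (fun e => MulAction.injective m e),
      fun e => e.imp (fun e => by rw [e]) (fun e => by rw [e])⟩

/-- the same for a conjugate `s` of `z` -/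
theorem p_two' (C : Cfg U a b z M q) (hz : z ∉ M) {s : G} (hs : IsConj z s) {y : G}
    (hy : y * s = s * y) (hy2 : y * y = 1) (hy1 : y ≠ 1) (hn : ¬ IsConj z y) :
    Nat.card {c : {c : Ω // y • c = c} // s • (c : Ω) = c} = 2 := by
  obtain ⟨g, rfl⟩ := isConj_iff.1 hs
  obtain ⟨c, d, hcd, h⟩ := C.p_two hz (y := g⁻¹ * y * g) (by
    calc g⁻¹ * y * g * z = g⁻¹ * (y * (g * z * g⁻¹)) * g := by group
      _ = g⁻¹ * ((g * z * g⁻¹) * y) * g := by rw [hy]
      _ = z * (g⁻¹ * y * g) := by group) (by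
    calc g⁻¹ * y * g * (g⁻¹ * y * g) = g⁻¹ * (y * y) * g := by group
      _ = 1 := by rw [hy2]; group) (fun e => hy1 (by
    calc y = g * (g⁻¹ * y * g) * g⁻¹ := by group
      _ = 1 := by rw [e]; group)) (fun e => hn (e.trans (isConj_iff.2 ⟨g, by group⟩)))
  have h1 : ∀ x : Ω, (y • x = x ∧ (g * z * g⁻¹) • x = x) ↔ x = g • c ∨ x = g • d := by
    intro x
    have h2 := h (g⁻¹ • x)
    have h3 : (g⁻¹ * y * g) • g⁻¹ • x = g⁻¹ • x ↔ y • x = x := by
      rw [mul_smul, smul_inv_smul, mul_smul]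
      exact ⟨fun e => MulAction.injective g⁻¹ e, fun e => by rw [e]⟩
    have h4 : z • g⁻¹ • x = g⁻¹ • x ↔ (g * z * g⁻¹) • x = x := by
      rw [mul_smul, mul_smul]
      exact ⟨fun e => by rw [e, smul_inv_smul], fun e => by
        conv_rhs => rw [← e]
        rw [inv_smul_smul]⟩
    rw [h3, h4] at h2
    rw [h2, inv_smul_eq_iff, inv_smul_eq_iff]
  have e1 : {c : {c : Ω // y • c = c} // (g * z * g⁻¹) • (c : Ω) = c} ≃
      {x : Ω // y • x = x ∧ (g * z * g⁻¹) • x = x} :=
    ⟨fun x => ⟨x.1.1, x.1.2, x.2⟩, fun x => ⟨⟨x.1, x.2.1⟩, x.2.2⟩, fun _ => rfl, fun _ => rfl⟩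
  rw [Nat.card_congr e1]
  exact card_two (fun e => hcd (MulAction.injective g e)) h1

omit [Finite G] [Finite Ω] in
theorem not_conj (C : Cfg U a b z M q) {e : G} (he : e ∈ Dab G a b) (hez : e ≠ z) :
    ¬ IsConj z e := by
  intro h
  obtain ⟨g, rfl⟩ := isConj_iff.1 h
  exact hez (C.uz g he)

omit [Finite G] in
/-- the number of fixed points of an involution is divisible by four -/
theorem four_dvd_fix (C : Cfg U a b z M q) {t : G} (ht2 : t * t = 1) :
    4 ∣ Nat.card {c : Ω // t • c = c} := by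
  have h1 := C.h.four_dvd C.gen C.odd ht2
  have h4 : Nat.card Ω = q ^ 3 + 1 := by rw [C.h.card a, C.cardU]
  have h2 : 4 ∣ Nat.card Ω := by
    rw [h4]
    have hq := C.q4
    have : (q ^ 3 + 1) % 4 = 0 := by
      rw [Nat.add_mod, Nat.pow_mod, hq]
    exact Nat.dvd_of_mod_eq_zero this
  have h3 : Nat.card (fixedBy Ω t) = Nat.card {c : Ω // t • c = c} := rfl
  rw [h3] at h1
  have h5 : Nat.card {c : Ω // t • c = c} ≤ Nat.card Ω :=
    Nat.card_le_card_of_injective _ Subtype.val_injective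
  exact (Nat.dvd_sub_iff_right h5 h2).1 h1

theorem false_p (C : Cfg U a b z M q) (hz : z ∉ M) {e : G} (he : e ∈ Dab G a b)
    (he2 : e * e = 1) (he1 : e ≠ 1) (hez : e ≠ z) : False := by
  have hn := C.not_conj he hez
  have hec : e * z = z * e := C.zW e (Dab_le_Wab a b he)
  have hei : e⁻¹ = e := inv_eq_of_mul_eq_one_left he2
  have hodd : Odd (Nat.card {l : G // l ∈ M ∧ Swaps l a b}) := by
    have h1 := C.p_card hz
    have h2 := C.q4
    exact Nat.odd_iff.2 (by omega)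
  let f : {l : G // l ∈ M ∧ Swaps l a b} → {l : G // l ∈ M ∧ Swaps l a b} := fun l =>
    ⟨e * l.1 * e⁻¹, C.Mn e hec l.1 l.2.1, by
      have h1 := l.2.2.conj e
      rwa [show e • a = a from he.1, show e • b = b from he.2] at h1⟩
  obtain ⟨⟨l, hl, hls⟩, hle⟩ := exists_fixed_of_odd hodd f (fun x => Subtype.ext (by
    change e * (e * x.1 * e⁻¹) * e⁻¹ = x.1
    calc e * (e * x.1 * e⁻¹) * e⁻¹ = (e * e) * x.1 * (e * e)⁻¹ := by group
      _ = x.1 := by rw [he2]; group))
  have hle' : e * l * e⁻¹ = l := congrArg Subtype.val hle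
  have hel : e * l = l * e := by
    calc e * l = e * l * e⁻¹ * e := by group
      _ = l * e := by rw [hle']
  obtain ⟨hc1, hc2⟩ := C.p_conj hz hl hls
  have hlz := C.MC l hl
  let F : {c : Ω // e • c = c} → {c : Ω // e • c = c} := fun x => ⟨z • x.1, by
    rw [← mul_smul, hec, mul_smul, x.2]⟩
  let H : {c : Ω // e • c = c} → {c : Ω // e • c = c} := fun x => ⟨l • x.1, by
    rw [← mul_smul, hel, mul_smul, x.2]⟩
  have h1 := four_group_count F H (fun x => Subtype.ext (by
    change z • z • x.1 = x.1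
    rw [← mul_smul, C.zz, one_smul])) (fun x => Subtype.ext (by
    change l • l • x.1 = x.1
    rw [← mul_smul, C.p_sq hz hl hls, one_smul])) (fun x => Subtype.ext (by
    change z • l • x.1 = l • z • x.1
    rw [← mul_smul, ← mul_smul, hlz])) (by
    rw [← C.p_two' hz (IsConj.refl z) hec he2 he1 hn]
    exact Nat.card_congr (Equiv.subtypeEquivRight fun x => Subtype.ext_iff)) (by
    rw [← C.p_two' hz hc1 hel he2 he1 hn]
    exact Nat.card_congr (Equiv.subtypeEquivRight fun x => Subtype.ext_iff)) (by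
    rw [← C.p_two' hz hc2 (by
      calc e * (l * z) = (e * l) * z := by group
        _ = l * (e * z) := by rw [hel]; group
        _ = (l * z) * e := by rw [hec]; group) he2 he1 hn]
    refine Nat.card_congr (Equiv.subtypeEquivRight fun x => ?_)
    rw [Subtype.ext_iff]
    change z • l • x.1 = x.1 ↔ (l * z) • x.1 = x.1
    rw [hlz, mul_smul])
  have h2 := C.four_dvd_fix he2
  omega

/-! ### The case `z ∈ M` -/

omit [Finite G] [Finite Ω] in
theorem s_sq (C : Cfg U a b z M q) (hz : z ∈ M) {l : G} (hl : l ∈ M) (hs : Swaps l a b) :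
    l * l = z := by
  rcases C.MK (l * l) (mul_mem hl hl) (C.Msw l hl hs) with h1 | h1
  · exfalso
    have h2 : l • a = a := by
      rcases C.Mz hz l hl h1 with rfl | rfl
      · exact one_smul _ a
      · exact C.zD.1
    exact C.ab (hs.1.symm.trans h2)
  · exact h1

omit [Finite G] [Finite Ω] in
theorem s_card (C : Cfg U a b z M q) (hz : z ∈ M) :
    Nat.card {l : G // l ∈ M ∧ Swaps l a b} = q - 1 := by
  rw [C.card_S, ← C.cardE]
  have h1 : Nat.card (kerFix Ω (zpowers z) ⊓ (Dab G a b ⊓ M) : Subgroup G) = 2 := by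
    refine card_two (c := (1 : G)) (d := z) C.z1.symm fun x => ?_
    constructor
    · rintro ⟨hx1, hx2⟩
      exact C.MK x hx2.2 hx1
    · rintro (rfl | rfl)
      · exact one_mem _
      · exact ⟨C.zK, C.zD, hz⟩
  have h2 := relIndex_mul_relIndex ⊥ (kerFix Ω (zpowers z) ⊓ (Dab G a b ⊓ M))
    (Dab G a b ⊓ M) bot_le inf_le_right
  rw [relIndex_bot_left, relIndex_bot_left, h1, inf_relIndex_right] at h2
  exact h2.symm

omit [Finite G] [Finite Ω] in
/-- `K`-parts of the conjugates of `z`: transport from `l` to `l'` -/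
theorem s_transport (C : Cfg U a b z M q) {l l' : G} (hl : l ∈ M)
    (hs : Swaps l a b) (hl' : l' ∈ M) (hs' : Swaps l' a b) :
    ∃ ζ : G, (ζ = 1 ∨ ζ = z) ∧ ∀ k ∈ kerFix Ω (zpowers z), (IsConj z (l * k) ↔ IsConj z (l' * (ζ * k))) := by
  obtain ⟨x, hx, hxD, hxK⟩ := C.Mcj l hl l' hl' hs hs'
  have h1 : x * l * x⁻¹ * l'⁻¹ ∈ M :=
    mul_mem (mul_mem (mul_mem hx hl) (inv_mem hx)) (inv_mem hl')
  refine ⟨x * l * x⁻¹ * l'⁻¹, C.MK _ h1 hxK, fun k hk => ?_⟩
  have h2 : l' * (x * l * x⁻¹ * l'⁻¹ * k) = x * (l * k) * x⁻¹ := by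
    calc l' * (x * l * x⁻¹ * l'⁻¹ * k) = (l' * (x * l * x⁻¹ * l'⁻¹)) * k := by group
      _ = ((x * l * x⁻¹ * l'⁻¹) * l') * k := by rw [C.MKc l' hl' _ hxK]
      _ = x * l * (x⁻¹ * k) := by group
      _ = x * l * (k * x⁻¹) := by rw [C.MKc _ (inv_mem hx) k hk]
      _ = x * (l * k) * x⁻¹ := by group
  rw [h2]
  exact ⟨fun h => h.trans (isConj_iff.2 ⟨x, rfl⟩), fun h => h.trans (isConj_iff.2 ⟨x⁻¹, by group⟩)⟩

theorem s_kappa_card (C : Cfg U a b z M q) (hz : z ∈ M) {l₀ : G} (hl₀ : l₀ ∈ M)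
    (hs₀ : Swaps l₀ a b) :
    Nat.card {k : G // k ∈ kerFix Ω (zpowers z) ∧ IsConj z (l₀ * k)} = 2 := by
  classical
  let T := {p : G × G // (p.1 ∈ M ∧ Swaps p.1 a b) ∧ p.2 ∈ kerFix Ω (zpowers z) ∧
    IsConj z (p.1 * p.2)}
  have e1 : T ≃ Σ l : {l : G // l ∈ M ∧ Swaps l a b},
      {k : G // k ∈ kerFix Ω (zpowers z) ∧ IsConj z (l.1 * k)} :=
    ⟨fun p => ⟨⟨p.1.1, p.2.1⟩, p.1.2, p.2.2⟩, fun x => ⟨(x.1.1, x.2.1), x.1.2, x.2.2⟩,
      fun _ => rfl, fun _ => rfl⟩
  have e2 : T ≃ Σ s : {s : G // IsConj z s ∧ Swaps s a b},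
      {p : G × G // (p.1 ∈ M ∧ Swaps p.1 a b) ∧ p.2 ∈ kerFix Ω (zpowers z) ∧ p.1 * p.2 = s.1} :=
    ⟨fun p => ⟨⟨p.1.1 * p.1.2, p.2.2.2, (C.swaps_mul_K p.2.2.1).2 p.2.1.2⟩, p.1, p.2.1, p.2.2.1,
      rfl⟩, fun x => ⟨x.2.1, x.2.2.1, x.2.2.2.1, by rw [x.2.2.2.2]; exact x.1.2.1⟩,
      fun _ => rfl, by
      rintro ⟨⟨s, hs⟩, ⟨p, hp1, hp2, hp3⟩⟩
      dsimp only at hp3
      subst hp3
      rfl⟩
  have : Fintype {l : G // l ∈ M ∧ Swaps l a b} := Fintype.ofFinite _
  have : Fintype {s : G // IsConj z s ∧ Swaps s a b} := Fintype.ofFinite _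
  have h1 : Nat.card T = (q - 1) * Nat.card {k : G // k ∈ kerFix Ω (zpowers z) ∧
      IsConj z (l₀ * k)} := by
    rw [Nat.card_congr e1, Nat.card_sigma]
    have h2 : ∀ l ∈ (Finset.univ : Finset {l : G // l ∈ M ∧ Swaps l a b}),
        Nat.card {k : G // k ∈ kerFix Ω (zpowers z) ∧ IsConj z (l.1 * k)} =
          Nat.card {k : G // k ∈ kerFix Ω (zpowers z) ∧ IsConj z (l₀ * k)} := by
      rintro ⟨l, hl, hs⟩ -
      obtain ⟨ζ, hζ, h3⟩ := C.s_transport hl hs hl₀ hs₀
      have hζK : ζ ∈ kerFix Ω (zpowers z) := by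
        rcases hζ with rfl | rfl
        · exact one_mem _
        · exact C.zK
      refine Nat.card_congr ⟨fun k => ⟨ζ * k, mul_mem hζK k.2.1, (h3 k k.2.1).1 k.2.2⟩,
        fun k => ⟨ζ⁻¹ * k, mul_mem (inv_mem hζK) k.2.1,
          (h3 _ (mul_mem (inv_mem hζK) k.2.1)).2 (by
            rw [mul_inv_cancel_left]; exact k.2.2)⟩, ?_, ?_⟩
      · intro k; apply Subtype.ext; simp only [inv_mul_cancel_left]
      · intro k; apply Subtype.ext; simp only [mul_inv_cancel_left]
    rw [Finset.sum_congr rfl h2, Finset.sum_const, Finset.card_univ, smul_eq_mul,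
      ← Nat.card_eq_fintype_card, C.s_card hz]
  have h2 : Nat.card T = (q - 1) * 2 := by
    rw [Nat.card_congr e2, Nat.card_sigma]
    have h2 : ∀ s ∈ (Finset.univ : Finset {s : G // IsConj z s ∧ Swaps s a b}),
        Nat.card {p : G × G // (p.1 ∈ M ∧ Swaps p.1 a b) ∧ p.2 ∈ kerFix Ω (zpowers z) ∧
          p.1 * p.2 = s.1} = 2 := by
      rintro ⟨s, hs1, hs2⟩ -
      obtain ⟨l, hl, hls, k, hk, he⟩ := C.J_inner hs1 hs2
      refine card_two (c := (l, k)) (d := (l * z, z * k)) (fun e => C.z1 ?_) ?_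
      · have := congrArg Prod.fst e
        exact left_eq_mul.1 this
      · rintro ⟨l', k'⟩
        constructor
        · rintro ⟨⟨h3, h4⟩, h5, h6⟩
          dsimp only at h3 h4 h5 h6
          have h7 : l⁻¹ * l' = k * k'⁻¹ := by
            rw [he] at h6
            calc l⁻¹ * l' = l⁻¹ * (l' * k') * k'⁻¹ := by group
              _ = k * k'⁻¹ := by rw [h6]; group
          have h8 : k * k'⁻¹ ∈ kerFix Ω (zpowers z) := mul_mem hk (inv_mem h5)
          rcases C.MK (l⁻¹ * l') (mul_mem (inv_mem hl) h3) (by rw [h7]; exact h8) with h9 | h9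
          · left
            rw [inv_mul_eq_one.1 h9]
            rw [h9] at h7
            rw [eq_comm, mul_inv_eq_one] at h7
            rw [h7]
          · right
            have h10 : l' = l * z := by rw [← h9]; group
            have h11 : k' = z * k := by
              rw [h9] at h7
              have h12 : z * k' = k := by rw [h7]; group
              rw [← h12, ← mul_assoc, C.zz, one_mul]
            rw [h10, h11]
        · rintro (h3 | h3)
          · obtain ⟨rfl, rfl⟩ := Prod.mk.inj h3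
            exact ⟨⟨hl, hls⟩, hk, he.symm⟩
          · obtain ⟨rfl, rfl⟩ := Prod.mk.inj h3
            refine ⟨⟨mul_mem hl hz, (C.swaps_mul_K C.zK).2 hls⟩, mul_mem C.zK hk, ?_⟩
            dsimp only
            rw [he, mul_assoc, ← mul_assoc z z k, C.zz, one_mul]
    rw [Finset.sum_congr rfl h2, Finset.sum_const, Finset.card_univ, smul_eq_mul,
      ← Nat.card_eq_fintype_card, C.card_J]
  rw [h1] at h2
  have hq := C.q4
  exact Nat.eq_of_mul_eq_mul_left (by omega) h2

/-- the elements `k` of `K` with `l k` conjugate to `z`. -/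
theorem s_exists (C : Cfg U a b z M q) (hz : z ∈ M) :
    ∃ k₀ ∈ kerFix Ω (zpowers z), k₀ * k₀ = z ∧ ∀ l ∈ M, Swaps l a b →
      ∀ k ∈ kerFix Ω (zpowers z), (IsConj z (l * k) ↔ k = k₀ ∨ k = k₀⁻¹) := by
  obtain ⟨l₀, hl₀, hs₀⟩ := C.exists_l
  have hc := C.s_kappa_card hz hl₀ hs₀
  have hsq := C.s_sq hz hl₀ hs₀
  have hk2 : ∀ k ∈ kerFix Ω (zpowers z), IsConj z (l₀ * k) → k * k = z := by
    intro k hk hk'
    have h1 := C.sq_of_isConj hk'
    have h2 : (l₀ * k) * (l₀ * k) = (l₀ * l₀) * (k * k) := by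
      calc (l₀ * k) * (l₀ * k) = l₀ * (k * l₀) * k := by group
        _ = l₀ * (l₀ * k) * k := by rw [C.MKc l₀ hl₀ k hk]
        _ = _ := by group
    rw [h2, hsq] at h1
    rw [eq_comm, ← C.z_inv]
    exact (eq_inv_of_mul_eq_one_right h1).symm
  obtain ⟨⟨k₁, hk₁, hk₁'⟩, ⟨k₂, hk₂, hk₂'⟩, hne, huniv⟩ := Nat.card_eq_two_iff.1 hc
  have hne' : k₁ ≠ k₂ := fun e => hne (Subtype.ext e)
  have hall : ∀ k ∈ kerFix Ω (zpowers z), IsConj z (l₀ * k) → k = k₁ ∨ k = k₂ := by
    intro k hk hk'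
    have h1 : (⟨k, hk, hk'⟩ : {k : G // k ∈ kerFix Ω (zpowers z) ∧ IsConj z (l₀ * k)}) ∈
        (Set.univ : Set _) := Set.mem_univ _
    rw [← huniv] at h1
    rcases h1 with h1 | h1
    · exact Or.inl (congrArg Subtype.val h1)
    · exact Or.inr (congrArg Subtype.val h1)
  have hcomm : k₂ * k₁ * k₂⁻¹ = k₁ := by
    have h1 : l₀ * (k₂ * k₁ * k₂⁻¹) = (l₀ * k₂) * (l₀ * k₁) * (l₀ * k₂)⁻¹ := by
      have h2 := C.MKc l₀ hl₀ k₂ hk₂
      have h3 := C.MKc l₀ hl₀ k₁ hk₁
      calc l₀ * (k₂ * k₁ * k₂⁻¹) = (l₀ * k₂) * k₁ * k₂⁻¹ := by group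
        _ = (k₂ * l₀) * k₁ * k₂⁻¹ := by rw [h2]
        _ = (k₂ * l₀) * (l₀ * k₁) * l₀⁻¹ * k₂⁻¹ := by rw [h3]; group
        _ = (l₀ * k₂) * (l₀ * k₁) * (k₂ * l₀)⁻¹ := by rw [h2]; group
        _ = _ := by rw [h2]
    have h2 := hall (k₂ * k₁ * k₂⁻¹) (mul_mem (mul_mem hk₂ hk₁) (inv_mem hk₂)) (by
      rw [h1]
      exact hk₁'.trans (isConj_iff.2 ⟨_, rfl⟩))
    rcases h2 with h2 | h2
    · exact h2
    · exfalso
      apply hne'
      calc k₁ = k₂⁻¹ * (k₂ * k₁ * k₂⁻¹) * k₂ := by group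
        _ = k₂ := by rw [h2]; group
  have hcomm' : k₂ * k₁ = k₁ * k₂ := by
    calc k₂ * k₁ = k₂ * k₁ * k₂⁻¹ * k₂ := by group
      _ = k₁ * k₂ := by rw [hcomm]
  have h11 := hk2 k₁ hk₁ hk₁'
  have h22 := hk2 k₂ hk₂ hk₂'
  have hinv : k₁⁻¹ = z * k₁ := by
    rw [inv_eq_iff_mul_eq_one, ← mul_assoc]
    calc k₁ * z * k₁ = z * (k₁ * k₁) := by rw [C.K_comm hk₁]; group
      _ = 1 := by rw [h11, C.zz]
  have h12 : k₂ = k₁⁻¹ := by
    have h3 : (k₁ * k₂) * (k₁ * k₂) = 1 := by
      calc (k₁ * k₂) * (k₁ * k₂) = k₁ * (k₂ * k₁) * k₂ := by group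
        _ = (k₁ * k₁) * (k₂ * k₂) := by rw [hcomm']; group
        _ = 1 := by rw [h11, h22, C.zz]
    rcases C.Kz (k₁ * k₂) (mul_mem hk₁ hk₂) h3 with h4 | h4
    · exact (inv_eq_of_mul_eq_one_right h4).symm
    · exfalso
      apply hne'
      have h5 : k₂ = k₁⁻¹ * z := by rw [← h4]; group
      rw [h5, hinv, mul_assoc, C.K_comm hk₁, ← mul_assoc, C.zz, one_mul]
  refine ⟨k₁, hk₁, h11, fun l hl hs k hk => ?_⟩
  have h0 : ∀ k ∈ kerFix Ω (zpowers z), (IsConj z (l₀ * k) ↔ k = k₁ ∨ k = k₁⁻¹) := by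
    intro k hk
    constructor
    · intro h
      rw [← h12]
      exact hall k hk h
    · rintro (rfl | h)
      · exact hk₁'
      · rw [h, ← h12]; exact hk₂'
  obtain ⟨ζ, hζ, h3⟩ := C.s_transport hl hs hl₀ hs₀
  rw [h3 k hk]
  rcases hζ with rfl | rfl
  · rw [one_mul, h0 k hk]
  · rw [h0 _ (mul_mem C.zK hk)]
    have h4 : ∀ x y : G, ζ * x = y ↔ x = ζ * y := by
      intro x y
      constructor
      · rintro rfl
        rw [← mul_assoc, C.zz, one_mul]
      · rintro rfl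
        rw [← mul_assoc, C.zz, one_mul]
    rw [h4, h4, ← hinv]
    have h5 : ζ * k₁⁻¹ = k₁ := by rw [hinv, ← mul_assoc, C.zz, one_mul]
    rw [h5, or_comm]

theorem false_s (C : Cfg U a b z M q) (hz : z ∈ M) {e : G} (he : e ∈ Dab G a b)
    (he2 : e * e = 1) (he1 : e ≠ 1) (hez : e ≠ z) : False := by
  obtain ⟨k₀, hk₀, hk₀2, hκ⟩ := C.s_exists hz
  obtain ⟨l₀, hl₀, hs₀⟩ := C.exists_l
  have hn := C.not_conj he hez
  have hk0ne : k₀ ≠ k₀⁻¹ := by
    intro h
    apply C.z1
    rw [← hk₀2]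
    nth_rewrite 2 [h]
    group
  have hinv : k₀⁻¹ = z * k₀ := by
    rw [inv_eq_iff_mul_eq_one, ← mul_assoc]
    calc k₀ * z * k₀ = z * (k₀ * k₀) := by rw [C.K_comm hk₀]; group
      _ = 1 := by rw [hk₀2, C.zz]
  -- `C(z)` normalises `{k₀, k₀⁻¹}`
  have hnorm : ∀ g : G, g * z = z * g → g * k₀ * g⁻¹ = k₀ ∨ g * k₀ * g⁻¹ = k₀⁻¹ := by
    intro g hg
    obtain ⟨m, hm, hmD⟩ := C.exists_mul hg
    have hDz : (m * g) * z = z * (m * g) := C.zW _ (Dab_le_Wab a b hmD)
    have h1 : (m * g) * k₀ * (m * g)⁻¹ = k₀ ∨ (m * g) * k₀ * (m * g)⁻¹ = k₀⁻¹ := by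
      have h2 : Swaps ((m * g) * l₀ * (m * g)⁻¹) a b := by
        have h3 := hs₀.conj (m * g)
        rwa [show (m * g) • a = a from hmD.1, show (m * g) • b = b from hmD.2] at h3
      refine (hκ _ (C.Mn _ hDz l₀ hl₀) h2 _ (C.K_conj hDz hk₀)).1 ?_
      have h4 : IsConj z (l₀ * k₀) := (hκ l₀ hl₀ hs₀ k₀ hk₀).2 (Or.inl rfl)
      exact h4.trans (isConj_iff.2 ⟨m * g, by group⟩)
    have h5 : g * k₀ * g⁻¹ = (m * g) * k₀ * (m * g)⁻¹ := by
      have h6 := C.MKc m hm _ (C.K_conj hg hk₀)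
      calc g * k₀ * g⁻¹ = (g * k₀ * g⁻¹) * m * m⁻¹ := by group
        _ = m * (g * k₀ * g⁻¹) * m⁻¹ := by rw [h6]
        _ = _ := by group
    rw [h5]
    exact h1
  -- an element of order 4 of `K` with square `z` outside `⟨k₀⟩` does not commute with `k₀`
  have hk' : ∀ k ∈ kerFix Ω (zpowers z), k * k = z → k * k₀ = k₀ * k → k = k₀ ∨ k = k₀⁻¹ := by
    intro k hk hk2 hc
    have h1 : (k * k₀) * (k * k₀) = 1 := by
      calc (k * k₀) * (k * k₀) = k * (k₀ * k) * k₀ := by group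
        _ = (k * k) * (k₀ * k₀) := by rw [← hc]; group
        _ = 1 := by rw [hk2, hk₀2, C.zz]
    rcases C.Kz _ (mul_mem hk hk₀) h1 with h2 | h2
    · right
      exact eq_inv_of_mul_eq_one_left h2
    · left
      have h3 : k = z * k₀⁻¹ := by rw [← h2]; group
      rw [h3, hinv, ← mul_assoc, C.zz, one_mul]
  -- involutions of `D` do not commute with `k₀`
  have ht : ∀ t ∈ Dab G a b, t * t = 1 → t ≠ 1 → t ≠ z → t * k₀ ≠ k₀ * t := by
    intro t htD ht2 ht1 htz hc
    have h1 := C.four_dvd_fix ht2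
    -- `⟨k₀⟩` acts on the fixed points of `t` other than `a, b`
    let X : SubMulAction (zpowers k₀) Ω :=
      { carrier := {c | t • c = c ∧ c ≠ a ∧ c ≠ b}
        smul_mem' := by
          rintro ⟨x, hx⟩ c ⟨h2, h3, h4⟩
          obtain ⟨n, rfl⟩ := mem_zpowers_iff.1 hx
          have h5 : t * k₀ ^ n = k₀ ^ n * t := (Commute.zpow_right (show Commute t k₀ from hc) n)
          have h6 : k₀ ^ n ∈ Dab G a b := zpow_mem (C.K_le_D hk₀) n
          have h7 : (k₀ ^ n) • a = a := h6.1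
          have h8 : (k₀ ^ n) • b = b := h6.2
          change t • (k₀ ^ n) • c = (k₀ ^ n) • c ∧ (k₀ ^ n) • c ≠ a ∧ (k₀ ^ n) • c ≠ b
          refine ⟨by rw [← mul_smul, h5, mul_smul, h2], fun e => h3 ?_, fun e => h4 ?_⟩
          · exact MulAction.injective (k₀ ^ n) (by change (k₀ ^ n) • c = (k₀ ^ n) • a; rw [e, h7])
          · exact MulAction.injective (k₀ ^ n) (by change (k₀ ^ n) • c = (k₀ ^ n) • b; rw [e, h8]) }
    have hX : Nat.card X + 2 = Nat.card {c : Ω // t • c = c} := by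
      have h2 : ({a, b} : Set Ω) ⊆ {c : Ω | t • c = c} := by
        rintro c (rfl | rfl)
        · exact htD.1
        · exact htD.2
      have h3 := Set.ncard_sdiff_add_ncard_of_subset h2 (Set.toFinite _)
      rw [Set.ncard_pair C.ab.symm] at h3
      have h4 : Nat.card {c : Ω // t • c = c} = {c : Ω | t • c = c}.ncard :=
        Nat.card_coe_set_eq _
      rw [h4, ← h3, ← Nat.card_coe_set_eq]
      congr 1
      refine Nat.card_congr ⟨fun x => ⟨x.1, x.2.1, fun h => ?_⟩, fun x => ⟨x.1, x.2.1, fun h =>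
        x.2.2 (Or.inl h), fun h => x.2.2 (Or.inr h)⟩, fun _ => rfl, fun _ => rfl⟩
      rcases h with h | h
      · exact x.2.2.1 h
      · exact x.2.2.2 h
    have h2 : Nat.card (zpowers k₀) ∣ Nat.card X := by
      refine card_dvd_of_free ?_
      rintro ⟨g, hg⟩ ⟨c, hc1, hc2, hc3⟩ hgc
      have hgc' : g • c = c := congrArg Subtype.val hgc
      have hzc : z • c ≠ c := fun h => by
        rcases (C.fix_two htD ht2 ht1 htz c).1 ⟨hc1, h⟩ with h | h
        · exact hc2 h
        · exact hc3 h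
      apply Subtype.ext
      change g = 1
      obtain ⟨n, rfl⟩ := mem_zpowers_iff.1 hg
      rcases Int.even_or_odd' n with ⟨m, hm | hm⟩
      · have h5 : k₀ ^ n = z ^ m := by
          rw [hm, zpow_mul, zpow_two, hk₀2]
        rw [h5] at hgc' ⊢
        rcases Int.even_or_odd' m with ⟨j, hj | hj⟩
        · rw [hj, zpow_mul, zpow_two, C.zz, one_zpow]
        · exfalso
          rw [hj, zpow_add, zpow_mul, zpow_two, C.zz, one_zpow, one_mul, zpow_one] at hgc'
          exact hzc hgc'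
      · exfalso
        have h5 : k₀ ^ n * k₀ ^ n = z := by
          rw [← (Commute.refl k₀).mul_zpow, hk₀2, hm, zpow_add, zpow_mul, zpow_two, C.zz,
            one_zpow, one_mul, zpow_one]
        apply hzc
        rw [← h5, mul_smul, hgc', hgc']
    have h3 : Nat.card (zpowers k₀) = 4 := by
      rw [Nat.card_zpowers]
      have := orderOf_eq_prime_pow (x := k₀) (p := 2) (n := 1) (by
        rw [pow_one, sq, hk₀2]; exact C.z1) (by
        change k₀ ^ 4 = 1
        calc k₀ ^ 4 = (k₀ * k₀) * (k₀ * k₀) := by simp only [pow_succ, pow_zero, one_mul, mul_assoc]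
          _ = 1 := by rw [hk₀2, C.zz])
      exact this
    rw [h3] at h2
    omega
  -- no conjugate of `e` commutes with `k₀`
  have hfree : ∀ g : G, (g * e * g⁻¹) * k₀ ≠ k₀ * (g * e * g⁻¹) := by
    intro g hc
    set y := g * e * g⁻¹ with hy
    have hy2 : y * y = 1 := by
      rw [hy]
      calc g * e * g⁻¹ * (g * e * g⁻¹) = g * (e * e) * g⁻¹ := by group
        _ = 1 := by rw [he2]; group
    have hyn : ¬ IsConj z y := fun h => hn (h.trans (isConj_iff.2 ⟨g⁻¹, by rw [hy]; group⟩))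
    have hy1 : y ≠ 1 := fun h => he1 (by
      calc e = g⁻¹ * y * g := by rw [hy]; group
        _ = 1 := by rw [h]; group)
    have hyz : y * z = z * y := by
      rw [← hk₀2]
      calc y * (k₀ * k₀) = (y * k₀) * k₀ := by group
        _ = (k₀ * y) * k₀ := by rw [hc]
        _ = k₀ * (y * k₀) := by group
        _ = k₀ * (k₀ * y) := by rw [hc]
        _ = (k₀ * k₀) * y := by group
    by_cases hf : ∀ c : Ω, z • c = c → y • c ≠ c
    · obtain ⟨l, hl, k, hk, hlk⟩ := C.exists_inner hyz hy2 hf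
      have h1 : (l * l) * (k * k) = 1 := by
        rw [← hy2, hlk]
        calc (l * l) * (k * k) = l * (l * k) * k := by group
          _ = l * (k * l) * k := by rw [C.MKc l hl k hk]
          _ = _ := by group
      have h2 : l * l = (k * k)⁻¹ := eq_inv_of_mul_eq_one_left h1
      have hka : k • a = a := mem_K.1 hk a C.zD.1
      have hla : l • a ≠ a := by
        intro h
        refine hf a C.zD.1 ?_
        rw [hlk, mul_smul, hka, h]
      have h3 : l * l = z := by
        rcases C.MK (l * l) (mul_mem hl hl) (by rw [h2]; exact inv_mem (mul_mem hk hk)) with h | h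
        · exfalso
          apply hla
          rcases C.Mz hz l hl h with h | h
          · rw [h, one_smul]
          · rw [h]; exact C.zD.1
        · exact h
      have h4 : k * k = z := by
        rw [h3] at h1
        rw [eq_comm, ← C.z_inv]
        exact (eq_inv_of_mul_eq_one_right h1).symm
      have h5 : k * k₀ = k₀ * k := by
        have h6 : l * (k * k₀) = l * (k₀ * k) := by
          calc l * (k * k₀) = (l * k) * k₀ := by group
            _ = k₀ * (l * k) := by rw [← hlk, hc]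
            _ = (k₀ * l) * k := by group
            _ = (l * k₀) * k := by rw [C.MKc l hl k₀ hk₀]
            _ = _ := by group
        exact mul_left_cancel h6
      have hzla : z • l • a = l • a := by
        rw [← mul_smul, ← C.MC l hl, mul_smul, show z • a = a from C.zD.1]
      obtain ⟨m, hm, hm1, hm2⟩ := C.Mtr a (l • a) hla.symm C.zD.1 hzla
      have h6 : Swaps (m * l * m⁻¹) a b := by
        constructor
        · rw [mul_smul, mul_smul, inv_smul_eq_iff.2 hm1.symm, hm2]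
        · rw [mul_smul, mul_smul, inv_smul_eq_iff.2 hm2.symm, ← mul_smul l l, h3,
            show z • a = a from C.zD.1, hm1]
      have h7 := (hκ _ (mul_mem (mul_mem hm hl) (inv_mem hm)) h6 k hk).2 (hk' k hk h4 h5)
      apply hyn
      refine h7.trans (isConj_iff.2 ⟨m⁻¹, ?_⟩)
      rw [hlk]
      calc m⁻¹ * (m * l * m⁻¹ * k) * m⁻¹⁻¹ = l * (m⁻¹ * k) * m := by group
        _ = l * (k * m⁻¹) * m := by rw [C.MKc _ (inv_mem hm) k hk]
        _ = l * k := by group
    · push Not at hf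
      obtain ⟨c, hzc, hyc⟩ := hf
      obtain ⟨d, hd, hzd, hyd⟩ := C.exists_two hyz hy2 hzc hyc
      obtain ⟨m, hm, hm1, hm2⟩ := C.Mtr c d hd.symm hzc hzd
      refine ht (m * y * m⁻¹) (mem_Dab.2 ⟨?_, ?_⟩) ?_ ?_ ?_ ?_
      · rw [mul_smul, mul_smul, inv_smul_eq_iff.2 hm1.symm, hyc, hm1]
      · rw [mul_smul, mul_smul, inv_smul_eq_iff.2 hm2.symm, hyd, hm2]
      · calc m * y * m⁻¹ * (m * y * m⁻¹) = m * (y * y) * m⁻¹ := by group
          _ = 1 := by rw [hy2]; group
      · intro h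
        apply hy1
        calc y = m⁻¹ * (m * y * m⁻¹) * m := by group
          _ = 1 := by rw [h]; group
      · intro h
        apply hyn
        exact isConj_iff.2 ⟨m⁻¹, by rw [← h]; group⟩
      · have h1 := C.MKc m hm k₀ hk₀
        have h2 := C.MKc _ (inv_mem hm) k₀ hk₀
        calc m * y * m⁻¹ * k₀ = m * y * (m⁻¹ * k₀) := by group
          _ = m * (y * k₀) * m⁻¹ := by rw [h2]; group
          _ = (m * k₀) * y * m⁻¹ := by rw [hc]; group
          _ = k₀ * (m * y * m⁻¹) := by rw [h1]; group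
  -- `e` inverts `k₀`
  have hek : e * k₀ * e⁻¹ = k₀⁻¹ := by
    rcases hnorm e (C.zW e (Dab_le_Wab a b he)) with h | h
    · exfalso
      refine ht e he he2 he1 hez ?_
      calc e * k₀ = e * k₀ * e⁻¹ * e := by group
        _ = k₀ * e := by rw [h]
    · exact h
  -- the class of `k₀`
  letI act : MulAction G {x : G // IsConj k₀ x} :=
    { smul := fun g x => ⟨g * x.1 * g⁻¹, x.2.trans (isConj_iff.2 ⟨g, rfl⟩)⟩
      one_smul := fun x => Subtype.ext (by change 1 * x.1 * 1⁻¹ = x.1; group)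
      mul_smul := fun g h x => Subtype.ext (by
        change (g * h) * x.1 * (g * h)⁻¹ = g * (h * x.1 * h⁻¹) * g⁻¹; group) }
  have h1 := four_dvd_of_action (β := {x : G // IsConj k₀ x}) (C.h.hom_units C.gen C.odd) he2
  have h2 : Nat.card {x : {x : G // IsConj k₀ x} // e • x = x} = 0 := by
    have : IsEmpty {x : {x : G // IsConj k₀ x} // e • x = x} := by
      refine ⟨fun x => ?_⟩
      obtain ⟨⟨x, hx⟩, hex⟩ := x
      obtain ⟨g, rfl⟩ := isConj_iff.1 hx
      have h3 : e * (g * k₀ * g⁻¹) * e⁻¹ = g * k₀ * g⁻¹ := congrArg Subtype.val hex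
      refine hfree g⁻¹ ?_
      calc g⁻¹ * e * g⁻¹⁻¹ * k₀ = g⁻¹ * (e * (g * k₀ * g⁻¹) * e⁻¹) * e * g := by group
        _ = g⁻¹ * (g * k₀ * g⁻¹) * e * g := by rw [h3]
        _ = k₀ * (g⁻¹ * e * g⁻¹⁻¹) := by group
    exact Nat.card_of_isEmpty
  have h3 : Nat.card {x : G // IsConj k₀ x} = 2 * Nat.card {s : G // IsConj z s} := by
    have e2 : {x : G // IsConj k₀ x} ≃ Σ s : {s : G // IsConj z s},
        {x : G // IsConj k₀ x ∧ x * x = s.1} :=
      ⟨fun x => ⟨⟨x.1 * x.1, by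
        obtain ⟨g, hg⟩ := isConj_iff.1 x.2
        refine isConj_iff.2 ⟨g, ?_⟩
        rw [← hg, ← hk₀2]; group⟩, x.1, x.2, rfl⟩, fun y => ⟨y.2.1, y.2.2.1⟩, fun _ => rfl, by
        rintro ⟨⟨s, hs⟩, ⟨x, hx1, hx2⟩⟩
        dsimp only at hx2
        subst hx2
        rfl⟩
    have : Fintype {s : G // IsConj z s} := Fintype.ofFinite _
    rw [Nat.card_congr e2, Nat.card_sigma]
    have h4 : ∀ s ∈ (Finset.univ : Finset {s : G // IsConj z s}),
        Nat.card {x : G // IsConj k₀ x ∧ x * x = s.1} = 2 := by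
      rintro ⟨s, hs⟩ -
      obtain ⟨g, rfl⟩ := isConj_iff.1 hs
      change Nat.card {x : G // IsConj k₀ x ∧ x * x = g * z * g⁻¹} = 2
      refine card_two (c := g * k₀ * g⁻¹) (d := g * k₀⁻¹ * g⁻¹) (fun h => hk0ne ?_) ?_
      · calc k₀ = g⁻¹ * (g * k₀ * g⁻¹) * g := by group
          _ = k₀⁻¹ := by rw [h]; group
      · intro x
        constructor
        · rintro ⟨hx1, hx2⟩
          obtain ⟨f, rfl⟩ := isConj_iff.1 hx1
          have h5 : (g⁻¹ * f) * z = z * (g⁻¹ * f) := by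
            have h6 : f * z * f⁻¹ = g * z * g⁻¹ := by
              rw [← hx2, ← hk₀2]; group
            calc (g⁻¹ * f) * z = g⁻¹ * (f * z * f⁻¹) * f := by group
              _ = z * (g⁻¹ * f) := by rw [h6]; group
          have h7 : f * k₀ * f⁻¹ = g * ((g⁻¹ * f) * k₀ * (g⁻¹ * f)⁻¹) * g⁻¹ := by group
          rcases hnorm _ h5 with h6 | h6
          · left
            rw [h7, h6]
          · right
            rw [h7, h6]
        · rintro (rfl | rfl)
          · exact ⟨isConj_iff.2 ⟨g, rfl⟩, by rw [← hk₀2]; group⟩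
          · refine ⟨isConj_iff.2 ⟨g * e, by rw [← hek]; group⟩, ?_⟩
            have h5 : k₀⁻¹ * k₀⁻¹ = z := by
              calc k₀⁻¹ * k₀⁻¹ = (k₀ * k₀)⁻¹ := by group
                _ = z := by rw [hk₀2, C.z_inv]
            calc g * k₀⁻¹ * g⁻¹ * (g * k₀⁻¹ * g⁻¹) = g * (k₀⁻¹ * k₀⁻¹) * g⁻¹ := by group
              _ = g * z * g⁻¹ := by rw [h5]
    rw [Finset.sum_congr rfl h4, Finset.sum_const, Finset.card_univ, smul_eq_mul,
      ← Nat.card_eq_fintype_card, mul_comm]
  rw [h2, h3] at h1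
  have h4 := C.odd_class
  obtain ⟨j, hj⟩ := h4
  omega

/-- **(3b)** : `z` is the only involution of `Dab`. -/
theorem false (C : Cfg U a b z M q) {e : G} (he : e ∈ Dab G a b)
    (he2 : e * e = 1) (he1 : e ≠ 1) (hez : e ≠ z) : False := by
  by_cases hz : z ∈ M
  · exact C.false_s hz he he2 he1 hez
  · exact C.false_p hz he he2 he1 hez

end Cfg

end Cfsg.Agent.HKS.CaseThree
end

-- part: HKS/CaseThreeInst
section
/-!
# Central involution, `q = 3 mod 4`, `N = q^3` (#6838 (3b)): the data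

`CaseThree.T3` : the data of type `PSL(2,q)` (also `q = 3`) on the fixed points of `z`.
`CaseThree.Sit` : the situation of (3b) in terms of `T3`; `Sit.toCfg` gives `CaseThree.Cfg`.
-/

set_option autoImplicit false

namespace Cfsg.Agent.HKS.CaseThree

open Subgroup MulAction CentralN

variable {G Ω : Type*} [Group G] [MulAction G Ω] {U : Ω → Subgroup G} {a b : Ω} {z : G} {q : ℕ}

/-- The data of type `PSL(2,q)` (also `q = 3`) at `z`. -/
structure T3 (U : Ω → Subgroup G) (a b : Ω) (z : G) (q : ℕ) : Prop where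
  card : Nat.card (U a ⊓ centralizer (zpowers z : Set G) : Subgroup G) = q
  comm : ∀ u ∈ U a ⊓ centralizer (zpowers z : Set G), ∀ v ∈ U a ⊓ centralizer (zpowers z : Set G),
    u * v = v * u
  cardE : 2 * (kerFix Ω (zpowers z)).relIndex (Dab G a b ⊓ genFix U (zpowers z)) = q - 1
  free : ∀ d ∈ Dab G a b ⊓ genFix U (zpowers z), ∀ u ∈ U a ⊓ centralizer (zpowers z : Set G),
    d * u = u * d → d ∈ kerFix Ω (zpowers z) ∨ u = 1
  inv : ∀ w, w ∈ genFix U (zpowers z) ∧ Swaps w a b → ∀ d ∈ Dab G a b ⊓ genFix U (zpowers z),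
    w * d * w⁻¹ * d ∈ kerFix Ω (zpowers z)

theorem T3.of_DL (h : DL (genFix U (zpowers z)) (U a ⊓ centralizer (zpowers z : Set G))
    (Dab G a b ⊓ genFix U (zpowers z)) (kerFix Ω (zpowers z))
    (fun w => w ∈ genFix U (zpowers z) ∧ Swaps w a b) q) : T3 U a b z q where
  card := h.card
  comm := h.comm
  cardE := h.cardE
  free := h.free
  inv := h.inv

theorem T3.of_DA (hS : SSplit U) (hab : b ≠ a) (hzD : z ∈ Dab G a b)
    (h : DA (U a ⊓ centralizer (zpowers z : Set G))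
    (Dab G a b ⊓ genFix U (zpowers z)) (kerFix Ω (zpowers z))
    (fun w => w ∈ genFix U (zpowers z) ∧ Swaps w a b))
    (h3 : Nat.card (U a ⊓ centralizer (zpowers z : Set G) : Subgroup G) = 3) : T3 U a b z 3 where
  card := h3
  comm := by
    intro u hu v hv
    obtain ⟨g, hg⟩ := h.cyc.exists_generator
    obtain ⟨i, hi⟩ := hg ⟨u, hu⟩
    obtain ⟨j, hj⟩ := hg ⟨v, hv⟩
    have h1 : (⟨u, hu⟩ : (U a ⊓ centralizer (zpowers z : Set G) : Subgroup G)) * ⟨v, hv⟩ =
        ⟨v, hv⟩ * ⟨u, hu⟩ := by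
      rw [← hi, ← hj]
      exact ((Commute.refl g).zpow_zpow i j).eq
    exact congrArg Subtype.val h1
  cardE := by
    rw [relIndex_eq_one.2 h.triv]
  free := fun d hd _ _ _ => Or.inl (h.triv hd)
  inv := by
    intro w hw d hd
    have h1 := h.triv hd
    have h2 : d * w = w * d := PP1.comm_genFix hS hab (by rw [zpowers_le]; exact hzD) h1 hw.1
    have h3 : w * d * w⁻¹ = d := by rw [← h2, mul_inv_cancel_right]
    rw [h3]
    exact mul_mem h1 h1

/-- The situation of (3b). -/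
structure Sit (U : Ω → Subgroup G) (a b : Ω) (z : G) (q : ℕ) : Prop where
  C : Cen U a b z
  gen : (⨆ c, U c) = ⊤
  odd : Odd (Nat.card (U a))
  T : T3 U a b z q
  q4 : q % 4 = 3

namespace Sit

theorem X_le (S : Sit U a b z q) : zpowers z ≤ Dab G a b := S.C.X_le

theorem K_comm (S : Sit U a b z q) {k m : G} (hk : k ∈ kerFix Ω (zpowers z))
    (hm : m ∈ genFix U (zpowers z)) : k * m = m * k :=
  PP1.comm_genFix S.C.h S.C.ab S.X_le hk hm

theorem P_le (S : Sit U a b z q) {u : G} (hu : u ∈ U a ⊓ centralizer (zpowers z : Set G)) :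
    u ∈ genFix U (zpowers z) :=
  PP1.mem_genFix (mem_fix.2 S.C.zD.1) hu.1 hu.2

theorem K_P (S : Sit U a b z q) {k u : G} (hk : k ∈ kerFix Ω (zpowers z))
    (hu : u ∈ U a ⊓ centralizer (zpowers z : Set G)) : k * u = u * k := S.K_comm hk (S.P_le hu)

theorem M_C (_S : Sit U a b z q) {m : G} (hm : m ∈ genFix U (zpowers z)) : z * m = m * z :=
  mem_cen.1 (PP1.genFix_le_centralizer _ hm)

theorem M_conj (S : Sit U a b z q) {g m : G} (hg : z * g = g * z)
    (hm : m ∈ genFix U (zpowers z)) : g * m * g⁻¹ ∈ genFix U (zpowers z) := by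
  refine PP1.conj_genFix S.C.h ?_ hm
  intro x hx
  have h1 : x * g = g * x := mem_centralizer_iff.1 (mem_cen.2 hg) x hx
  rw [mul_assoc, h1, inv_mul_cancel_left]
  exact hx

theorem D_C (S : Sit U a b z q) {d : G} (hd : d ∈ Dab G a b) : z * d = d * z :=
  S.C.cW d (Dab_le_Wab a b hd)

theorem P_conj (S : Sit U a b z q) {d u : G} (hd : d ∈ Dab G a b)
    (hu : u ∈ U a ⊓ centralizer (zpowers z : Set G)) :
    d * u * d⁻¹ ∈ U a ⊓ centralizer (zpowers z : Set G) := by
  have h1 := mem_cen.2 (S.D_C hd)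
  exact ⟨S.C.h.conj_of_fix hd.1 hu.1, (centralizer (zpowers z : Set G)).mul_mem
    ((centralizer (zpowers z : Set G)).mul_mem h1 hu.2)
    ((centralizer (zpowers z : Set G)).inv_mem h1)⟩

theorem P_odd [Finite Ω] (S : Sit U a b z q) {u : G} (hu : u ∈ U a) (h2 : u * u = 1) : u = 1 := by
  have h6 : (⟨u, hu⟩ : U a) ^ 2 = 1 := by
    rw [pow_two]
    exact Subtype.ext h2
  have h7 : (⟨u, hu⟩ : U a) ^ Nat.card (U a) = 1 := pow_card_eq_one'
  have h8 : (⟨u, hu⟩ : U a) = 1 := by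
    obtain ⟨s, hs⟩ := S.odd
    rwa [hs, pow_succ, pow_mul, h6, one_pow, one_mul] at h7
  exact congrArg Subtype.val h8

theorem relIndex_odd (S : Sit U a b z q) :
    Odd ((kerFix Ω (zpowers z)).relIndex (Dab G a b ⊓ genFix U (zpowers z))) := by
  have h1 := S.T.cardE
  have h2 := S.q4
  rw [Nat.odd_iff]
  omega

/-- elements of `E = D ∩ M` with square in `K` are in `K`. -/
theorem E_sq (S : Sit U a b z q) {d : G} (hd : d ∈ Dab G a b ⊓ genFix U (zpowers z))
    (h2 : d * d ∈ kerFix Ω (zpowers z)) : d ∈ kerFix Ω (zpowers z) := by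
  have hn : ((kerFix Ω (zpowers z)).subgroupOf (Dab G a b ⊓ genFix U (zpowers z))).Normal := by
    constructor
    rintro ⟨n, hn⟩ hnK ⟨g, hg⟩
    rw [mem_subgroupOf] at hnK ⊢
    change g * n * g⁻¹ ∈ _
    change n ∈ kerFix Ω (zpowers z) at hnK
    have h1 := S.K_comm hnK hg.2
    rw [← h1, mul_inv_cancel_right]
    exact hnK
  have h3 := pow_index_mem ((kerFix Ω (zpowers z)).subgroupOf
    (Dab G a b ⊓ genFix U (zpowers z))) ⟨d, hd⟩
  rw [mem_subgroupOf] at h3
  change d ^ _ ∈ kerFix Ω (zpowers z) at h3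
  obtain ⟨r, hr⟩ := S.relIndex_odd
  change Subgroup.index _ = _ at hr
  rw [hr, pow_succ, pow_mul, pow_two] at h3
  exact (mul_mem_cancel_left (pow_mem h2 r)).1 h3

/-- no element of `E` inverts an element of `P#`. -/
theorem E_inv [Finite Ω] (S : Sit U a b z q) {d u : G}
    (hd : d ∈ Dab G a b ⊓ genFix U (zpowers z))
    (hu : u ∈ U a ⊓ centralizer (zpowers z : Set G)) (h : d * u * d⁻¹ = u⁻¹) : u = 1 := by
  have h1 : d * u = u⁻¹ * d := by rw [← h]; group
  have h2 : d * d * u = u * (d * d) := by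
    have h3 : d * u⁻¹ = u * d := by
      have h4 : (d * u * d⁻¹)⁻¹ = u := by rw [h, inv_inv]
      calc d * u⁻¹ = (d * u * d⁻¹)⁻¹ * d := by group
        _ = u * d := by rw [h4]
    calc d * d * u = d * (d * u) := by group
      _ = d * u⁻¹ * d := by rw [h1]; group
      _ = u * (d * d) := by rw [h3]; group
  rcases S.T.free (d * d) (mul_mem hd hd) u hu h2 with h3 | h3
  · have h4 := S.E_sq hd h3
    have h5 := S.K_P h4 hu
    apply S.P_odd hu.1
    have h6 : u = u⁻¹ := by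
      rw [← h, h5, mul_inv_cancel_right]
    nth_rewrite 1 [h6]
    rw [inv_mul_cancel]
  · exact h3

/-- the two orbits of `E` on `P#`. -/
theorem exists_conj [Finite Ω] [Finite G] (S : Sit U a b z q) {u v : G}
    (hu : u ∈ U a ⊓ centralizer (zpowers z : Set G)) (hu1 : u ≠ 1)
    (hv : v ∈ U a ⊓ centralizer (zpowers z : Set G)) (hv1 : v ≠ 1) :
    ∃ h ∈ Dab G a b ⊓ genFix U (zpowers z), h * u * h⁻¹ = v ∨ h * u⁻¹ * h⁻¹ = v := by
  classical
  set E := Dab G a b ⊓ genFix U (zpowers z) with hE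
  set P := U a ⊓ centralizer (zpowers z : Set G) with hP
  set KE := (kerFix Ω (zpowers z)).subgroupOf E with hKE
  let pw : Bool → G := fun ε => if ε then u else u⁻¹
  have hpw : ∀ ε, pw ε ∈ P := by
    intro ε
    cases ε
    · exact inv_mem hu
    · exact hu
  have hpw1 : ∀ ε, pw ε ≠ 1 := by
    intro ε
    cases ε
    · exact inv_ne_one.2 hu1
    · exact hu1
  have hPE : ∀ (h : E) {x : G}, x ∈ P → (h : G) * x * (h : G)⁻¹ ∈ P := fun h x hx =>
    S.P_conj h.2.1 hx
  let f : (E ⧸ KE) × Bool → {x : P // x ≠ 1} := fun c =>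
    ⟨⟨((c.1.out : E) : G) * pw c.2 * ((c.1.out : E) : G)⁻¹, hPE _ (hpw _)⟩, fun hc => hpw1 c.2 (by
      have h1 : ((c.1.out : E) : G) * pw c.2 * ((c.1.out : E) : G)⁻¹ = 1 := congrArg Subtype.val hc
      exact conj_eq_one_iff.1 h1)⟩
  have hinj : Function.Injective f := by
    rintro ⟨c, ε⟩ ⟨c', ε'⟩ hcc
    have h1 : ((c.out : E) : G) * pw ε * ((c.out : E) : G)⁻¹ =
        ((c'.out : E) : G) * pw ε' * ((c'.out : E) : G)⁻¹ :=
      congrArg Subtype.val (congrArg Subtype.val hcc)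
    have h2 : ((c'.out⁻¹ * c.out : E) : G) * pw ε * ((c'.out⁻¹ * c.out : E) : G)⁻¹ = pw ε' := by
      push_cast
      calc (((c'.out : E) : G)⁻¹ * ((c.out : E) : G)) * pw ε *
            (((c'.out : E) : G)⁻¹ * ((c.out : E) : G))⁻¹
          = ((c'.out : E) : G)⁻¹ * (((c.out : E) : G) * pw ε * ((c.out : E) : G)⁻¹) *
            ((c'.out : E) : G) := by group
        _ = pw ε' := by rw [h1]; group
    by_cases hε : ε = ε'
    · subst hε
      have h3 : ((c'.out⁻¹ * c.out : E) : G) * pw ε = pw ε * ((c'.out⁻¹ * c.out : E) : G) := by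
        nth_rewrite 2 [← h2]
        group
      rcases S.T.free _ (c'.out⁻¹ * c.out : E).2 _ (hpw ε) h3 with h4 | h4
      · have h5 : (c'.out⁻¹ * c.out : E) ∈ KE := h4
        have h6 : (QuotientGroup.mk c'.out : E ⧸ KE) = QuotientGroup.mk c.out :=
          QuotientGroup.eq.2 h5
        rw [QuotientGroup.out_eq', QuotientGroup.out_eq'] at h6
        rw [h6]
      · exact absurd h4 (hpw1 ε)
    · exfalso
      have h3 : pw ε' = (pw ε)⁻¹ := by
        cases ε <;> cases ε' <;> simp only [not_true_eq_false, Bool.false_eq_true, not_false_eq_true, ↓reduceIte, inv_inv,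
            pw, Bool.true_eq_false] at hε ⊢
      rw [h3] at h2
      exact hpw1 ε (S.E_inv (c'.out⁻¹ * c.out : E).2 (hpw ε) h2)
  have hcard : Nat.card ((E ⧸ KE) × Bool) = Nat.card {x : P // x ≠ 1} := by
    have h1 : Nat.card {x : P // x ≠ 1} + 1 = Nat.card P := by
      have := Fintype.ofFinite P
      rw [Nat.card_eq_fintype_card, Nat.card_eq_fintype_card, Fintype.card_subtype_compl]
      have h2 : Fintype.card {x : P // x = 1} = 1 := Fintype.card_subtype_eq 1
      rw [h2]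
      have : 0 < Fintype.card P := Fintype.card_pos
      omega
    have h2 : Nat.card (E ⧸ KE) = (kerFix Ω (zpowers z)).relIndex E := rfl
    have h3 := S.T.cardE
    have h4 := S.T.card
    have h5 := S.q4
    rw [Nat.card_prod, h2, Nat.card_eq_fintype_card (α := Bool), Fintype.card_bool]
    rw [← hE] at h3
    rw [← hP] at h4
    (clear * - h1 h3 h4 h5; omega)
  have hbij : Function.Bijective f := (Nat.bijective_iff_injective_and_card _).2 ⟨hinj, hcard⟩
  obtain ⟨⟨c, ε⟩, hc⟩ := hbij.2 ⟨⟨v, hv⟩, fun hc => hv1 (congrArg Subtype.val hc)⟩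
  have h1 : ((c.out : E) : G) * pw ε * ((c.out : E) : G)⁻¹ = v :=
    congrArg Subtype.val (congrArg Subtype.val hc)
  refine ⟨(c.out : E), (c.out : E).2, ?_⟩
  cases ε
  · exact Or.inr h1
  · exact Or.inl h1

/-- `d ∈ D` centralising `P` is in `K`. -/
theorem mem_K_of_comm (S : Sit U a b z q) {d : G} (hd : d ∈ Dab G a b)
    (h : ∀ u ∈ U a ⊓ centralizer (zpowers z : Set G), d * u * d⁻¹ = u) :
    d ∈ kerFix Ω (zpowers z) := by
  rw [mem_K]
  intro c hc
  by_cases hca : c = a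
  · rw [hca]; exact hd.1
  obtain ⟨u, hu, hub⟩ := S.C.h.trans S.C.ab hca
  have h1 : u ∈ centralizer (zpowers z : Set G) :=
    S.C.h.comm_of_fixSub (fun x hx => (S.X_le hx).1) (fun x hx => (S.X_le hx).2) S.C.ab hu (by
      rw [hub]; exact mem_fix.2 hc)
  have h2 := h u ⟨hu, h1⟩
  rw [← hub, ← mul_smul, show d * u = u * d by nth_rewrite 2 [← h2]; group, mul_smul,
    show d • b = b from hd.2]

/-- **elements of `D` with square in `K`** are in `K` or invert `P`. -/
theorem D_sq [Finite Ω] [Finite G] (S : Sit U a b z q) {d : G} (hd : d ∈ Dab G a b)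
    (h2 : d * d ∈ kerFix Ω (zpowers z)) :
    d ∈ kerFix Ω (zpowers z) ∨
      ∀ u ∈ U a ⊓ centralizer (zpowers z : Set G), d * u * d⁻¹ = u⁻¹ := by
  have hsq : ∀ w ∈ U a ⊓ centralizer (zpowers z : Set G), d * (d * w * d⁻¹) * d⁻¹ = w := by
    intro w hw
    have h3 := S.K_P h2 hw
    calc d * (d * w * d⁻¹) * d⁻¹ = d * d * w * (d * d)⁻¹ := by group
      _ = w := by rw [h3]; group
  by_cases hfix : ∃ u ∈ U a ⊓ centralizer (zpowers z : Set G), u ≠ 1 ∧ d * u * d⁻¹ = u
  · left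
    obtain ⟨u, hu, hu1, hdu⟩ := hfix
    have key : ∀ v ∈ U a ⊓ centralizer (zpowers z : Set G), d * v * d⁻¹ = v⁻¹ → v = 1 := by
      intro v hv hdv
      by_contra hv1
      obtain ⟨h, hh, hc⟩ := S.exists_conj hu hu1 hv hv1
      -- a version for `u'` with `d u' d⁻¹ = u'`
      have main : ∀ u' ∈ U a ⊓ centralizer (zpowers z : Set G), u' ≠ 1 → d * u' * d⁻¹ = u' →
          h * u' * h⁻¹ = v → False := by
        intro u' hu' hu'1 hdu' hc'
        have h3 : h⁻¹ * (d * h * d⁻¹) ∈ Dab G a b ⊓ genFix U (zpowers z) :=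
          mul_mem (inv_mem hh) (mem_inf.2 ⟨(Dab G a b).mul_mem ((Dab G a b).mul_mem hd hh.1)
            ((Dab G a b).inv_mem hd), S.M_conj (S.D_C hd) hh.2⟩)
        apply hu'1
        refine S.E_inv h3 hu' ?_
        calc h⁻¹ * (d * h * d⁻¹) * u' * (h⁻¹ * (d * h * d⁻¹))⁻¹
            = h⁻¹ * (d * (h * (d⁻¹ * u' * d) * h⁻¹) * d⁻¹) * h := by group
          _ = h⁻¹ * (d * (h * u' * h⁻¹) * d⁻¹) * h := by
              have : d⁻¹ * u' * d = u' := by nth_rewrite 1 [← hdu']; group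
              rw [this]
          _ = h⁻¹ * v⁻¹ * h := by rw [hc', hdv]
          _ = (h⁻¹ * v * h)⁻¹ := by group
          _ = u'⁻¹ := by rw [← hc']; group
      rcases hc with hc | hc
      · exact main u hu hu1 hdu hc
      · refine main u⁻¹ (inv_mem hu) (inv_ne_one.2 hu1) ?_ hc
        calc d * u⁻¹ * d⁻¹ = (d * u * d⁻¹)⁻¹ := by group
          _ = u⁻¹ := by rw [hdu]
    apply S.mem_K_of_comm hd
    intro w hw
    have h3 : w⁻¹ * (d * w * d⁻¹) = 1 := by
      apply key _ (mul_mem (inv_mem hw) (S.P_conj hd hw))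
      calc d * (w⁻¹ * (d * w * d⁻¹)) * d⁻¹ = (d * w⁻¹ * d⁻¹) * (d * (d * w * d⁻¹) * d⁻¹) := by group
        _ = (w⁻¹ * (d * w * d⁻¹))⁻¹ := by rw [hsq w hw]; group
    exact (inv_mul_eq_one.1 h3).symm
  · right
    push Not at hfix
    intro w hw
    have h3 : w * (d * w * d⁻¹) = 1 := by
      by_contra hne
      refine hfix _ (mul_mem hw (S.P_conj hd hw)) hne ?_
      calc d * (w * (d * w * d⁻¹)) * d⁻¹ = (d * w * d⁻¹) * (d * (d * w * d⁻¹) * d⁻¹) := by group
        _ = (d * w * d⁻¹) * w := by rw [hsq w hw]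
        _ = w * (d * w * d⁻¹) := S.T.comm _ (S.P_conj hd hw) _ hw
    exact (eq_inv_of_mul_eq_one_right h3)

/-- a 2-element of `D` (mod `K`) of sign `1` is in `K`. -/
theorem two_elt [Finite Ω] [Finite G] (S : Sit U a b z q) (s : ℕ) : ∀ {d : G} (hd : d ∈ Dab G a b),
    SignFix.sgn (Ω := Ω) (zpowers z) ⟨d, mem_cen.2 (S.D_C hd)⟩ = 1 →
    d ^ 2 ^ s ∈ kerFix Ω (zpowers z) → d ∈ kerFix Ω (zpowers z) := by
  induction s with
  | zero =>
    intro d _ _ h
    rwa [pow_zero, pow_one] at h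
  | succ s ih =>
    intro d hd hsg h
    have hd' : d ^ 2 ^ s ∈ Dab G a b := pow_mem hd _
    have h1 : d ^ 2 ^ s * d ^ 2 ^ s ∈ kerFix Ω (zpowers z) := by
      rw [← pow_two, ← pow_mul, ← pow_succ]
      exact h
    rcases S.D_sq hd' h1 with h2 | h2
    · exact ih hd hsg h2
    · exfalso
      have hq : Nat.card (U a ⊓ centralizer (zpowers z : Set G) : Subgroup G) =
          2 * (2 * (q / 4) + 1) + 1 := by
        rw [S.T.card]
        have := S.q4
        omega
      have h3 := S.C.sgn_inv S.odd hd' (fun u hu huz => h2 u ⟨hu, mem_cen.2 huz⟩) hq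
      have h4 : (⟨d ^ 2 ^ s, mem_cen.2 (S.C.cW _ (Dab_le_Wab a b hd'))⟩ :
          centralizer (zpowers z : Set G)) = ⟨d, mem_cen.2 (S.D_C hd)⟩ ^ 2 ^ s := rfl
      rw [h4, map_pow, hsg, one_pow, pow_succ, pow_mul] at h3
      simp only [even_two, Even.neg_pow, one_pow, mul_neg, mul_one, units_ne_neg_self] at h3

/-- elements of `D` of sign `1` have odd order mod `K`. -/
theorem odd_elt [Finite Ω] [Finite G] (S : Sit U a b z q) {d : G} (hd : d ∈ Dab G a b)
    (hsg : SignFix.sgn (Ω := Ω) (zpowers z) ⟨d, mem_cen.2 (S.D_C hd)⟩ = 1) :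
    ∃ j, d ^ (2 * j + 1) ∈ kerFix Ω (zpowers z) := by
  obtain ⟨s, m, hm, hsm⟩ := Nat.exists_eq_two_pow_mul_odd (orderOf_pos d).ne'
  obtain ⟨j, hj⟩ := hm
  refine ⟨j, ?_⟩
  rw [← hj]
  have hd' : d ^ m ∈ Dab G a b := pow_mem hd _
  refine S.two_elt s hd' ?_ ?_
  · have h4 : (⟨d ^ m, mem_cen.2 (S.D_C hd')⟩ :
          centralizer (zpowers z : Set G)) = ⟨d, mem_cen.2 (S.D_C hd)⟩ ^ m := rfl
    rw [h4, map_pow, hsg, one_pow]
  · rw [← pow_mul, mul_comm, ← hsm, pow_orderOf_eq_one]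
    exact one_mem _

theorem dihedral {Q : Type*} [Group Q] {y l : Q} (hy : y * y = 1) (hl : l * l = 1) {j : ℕ}
    (hj : (y * l) ^ (2 * j + 1) = 1) : y = (y * l) ^ (j + 1) * l * ((y * l) ^ (j + 1))⁻¹ := by
  have h1 : (y * l)⁻¹ = l * y := by
    rw [mul_inv_rev, inv_eq_of_mul_eq_one_left hl, inv_eq_of_mul_eq_one_left hy]
  have h2 : ∀ i : ℕ, l * ((y * l) ^ i)⁻¹ = (y * l) ^ i * l := by
    intro i
    rw [← inv_pow, h1]
    induction i with
    | zero => simp only [pow_zero, mul_one, one_mul]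
    | succ i ih =>
      rw [pow_succ, ← mul_assoc, ih, pow_succ]
      simp only [mul_assoc]
      rw [← mul_assoc l l y, hl, one_mul, mul_one]
  rw [mul_assoc, h2, ← mul_assoc, ← pow_add, show j + 1 + (j + 1) = 2 * j + 1 + 1 by ring, pow_succ,
    hj, one_mul, mul_assoc, hl, mul_one]

theorem M_trans [Finite Ω] (S : Sit U a b z q) {c d : Ω} (hcd : c ≠ d) (hc : z • c = c) (hd : z • d = d)
    (h4 : 2 < Nat.card {c : Ω // z • c = c}) :
    ∃ m ∈ genFix U (zpowers z), m • c = a ∧ m • d = b := by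
  -- elements of `U f ∩ C(z)`
  have key : ∀ {f c d : Ω}, z • f = f → z • c = c → z • d = d → c ≠ f → d ≠ f →
      ∃ m ∈ genFix U (zpowers z), m • c = d ∧ m • f = f := by
    intro f c d hf hc hd hcf hdf
    obtain ⟨u, hu, hub⟩ := S.C.h.trans hcf hdf
    have h1 : u ∈ centralizer (zpowers z : Set G) :=
      S.C.h.comm_of_fixSub (mem_fix.2 hf) (mem_fix.2 hc) hcf hu (by
        rw [hub]; exact mem_fix.2 hd)
    exact ⟨u, PP1.mem_genFix (mem_fix.2 hf) hu h1, hub, S.C.h.fix hu⟩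
  have h1 : ∃ m ∈ genFix U (zpowers z), m • c = a := by
    by_cases hca : c = a
    · exact ⟨1, one_mem _, by rw [one_smul, hca]⟩
    obtain ⟨f, hf⟩ := SSplit.three_of_card h4 ⟨a, S.C.zD.1⟩ ⟨c, hc⟩
    obtain ⟨m, hm, hmc, -⟩ := key f.2 hc S.C.zD.1 (fun e => hf.2 (Subtype.ext e.symm))
      (fun e => hf.1 (Subtype.ext e.symm))
    exact ⟨m, hm, hmc⟩
  obtain ⟨m, hm, hmc⟩ := h1
  have hmz := S.M_C hm
  have hzd : z • m • d = m • d := by rw [← mul_smul, hmz, mul_smul, hd]
  have hne : m • d ≠ a := by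
    intro e
    rw [← hmc] at e
    exact hcd (smul_left_cancel m e).symm
  obtain ⟨m', hm', hmd, hma⟩ := key (f := a) (c := m • d) (d := b) S.C.zD.1 hzd S.C.zD.2 hne S.C.ab
  exact ⟨m' * m, mul_mem hm' hm, by rw [mul_smul, hmc, hma], by rw [mul_smul, hmd]⟩

theorem card_fix [Finite Ω] (S : Sit U a b z q) : Nat.card {c : Ω // z • c = c} = q + 1 := by
  rw [← S.T.card, ← S.C.card_fixedBy]
  rfl

theorem two_lt [Finite Ω] (S : Sit U a b z q) : 2 < Nat.card {c : Ω // z • c = c} := by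
  rw [S.card_fix]
  have := S.q4
  omega

theorem M_trans' [Finite Ω] (S : Sit U a b z q) {c d : Ω} (hcd : c ≠ d) (hc : z • c = c)
    (hd : z • d = d) : ∃ m ∈ genFix U (zpowers z), m • c = a ∧ m • d = b :=
  S.M_trans hcd hc hd S.two_lt

theorem exists_l [Finite Ω] (S : Sit U a b z q) : ∃ l ∈ genFix U (zpowers z), Swaps l a b := by
  obtain ⟨m, hm, h1, h2⟩ := S.M_trans' (c := b) (d := a) S.C.ab S.C.zD.2 S.C.zD.1
  exact ⟨m, hm, h2, h1⟩

/-- elements of `M` interchanging `a` and `b` have square in `K`. -/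
theorem M_sq (S : Sit U a b z q) {l : G} (hl : l ∈ genFix U (zpowers z)) (hs : Swaps l a b) :
    l * l ∈ kerFix Ω (zpowers z) := by
  have h1 : l * l ∈ Dab G a b ⊓ genFix U (zpowers z) := ⟨hs.mul hs, mul_mem hl hl⟩
  apply S.E_sq h1
  have h2 := S.T.inv l ⟨hl, hs⟩ _ h1
  have h3 : l * l * (l * l) = l * (l * l) * l⁻¹ * (l * l) := by group
  rw [h3]
  exact h2

theorem fixes_of_mem (_S : Sit U a b z q) {x y : G} (hx : z * x = x * z)
    (hy : z * y = y * z)
    (h : toPermHom (centralizer (zpowers z : Set G)) (fixSub Ω (zpowers z)) ⟨x, mem_cen.2 hx⟩ =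
      toPermHom (centralizer (zpowers z : Set G)) (fixSub Ω (zpowers z)) ⟨y, mem_cen.2 hy⟩) :
    x * y⁻¹ ∈ kerFix Ω (zpowers z) := by
  rw [mem_K]
  intro c hc
  have hyz : z * y⁻¹ = y⁻¹ * z := (Commute.inv_right (show Commute z y from hy)).eq
  have h1 : z • y⁻¹ • c = y⁻¹ • c := by rw [← mul_smul, hyz, mul_smul, hc]
  have h2 := DFunLike.congr_fun h ⟨y⁻¹ • c, mem_fix.2 h1⟩
  have h3 : x • y⁻¹ • c = y • y⁻¹ • c := congrArg Subtype.val h2
  rw [mul_smul, h3, smul_inv_smul]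

/-- **f.p.f. involutions of `Fix z` interchanging `a` and `b` are in `M K`.** -/
theorem inner_ab [Finite Ω] [Finite G] (S : Sit U a b z q) {y : G} (hyz : z * y = y * z)
    (hy2 : y * y = 1) (hs : Swaps y a b) (hf : ∀ c : Ω, z • c = c → y • c ≠ c) :
    ∃ l ∈ genFix U (zpowers z), y * l⁻¹ ∈ kerFix Ω (zpowers z) := by
  obtain ⟨l, hl, hls⟩ := S.exists_l
  have hl2 := S.M_sq hl hls
  have hlz := S.M_C hl
  -- signs
  have hsy : SignFix.sgn (Ω := Ω) (zpowers z) ⟨y, mem_cen.2 hyz⟩ = 1 := by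
    have h1 : SignFix.sgn (Ω := Ω) (zpowers z) ⟨y, mem_cen.2 hyz⟩ = (-1) ^ (2 * ((q + 1) / 4)) := by
      apply SignFix.sgn_sq
      · intro c _
        change y • y • c = c
        rw [← mul_smul, hy2, one_smul]
      · have h1 : Nat.card {c : Ω // (∀ x ∈ zpowers z, x • c = c) ∧ y • c = c} = 0 := by
          rw [Nat.card_eq_zero]
          left
          exact ⟨fun c => hf c (mem_fix.1 c.2.1) c.2.2⟩
        have h2 := S.q4
        have h3 := S.T.card
        rw [S.C.card_fixSub, h3]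
        change Nat.card {c : Ω // (∀ x ∈ zpowers z, x • c = c) ∧ y • c = c} + _ = _
        rw [h1]
        omega
    rw [h1, pow_mul]
    simp only [even_two, Even.neg_pow, one_pow]
  have hsl : SignFix.sgn (Ω := Ω) (zpowers z) ⟨l, mem_cen.2 hlz⟩ = 1 :=
    SignFix.sgn_genFix (S.C.odd_all S.odd) hl
  have hxD : y * l ∈ Dab G a b := hs.mul hls
  have hsx : SignFix.sgn (Ω := Ω) (zpowers z) ⟨y * l, mem_cen.2 (S.D_C hxD)⟩ = 1 := by
    have h1 : (⟨y * l, mem_cen.2 (S.D_C hxD)⟩ : centralizer (zpowers z : Set G)) =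
        ⟨y, mem_cen.2 hyz⟩ * ⟨l, mem_cen.2 hlz⟩ := rfl
    rw [h1, map_mul, hsy, hsl, one_mul]
  obtain ⟨j, hj⟩ := S.odd_elt hxD hsx
  -- the permutations
  let C := centralizer (zpowers z : Set G)
  let φ := toPermHom C (fixSub Ω (zpowers z))
  have hφ : ∀ (x : G) (hx : z * x = x * z), x ∈ kerFix Ω (zpowers z) → φ ⟨x, mem_cen.2 hx⟩ = 1 := by
    intro x hx hk
    ext c
    exact hk c c.2
  have e1 : φ ⟨y, mem_cen.2 hyz⟩ * φ ⟨y, mem_cen.2 hyz⟩ = 1 := by
    rw [← map_mul]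
    have : (⟨y, mem_cen.2 hyz⟩ : C) * ⟨y, mem_cen.2 hyz⟩ = 1 := Subtype.ext hy2
    rw [this, map_one]
  have e2 : φ ⟨l, mem_cen.2 hlz⟩ * φ ⟨l, mem_cen.2 hlz⟩ = 1 := by
    rw [← map_mul]
    exact hφ (l * l) (by rw [← mul_assoc, hlz, mul_assoc, hlz, mul_assoc]) hl2
  have e3 : (φ ⟨y, mem_cen.2 hyz⟩ * φ ⟨l, mem_cen.2 hlz⟩) ^ (2 * j + 1) = 1 := by
    rw [← map_mul, ← map_pow]
    exact hφ ((y * l) ^ (2 * j + 1)) (S.D_C (pow_mem hxD _)) hj
  have e4 := dihedral e1 e2 e3
  have hgz : z * (y * l) ^ (j + 1) = (y * l) ^ (j + 1) * z := S.D_C (pow_mem hxD _)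
  refine ⟨(y * l) ^ (j + 1) * l * ((y * l) ^ (j + 1))⁻¹, S.M_conj hgz hl, ?_⟩
  have hwz := S.M_C (S.M_conj hgz hl)
  refine S.fixes_of_mem hyz hwz ?_
  change φ ⟨y, mem_cen.2 hyz⟩ = φ ⟨_, _⟩
  conv_lhs => rw [e4]
  rw [← map_mul, ← map_pow, ← map_mul, ← map_inv, ← map_mul]
  rfl

/-- **f.p.f. involutions of `Fix z` are in `M K`.** -/
theorem inner [Finite Ω] [Finite G] (S : Sit U a b z q) {y : G} (hyz : y * z = z * y)
    (hy2 : y * y = 1) (hf : ∀ c : Ω, z • c = c → y • c ≠ c) :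
    ∃ l ∈ genFix U (zpowers z), y * l⁻¹ ∈ kerFix Ω (zpowers z) := by
  have hya : z • y • a = y • a := by
    rw [← mul_smul, ← hyz, mul_smul, S.C.zD.1]
  obtain ⟨m, hm, h1, h2⟩ := S.M_trans' (hf a S.C.zD.1).symm S.C.zD.1 hya
  have hmz := S.M_C hm
  have hmz' : z * m⁻¹ = m⁻¹ * z := (Commute.inv_right (show Commute z m from hmz)).eq
  have hm1 : m⁻¹ • a = a := by rw [inv_smul_eq_iff, h1]
  have hm2 : m⁻¹ • b = y • a := by rw [inv_smul_eq_iff, h2]
  have hyy : y • y • a = a := by rw [← mul_smul, hy2, one_smul]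
  have hs : Swaps (m * y * m⁻¹) a b := by
    constructor
    · rw [mul_smul, mul_smul, hm1, h2]
    · rw [mul_smul, mul_smul, hm2, hyy, h1]
  have hz' : z * (m * y * m⁻¹) = m * y * m⁻¹ * z := by
    calc z * (m * y * m⁻¹) = (z * m) * y * m⁻¹ := by group
      _ = m * (z * y) * m⁻¹ := by rw [hmz]; group
      _ = m * y * (z * m⁻¹) := by rw [← hyz]; group
      _ = m * y * m⁻¹ * z := by rw [hmz']; group
  obtain ⟨l, hl, hk⟩ := S.inner_ab hz' (by
    calc m * y * m⁻¹ * (m * y * m⁻¹) = m * (y * y) * m⁻¹ := by group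
      _ = 1 := by rw [hy2]; group) hs (by
    intro c hc he
    refine hf (m⁻¹ • c) ?_ ?_
    · rw [← mul_smul, hmz', mul_smul, hc]
    · rw [mul_smul, mul_smul, smul_eq_iff_eq_inv_smul] at he
      exact he)
  refine ⟨m⁻¹ * l * m, mul_mem (mul_mem (inv_mem hm) hl) hm, ?_⟩
  have h3 : m * y * m⁻¹ * l⁻¹ * m = m * (m * y * m⁻¹ * l⁻¹) := S.K_comm hk hm
  have h4 : y * (m⁻¹ * l * m)⁻¹ = m⁻¹ * (m * y * m⁻¹ * l⁻¹ * m) := by group
  rw [h4, h3, inv_mul_cancel_left]
  exact hk

/-- The abstract data of `CaseThree.lean`. -/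
theorem toCfg [Finite Ω] [Finite G] (S : Sit U a b z q) (hz1 : z ≠ 1)
    (Kz : ∀ k ∈ kerFix Ω (zpowers z), k * k = 1 → k = 1 ∨ k = z)
    (MK : ∀ m ∈ genFix U (zpowers z), m ∈ kerFix Ω (zpowers z) → m = 1 ∨ m = z)
    (Mz : z ∈ genFix U (zpowers z) → ∀ m ∈ genFix U (zpowers z), m * m = 1 → m = 1 ∨ m = z)
    (cardU : Nat.card (U a) = q ^ 3)
    (four : ∀ t ∈ Dab G a b, t * t = 1 → t ≠ 1 → t ≠ z → ∀ u ∈ U a, u * t = t * u →
      u * z = z * u → u = 1) : Cfg U a b z (genFix U (zpowers z)) q where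
  h := S.C.h
  gen := S.gen
  odd := S.C.odd_all S.odd
  ab := S.C.ab
  zD := S.C.zD
  z1 := hz1
  zz := S.C.sq
  zW := fun w hw => (S.C.cW w hw).symm
  uz := fun g hg => S.C.eq_of_mem_D (isConj_iff.2 ⟨g, rfl⟩) hg
  Kz := Kz
  MC := fun m hm => (S.M_C hm).symm
  Mn := fun g hg m hm => S.M_conj hg.symm hm
  MKc := fun m hm k hk => (S.K_comm hk hm).symm
  Mtr := fun c d hcd hc hd => S.M_trans' hcd hc hd
  MK := MK
  Mz := Mz
  Msw := fun m hm hs => S.M_sq hm hs
  Mcj := by
    intro l hl m hm hls hms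
    -- `x` with `x ^ 2 = m l⁻¹` modulo `K`
    have hd : m * l⁻¹ ∈ Dab G a b ⊓ genFix U (zpowers z) :=
      ⟨hms.mul hls.inv, (genFix U (zpowers z)).mul_mem hm ((genFix U (zpowers z)).inv_mem hl)⟩
    have hn : ((kerFix Ω (zpowers z)).subgroupOf (Dab G a b ⊓ genFix U (zpowers z))).Normal := by
      constructor
      rintro ⟨n, hn⟩ hnK ⟨g, hg⟩
      rw [mem_subgroupOf] at hnK ⊢
      change g * n * g⁻¹ ∈ _
      change n ∈ kerFix Ω (zpowers z) at hnK
      have h1 := S.K_comm hnK hg.2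
      rw [← h1, mul_inv_cancel_right]
      exact hnK
    have h3 := pow_index_mem ((kerFix Ω (zpowers z)).subgroupOf
      (Dab G a b ⊓ genFix U (zpowers z))) ⟨m * l⁻¹, hd⟩
    rw [mem_subgroupOf] at h3
    change (m * l⁻¹) ^ _ ∈ kerFix Ω (zpowers z) at h3
    obtain ⟨r, hr⟩ := S.relIndex_odd
    change Subgroup.index _ = _ at hr
    rw [hr] at h3
    -- `x = (m l⁻¹) ^ (r + 1)`
    refine ⟨(m * l⁻¹) ^ (r + 1), pow_mem hd.2 _, pow_mem hd.1 _, ?_⟩
    set d := m * l⁻¹ with hdd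
    have hx : d ^ (r + 1) ∈ Dab G a b ⊓ genFix U (zpowers z) := pow_mem hd _
    have h4 := S.T.inv l ⟨hl, hls⟩ _ (inv_mem hx)
    -- `l x⁻¹ l⁻¹ x⁻¹ ∈ K`
    have h5 : d ^ (r + 1) * l * (d ^ (r + 1))⁻¹ * m⁻¹ =
        d ^ (r + 1) * (l * (d ^ (r + 1))⁻¹ * l⁻¹ * (d ^ (r + 1))⁻¹) * (d ^ (r + 1) * (l * m⁻¹)) := by
      group
    have h6 : l * m⁻¹ = d⁻¹ := by rw [hdd]; group
    have h7 := S.K_comm h4 hx.2
    rw [h5, h6, ← h7, mul_assoc]
    refine mul_mem h4 ?_
    have h8 : d ^ (r + 1) * (d ^ (r + 1) * d⁻¹) = d ^ (2 * r + 1) := by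
      rw [← mul_assoc, ← pow_add, mul_inv_eq_iff_eq_mul, ← pow_succ]
      congr 1
      ring
    rw [h8]
    exact h3
  cardE := S.T.cardE
  inner := fun y hy hy2 hf => S.inner hy hy2 hf
  cardZ := S.T.card
  cardU := cardU
  q4 := S.q4
  four := four

end Sit

open Cfsg.Agent.Lib.SL2Mat in
theorem sl2_sq {F : Type*} [Field F] (h2 : (2 : F) ≠ 0) {x : Matrix.SpecialLinearGroup (Fin 2) F}
    (hx : x * x = 1) : x = 1 ∨ x = -1 := by
  have h3 : x = mk (ent x 1 1) (- ent x 0 1) (- ent x 1 0) (ent x 0 0)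
      (by linear_combination det_eq x) := by
    rw [← ent_inv]
    exact (inv_eq_of_mul_eq_one_left hx).symm
  have e1 : ent x 0 0 = ent x 1 1 := congrArg (fun y => ent y 0 0) h3
  have e2 : ent x 0 1 = 0 := by
    have h4 : ent x 0 1 = - ent x 0 1 := congrArg (fun y => ent y 0 1) h3
    have h5 : (2 : F) * ent x 0 1 = 0 := by linear_combination h4
    exact (mul_eq_zero.1 h5).resolve_left h2
  have e3 : ent x 1 0 = 0 := by
    have h4 : ent x 1 0 = - ent x 1 0 := congrArg (fun y => ent y 1 0) h3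
    have h5 : (2 : F) * ent x 1 0 = 0 := by linear_combination h4
    exact (mul_eq_zero.1 h5).resolve_left h2
  have hd := det_eq x
  rw [← e1, e2, zero_mul, sub_zero] at hd
  rcases mul_self_eq_one_iff.1 hd with h4 | h4
  · left
    exact ext_ent h4 e2 e3 (by rw [← e1]; exact h4)
  · right
    refine ext_ent h4 ?_ ?_ (by rw [← e1]; exact h4)
    · rw [e2]
      change (0 : F) = -(ent 1 0 1)
      rw [ent_one_01, neg_zero]
    · rw [e3]
      change (0 : F) = -(ent 1 1 0)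
      rw [ent_one_10, neg_zero]

/-- Coordinates: `M` is a quotient of `SL(2,F)` by a central subgroup. -/
theorem MK_of_hom {F : Type*} [Field F] (h2 : (2 : F) ≠ 0) {M K : Subgroup G}
    (φ : Matrix.SpecialLinearGroup (Fin 2) F →* G) (hφ : ∀ m ∈ M, ∃ x, φ x = m)
    (hK : ∀ x, φ x ∈ K → x = 1 ∨ x = -1) (hz : z ∈ K) (hz1 : z ≠ 1)
    (Kz : ∀ k ∈ K, k * k = 1 → k = 1 ∨ k = z) :
    (∀ m ∈ M, m ∈ K → m = 1 ∨ m = z) ∧ (z ∈ M → ∀ m ∈ M, m * m = 1 → m = 1 ∨ m = z) := by
  have hneg : φ (-1) * φ (-1) = 1 := by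
    rw [← map_mul, neg_mul_neg, one_mul, map_one]
  have h1 : ∀ m ∈ M, m ∈ K → m = 1 ∨ m = z := by
    intro m hm hmK
    obtain ⟨x, rfl⟩ := hφ m hm
    rcases hK x hmK with rfl | rfl
    · left; rw [map_one]
    · exact Kz _ hmK hneg
  refine ⟨h1, fun hzM m hm hm2 => ?_⟩
  obtain ⟨y, hy⟩ := hφ z hzM
  have hy1 : y = -1 := by
    rcases hK y (by rw [hy]; exact hz) with h | h
    · exact absurd (by rw [← hy, h, map_one]) hz1
    · exact h
  obtain ⟨x, rfl⟩ := hφ m hm
  rw [← map_mul] at hm2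
  rcases hK (x * x) (by rw [hm2]; exact one_mem _) with h | h
  · rcases sl2_sq h2 h with rfl | rfl
    · left; rw [map_one]
    · right; rw [← hy, hy1]
  · exfalso
    rw [h, ← hy1, hy] at hm2
    exact hz1 hm2

/-- **(3b) of #6838.** -/
theorem kill_of [Finite G] [Finite Ω] [FaithfulSMul G Ω] {p k : ℕ} (C : CtxE U a b p k)
    (hV : NoFourFix U a b) {e : G} (hz : z ∈ Dab G a b) (hz1 : z ≠ 1) (hz2 : z * z = 1)
    (hzW : ∀ w ∈ Wab G a b, w * z = z * w)
    (he : e ∈ Dab G a b) (he2 : e * e = 1) (he1 : e ≠ 1) (hez : e ≠ z)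
    (hinv : ∀ u ∈ U a, z * u = u * z → e * u * e⁻¹ = u⁻¹)
    (hK : ∀ x ∈ kerFix Ω (zpowers z), x * x = 1 → x = 1 ∨ x = z)
    (hN : Nat.card (U a) % 4 = 3)
    (hDA : DA (U a ⊓ centralizer (zpowers z : Set G))
      (Dab G a b ⊓ genFix U (zpowers z)) (kerFix Ω (zpowers z))
      (fun w => w ∈ genFix U (zpowers z) ∧ Swaps w a b) →
      Nat.card (U a ⊓ centralizer (zpowers z : Set G) : Subgroup G) = 3)
    (hMK : (∀ m ∈ genFix U (zpowers z), m ∈ kerFix Ω (zpowers z) → m = 1 ∨ m = z) ∧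
      (z ∈ genFix U (zpowers z) → ∀ m ∈ genFix U (zpowers z), m * m = 1 → m = 1 ∨ m = z)) :
    False := by
  have hodd : Odd (Nat.card (U a)) := by
    rw [Nat.odd_iff]
    (clear * - hN; omega)
  -- a nontrivial element of `C_{U a}(z)`
  have h3 : ∃ u ∈ U a, u ≠ 1 ∧ z * u = u * z := by
    by_contra hc
    push Not at hc
    have h4 := C.fix z hz1 hz2
    have h5 : Nat.card (fixedBy Ω z) ≤ 2 := by
      have h6 : (fixedBy Ω z) ⊆ {a, b} := by
        intro c hzc
        have hzc' : z • c = c := hzc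
        by_cases hca : c = a
        · exact Or.inl hca
        right
        obtain ⟨u, hu, hub⟩ := C.split.trans C.ne hca
        have h1 : u ∈ centralizer (zpowers z : Set G) :=
          C.split.comm_of_fixSub (mem_fix.2 hz.1) (mem_fix.2 hz.2) C.ne hu (by
            rw [hub]; exact mem_fix.2 hzc')
        have h7 : u = 1 := by
          by_contra hu1
          exact hc u hu hu1 (mem_cen.1 h1)
        rw [← hub, h7, one_smul]
        rfl
      calc Nat.card (fixedBy Ω z) ≤ Nat.card ({a, b} : Set Ω) :=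
            Nat.card_mono (Set.toFinite _) h6
        _ ≤ 2 := by
            rw [Nat.card_coe_set_eq]
            calc Set.ncard ({a, b} : Set Ω) ≤ Set.ncard ({b} : Set Ω) + 1 := Set.ncard_insert_le _ _
              _ = 2 := by rw [Set.ncard_singleton]
    omega
  have hCen : Cen U a b z := ⟨C.split, C.ne, hz, hz2, fun g hg => (hzW g hg).symm, h3⟩
  have hcomm : ∀ u ∈ U a ⊓ centralizer (zpowers z : Set G),
      ∀ v ∈ U a ⊓ centralizer (zpowers z : Set G), u * v = v * u := by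
    intro u hu v hv
    have e1 := hinv u hu.1 (mem_cen.1 hu.2)
    have e2 := hinv v hv.1 (mem_cen.1 hv.2)
    have huv := mul_mem hu hv
    have e3 := hinv _ huv.1 (mem_cen.1 huv.2)
    have e4 : e * (u * v) * e⁻¹ = (e * u * e⁻¹) * (e * v * e⁻¹) := by group
    rw [e1, e2, e3, mul_inv_rev] at e4
    have e5 := congrArg (fun x => x⁻¹) e4
    simp only [mul_inv_rev, inv_inv] at e5
    exact e5
  have hc₀ : ∃ c₀ : Ω, z • c₀ ≠ c₀ := by
    by_contra hc
    push Not at hc
    exact hz1 (eq_of_smul_eq_smul (α := Ω) fun c => by rw [hc c, one_smul])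
  obtain ⟨c₀, hc₀⟩ := hc₀
  obtain ⟨j, hj0, hkj, hq, hU, -⟩ := hCen.cube' C.gen C.prime C.p_ne_two C.cardU hc₀ he hinv
  have hq4 : Nat.card (U a ⊓ centralizer (zpowers z : Set G) : Subgroup G) % 4 = 3 := by
    rw [hU] at hN
    rw [hq]
    have h6 : p ^ j % 4 = 1 ∨ p ^ j % 4 = 3 := by
      have h7 : Odd (p ^ j) := (C.prime.odd_of_ne_two C.p_ne_two).pow
      obtain ⟨s, hs⟩ := h7
      omega
    rcases h6 with h6 | h6
    · exfalso
      rw [Nat.pow_mod, h6] at hN
      norm_num at hN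
    · exact h6
  have hX1 : zpowers z ≠ ⊥ := by rwa [Ne, zpowers_eq_bot]
  have hX : zpowers z ≤ Dab G a b := by rw [zpowers_le]; exact hz
  have hPne : U a ⊓ centralizer (zpowers z : Set G) ≠ ⊥ := by
    intro hc
    rw [hc, card_bot] at hq4
    omega
  have hT3 : T3 U a b z (Nat.card (U a ⊓ centralizer (zpowers z : Set G) : Subgroup G)) := by
    rcases C.IH _ hX hX1 hPne with hT | ⟨q', hT⟩ | ⟨q', hT⟩ | ⟨n, hT⟩
    · have h6 := hDA hT
      rw [h6]
      exact T3.of_DA C.split C.ne hz hT h6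
    · rw [hT.card]
      exact T3.of_DL hT
    · exfalso
      have h6 : (U a ⊓ centralizer (zpowers z : Set G)) ⊓
          centralizer ((U a ⊓ centralizer (zpowers z : Set G) : Subgroup G) : Set G) =
          U a ⊓ centralizer (zpowers z : Set G) := by
        rw [inf_eq_left]
        intro u hu
        rw [mem_centralizer_iff]
        intro v hv
        exact hcomm v hv u hu
      have h7 := hT.cardZ
      rw [h6, hT.card] at h7
      have h8 := hT.pow.two_le
      have h9 : q' < q' ^ 3 := by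
        calc q' = q' ^ 1 := (pow_one _).symm
          _ < q' ^ 3 := Nat.pow_lt_pow_right (by omega) (by norm_num)
      omega
    · exfalso
      obtain ⟨u, hu, v, hv, huv⟩ := hT.ncomm
      exact huv (hcomm u hu v hv)
  have S : Sit U a b z (Nat.card (U a ⊓ centralizer (zpowers z : Set G) : Subgroup G)) :=
    ⟨hCen, C.gen, hodd, hT3, hq4⟩
  have hCfg := S.toCfg hz1 hK hMK.1 hMK.2 (by rw [hq, hU]) (by
    intro t ht ht2 ht1 htz u hu hut huz
    exact hV z hz t ht hz1 ht1 htz.symm hz2 ht2 (hCen.cW t (Dab_le_Wab a b ht)) u hu huz.symm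
      hut.symm)
  exact hCfg.false he he2 he1 hez

end Cfsg.Agent.HKS.CaseThree
end

-- part: HKS/RankCentralThree
section
/-!
# `RankCentral 3` (#6838 (3b))
-/

set_option autoImplicit false

namespace Cfsg.Agent.HKS

open Subgroup MulAction CentralN SLCoord

namespace CaseThree

/-- The coordinates give `|M ∩ K| ≤ 2`. -/
theorem MK_of_slx {G Ω : Type*} [Group G] [MulAction G Ω] {U : Ω → Subgroup G} {a b : Ω} {z : G}
    (h : SSplit U) {F : Type} [Field F] [Fintype F] (hF : Odd (Fintype.card F))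
    {φ : Matrix.SpecialLinearGroup (Fin 2) F →* G} (S : SLX U (zpowers z) a b φ) (hz1 : z ≠ 1)
    (Kz : ∀ k ∈ kerFix Ω (zpowers z), k * k = 1 → k = 1 ∨ k = z) :
    (∀ m ∈ genFix U (zpowers z), m ∈ kerFix Ω (zpowers z) → m = 1 ∨ m = z) ∧
      (z ∈ genFix U (zpowers z) → ∀ m ∈ genFix U (zpowers z), m * m = 1 → m = 1 ∨ m = z) := by
  have h2 : (2 : F) ≠ 0 := by
    intro hc
    have : CharP F 2 := CharTwo.of_one_ne_zero_of_two_eq_zero one_ne_zero hc
    obtain ⟨n, hn, hcard⟩ := FiniteField.card F 2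
    rw [hcard] at hF
    exact (Nat.not_even_iff_odd.2 hF) (Nat.even_pow.2 ⟨even_two, n.ne_zero⟩)
  refine MK_of_hom (K := kerFix Ω (zpowers z)) h2 φ ?_ (fun x hx => S.eq_pm h hx) ?_ hz1 Kz
  · intro m hm
    rw [← S.range_eq h] at hm
    exact hm
  · exact mem_K.2 fun _ h => h

end CaseThree

theorem rankCentral_three.{v} : RankCentral.{v} 3 := by
  intro G Ω _ _ _ _ _ U a b p k C hV z e Z he he1 hez he2 hze hN
  have hX : zpowers z ≤ Dab G a b := by rw [zpowers_le]; exact Z.zD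
  have ha : ∀ x ∈ zpowers z, x • a = a := fun x hx => (hX hx).1
  have hb : ∀ x ∈ zpowers z, x • b = b := fun x hx => (hX hx).2
  have hX1 : zpowers z ≠ ⊥ := by rw [Ne, zpowers_eq_bot]; exact Z.ne_one
  have hinv : ∀ u ∈ U a, z * u = u * z → e * u * e⁻¹ = u⁻¹ := fun u hu hzu =>
    Z.inverts C hV he he2 he1 hez hu hzu
  have Kz : ∀ x ∈ kerFix Ω (zpowers z), x * x = 1 → x = 1 ∨ x = z := by
    intro x hx hxx
    by_cases hx1 : x = 1
    · exact Or.inl hx1
    · exact Or.inr (Z.ker_invol C hV hx hxx hx1)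
  obtain ⟨u₀, hu₀, hu₀1, hzu₀⟩ := FourZero.P_ne_bot' C Z.zD Z.ne_one Z.sq
  have hPne : U a ⊓ centralizer (zpowers z : Set G) ≠ ⊥ := by
    intro hc
    have h1 : u₀ ∈ U a ⊓ centralizer (zpowers z : Set G) := ⟨hu₀, mem_cen.2 hzu₀⟩
    rw [hc, mem_bot] at h1
    exact hu₀1 h1
  have hDA : DA (U a ⊓ centralizer (zpowers z : Set G))
      (Dab G a b ⊓ genFix U (zpowers z)) (kerFix Ω (zpowers z))
      (fun w => w ∈ genFix U (zpowers z) ∧ Swaps w a b) →
      Nat.card (U a ⊓ centralizer (zpowers z : Set G) : Subgroup G) = 3 := by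
    intro hT
    have hs : RigElt (Ω := Ω) (zpowers z) a b e := RigElt.of_comm he (by
      rintro x ⟨n, rfl⟩
      exact ((Commute.zpow_left (show Commute z e from hze) n).eq).symm) (by
      rw [he2]; exact one_mem _)
    rcases C.split.rigA C.even C.ne hX hs hT hPne C.prime C.cardU with h1 | h1
    · exfalso
      -- `e` centralises and inverts `u₀`
      have h2 := PP1.comm_genFix C.split C.ne hX h1
        (PP1.mem_genFix (c := a) ha hu₀ (mem_cen.2 hzu₀))
      have h3 := hinv u₀ hu₀ hzu₀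
      rw [h2, mul_inv_cancel_right] at h3
      have hodd : Odd (Nat.card (U a)) := FourZero.odd_U C
      have h6 : (⟨u₀, hu₀⟩ : U a) ^ 2 = 1 := by
        rw [pow_two]
        apply Subtype.ext
        change u₀ * u₀ = 1
        nth_rewrite 1 [h3]
        rw [inv_mul_cancel]
      have h7 : (⟨u₀, hu₀⟩ : U a) ^ Nat.card (U a) = 1 := pow_card_eq_one'
      have h8 : (⟨u₀, hu₀⟩ : U a) = 1 := by
        obtain ⟨s, hs⟩ := hodd
        rwa [hs, pow_succ, pow_mul, h6, one_pow, one_mul] at h7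
      exact hu₀1 (congrArg Subtype.val h8)
    · exact h1.1
  have hMK : (∀ m ∈ genFix U (zpowers z), m ∈ kerFix Ω (zpowers z) → m = 1 ∨ m = z) ∧
      (z ∈ genFix U (zpowers z) → ∀ m ∈ genFix U (zpowers z), m * m = 1 → m = 1 ∨ m = z) := by
    rcases C.IH _ hX hX1 hPne with hT | ⟨q', hT⟩ | ⟨q', hT⟩ | ⟨n, hT⟩
    · have h3 := hDA hT
      obtain ⟨F, i1, i2, hF, φ, S⟩ := SLCoord.exists_slx_of_three C.split C.ne ha hb h3
      exact CaseThree.MK_of_slx C.split (by rw [hF]; decide) S Z.ne_one Kz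
    · obtain ⟨F, i1, i2, hF, φ, S⟩ := SLCoord.exists_slx_of_DL C.split C.ne ha hb hT
      exact CaseThree.MK_of_slx C.split (by rw [hF]; exact hT.odd) S Z.ne_one Kz
    · exfalso
      have hcomm : ∀ u ∈ U a ⊓ centralizer (zpowers z : Set G),
          ∀ v ∈ U a ⊓ centralizer (zpowers z : Set G), v * u = u * v := fun u hu v hv =>
        ((Z.cU u hu.1).1 (mem_cen.1 hu.2) v hv.1).symm
      have h6 : (U a ⊓ centralizer (zpowers z : Set G)) ⊓
          centralizer ((U a ⊓ centralizer (zpowers z : Set G) : Subgroup G) : Set G) =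
          U a ⊓ centralizer (zpowers z : Set G) := by
        rw [inf_eq_left]
        intro u hu
        rw [mem_centralizer_iff]
        intro v hv
        exact hcomm u hu v hv
      have h7 := hT.cardZ
      rw [h6, hT.card] at h7
      have h8 := hT.pow.two_le
      have h9 : q' < q' ^ 3 := by
        calc q' = q' ^ 1 := (pow_one _).symm
          _ < q' ^ 3 := Nat.pow_lt_pow_right (by omega) (by norm_num)
      omega
    · exfalso
      obtain ⟨u, hu, v, hv, huv⟩ := hT.ncomm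
      exact huv ((Z.cU u hu.1).1 (mem_cen.1 hu.2) v hv.1)
  exact CaseThree.kill_of C hV Z.zD Z.ne_one Z.sq (fun w hw => (Z.cW w hw).symm) he he2 he1 hez
    hinv Kz hN hDA hMK

end Cfsg.Agent.HKS
end

-- part: HKS/GoalRank
section
/-!
# `GoalRank`
-/

set_option autoImplicit false

namespace Cfsg.Agent.HKS

open Subgroup MulAction

theorem rankAbelian.{v} : RankAbelian.{v} := by
  intro G Ω _ _ _ _ _ U a b p k C hV s hs t ht hs1 ht1 hst hss htt hc hQ
  exact AbelianEnd.abelian_false' C hV hQ hs ht hs1 ht1 hst hss htt hc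

theorem goalRank.{v} : GoalRank.{v} :=
  goalRank_of rankAbelian rankCentral_one rankCentral_three

end Cfsg.Agent.HKS
end

private theorem dce_e78a5ccb494a : _root_.True := by
  try have : _root_.True := by simp only [_root_.Cfsg.Agent.HKS.CentralTransfer.Data.K0.eq_1]
  try have : _root_.True := by simp only [_root_.Cfsg.Agent.HKS.TwoOne.CU.eq_1]
  exact _root_.True.intro
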