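import Mathlib
import Cfsg.Agent.HKS.UniGoalOf_m3
import Cfsg.Agent.HKS.LinTriv_m3
import Cfsg.Agent.HKS.LinSplit_m3
import Cfsg.Agent.HKS.FrameCount
import Cfsg.Agent.Lib.SL2Mat
import Cfsg.Agent.HKS.Goals_m3
import Cfsg.Agent.Lib.AutSL2Out
import Cfsg.Agent.Walter.NoFieldTransfer
import Cfsg.Agent.S0343
import Cfsg.Agent.FastGrp
import Cfsg.Agent.Prune
set_option linter.all false

section
prune_inst 0x7fb0fdf88bacaddfdfff7e3ffed8dffc1180afffa4dff903ffe0e9bfcbdf0b8209457b8d0de01afe0ed6c0b410a87803fbfffa3fea6bdc7ffffd5ff41ffbee0fe5f7b50811d488240f340ffe03f07f8e7f3fffffffffffffffffffffffffffbeffffffffffff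

-- part: HKS/ReeFin_mg
section
prune_inst 0x400001441012200000004000050003a87550005b0002c80014004024006008b2000022120840010020220220500350040004c00504000000000000000011801800028040000010000000010000004000000000000000000000000000000000000000000000
set_option linter.all false
open scoped Cfsg.Agent.FastGrp

-- part: HKS/ReeFin
section
/-!
# The Ree end: the last step

`Fin0 U a b t φ` : `φ : SL(2,F) →* G` are coordinates at the central involution `t` of `G_ab`,
`φ (-1) = 1`, `|F| = 3 (mod 4)`, `|G_ab| = |F| - 1`. Then `G_ab` is cyclic and inverted by `φ (mM 1)`,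
`C(t) ≅ Z₂ × PSL(2,F)`, elements of `G_ab` of odd order are fixed point free on `U a`, `U a` is not
abelian if `|U a| = |F| ^ 3`; `TR U a b n` if `|F| = 3 ^ n`.
-/

set_option autoImplicit false

namespace Cfsg.Agent.HKS.ReeFin

open Subgroup MulAction Cfsg.Agent.HKS Cfsg.Agent.ONan.SL2Hom Cfsg.Agent.HKS.SLRel
  Cfsg.Agent.HKS.SLCoord

section Matrices

variable {F : Type*} [Field F]

theorem nM_mul (r s : F) (hr : r ≠ 0) (hs : s ≠ 0) :
    nM r hr * nM s hs = nM (r * s) (mul_ne_zero hr hs) := by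
  apply ext' <;> simp [mul_apply', mul_comm]

theorem mM_nM (r : F) (hr : r ≠ 0) :
    mM (1 : F) one_ne_zero * nM r hr = nM r⁻¹ (inv_ne_zero hr) * mM (1 : F) one_ne_zero := by
  apply ext' <;> simp [mul_apply']

/-- the torus -/
def tor : Fˣ →* Matrix.SpecialLinearGroup (Fin 2) F where
  toFun r := nM (r : F) r.ne_zero
  map_one' := by apply ext' <;> simp
  map_mul' r s := by rw [nM_mul]; rfl

theorem tor_apply (r : Fˣ) : tor r = nM (r : F) r.ne_zero := rfl

theorem mM_tor (r : Fˣ) : mM (1 : F) one_ne_zero * tor r = (tor r)⁻¹ * mM (1 : F) one_ne_zero := by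
  rw [← map_inv, tor_apply, tor_apply, mM_nM]
  congr 2
  exact (Units.val_inv_eq_inv_val r).symm

end Matrices

/-- The setting of the last step. -/
structure Fin0 {G Ω F : Type*} [Group G] [MulAction G Ω] [Field F] (U : Ω → Subgroup G) (a b : Ω)
    (t : G) (φ : Matrix.SpecialLinearGroup (Fin 2) F →* G) : Prop where
  h : SSplit U
  S : SLX U (zpowers t) a b φ
  neg : φ (-1) = 1
  tD : t ∈ Dab G a b
  t1 : t ≠ 1
  t2 : t * t = 1
  cen : ∀ d ∈ Dab G a b, t * d = d * t
  mod4 : Nat.card F % 4 = 3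
  cardD : Nat.card (Dab G a b) = Nat.card F - 1

namespace Fin0

variable {G Ω F : Type*} [Group G] [MulAction G Ω] [Field F] {U : Ω → Subgroup G} {a b : Ω}
  {t : G} {φ : Matrix.SpecialLinearGroup (Fin 2) F →* G}

theorem ab (D : Fin0 U a b t φ) : b ≠ a := D.S.ne

theorem comm_phi (D : Fin0 U a b t φ) (A : Matrix.SpecialLinearGroup (Fin 2) F) :
    t * φ A = φ A * t := by
  have h1 := D.S.gen A
  have h2 : genFix U (zpowers t) ≤ centralizer (zpowers t : Set G) := iSup_le fun _ => inf_le_right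
  exact mem_centralizer_iff.1 (h2 h1) t (mem_zpowers t)

theorem ker_iff (D : Fin0 U a b t φ) (A : Matrix.SpecialLinearGroup (Fin 2) F) :
    φ A = 1 ↔ A = 1 ∨ A = -1 := by
  constructor
  · intro hx
    exact D.S.eq_pm D.h (by rw [hx]; exact one_mem _)
  · rintro (rfl | rfl)
    · exact map_one φ
    · exact D.neg

/-- the torus in `G` -/
def tau (φ : Matrix.SpecialLinearGroup (Fin 2) F →* G) : Fˣ →* G := φ.comp tor

theorem tau_mem (D : Fin0 U a b t φ) (r : Fˣ) : tau φ r ∈ Dab G a b :=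
  D.S.nM_mem D.h (r : F) r.ne_zero

theorem tau_eq_one (D : Fin0 U a b t φ) {r : Fˣ} (h : tau φ r = 1) : r = 1 ∨ r = -1 := by
  rcases (D.ker_iff (tor r)).1 h with h1 | h1
  · left
    have := congrArg (fun A : Matrix.SpecialLinearGroup (Fin 2) F => A.1 0 0) h1
    simp only [tor_apply, nM_00] at this
    exact Units.ext (by simpa using this)
  · right
    have := congrArg (fun A : Matrix.SpecialLinearGroup (Fin 2) F => A.1 0 0) h1
    simp only [tor_apply, nM_00] at this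
    exact Units.ext (by simpa using this)

theorem tau_neg (D : Fin0 U a b t φ) : tau φ (-1) = 1 := by
  change φ (tor (-1)) = 1
  rw [D.ker_iff]
  right
  apply ext' <;> simp only [tor_apply, _root_.Cfsg.Agent.HKS.ReeFin.tor_apply, _root_.Units.val_neg, _root_.Units.val_one, _root_.Fin.isValue, _root_.Cfsg.Agent.ONan.SL2Hom.nM_00, _root_.Matrix.SpecialLinearGroup.coe_neg, _root_.Matrix.SpecialLinearGroup.coe_one, _root_.Matrix.neg_apply, _root_.Matrix.one_apply_eq, _root_.Cfsg.Agent.ONan.SL2Hom.nM_01, _root_.ne_eq, _root_.zero_ne_one, _root_.not_false_eq_true, _root_.Matrix.one_apply_ne, _root_.neg_zero, _root_.Cfsg.Agent.ONan.SL2Hom.nM_10, _root_.one_ne_zero, _root_.Cfsg.Agent.ONan.SL2Hom.nM_11, _root_.inv_neg, _root_.inv_one]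

theorem finF (D : Fin0 U a b t φ) : Finite F := by
  by_contra hc
  rw [not_finite_iff_infinite] at hc
  have := D.mod4
  rw [Nat.card_eq_zero_of_infinite] at this
  omega

/-- the order of a generator of the torus -/
theorem orderOf_tau (D : Fin0 U a b t φ) {g : Fˣ} (hg : ∀ x, x ∈ zpowers g) :
    2 * orderOf (tau φ g) = Nat.card F - 1 := by
  have := D.finF
  have h4 := D.mod4
  have hog : orderOf g = Nat.card F - 1 := by
    rw [orderOf_eq_card_of_forall_mem_zpowers hg, Nat.card_units]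
  set n := orderOf (tau φ g) with hn
  obtain ⟨m, hm⟩ : ∃ m, Nat.card F - 1 = 2 * m := ⟨(Nat.card F - 1) / 2, by omega⟩
  have hmpos : 0 < m := by omega
  -- `g ^ m = -1`
  have h1 : g ^ m = -1 := by
    have h2 : (g ^ m) * (g ^ m) = 1 := by
      rw [← pow_add, ← two_mul, ← hm, ← hog, pow_orderOf_eq_one]
    have h3 : g ^ m ≠ 1 := pow_ne_one_of_lt_orderOf (by omega) (by omega)
    have h5 : ((g ^ m : Fˣ) : F) * ((g ^ m : Fˣ) : F) = 1 := by
      rw [← Units.val_mul, h2, Units.val_one]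
    rcases mul_self_eq_one_iff.1 h5 with h6 | h6
    · exact absurd (Units.ext (by rw [h6, Units.val_one])) h3
    · exact Units.ext (by rw [h6, Units.val_neg, Units.val_one])
  have h2 : n ∣ m := by
    rw [hn, orderOf_dvd_iff_pow_eq_one, ← map_pow, h1]
    exact D.tau_neg
  have h3 : m ∣ n := by
    have h5 : tau φ (g ^ n) = 1 := by rw [map_pow, hn, pow_orderOf_eq_one]
    have h6 : (g ^ n) * (g ^ n) = 1 := by
      rcases D.tau_eq_one h5 with h7 | h7 <;> rw [h7] <;> simp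
    rw [← pow_add, ← orderOf_dvd_iff_pow_eq_one, hog, hm, ← two_mul] at h6
    exact Nat.dvd_of_mul_dvd_mul_left (by norm_num) h6
  rw [Nat.dvd_antisymm h2 h3, hm]

/-- **`G_ab` is cyclic**, generated by `τ(g) t`. -/
theorem exists_gen [Finite G] (D : Fin0 U a b t φ) : ∃ g : Fˣ, (∀ x, x ∈ zpowers g) ∧
    zpowers (tau φ g * t) = Dab G a b := by
  have := D.finF
  obtain ⟨g, hg⟩ := IsCyclic.exists_generator (α := Fˣ)
  refine ⟨g, hg, ?_⟩
  have h1 := D.orderOf_tau hg
  have h4 := D.mod4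
  have ht : orderOf t = 2 := orderOf_eq_prime (by rw [pow_two, D.t2]) D.t1
  have hcop : Nat.Coprime (orderOf (tau φ g)) (orderOf t) := by
    rw [ht, Nat.coprime_two_right]
    rw [Nat.odd_iff]
    omega
  have hc : Commute (tau φ g) t := (D.comm_phi (tor g)).symm
  have h2 := hc.orderOf_mul_eq_mul_orderOf_of_coprime hcop
  rw [ht] at h2
  apply eq_of_le_of_card_ge
  · rw [zpowers_le]
    exact mul_mem (D.tau_mem g) D.tD
  · rw [Nat.card_zpowers, h2, D.cardD]
    omega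

/-- the element interchanging `a` and `b` -/
theorem w_swaps (D : Fin0 U a b t φ) : Swaps (φ (mM 1 one_ne_zero)) a b := D.S.mM_swaps D.h _ _

theorem w_sq (D : Fin0 U a b t φ) : φ (mM 1 one_ne_zero) * φ (mM 1 one_ne_zero) = 1 := by
  rw [← map_mul, mM_mul_self]
  exact D.neg

/-- `w` inverts `G_ab`. -/
theorem w_inv [Finite G] (D : Fin0 U a b t φ) {d : G} (hd : d ∈ Dab G a b) :
    φ (mM 1 one_ne_zero) * d * (φ (mM 1 one_ne_zero))⁻¹ = d⁻¹ := by
  obtain ⟨g, -, hg⟩ := D.exists_gen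
  set w := φ (mM 1 one_ne_zero) with hw
  have hti : t⁻¹ = t := inv_eq_of_mul_eq_one_left D.t2
  have h1 : w * (tau φ g * t) * w⁻¹ = (tau φ g * t)⁻¹ := by
    have h2 : w * tau φ g = (tau φ g)⁻¹ * w := by
      change φ _ * φ (tor g) = (φ (tor g))⁻¹ * φ _
      rw [← map_mul, mM_tor, map_mul, map_inv]
    have h3 : t * w⁻¹ = w⁻¹ * t := by
      rw [hw, ← map_inv]
      exact D.comm_phi _
    have h5 : t * (tau φ g)⁻¹ = (tau φ g)⁻¹ * t := by
      change t * (φ (tor g))⁻¹ = (φ (tor g))⁻¹ * t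
      rw [← map_inv]
      exact D.comm_phi _
    calc w * (tau φ g * t) * w⁻¹ = (w * tau φ g) * (t * w⁻¹) := by group
      _ = ((tau φ g)⁻¹ * w) * (w⁻¹ * t) := by rw [h2, h3]
      _ = (tau φ g)⁻¹ * t := by group
      _ = (tau φ g * t)⁻¹ := by rw [mul_inv_rev, hti, h5]
  rw [← hg] at hd
  obtain ⟨n, rfl⟩ := hd
  change w * (tau φ g * t) ^ n * w⁻¹ = ((tau φ g * t) ^ n)⁻¹
  rw [← conj_zpow, h1, inv_zpow]

theorem comm_D [Finite G] (D : Fin0 U a b t φ) {d e : G} (hd : d ∈ Dab G a b)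
    (he : e ∈ Dab G a b) : d * e = e * d := by
  obtain ⟨g, -, hg⟩ := D.exists_gen
  rw [← hg] at hd he
  obtain ⟨n, rfl⟩ := hd
  obtain ⟨m, rfl⟩ := he
  change (tau φ g * t) ^ n * (tau φ g * t) ^ m = (tau φ g * t) ^ m * (tau φ g * t) ^ n
  rw [← zpow_add, ← zpow_add, add_comm]

/-- every `y` interchanging `a` and `b` inverts `G_ab` -/
theorem swaps_inv [Finite G] (D : Fin0 U a b t φ) {y d : G} (hy : Swaps y a b)
    (hd : d ∈ Dab G a b) : y * d * y⁻¹ = d⁻¹ := by
  set w := φ (mM 1 one_ne_zero) with hw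
  have h1 : y * w⁻¹ ∈ Dab G a b := hy.mul D.w_swaps.inv
  have h2 : y = (y * w⁻¹) * w := by group
  have h3 := D.w_inv hd
  have h4 := D.comm_D h1 (inv_mem hd)
  calc y * d * y⁻¹ = (y * w⁻¹) * (w * d * w⁻¹) * (y * w⁻¹)⁻¹ := by group
    _ = ((y * w⁻¹) * d⁻¹) * (y * w⁻¹)⁻¹ := by rw [h3]
    _ = (d⁻¹ * (y * w⁻¹)) * (y * w⁻¹)⁻¹ := by rw [h4]
    _ = d⁻¹ := by group

/-- elements of odd order of `G_ab` are fixed point free on `U a` -/
theorem fpf [Finite G] (D : Fin0 U a b t φ) {d : G} (hd : d ∈ Dab G a b) {k : ℕ} (hk : Odd k)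
    (hdk : d ^ k = 1) {u : G} (hu : u ∈ U a) (hdu : d * u = u * d) : d = 1 ∨ u = 1 := by
  by_cases hu1 : u = 1
  · exact Or.inr hu1
  left
  have hd' : d ∈ Dab G b a := by rwa [Dab_symm] at hd
  have h1 := D.h.mu_comm D.ab.symm hu hu1 hd' hdu
  have h2 := (D.h.mu_swaps D.ab.symm hu hu1).symm
  have h3 := D.swaps_inv h2 hd
  set y := SSplit.mu U b a u with hy
  have h4 : d = d⁻¹ := by
    rw [← h3, ← h1]; group
  have h5 : d ^ 2 = 1 := by
    rw [pow_two]
    calc d * d = d⁻¹ * d := by rw [← h4]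
      _ = 1 := by group
  obtain ⟨m, rfl⟩ := hk
  rw [pow_succ, pow_mul, h5, one_pow, one_mul] at hdk
  exact hdk

/-! ### The centraliser of `t` -/

theorem exists_mul [Finite G] (D : Fin0 U a b t φ) {g : G} (hg : t * g = g * t) :
    ∃ A, g = φ A ∨ g = t * φ A := by
  have hfix : ∀ c : Ω, t • c = c → ∀ x ∈ zpowers t, x • c = c := fun c hc => by
    intro x hx
    exact (zpowers_le.2 (show t ∈ stabilizer G c from hc)) hx
  have hga : t • g • a = g • a := by
    rw [← mul_smul, hg, mul_smul, show t • a = a from D.tD.1]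
  have hgb : t • g • b = g • b := by
    rw [← mul_smul, hg, mul_smul, show t • b = b from D.tD.2]
  obtain ⟨m, hm, hma, hmb⟩ := ReeSylow.two_gen D.S D.h (hfix _ hga) (hfix _ hgb)
    (fun e => D.ab (MulAction.injective g e))
  rw [← D.S.range_eq D.h] at hm
  obtain ⟨A, rfl⟩ := hm
  have hd : (φ A)⁻¹ * g ∈ Dab G a b := by
    constructor
    · change ((φ A)⁻¹ * g) • a = a
      rw [mul_smul, inv_smul_eq_iff, hma]
    · change ((φ A)⁻¹ * g) • b = b
      rw [mul_smul, inv_smul_eq_iff, hmb]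
  obtain ⟨r, -, hr⟩ := D.exists_gen
  rw [← hr] at hd
  obtain ⟨n, hn⟩ := hd
  change (tau φ r * t) ^ n = (φ A)⁻¹ * g at hn
  have hc : Commute (tau φ r) t := (D.comm_phi (tor r)).symm
  rw [hc.mul_zpow] at hn
  have h1 : g = φ (A * (tor r) ^ n) * t ^ n := by
    rw [map_mul, map_zpow, eq_mul_of_inv_mul_eq hn.symm, mul_assoc]
    rfl
  have h2 : t ^ n = 1 ∨ t ^ n = t := TwoOne.mem_zpowers_invol D.t2 ⟨n, rfl⟩
  refine ⟨A * (tor r) ^ n, ?_⟩
  rcases h2 with h3 | h3
  · left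
    rw [h1, h3, mul_one]
  · right
    rw [h1, h3]
    exact (D.comm_phi _).symm

/-- `t` is not in the image of `φ`. -/
theorem t_ne_phi [Finite G] (D : Fin0 U a b t φ) (A : Matrix.SpecialLinearGroup (Fin 2) F) :
    φ A ≠ t := by
  intro hc
  obtain ⟨r, hr, -⟩ := D.exists_gen
  have h1 : φ A ∈ Dab G a b := by rw [hc]; exact D.tD
  have h2 : φ A ∈ kerFix Ω (zpowers t) := by
    rw [hc]
    exact fun c hc => hc t (mem_zpowers t)
  rcases D.S.eq_pm D.h h2 with h3 | h3
  · rw [h3, map_one] at hc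
    exact D.t1 hc.symm
  · rw [h3, D.neg] at hc
    exact D.t1 hc.symm

theorem center_map (D : Fin0 U a b t φ) {A : Matrix.SpecialLinearGroup (Fin 2) F}
    (hA : A ∈ Subgroup.center (Matrix.SpecialLinearGroup (Fin 2) F)) : φ A = 1 := by
  obtain ⟨r, hr, hrA⟩ := Matrix.SpecialLinearGroup.mem_center_iff.1 hA
  rw [D.ker_iff]
  have h1 : r * r = 1 := by
    rw [← sq, ← hr]
    simp
  have h00 : A.1 0 0 = r := by rw [← hrA]; simp
  have h01 : A.1 0 1 = 0 := by rw [← hrA]; simp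
  have h10 : A.1 1 0 = 0 := by rw [← hrA]; simp
  have h11 : A.1 1 1 = r := by rw [← hrA]; simp
  rcases mul_self_eq_one_iff.1 h1 with h2 | h2
  · left
    apply ext' <;> simp [h00, h01, h10, h11, h2]
  · right
    apply ext' <;> simp [h00, h01, h10, h11, h2]

/-- `PSL(2,F) →* C(t)` -/
def psl (D : Fin0 U a b t φ) : Matrix.ProjectiveSpecialLinearGroup (Fin 2) F →*
    centralizer ({t} : Set G) :=
  (QuotientGroup.lift _ φ (fun A hA => D.center_map hA)).codRestrict _ (fun A => by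
    induction A using QuotientGroup.induction_on with
    | H A =>
      change φ A ∈ centralizer ({t} : Set G)
      rw [mem_centralizer_singleton_iff]
      exact (D.comm_phi A).symm)

/-- `Z₂ →* C(t)` -/
def two (D : Fin0 U a b t φ) : Multiplicative (ZMod 2) →* centralizer ({t} : Set G) where
  toFun i := if i = 1 then 1 else ⟨t, by rw [mem_centralizer_singleton_iff]⟩
  map_one' := if_pos rfl
  map_mul' := by
    have key : ∀ i j : Multiplicative (ZMod 2), (i = 1 ∧ j = 1) ∨ (i = 1 ∧ j ≠ 1 ∧ i * j ≠ 1) ∨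
      (i ≠ 1 ∧ j = 1 ∧ i * j ≠ 1) ∨ (i ≠ 1 ∧ j ≠ 1 ∧ i * j = 1) := by decide
    intro i j
    rcases key i j with ⟨h1, h2⟩ | ⟨h1, h2, h3⟩ | ⟨h1, h2, h3⟩ | ⟨h1, h2, h3⟩
    · rw [h1, h2, mul_one, if_pos rfl, mul_one]
    · rw [if_neg h3, if_pos h1, if_neg h2, one_mul]
    · rw [if_neg h3, if_neg h1, if_pos h2, mul_one]
    · rw [if_pos h3, if_neg h1, if_neg h2]
      exact Subtype.ext D.t2.symm

theorem two_of_ne (D : Fin0 U a b t φ) {i : Multiplicative (ZMod 2)} (hi : i ≠ 1) :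
    ((D.two i : centralizer ({t} : Set G)) : G) = t := by
  change (((if i = 1 then 1 else ⟨t, _⟩ : centralizer ({t} : Set G))) : G) = t
  rw [if_neg hi]

/-- **`C(t) ≅ Z₂ × PSL(2,F)`.** -/
theorem nonempty_equiv [Finite G] (D : Fin0 U a b t φ) : Nonempty (centralizer ({t} : Set G) ≃*
    Multiplicative (ZMod 2) × Matrix.ProjectiveSpecialLinearGroup (Fin 2) F) := by
  have hcomm : ∀ i A, Commute (D.two i) (D.psl A) := by
    intro i A
    by_cases hi : i = 1
    · rw [hi, map_one]; exact Commute.one_left _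
    · induction A using QuotientGroup.induction_on with
      | H A =>
        apply Subtype.ext
        change ((D.two i : centralizer ({t} : Set G)) : G) * φ A =
          φ A * ((D.two i : centralizer ({t} : Set G)) : G)
        rw [D.two_of_ne hi]
        exact D.comm_phi A
  have hbij : Function.Bijective (MonoidHom.noncommCoprod D.two D.psl hcomm) := by
    constructor
    · rw [injective_iff_map_eq_one]
      rintro ⟨i, A⟩ hiA
      induction A using QuotientGroup.induction_on with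
      | H A =>
        rw [MonoidHom.noncommCoprod_apply] at hiA
        have h1 : ((D.two i : centralizer ({t} : Set G)) : G) * φ A = 1 := congrArg Subtype.val hiA
        by_cases hi : i = 1
        · rw [hi, map_one] at h1
          change (1 : G) * φ A = 1 at h1
          rw [one_mul] at h1
          rw [hi]
          have h2 : (QuotientGroup.mk A : Matrix.ProjectiveSpecialLinearGroup (Fin 2) F) = 1 := by
            rw [QuotientGroup.eq_one_iff]
            rcases (D.ker_iff A).1 h1 with h3 | h3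
            · rw [h3]; exact one_mem _
            · rw [h3]
              rw [mem_center_iff]
              intro B
              rw [mul_neg, neg_mul, one_mul, mul_one]
          exact Prod.ext rfl h2
        · exfalso
          rw [D.two_of_ne hi] at h1
          apply D.t_ne_phi A
          rw [eq_inv_of_mul_eq_one_right h1]
          exact inv_eq_of_mul_eq_one_left D.t2
    · rintro ⟨g, hg⟩
      rw [mem_centralizer_singleton_iff] at hg
      obtain ⟨A, hA | hA⟩ := D.exists_mul hg.symm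
      · refine ⟨(1, QuotientGroup.mk A), ?_⟩
        rw [MonoidHom.noncommCoprod_apply, map_one, one_mul]
        exact Subtype.ext hA.symm
      · refine ⟨(Multiplicative.ofAdd 1, QuotientGroup.mk A), ?_⟩
        rw [MonoidHom.noncommCoprod_apply]
        apply Subtype.ext
        change ((D.two (Multiplicative.ofAdd 1) : centralizer ({t} : Set G)) : G) * φ A = g
        rw [D.two_of_ne (by decide), hA]
  exact ⟨(MulEquiv.ofBijective _ hbij).symm⟩

/-! ### `U a` is not abelian -/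

/-- `|G_ab| = 2 m`, `m` odd; `d ^ m ∈ {1, t}`. -/
theorem pow_half [Finite G] (D : Fin0 U a b t φ) {m : ℕ} (hm : Nat.card F - 1 = 2 * m) {d : G}
    (hd : d ∈ Dab G a b) : d ^ m = 1 ∨ d ^ m = t := by
  obtain ⟨g, hg, hr⟩ := D.exists_gen
  rw [← hr] at hd
  obtain ⟨n, hn⟩ := hd
  change (tau φ g * t) ^ n = d at hn
  have h1 := D.orderOf_tau hg
  have h2 : orderOf (tau φ g) = m := by omega
  have hc : Commute (tau φ g) t := (D.comm_phi (tor g)).symm
  have h3 : d ^ m = (t ^ n) ^ m := by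
    rw [← hn, hc.mul_zpow, ((hc.zpow_zpow n n).mul_pow m), ← zpow_natCast (tau φ g ^ n) m,
      ← zpow_mul, mul_comm n (m : ℤ), zpow_mul, zpow_natCast, ← h2, pow_orderOf_eq_one, one_zpow,
      one_mul]
  exact TwoOne.mem_zpowers_invol D.t2 (by
    rw [h3]
    exact pow_mem (zpow_mem (mem_zpowers t) n) m)

/-- the character of order two of `G_ab ⟨w⟩` which is `-1` on `t` and `1` on `w` -/
theorem exists_theta [Finite G] (D : Fin0 U a b t φ) : ∃ θ : Wab G a b →* ℤˣ,
    θ ⟨t, Dab_le_Wab a b D.tD⟩ = -1 := by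
  classical
  have h4 := D.mod4
  obtain ⟨m, hm⟩ : ∃ m, Nat.card F - 1 = 2 * m := ⟨(Nat.card F - 1) / 2, by omega⟩
  have hmo : Odd m := by rw [Nat.odd_iff]; omega
  set w := φ (mM 1 one_ne_zero) with hw
  have hws : Swaps w a b := D.w_swaps
  have hw2 : w * w = 1 := D.w_sq
  have hwi : w⁻¹ = w := inv_eq_of_mul_eq_one_left hw2
  have htm : t ^ m = t := by
    obtain ⟨i, rfl⟩ := hmo
    rw [pow_succ, pow_mul, pow_two, D.t2, one_pow, one_mul]
  -- the character of `G_ab`
  let χ : G → ℤˣ := fun d => if d ^ m = 1 then 1 else -1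
  have hχ1 : ∀ d, d ^ m = 1 → χ d = 1 := fun d h => if_pos h
  have hχt : ∀ d, d ^ m = t → χ d = -1 := fun d h => if_neg (by rw [h]; exact D.t1)
  have hχmul : ∀ d ∈ Dab G a b, ∀ e ∈ Dab G a b, χ (d * e) = χ d * χ e := by
    intro d hd e he
    have hc : Commute d e := D.comm_D hd he
    rcases D.pow_half hm hd with h1 | h1 <;> rcases D.pow_half hm he with h2 | h2
    · rw [hχ1 _ h1, hχ1 _ h2, hχ1 _ (by rw [hc.mul_pow, h1, h2, mul_one]), mul_one]
    · rw [hχ1 _ h1, hχt _ h2, hχt _ (by rw [hc.mul_pow, h1, h2, one_mul]), one_mul]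
    · rw [hχt _ h1, hχ1 _ h2, hχt _ (by rw [hc.mul_pow, h1, h2, mul_one]), mul_one]
    · rw [hχt _ h1, hχt _ h2, hχ1 _ (by rw [hc.mul_pow, h1, h2, D.t2])]
      decide
  have hχinv : ∀ d ∈ Dab G a b, χ d⁻¹ = χ d := by
    intro d hd
    rcases D.pow_half hm hd with h1 | h1
    · rw [hχ1 _ h1, hχ1 _ (by rw [inv_pow, h1, inv_one])]
    · rw [hχt _ h1, hχt _ (by rw [inv_pow, h1, inv_eq_of_mul_eq_one_left D.t2])]
  let f : G → G := fun x => if x ∈ Dab G a b then x else x * w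
  have hfD : ∀ x ∈ Dab G a b, f x = x := fun x h => if_pos h
  have hfS : ∀ x, Swaps x a b → f x = x * w := fun x h => if_neg (fun hc => by
    have h1 := h.1
    rw [show x • a = a from hc.1] at h1
    exact D.ab h1.symm)
  have hSD : ∀ x, Swaps x a b → x * w ∈ Dab G a b := fun x h => h.mul hws
  have key : ∀ x ∈ Wab G a b, ∀ y ∈ Wab G a b, χ (f (x * y)) = χ (f x) * χ (f y) := by
    intro x hx y hy
    rcases mem_Wab.1 hx with h1 | h1 <;> rcases mem_Wab.1 hy with h2 | h2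
    · rw [hfD x h1, hfD y h2, hfD _ (mul_mem h1 h2)]
      exact hχmul x h1 y h2
    · rw [hfD x h1, hfS y h2, hfS _ (Swaps.D_mul h2 h1), mul_assoc]
      exact hχmul x h1 _ (hSD y h2)
    · rw [hfS x h1, hfD y h2, hfS _ (Swaps.mul_D h1 h2)]
      have h3 : x * y * w = (x * w) * y⁻¹ := by
        have h4 := D.w_inv h2
        rw [← hw] at h4
        have h5 : y * w = w * y⁻¹ := by
          calc y * w = w * (w * y * w⁻¹) * (w * w) := by rw [hwi, hw2]; calc
                y * w = (w * w) * y * w := by rw [hw2, one_mul]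
                _ = _ := by group
            _ = w * y⁻¹ := by rw [h4, hw2, mul_one]
        rw [mul_assoc, h5, mul_assoc]
      rw [h3, hχmul _ (hSD x h1) _ (inv_mem h2), hχinv y h2]
    · rw [hfS x h1, hfS y h2, hfD _ (Swaps.mul h1 h2)]
      have h3 : x * y = (x * w) * (y * w)⁻¹ := by
        have h4 := D.w_inv (hSD y h2)
        rw [← hw] at h4
        calc x * y = (x * w) * (w * (y * w) * w⁻¹) := by rw [hwi]; calc
              x * y = x * (w * w) * y * (w * w) := by rw [hw2, mul_one, mul_one]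
              _ = _ := by group
          _ = _ := by rw [h4]
      rw [h3, hχmul _ (hSD x h1) _ (inv_mem (hSD y h2)), hχinv _ (hSD y h2)]
  refine ⟨⟨⟨fun x => χ (f x), ?_⟩, fun x y => key x x.2 y y.2⟩, ?_⟩
  · change χ (f 1) = 1
    rw [hfD 1 (one_mem _), hχ1 _ (one_pow m)]
  · change χ (f t) = -1
    rw [hfD t D.tD, hχt _ htm]

/-- **`U a` is not abelian.** -/
theorem not_comm [Finite G] [Finite Ω] (D : Fin0 U a b t φ) (hgen : (⨆ c, U c) = ⊤) {p k : ℕ}
    (hp : p.Prime) (hp2 : p ≠ 2) (hN : Nat.card (U a) = p ^ k)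
    (hN3 : Nat.card (U a) = Nat.card F ^ 3) (hcomm : ∀ x ∈ U a, ∀ y ∈ U a, x * y = y * x) :
    False := by
  obtain ⟨θ, hθ⟩ := D.exists_theta
  have h1 := (AbelianQ.data_hom D.h hgen D.ab hp hp2 hN hcomm (C := (⊤ : Subgroup (Wab G a b)))
    (by rw [index_top]; exact odd_one) (c := ⟨_, D.w_swaps.mem_W⟩) (mem_top _) D.w_swaps
    (θ.comp (Subgroup.subtype _)) (d := ⟨t, Dab_le_Wab a b D.tD⟩) (mem_top _) D.tD hθ).1
  rw [← hN, hN3] at h1
  have h2 := D.mod4
  rw [Nat.pow_mod, h2] at h1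
  norm_num at h1

end Fin0

/-- **The last step.** -/
theorem Fin0.tr {G Ω : Type*} {F : Type} [Group G] [MulAction G Ω] [Field F] [Fintype F]
    {U : Ω → Subgroup G} {a b : Ω} {t : G} {φ : Matrix.SpecialLinearGroup (Fin 2) F →* G}
    [Finite G] [Finite Ω] (D : Fin0 U a b t φ) (hgen : (⨆ c, U c) = ⊤) {n : ℕ} (hn : Odd n)
    (hF : Nat.card F = 3 ^ n) (hN3 : Nat.card (U a) = Nat.card F ^ 3)
    (hS : ∀ S : Sylow 2 G, Nat.card S = 8 ∧ ∀ x ∈ S, x * x = 1)
    (hfix : ∀ s : G, s * s = 1 → ∃ c : Ω, s • c = c) : TR U a b n := by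
  classical
  have h4 := D.mod4
  obtain ⟨m, hm⟩ : ∃ m, Nat.card F - 1 = 2 * m := ⟨(Nat.card F - 1) / 2, by omega⟩
  have hmo : Odd m := by rw [Nat.odd_iff]; omega
  -- the involutions of `G_ab`
  have huniq : ∀ z ∈ Dab G a b, z ≠ 1 → z * z = 1 → z = t := by
    intro z hz hz1 hz2
    have h1 : z ^ m = z := by
      obtain ⟨i, rfl⟩ := hmo
      rw [pow_succ, pow_mul, pow_two, hz2, one_pow, one_mul]
    rcases D.pow_half hm hz with h2 | h2
    · exact absurd (h1.symm.trans h2) hz1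
    · exact h1.symm.trans h2
  have hcent : Nat.card (U a ⊓ centralizer ({t} : Set G) : Subgroup G) = 3 ^ n := by
    have h1 : (U a ⊓ centralizer ({t} : Set G) : Subgroup G) =
        U a ⊓ centralizer (zpowers t : Set G) := by
      ext x
      rw [mem_inf, mem_inf, mem_centralizer_singleton_iff, TwoOne.mem_cent_zpowers]
      constructor
      · rintro ⟨h1, h2⟩
        exact ⟨h1, h2.symm⟩
      · rintro ⟨h1, h2⟩
        exact ⟨h1, h2.symm⟩
    rw [h1, ← hF]
    refine (Nat.card_congr (Equiv.ofBijective (fun s : F =>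
      (⟨φ (tM s), D.S.up s⟩ : (U a ⊓ centralizer (zpowers t : Set G) : Subgroup G)))
      ⟨fun s s' h => D.S.tM_inj (congrArg Subtype.val h), ?_⟩)).symm
    rintro ⟨u, hu⟩
    obtain ⟨s, hs⟩ := D.S.up_surj u hu
    exact ⟨s, Subtype.ext hs⟩
  refine
    { data :=
        { odd := hn
          card := by rw [hN3, hF]
          cyc := ?_
          cardE := by rw [relIndex_bot_left, D.cardD, hF]
          ncomm := ?_
          fpf := ?_
          invol := ⟨t, D.tD, fun h => D.t1 (mem_bot.1 h), D.t2, hcent⟩ }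
      centr := ?_
      syl := hS
      fix := hfix }
  · obtain ⟨g, -, hg⟩ := D.exists_gen
    refine ⟨tau φ g * t, mul_mem (D.tau_mem g) D.tD, fun d hd => ?_⟩
    have h1 := inv_mem hd
    rw [← hg] at h1
    obtain ⟨k, hk⟩ := mem_zpowers_iff_mem_range_orderOf.1 h1 |> Finset.mem_image.1
    refine ⟨k, ?_⟩
    rw [mem_bot, hk.2, mul_inv_cancel]
  · by_contra hc
    push Not at hc
    refine D.not_comm hgen Nat.prime_three (by norm_num) (k := n * 3) ?_ hN3 hc
    rw [hN3, hF, ← pow_mul]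
  · intro d hd k hk hdk u hu hdu
    rcases D.fpf hd hk (mem_bot.1 hdk) hu hdu with h1 | h1
    · exact Or.inl (mem_bot.2 h1)
    · exact Or.inr h1
  · intro z hz hz1 hz2
    rw [huniq z hz hz1 hz2]
    exact ⟨F, inferInstance, inferInstance, by rw [← Nat.card_eq_fintype_card, hF],
      D.nonempty_equiv⟩

end Cfsg.Agent.HKS.ReeFin
end

-- part: HKS/ReeEnd1
section
/-!
# Strongly split groups with `C_G(t) ≥ ⟨t⟩ × PSL(2,q)`: coordinates

`RE U a b t φ` : `t` is the only involution of `G_ab`, all involutions are conjugate, Sylow 2-subgroups are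
elementary abelian of order 8, `φ : SL(2,F) → G` with `φ(-1) = 1`, `φ(up z)` runs over `C_{U a}(t)` and `φ(lo z)`
over `C_{U b}(t)`, and `t` is not a value of `φ`.

Involutions interchanging `a` and `b` are `φ(wm r)` or `t φ(wm r)`; hence `|U a| = q ^ 3`.
-/

set_option autoImplicit false

namespace Cfsg.Agent.HKS.ReeEnd

open Subgroup MulAction Cfsg.Agent.HKS
open Cfsg.Agent.Lib.SL2Mat

/-- the configuration `⟨t⟩ × PSL(2,F) ≤ C_G(t)` -/
structure RE {G Ω F : Type*} [Group G] [MulAction G Ω] [Field F] (U : Ω → Subgroup G) (a b : Ω)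
    (t : G) (φ : Matrix.SpecialLinearGroup (Fin 2) F →* G) : Prop where
  split : SSplit U
  ne : b ≠ a
  t_mem : t ∈ Dab G a b
  t_ne : t ≠ 1
  t_sq : t * t = 1
  unique : ∀ d ∈ Dab G a b, d * d = 1 → d = 1 ∨ d = t
  two : (2 : F) ≠ 0
  neg : φ (-1) = 1
  not_mem : ∀ x, φ x ≠ t
  up_mem : ∀ z, φ (up z) ∈ U a
  lo_mem : ∀ z, φ (lo z) ∈ U b
  comm_range : ∀ x, t * φ x = φ x * t
  inj : ∀ z, φ (up z) = 1 → z = 0
  up_surj : ∀ u ∈ U a, t * u = u * t → ∃ z, u = φ (up z)
  lo_surj : ∀ u ∈ U b, t * u = u * t → ∃ z, u = φ (lo z)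
  conj : ∀ s : G, s * s = 1 → s ≠ 1 → IsConj t s
  syl : ∀ S : Sylow 2 G, Nat.card S = 8 ∧ ∀ x ∈ S, x * x = 1

namespace RE

variable {G Ω F : Type*} [Group G] [MulAction G Ω] [Field F] {U : Ω → Subgroup G} {a b : Ω}
  {t : G} {φ : Matrix.SpecialLinearGroup (Fin 2) F →* G}

theorem t_inv (S : RE U a b t φ) : t⁻¹ = t := inv_eq_of_mul_eq_one_left S.t_sq

/-- conjugates of `t` in `D` are `t` -/
theorem eq_t (S : RE U a b t φ) {g : G} (h : g * t * g⁻¹ ∈ Dab G a b) : t * g = g * t := by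
  have h1 : g * t * g⁻¹ * (g * t * g⁻¹) = 1 := by
    calc g * t * g⁻¹ * (g * t * g⁻¹) = g * (t * t) * g⁻¹ := by group
      _ = 1 := by rw [S.t_sq]; group
  rcases S.unique _ h h1 with h2 | h2
  · exact absurd (conj_eq_one_iff.1 h2) S.t_ne
  · calc t * g = (g * t * g⁻¹) * g := by rw [h2]
      _ = g * t := by group

theorem comm_D (S : RE U a b t φ) {d : G} (hd : d ∈ Dab G a b) : t * d = d * t :=
  S.eq_t (mul_mem (mul_mem hd S.t_mem) (inv_mem hd))

theorem comm_swaps (S : RE U a b t φ) {y : G} (hy : Swaps y a b) : t * y = y * t := by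
  refine S.eq_t ⟨?_, ?_⟩
  · change (y * t * y⁻¹) • a = a
    rw [mul_smul, mul_smul, hy.inv.1, S.t_mem.2, hy.2]
  · change (y * t * y⁻¹) • b = b
    rw [mul_smul, mul_smul, hy.inv.2, S.t_mem.1, hy.1]

theorem t_a (S : RE U a b t φ) : t • a = a := S.t_mem.1
theorem t_b (S : RE U a b t φ) : t • b = b := S.t_mem.2

theorem up_ne (S : RE U a b t φ) {z : F} (hz : z ≠ 0) : φ (up z) ≠ 1 := fun h => hz (S.inj z h)

theorem lo_ne (S : RE U a b t φ) {z : F} (hz : z ≠ 0) : φ (lo z) ≠ 1 := by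
  intro h
  have h1 : φ (wm 1 one_ne_zero) * φ (lo z) = φ (up (-(z * 1 ^ 2))) * φ (wm 1 one_ne_zero) := by
    rw [← map_mul, wm_lo, map_mul]
  rw [h, mul_one] at h1
  have h2 : φ (up (-(z * 1 ^ 2))) = 1 := (mul_eq_right.1 h1.symm)
  have h3 := S.inj _ h2
  apply hz
  linear_combination -h3

/-- the only fixed point of a nontrivial element of `U a` is `a` -/
theorem eq_of_fix (S : RE U a b t φ) {c e : Ω} {u : G} (hu : u ∈ U c) (hu1 : u ≠ 1)
    (he : u • e = e) : e = c := by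
  by_contra hne
  exact hu1 (S.split.free hne hu he)

/-- the fixed points of `t` -/
theorem fix_iff (S : RE U a b t φ) (c : Ω) : t • c = c ↔ c = a ∨ ∃ z, c = φ (up z) • b := by
  constructor
  · intro hc
    by_cases hca : c = a
    · exact Or.inl hca
    right
    obtain ⟨u, hu, huc⟩ := S.split.trans S.ne hca
    have h1 : t * u * t⁻¹ = u := S.split.eq_of_smul_eq S.ne
      (by have := S.split.conj_of_fix S.t_a hu; exact this) hu (by
        rw [mul_smul, mul_smul, S.t_inv, S.t_b, huc, hc])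
    obtain ⟨z, hz⟩ := S.up_surj u hu (by
      calc t * u = t * u * t⁻¹ * t := by group
        _ = u * t := by rw [h1])
    exact ⟨z, by rw [← hz, huc]⟩
  · rintro (rfl | ⟨z, rfl⟩)
    · exact S.t_a
    · rw [← mul_smul, S.comm_range, mul_smul, S.t_b]

/-- `φ(wm r)` interchanges `a` and `b` -/
theorem wm_swaps (S : RE U a b t φ) {r : F} (hr : r ≠ 0) : Swaps (φ (wm r hr)) a b := by
  constructor
  · have h1 : φ (wm r hr) * φ (up 1) = φ (lo (-(1 / r ^ 2))) * φ (wm r hr) := by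
      rw [← map_mul, wm_up, map_mul]
    refine S.eq_of_fix (S.lo_mem (-(1 / r ^ 2))) (S.lo_ne (neg_ne_zero.2 (one_div_ne_zero (pow_ne_zero 2 hr)))) ?_
    rw [← mul_smul, ← h1, mul_smul, S.split.fix (S.up_mem 1)]
  · have h1 : φ (wm r hr) * φ (lo 1) = φ (up (-(1 * r ^ 2))) * φ (wm r hr) := by
      rw [← map_mul, wm_lo, map_mul]
    refine S.eq_of_fix (S.up_mem (-(1 * r ^ 2))) (S.up_ne (neg_ne_zero.2 (mul_ne_zero one_ne_zero (pow_ne_zero 2 hr)))) ?_
    rw [← mul_smul, ← h1, mul_smul, S.split.fix (S.lo_mem 1)]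

theorem dg_lo (r c : F) (hr : r ≠ 0) : dg r hr * lo c = lo (c / r ^ 2) * dg r hr := by
  refine ext_ent ?_ ?_ ?_ ?_ <;> simp [ent_mul]
  field_simp

theorem dg_mem (S : RE U a b t φ) {r : F} (hr : r ≠ 0) : φ (dg r hr) ∈ Dab G a b := by
  constructor
  · change φ (dg r hr) • a = a
    have h1 : φ (dg r hr) * φ (up 1) = φ (up (r ^ 2 * 1)) * φ (dg r hr) := by
      rw [← map_mul, dg_up, map_mul]
    refine S.eq_of_fix (S.up_mem (r ^ 2 * 1)) (S.up_ne (mul_ne_zero (pow_ne_zero 2 hr) one_ne_zero)) ?_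
    rw [← mul_smul, ← h1, mul_smul, S.split.fix (S.up_mem 1)]
  · change φ (dg r hr) • b = b
    have h1 : φ (dg r hr) * φ (lo 1) = φ (lo (1 / r ^ 2)) * φ (dg r hr) := by
      rw [← map_mul, dg_lo, map_mul]
    refine S.eq_of_fix (S.lo_mem (1 / r ^ 2)) (S.lo_ne (one_div_ne_zero (pow_ne_zero 2 hr))) ?_
    rw [← mul_smul, ← h1, mul_smul, S.split.fix (S.lo_mem 1)]

/-- `SL(2,F)` is transitive on ordered pairs of distinct fixed points of `t` -/
theorem two_trans (S : RE U a b t φ) {c e : Ω} (hc : t • c = c) (he : t • e = e)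
    (hce : e ≠ c) : ∃ x, φ x • a = c ∧ φ x • b = e := by
  obtain ⟨x₁, h₁⟩ : ∃ x₁, φ x₁ • a = c := by
    rcases (S.fix_iff c).1 hc with rfl | ⟨z, rfl⟩
    · exact ⟨1, by rw [map_one, one_smul]⟩
    · exact ⟨up z * wm 1 one_ne_zero, by rw [map_mul, mul_smul, (S.wm_swaps one_ne_zero).1]⟩
  have h2 : t • (φ x₁)⁻¹ • e = (φ x₁)⁻¹ • e := by
    rw [← map_inv, ← mul_smul, S.comm_range, mul_smul, he]
  rcases (S.fix_iff _).1 h2 with h3 | ⟨z, h3⟩
  · exfalso
    apply hce
    rw [← h₁, ← h3, smul_inv_smul]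
  · refine ⟨x₁ * up z, ?_, ?_⟩
    · rw [map_mul, mul_smul, S.split.fix (S.up_mem z), h₁]
    · rw [map_mul, mul_smul, ← h3, smul_inv_smul]

/-- elements of `C(t)`: product of an element of `SL(2,F)` and an element of `D` -/
theorem exists_mul (S : RE U a b t φ) {g : G} (hg : t * g = g * t) :
    ∃ x, ∃ d ∈ Dab G a b, g = φ x * d := by
  obtain ⟨x, h1, h2⟩ := S.two_trans (c := g • a) (e := g • b)
    (by rw [← mul_smul, hg, mul_smul, S.t_a]) (by rw [← mul_smul, hg, mul_smul, S.t_b])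
    (fun h => S.ne (smul_left_cancel g h))
  refine ⟨x, (φ x)⁻¹ * g, ⟨?_, ?_⟩, by group⟩
  · change ((φ x)⁻¹ * g) • a = a
    rw [mul_smul, inv_smul_eq_iff, h1]
  · change ((φ x)⁻¹ * g) • b = b
    rw [mul_smul, inv_smul_eq_iff, h2]

theorem D_up (S : RE U a b t φ) {d : G} (hd : d ∈ Dab G a b) (z : F) :
    ∃ z', d * φ (up z) * d⁻¹ = φ (up z') := by
  refine S.up_surj _ (S.split.conj_of_fix hd.1 (S.up_mem z)) ?_
  have h1 := S.comm_D hd
  have h2 := S.comm_range (up z)
  have h3 := S.comm_D (inv_mem hd)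
  calc t * (d * φ (up z) * d⁻¹) = (t * d) * φ (up z) * d⁻¹ := by group
    _ = d * (t * φ (up z)) * d⁻¹ := by rw [h1]; group
    _ = d * φ (up z) * (t * d⁻¹) := by rw [h2]; group
    _ = d * φ (up z) * d⁻¹ * t := by rw [h3]; group

theorem D_lo (S : RE U a b t φ) {d : G} (hd : d ∈ Dab G a b) (z : F) :
    ∃ z', d * φ (lo z) * d⁻¹ = φ (lo z') := by
  refine S.lo_surj _ (S.split.conj_of_fix hd.2 (S.lo_mem z)) ?_
  have h1 := S.comm_D hd
  have h2 := S.comm_range (lo z)
  have h3 := S.comm_D (inv_mem hd)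
  calc t * (d * φ (lo z) * d⁻¹) = (t * d) * φ (lo z) * d⁻¹ := by group
    _ = d * (t * φ (lo z)) * d⁻¹ := by rw [h1]; group
    _ = d * φ (lo z) * (t * d⁻¹) := by rw [h2]; group
    _ = d * φ (lo z) * d⁻¹ * t := by rw [h3]; group

/-- `C(t)` normalises `SL(2,F)` -/
theorem normalises (S : RE U a b t φ) {g : G} (hg : t * g = g * t)
    (x : Matrix.SpecialLinearGroup (Fin 2) F) : ∃ x', g * φ x * g⁻¹ = φ x' := by
  obtain ⟨s, d, hd, rfl⟩ := S.exists_mul hg
  obtain ⟨z₁, z₂, z₃, z₄, rfl⟩ := exists_up_lo x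
  obtain ⟨w₁, h₁⟩ := S.D_up hd z₁
  obtain ⟨w₂, h₂⟩ := S.D_lo hd z₂
  obtain ⟨w₃, h₃⟩ := S.D_up hd z₃
  obtain ⟨w₄, h₄⟩ := S.D_lo hd z₄
  refine ⟨s * (up w₁ * lo w₂ * up w₃ * lo w₄) * s⁻¹, ?_⟩
  simp only [map_mul, map_inv, ← h₁, ← h₂, ← h₃, ← h₄]
  group

/-- stabiliser of `a` -/
theorem ent_of_fix_a (S : RE U a b t φ) {x : Matrix.SpecialLinearGroup (Fin 2) F}
    (h : φ x • a = a) : ent x 1 0 = 0 := by
  by_contra hc
  obtain ⟨y, z, hx⟩ : ∃ y z, x = up y * lo (ent x 1 0) * up z := ⟨_, _, eq_up_lo_up x hc⟩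
  rw [hx, map_mul, map_mul, mul_smul, mul_smul, S.split.fix (S.up_mem z)] at h
  have h1 : φ (lo (ent x 1 0)) • a = a := by
    have h2 : φ (lo (ent x 1 0)) • a = (φ (up y))⁻¹ • a := by
      rw [eq_inv_smul_iff, h]
    rw [h2, inv_smul_eq_iff, S.split.fix (S.up_mem y)]
  exact S.lo_ne hc (S.split.free S.ne.symm (S.lo_mem _) h1)

/-- stabiliser of `b` -/
theorem ent_of_fix_b (S : RE U a b t φ) {x : Matrix.SpecialLinearGroup (Fin 2) F}
    (h : φ x • b = b) : ent x 0 1 = 0 := by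
  have hw := S.wm_swaps (one_ne_zero (α := F))
  have h1 : φ ((wm 1 one_ne_zero)⁻¹ * x * wm 1 one_ne_zero) • a = a := by
    rw [map_mul, map_mul, map_inv, mul_smul, mul_smul, hw.1, h, hw.inv.2]
  have h2 := S.ent_of_fix_a h1
  rw [ent_mul, ent_mul] at h2
  simpa [ent_inv, ent_mul] using h2

/-- `SL(2,F) ∩ D` -/
theorem dg_of_mem (S : RE U a b t φ) {x : Matrix.SpecialLinearGroup (Fin 2) F}
    (h : φ x ∈ Dab G a b) : ∃ (r : F) (hr : r ≠ 0), x = dg r hr := by
  have h1 := S.ent_of_fix_a h.1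
  have h2 := S.ent_of_fix_b h.2
  have h3 := det_eq x
  rw [h1, h2, mul_zero, sub_zero] at h3
  have h4 : ent x 0 0 ≠ 0 := left_ne_zero_of_mul_eq_one h3
  refine ⟨ent x 0 0, h4, ext_ent ?_ ?_ ?_ ?_⟩
  · rfl
  · rw [h2, dg_01]
  · rw [h1, dg_10]
  · rw [dg_11]; exact eq_inv_of_mul_eq_one_right h3

/-- the kernel of `φ` -/
theorem ker (S : RE U a b t φ) {x : Matrix.SpecialLinearGroup (Fin 2) F} (h : φ x = 1) :
    x = 1 ∨ x = -1 := by
  obtain ⟨r, hr, rfl⟩ := S.dg_of_mem (x := x) (by rw [h]; exact one_mem _)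
  have h1 : φ (dg r hr) * φ (up 1) = φ (up (r ^ 2 * 1)) * φ (dg r hr) := by
    rw [← map_mul, dg_up, map_mul]
  rw [h, one_mul, mul_one] at h1
  have h2 : φ (up (r ^ 2 * 1 + -1)) = 1 := by
    rw [← up_mul, map_mul, ← h1, ← map_mul, up_mul, add_neg_cancel, up_zero, map_one]
  have h3 := S.inj _ h2
  have h4 : (r - 1) * (r + 1) = 0 := by linear_combination h3
  rcases mul_eq_zero.1 h4 with h5 | h5
  · left
    have h6 : r = 1 := by linear_combination h5
    subst h6
    refine ext_ent ?_ ?_ ?_ ?_ <;> simp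
  · right
    have h6 : r = -1 := by linear_combination h5
    subst h6
    have e : ∀ i j, ent (-1 : Matrix.SpecialLinearGroup (Fin 2) F) i j = - ent 1 i j := by
      intro i j
      simp [ent]
    refine ext_ent ?_ ?_ ?_ ?_ <;> simp [e]

theorem eq_or (S : RE U a b t φ) {x y : Matrix.SpecialLinearGroup (Fin 2) F} (h : φ x = φ y) :
    x = y ∨ x = -y := by
  have h1 : φ (x * y⁻¹) = 1 := by rw [map_mul, map_inv, h, mul_inv_cancel]
  rcases S.ker h1 with h2 | h2
  · left; exact mul_inv_eq_one.1 h2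
  · right
    rw [mul_inv_eq_iff_eq_mul] at h2
    rw [h2, neg_mul, one_mul]

/-! ### 2-elements -/

theorem sq_of_two_pow (S : RE U a b t φ) {g : G} {e : ℕ} (h : g ^ 2 ^ e = 1) : g * g = 1 := by
  have : Fact (Nat.Prime 2) := ⟨Nat.prime_two⟩
  have h1 : IsPGroup 2 (zpowers g) := by
    rintro ⟨x, n, rfl⟩
    refine ⟨e, Subtype.ext ?_⟩
    change (g ^ n) ^ 2 ^ e = 1
    rw [← zpow_natCast, ← zpow_mul, mul_comm, zpow_mul, zpow_natCast, h, one_zpow]
  obtain ⟨P, hP⟩ := h1.exists_le_sylow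
  exact (S.syl P).2 g (hP (mem_zpowers g))

theorem exists_odd (S : RE U a b t φ) [Finite G] (g : G) : ∃ m, Odd m ∧ g ^ m * g ^ m = 1 := by
  obtain ⟨e, m, hm, he⟩ := Nat.exists_eq_two_pow_mul_odd (orderOf_pos g).ne'
  refine ⟨m, hm, S.sq_of_two_pow (e := e) ?_⟩
  rw [← pow_mul, mul_comm, ← he, pow_orderOf_eq_one]

theorem D_pow (S : RE U a b t φ) [Finite G] {d : G} (hd : d ∈ Dab G a b) :
    ∃ m, Odd m ∧ (d ^ m = 1 ∨ d ^ m = t) := by
  obtain ⟨m, hm, h⟩ := S.exists_odd d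
  exact ⟨m, hm, S.unique _ (pow_mem hd m) h⟩

theorem wm_mul_self {r : F} (hr : r ≠ 0) : wm r hr * wm r hr = -1 := by
  have e : ∀ i j, ent (-1 : Matrix.SpecialLinearGroup (Fin 2) F) i j = - ent 1 i j := by
    intro i j
    simp [ent]
  refine ext_ent ?_ ?_ ?_ ?_ <;> simp [ent_mul, e, hr]

theorem wm_sq (S : RE U a b t φ) {r : F} (hr : r ≠ 0) : φ (wm r hr) * φ (wm r hr) = 1 := by
  rw [← map_mul, wm_mul_self, S.neg]

theorem neg_dg {r : F} (hr : r ≠ 0) : -dg r hr = dg (-r) (neg_ne_zero.2 hr) := by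
  have e : ∀ (x : Matrix.SpecialLinearGroup (Fin 2) F) i j, ent (-x) i j = - ent x i j := by
    intro x i j
    simp [ent]
  refine ext_ent ?_ ?_ ?_ ?_ <;> simp [e, inv_neg]

theorem neg_wm {r : F} (hr : r ≠ 0) : -wm r hr = wm (-r) (neg_ne_zero.2 hr) := by
  have e : ∀ (x : Matrix.SpecialLinearGroup (Fin 2) F) i j, ent (-x) i j = - ent x i j := by
    intro x i j
    simp [ent]
  refine ext_ent ?_ ?_ ?_ ?_ <;> simp [e, inv_neg]

theorem map_neg' (S : RE U a b t φ) (x : Matrix.SpecialLinearGroup (Fin 2) F) : φ (-x) = φ x := by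
  have h : -x = -1 * x := by rw [neg_mul, one_mul]
  rw [h, map_mul, S.neg, one_mul]

theorem wm_eq_iff (S : RE U a b t φ) {r s : F} (hr : r ≠ 0) (hs : s ≠ 0) :
    φ (wm r hr) = φ (wm s hs) ↔ r = s ∨ r = -s := by
  constructor
  · intro h
    rcases S.eq_or h with h1 | h1
    · left
      have := congrArg (fun x => ent x 0 1) h1
      simpa using this
    · right
      rw [neg_wm] at h1
      have := congrArg (fun x => ent x 0 1) h1
      simpa using this
  · rintro (rfl | rfl)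
    · rfl
    · rw [← S.map_neg' (wm s hs), neg_wm]

theorem dg_eq_one_iff (S : RE U a b t φ) {r : F} (hr : r ≠ 0) :
    φ (dg r hr) = 1 ↔ r = 1 ∨ r = -1 := by
  have e1 : dg (1 : F) one_ne_zero = 1 := by
    refine ext_ent ?_ ?_ ?_ ?_ <;> simp
  constructor
  · intro h
    rcases S.ker h with h1 | h1
    · left
      have := congrArg (fun x => ent x 0 0) h1
      simpa using this
    · right
      rw [← e1, neg_dg] at h1
      have := congrArg (fun x => ent x 0 0) h1
      simpa using this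
  · rintro (rfl | rfl)
    · rw [e1, map_one]
    · rw [← neg_dg one_ne_zero, e1, S.neg]

theorem dg_mul {r s : F} (hr : r ≠ 0) (hs : s ≠ 0) :
    dg r hr * dg s hs = dg (r * s) (mul_ne_zero hr hs) := by
  refine ext_ent ?_ ?_ ?_ ?_ <;> simp only [ent_mul, mul_comm, _root_.Fin.isValue, _root_.Cfsg.Agent.Lib.SL2Mat.ent_mul, _root_.Cfsg.Agent.Lib.SL2Mat.dg_00, _root_.Cfsg.Agent.Lib.SL2Mat.dg_01, _root_.Cfsg.Agent.Lib.SL2Mat.dg_10, _root_.MulZeroClass.mul_zero, _root_.add_zero, _root_.Cfsg.Agent.Lib.SL2Mat.dg_11, _root_.mul_comm, _root_.zero_add, _root_.mul_inv_rev]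

/-- `-1` is not a square -/
theorem not_sq (S : RE U a b t φ) : ¬ IsSquare (-1 : F) := by
  rintro ⟨i, hi⟩
  have hi0 : i ≠ 0 := by
    rintro rfl
    rw [mul_zero] at hi
    exact one_ne_zero (neg_eq_zero.1 hi)
  have h1 : φ (dg i hi0) * φ (dg i hi0) = 1 := by
    rw [← map_mul, dg_mul]
    rw [S.dg_eq_one_iff]
    exact Or.inr hi.symm
  rcases S.unique _ (S.dg_mem hi0) h1 with h2 | h2
  · rcases (S.dg_eq_one_iff hi0).1 h2 with h3 | h3
    · rw [h3, mul_one] at hi
      apply S.two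
      linear_combination -hi
    · rw [h3, neg_mul_neg, mul_one] at hi
      apply S.two
      linear_combination -hi
  · exact S.not_mem _ h2

/-- an involution interchanging `a` and `b` -/
theorem swap_invol (S : RE U a b t φ) [Finite G] {y : G} (hy : y * y = 1) (hs : Swaps y a b) :
    ∃ (r : F) (hr : r ≠ 0), y = φ (wm r hr) ∨ y = t * φ (wm r hr) := by
  set w : G := φ (wm 1 one_ne_zero) with hw
  have hws : Swaps w a b := S.wm_swaps one_ne_zero
  have hw2 : w * w = 1 := S.wm_sq one_ne_zero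
  have hwi : w⁻¹ = w := inv_eq_of_mul_eq_one_left hw2
  obtain ⟨d, hdd⟩ : ∃ d, d = y * w := ⟨_, rfl⟩
  have hd : d ∈ Dab G a b := by rw [hdd]; exact hs.mul hws
  have hyd : y = d * w := by rw [hdd, mul_assoc, hw2, mul_one]
  obtain ⟨x₁, hx₁⟩ := S.normalises (S.comm_D hd) (wm 1 one_ne_zero)
  rw [← hw] at hx₁
  have h2 : d * d = φ (x₁⁻¹ * wm 1 one_ne_zero) := by
    rw [map_mul, map_inv, ← hw, ← hx₁]
    have h3 : d * w * d⁻¹ * (d * d) * w = 1 := by
      calc d * w * d⁻¹ * (d * d) * w = (d * w) * (d * w) := by group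
        _ = 1 := by rw [← hyd, hy]
    calc d * d = (d * w * d⁻¹)⁻¹ * (d * w * d⁻¹ * (d * d) * w) * w⁻¹ := by group
      _ = (d * w * d⁻¹)⁻¹ * w := by rw [h3, mul_one, hwi]
  obtain ⟨m, ⟨j, rfl⟩, hm⟩ := S.D_pow hd
  have h4 : d = d ^ (2 * j + 1) * (d * d)⁻¹ ^ j := by
    have : d ^ (2 * j + 1) = d * (d * d) ^ j := by
      rw [pow_succ', pow_mul, sq]
    rw [this, mul_assoc, inv_pow, mul_inv_cancel, mul_one]
  obtain ⟨x₃, hx₃⟩ : ∃ x₃, d = φ x₃ ∨ d = t * φ x₃ := by
    refine ⟨(x₁⁻¹ * wm 1 one_ne_zero)⁻¹ ^ j, ?_⟩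
    rw [h2] at h4
    rcases hm with hm | hm
    · left
      rw [hm, one_mul] at h4
      rw [map_pow, map_inv]
      exact h4
    · right
      rw [hm] at h4
      rw [map_pow, map_inv]
      exact h4
  have hx₄ : φ x₃ ∈ Dab G a b := by
    rcases hx₃ with h5 | h5
    · rw [← h5]; exact hd
    · have : φ x₃ = t⁻¹ * d := by rw [h5]; group
      rw [this]
      exact mul_mem (inv_mem S.t_mem) hd
  obtain ⟨r, hr, rfl⟩ := S.dg_of_mem hx₄
  refine ⟨r, hr, ?_⟩
  have h6 : wm r hr = dg r hr * wm 1 one_ne_zero := by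
    refine ext_ent ?_ ?_ ?_ ?_ <;> simp [ent_mul]
  rw [h6, map_mul, ← hw, hyd]
  rcases hx₃ with h5 | h5
  · left; rw [← h5]
  · right; rw [h5]; group

section count

variable [Finite F]

theorem isSquare_or (S : RE U a b t φ) (r : F) : IsSquare r ∨ IsSquare (-r) := by
  by_contra hc
  push Not at hc
  have := Fintype.ofFinite F
  have h2 : ringChar F ≠ 2 := by
    intro h
    exact S.two (by
      have := ringChar.Nat.cast_ringChar (R := F)
      rw [h] at this
      exact_mod_cast this)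
  classical
  have hr0 : r ≠ 0 := by
    rintro rfl
    exact hc.1 (IsSquare.zero)
  have e1 := (quadraticChar_neg_one_iff_not_isSquare (F := F) (a := r)).2 hc.1
  have e2 := (quadraticChar_neg_one_iff_not_isSquare (F := F) (a := -1)).2 S.not_sq
  have e3 := (quadraticChar_neg_one_iff_not_isSquare (F := F) (a := -r)).2 hc.2
  have e4 : -r = -1 * r := by ring
  rw [e4, map_mul, e1, e2] at e3
  norm_num at e3

theorem card_swap [Finite G] [DecidableEq F] (S : RE U a b t φ) :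
    Nat.card {s : G // s * s = 1 ∧ Swaps s a b} = Nat.card Fˣ := by
  classical
  symm
  refine Nat.card_congr (Equiv.ofBijective (fun r : Fˣ =>
    (if IsSquare (r : F) then ⟨φ (wm r r.ne_zero), S.wm_sq _, S.wm_swaps _⟩
      else ⟨t * φ (wm r r.ne_zero), by
        calc t * φ (wm r r.ne_zero) * (t * φ (wm r r.ne_zero)) =
            t * (φ (wm r r.ne_zero) * t) * φ (wm r r.ne_zero) := by group
          _ = (t * t) * (φ (wm r r.ne_zero) * φ (wm r r.ne_zero)) := by
            rw [← S.comm_range]; group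
          _ = 1 := by rw [S.t_sq, S.wm_sq, one_mul], (S.wm_swaps r.ne_zero).D_mul S.t_mem⟩ :
      {s : G // s * s = 1 ∧ Swaps s a b})) ⟨?_, ?_⟩)
  · intro r s hrs
    have key : ∀ (r s : Fˣ), φ (wm (r : F) r.ne_zero) = φ (wm (s : F) s.ne_zero) →
        (IsSquare (r : F) ↔ IsSquare (s : F)) → r = s := by
      intro r s h1 h2
      rcases (S.wm_eq_iff r.ne_zero s.ne_zero).1 h1 with h3 | h3
      · exact Units.ext h3
      · exfalso
        rcases S.isSquare_or (r : F) with h4 | h4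
        · have h5 := h2.1 h4
          have h6 : IsSquare ((r : F) / s) := h4.div h5
          rw [h3, neg_div, div_self s.ne_zero] at h6
          exact S.not_sq h6
        · rw [h3, neg_neg] at h4
          have h5 := h2.2 h4
          have h6 : IsSquare ((r : F) / s) := h5.div h4
          rw [h3, neg_div, div_self s.ne_zero] at h6
          exact S.not_sq h6
    by_cases hr : IsSquare (r : F) <;> by_cases hs : IsSquare (s : F) <;>
      simp only [hr, hs, if_true, if_false, Subtype.mk.injEq] at hrs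
    · exact key r s hrs (by simp only [hr, hs])
    · exfalso
      apply S.not_mem (wm (r : F) r.ne_zero * (wm (s : F) s.ne_zero)⁻¹)
      rw [map_mul, map_inv, hrs]; group
    · exfalso
      apply S.not_mem (wm (s : F) s.ne_zero * (wm (r : F) r.ne_zero)⁻¹)
      rw [map_mul, map_inv, ← hrs]; group
    · exact key r s (mul_left_cancel hrs) (by simp only [hr, hs])
  · rintro ⟨y, hy, hs⟩
    obtain ⟨r, hr, h⟩ := S.swap_invol hy hs
    rcases h with h | h
    · rcases S.isSquare_or r with h1 | h1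
      · refine ⟨Units.mk0 r hr, ?_⟩
        simp only [Units.val_mk0, h1, if_true, h]
      · refine ⟨Units.mk0 (-r) (neg_ne_zero.2 hr), ?_⟩
        simp only [Units.val_mk0, h1, if_true, h, Subtype.mk.injEq]
        exact (S.wm_eq_iff _ _).2 (Or.inr rfl)
    · rcases S.isSquare_or r with h1 | h1
      · refine ⟨Units.mk0 (-r) (neg_ne_zero.2 hr), ?_⟩
        have h2 : ¬ IsSquare (-r) := by
          intro h3
          have h6 : IsSquare (-r / r) := h3.div h1
          rw [neg_div, div_self hr] at h6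
          exact S.not_sq h6
        simp only [Units.val_mk0, h2, if_false, h, Subtype.mk.injEq]
        rw [(S.wm_eq_iff (neg_ne_zero.2 hr) hr).2 (Or.inr rfl)]
      · refine ⟨Units.mk0 r hr, ?_⟩
        have h2 : ¬ IsSquare r := by
          intro h3
          have h6 : IsSquare (-r / r) := h1.div h3
          rw [neg_div, div_self hr] at h6
          exact S.not_sq h6
        simp only [Units.val_mk0, h2, if_false, h]

theorem card_fixedBy (S : RE U a b t φ) : Nat.card (fixedBy Ω t) = Nat.card F + 1 := by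
  have e : Option F ≃ fixedBy Ω t := by
    refine Equiv.ofBijective (fun o => ⟨o.elim a (fun z => φ (up z) • b), ?_⟩) ⟨?_, ?_⟩
    · rw [mem_fixedBy, S.fix_iff]
      rcases o with _ | z
      · exact Or.inl rfl
      · exact Or.inr ⟨z, rfl⟩
    · have hne : ∀ z, φ (up z) • b ≠ a := by
        intro z hz
        have h1 : φ (up z) • a = a := S.split.fix (S.up_mem z)
        exact S.ne (smul_left_cancel _ (hz.trans h1.symm))
      rintro (_ | z) (_ | z') h
      · rfl
      · exact absurd (congrArg Subtype.val h).symm (hne z')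
      · exact absurd (congrArg Subtype.val h) (hne z)
      · have h1 : φ (up z) • b = φ (up z') • b := congrArg Subtype.val h
        have h2 := S.split.eq_of_smul_eq S.ne (S.up_mem z) (S.up_mem z') h1
        have h3 : φ (up (z + -z')) = 1 := by
          rw [← up_mul, map_mul, h2, ← map_mul, up_mul, add_neg_cancel, up_zero, map_one]
        have h4 := S.inj _ h3
        congr 1
        linear_combination h4
    · rintro ⟨c, hc⟩
      rcases (S.fix_iff c).1 hc with rfl | ⟨z, rfl⟩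
      · exact ⟨none, rfl⟩
      · exact ⟨some z, rfl⟩
  rw [← Nat.card_congr e, Finite.card_option]

omit [Finite F] in
theorem conj_iff (S : RE U a b t φ) (s : G) : IsConj t s ↔ s * s = 1 ∧ s ≠ 1 := by
  constructor
  · intro h
    obtain ⟨g, rfl⟩ := isConj_iff.1 h
    refine ⟨?_, fun hc => S.t_ne (conj_eq_one_iff.1 hc)⟩
    calc g * t * g⁻¹ * (g * t * g⁻¹) = g * (t * t) * g⁻¹ := by group
      _ = 1 := by rw [S.t_sq]; group
  · exact fun h => S.conj s h.1 h.2

/-- **`|U a| = q ^ 3`** -/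
theorem card_U [Finite G] [Finite Ω] (S : RE U a b t φ) : Nat.card (U a) = Nat.card F ^ 3 ∧
    Nat.card {s : G // IsConj t s} = Nat.card F ^ 2 * (Nat.card F ^ 2 + 1 - Nat.card F) := by
  classical
  have hq1 : 1 < Nat.card F := Finite.one_lt_card
  have h1 := S.split.card_fix_pairs S.ne t
  have h2 := S.split.card_swap_pairs S.ne S.t_sq
  have h3 : Nat.card {s : G // IsConj t s ∧ s ∈ Dab G a b} = 1 := by
    rw [Nat.card_eq_one_iff_unique]
    refine ⟨⟨?_⟩, ⟨t, IsConj.refl t, S.t_mem⟩⟩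
    have key : ∀ x : {s : G // IsConj t s ∧ s ∈ Dab G a b}, (x : G) = t := by
      rintro ⟨x, hx, hx'⟩
      obtain ⟨h4, h5⟩ := (S.conj_iff x).1 hx
      exact (S.unique x hx' h4).resolve_left h5
    intro x y
    exact Subtype.ext ((key x).trans (key y).symm)
  have h4 : Nat.card {s : G // IsConj t s ∧ Swaps s a b} = Nat.card F - 1 := by
    have e : {s : G // IsConj t s ∧ Swaps s a b} ≃ {s : G // s * s = 1 ∧ Swaps s a b} := by
      refine Equiv.subtypeEquivRight fun s => ?_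
      rw [S.conj_iff]
      constructor
      · rintro ⟨⟨h5, -⟩, h6⟩
        exact ⟨h5, h6⟩
      · rintro ⟨h5, h6⟩
        refine ⟨⟨h5, ?_⟩, h6⟩
        rintro rfl
        apply S.ne
        rw [← h6.1, one_smul]
    rw [Nat.card_congr e, S.card_swap, Nat.card_units]
  rw [h3, S.card_fixedBy, S.split.card a, mul_one] at h1
  rw [h4, S.card_fixedBy, S.split.card a] at h2
  obtain ⟨q, hq⟩ : ∃ q, Nat.card F = q + 2 := ⟨Nat.card F - 2, by omega⟩
  obtain ⟨N, hN⟩ : ∃ N, N = Nat.card (U a) := ⟨_, rfl⟩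
  obtain ⟨J, hJ⟩ : ∃ J, J = Nat.card {s : G // IsConj t s} := ⟨_, rfl⟩
  have hN1 : 1 < N := by
    have := S.split.two_lt_card a
    rw [S.split.card a] at this
    omega
  rw [← hN, ← hJ, hq] at h1 h2
  rw [← hN, ← hJ, hq]
  simp only [Nat.add_sub_cancel, show q + 2 - 1 = q + 1 by omega, Nat.add_sub_add_right] at h1 h2
  have hqN : q + 2 ≤ N := by
    by_contra hc
    have : N - (q + 2) = 0 := by omega
    rw [this, mul_zero] at h2
    have : 0 < (N + 1) * N * (q + 1) := by (clear * - hN1; positivity)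
    omega
  clear hN hJ
  obtain ⟨M, rfl⟩ : ∃ M, N = M + (q + 2) := ⟨N - (q + 2), by omega⟩
  rw [Nat.add_sub_cancel] at h2
  have hJ0 : 0 < J := by
    rcases Nat.eq_zero_or_pos J with h5 | h5
    · rw [h5, zero_mul] at h1
      have : 0 < (M + (q + 2) + 1) * (M + (q + 2)) := by (clear * -; positivity)
      omega
    · exact h5
  -- `J M = J (q+1)(q+2)(q+3)`
  have h5 : J * M = J * ((q + 1) * ((q + 3) * (q + 2))) := by
    calc J * M = (M + (q + 2) + 1) * (M + (q + 2)) * (q + 1) := h2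
      _ = J * ((q + 2 + 1) * (q + 2)) * (q + 1) := by rw [h1]
      _ = _ := by ring
  have h6 : M = (q + 1) * ((q + 3) * (q + 2)) := Nat.eq_of_mul_eq_mul_left hJ0 h5
  have h7 : M + (q + 2) = (q + 2) ^ 3 := by rw [h6]; ring
  refine ⟨h7, ?_⟩
  rw [h7] at h1
  have h8 : (q + 2) ^ 2 + 1 - (q + 2) = q ^ 2 + 3 * q + 3 := by
    have : (q + 2) ^ 2 + 1 = (q ^ 2 + 3 * q + 3) + (q + 2) := by ring
    rw [this, Nat.add_sub_cancel]
  rw [h8]
  have h9 : 0 < (q + 2 + 1) * (q + 2) := by (clear * -; positivity)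
  refine Nat.eq_of_mul_eq_mul_right h9 ?_
  rw [h1]
  ring

end count

end RE

end Cfsg.Agent.HKS.ReeEnd
end

-- part: HKS/ReeEnd2
section
/-!
# Strongly split groups with `C_G(t) ≥ ⟨t⟩ × PSL(2,q)`: the group `A₁ = C_D(w)`

`D = (D ∩ L) A₁`, `A₁` centralises `φ(up 1)`, hence `φ(x)` for all `x` with entries in the prime field; the Sylow
2-subgroup `⟨t⟩ × ⟨w, w'⟩`, `C_G(S) = (S ∩ L) A₁`.
-/

set_option autoImplicit false

namespace Cfsg.Agent.HKS.ReeEnd

open Subgroup MulAction Cfsg.Agent.HKS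
open Cfsg.Agent.Lib.SL2Mat

/-- the involution `w` -/
abbrev ww {G F : Type*} [Group G] [Field F] (φ : Matrix.SpecialLinearGroup (Fin 2) F →* G) : G :=
  φ (wm 1 one_ne_zero)

/-- the group `A₁ = C_D(w)` -/
def A₁ {G Ω F : Type*} [Group G] [MulAction G Ω] [Field F] (a b : Ω)
    (φ : Matrix.SpecialLinearGroup (Fin 2) F →* G) : Subgroup G :=
  Dab G a b ⊓ centralizer {ww φ}

section mats

variable {F : Type*} [Field F]

/-- the matrix `(α β; β -α)` -/
def jm (α β : F) (h : α ^ 2 + β ^ 2 = -1) : Matrix.SpecialLinearGroup (Fin 2) F :=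
  mk α β β (-α) (by linear_combination -h)

@[simp] theorem jm_00 (α β : F) (h : α ^ 2 + β ^ 2 = -1) : ent (jm α β h) 0 0 = α := rfl
@[simp] theorem jm_01 (α β : F) (h : α ^ 2 + β ^ 2 = -1) : ent (jm α β h) 0 1 = β := rfl
@[simp] theorem jm_10 (α β : F) (h : α ^ 2 + β ^ 2 = -1) : ent (jm α β h) 1 0 = β := rfl
@[simp] theorem jm_11 (α β : F) (h : α ^ 2 + β ^ 2 = -1) : ent (jm α β h) 1 1 = -α := rfl

@[simp] theorem ent_neg (x : Matrix.SpecialLinearGroup (Fin 2) F) (i j : Fin 2) :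
    ent (-x) i j = - ent x i j := by
  simp [ent]

theorem jm_mul_self (α β : F) (h : α ^ 2 + β ^ 2 = -1) : jm α β h * jm α β h = -1 := by
  refine ext_ent ?_ ?_ ?_ ?_ <;> simp only [ent_mul, _root_.Fin.isValue, _root_.Cfsg.Agent.Lib.SL2Mat.ent_mul, _root_.Cfsg.Agent.HKS.ReeEnd.jm_00, _root_.Cfsg.Agent.HKS.ReeEnd.jm_01, _root_.Cfsg.Agent.HKS.ReeEnd.jm_10, _root_.Cfsg.Agent.HKS.ReeEnd.ent_neg, _root_.Cfsg.Agent.Lib.SL2Mat.ent_one_00, _root_.Cfsg.Agent.HKS.ReeEnd.jm_11, _root_.mul_neg, _root_.Cfsg.Agent.Lib.SL2Mat.ent_one_01, _root_.neg_zero, _root_.neg_mul, _root_.Cfsg.Agent.Lib.SL2Mat.ent_one_10, _root_.neg_neg, _root_.Cfsg.Agent.Lib.SL2Mat.ent_one_11]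
  · linear_combination h
  · ring
  · ring
  · linear_combination h

theorem wm_jm (α β : F) (h : α ^ 2 + β ^ 2 = -1) :
    wm 1 one_ne_zero * jm α β h = -(jm α β h * wm 1 one_ne_zero) := by
  refine ext_ent ?_ ?_ ?_ ?_ <;> simp [ent_mul]

/-- the matrices commuting with `wm 1` up to sign -/
theorem comm_wm {x : Matrix.SpecialLinearGroup (Fin 2) F}
    (h : x * wm 1 one_ne_zero = wm 1 one_ne_zero * x ∨
      x * wm 1 one_ne_zero = -(wm 1 one_ne_zero * x)) :
    (ent x 1 0 = - ent x 0 1 ∧ ent x 1 1 = ent x 0 0) ∨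
      (ent x 1 0 = ent x 0 1 ∧ ent x 1 1 = - ent x 0 0) := by
  rcases h with h | h
  · left
    have h1 := congrArg (fun y => ent y 0 0) h
    have h2 := congrArg (fun y => ent y 0 1) h
    simp [ent_mul] at h1 h2
    exact ⟨by linear_combination -h1, h2.symm⟩
  · right
    have h1 := congrArg (fun y => ent y 0 0) h
    have h2 := congrArg (fun y => ent y 0 1) h
    simp [ent_mul] at h1 h2
    exact ⟨h1.symm, by linear_combination h2⟩

end mats

namespace RE

variable {G Ω F : Type*} [Group G] [MulAction G Ω] [Field F] {U : Ω → Subgroup G} {a b : Ω}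
  {t : G} {φ : Matrix.SpecialLinearGroup (Fin 2) F →* G}

theorem mem_A₁ {x : G} : x ∈ A₁ a b φ ↔ x ∈ Dab G a b ∧ x * ww φ = ww φ * x := by
  rw [A₁, mem_inf, mem_centralizer_singleton_iff]

theorem ww_swaps (S : RE U a b t φ) : Swaps (ww φ) a b := S.wm_swaps one_ne_zero

theorem ww_sq (S : RE U a b t φ) : ww φ * ww φ = 1 := S.wm_sq one_ne_zero

theorem ww_ne (S : RE U a b t φ) : ww φ ≠ 1 := by
  intro h
  apply S.ne
  have := S.ww_swaps.1
  rw [h, one_smul] at this
  exact this.symm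

theorem t_mem_A₁ (S : RE U a b t φ) : t ∈ A₁ a b φ :=
  mem_A₁.2 ⟨S.t_mem, S.comm_range _⟩

/-- **`D = (D ∩ L) A₁`** -/
theorem exists_dg_mul (S : RE U a b t φ) [Finite G] [Finite F] {d : G} (hd : d ∈ Dab G a b) :
    ∃ (r : F) (hr : r ≠ 0), ∃ x ∈ A₁ a b φ, d = φ (dg r hr) * x := by
  obtain ⟨x₁, hx₁⟩ := S.normalises (S.comm_D hd) (wm 1 one_ne_zero)
  have hsw : Swaps (d * ww φ * d⁻¹) a b := (S.ww_swaps.D_mul hd).mul_D (inv_mem hd)
  have hsq : (d * ww φ * d⁻¹) * (d * ww φ * d⁻¹) = 1 := by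
    calc (d * ww φ * d⁻¹) * (d * ww φ * d⁻¹) = d * (ww φ * ww φ) * d⁻¹ := by group
      _ = 1 := by rw [S.ww_sq]; group
  obtain ⟨s, hs, h⟩ := S.swap_invol hsq hsw
  have h1 : d * ww φ * d⁻¹ = φ (wm s hs) := by
    rcases h with h | h
    · exact h
    · exfalso
      apply S.not_mem (x₁ * (wm s hs)⁻¹)
      rw [map_mul, map_inv, ← hx₁, h]; group
  obtain ⟨ρ, hρ0, hρ⟩ : ∃ (ρ : F) (hρ : ρ ≠ 0), d * ww φ * d⁻¹ = φ (dg ρ hρ) * ww φ * (φ (dg ρ hρ))⁻¹ := by
    have key : ∀ (ρ : F) (hρ : ρ ≠ 0), φ (dg ρ hρ) * ww φ * (φ (dg ρ hρ))⁻¹ =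
        φ (wm (ρ * ρ) (mul_ne_zero hρ hρ)) := by
      intro ρ hρ
      rw [← map_mul, ← map_inv, ← map_mul]
      congr 1
      rw [mul_inv_eq_iff_eq_mul]
      refine ext_ent ?_ ?_ ?_ ?_ <;> simp [ent_mul]
      · rw [mul_assoc, inv_mul_cancel₀ hρ, mul_one]
    rcases S.isSquare_or s with ⟨ρ, h2⟩ | ⟨ρ, h2⟩
    · have hρ : ρ ≠ 0 := by
        rintro rfl
        rw [mul_zero] at h2
        exact hs h2
      refine ⟨ρ, hρ, ?_⟩
      rw [key, h1]
      exact (S.wm_eq_iff _ _).2 (Or.inl h2)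
    · have hρ : ρ ≠ 0 := by
        rintro rfl
        rw [mul_zero] at h2
        exact hs (neg_eq_zero.1 h2)
      refine ⟨ρ, hρ, ?_⟩
      rw [key, h1]
      exact (S.wm_eq_iff _ _).2 (Or.inr (by rw [← h2, neg_neg]))
  refine ⟨ρ, hρ0, (φ (dg ρ hρ0))⁻¹ * d, mem_A₁.2 ⟨mul_mem (inv_mem (S.dg_mem hρ0)) hd, ?_⟩, by group⟩
  calc (φ (dg ρ hρ0))⁻¹ * d * ww φ = (φ (dg ρ hρ0))⁻¹ * (d * ww φ * d⁻¹) * d := by group
    _ = ww φ * ((φ (dg ρ hρ0))⁻¹ * d) := by rw [hρ]; group

/-- elements of `C(t)` -/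
theorem exists_mul_A₁ (S : RE U a b t φ) [Finite G] [Finite F] {g : G} (hg : t * g = g * t) :
    ∃ x, ∃ y ∈ A₁ a b φ, g = φ x * y := by
  obtain ⟨x, d, hd, rfl⟩ := S.exists_mul hg
  obtain ⟨r, hr, y, hy, rfl⟩ := S.exists_dg_mul hd
  exact ⟨x * dg r hr, y, hy, by rw [map_mul, mul_assoc]⟩

theorem comm_A₁ (S : RE U a b t φ) {x : G} (hx : x ∈ A₁ a b φ) : t * x = x * t :=
  S.comm_D (mem_A₁.1 hx).1

/-- `A₁ ∩ L = 1` -/
theorem A₁_range (S : RE U a b t φ) {x : Matrix.SpecialLinearGroup (Fin 2) F}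
    (hx : φ x ∈ A₁ a b φ) : φ x = 1 := by
  obtain ⟨h1, h2⟩ := mem_A₁.1 hx
  obtain ⟨r, hr, rfl⟩ := S.dg_of_mem h1
  rw [← map_mul, ← map_mul] at h2
  rw [S.dg_eq_one_iff]
  rcases S.eq_or h2 with h3 | h3
  · have h4 := congrArg (fun y => ent y 0 1) h3
    simp [ent_mul] at h4
    have h5 : (r - 1) * (r + 1) = 0 := by
      field_simp at h4
      linear_combination h4
    rcases mul_eq_zero.1 h5 with h6 | h6
    · left; linear_combination h6
    · right; linear_combination h6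
  · exfalso
    have h4 := congrArg (fun y => ent y 0 1) h3
    simp [ent_mul] at h4
    apply S.not_sq
    refine ⟨r, ?_⟩
    field_simp at h4
    linear_combination -h4

/-- **elements of `A₁` centralise `φ(up 1)`** -/
theorem comm_up_one (S : RE U a b t φ) [Finite G] {x : G} (hx : x ∈ A₁ a b φ) :
    x * φ (up 1) * x⁻¹ = φ (up 1) := by
  obtain ⟨h1, h2⟩ := mem_A₁.1 hx
  obtain ⟨l, hl⟩ := S.D_up h1 1
  have hwl : ww φ * φ (up l) * (ww φ)⁻¹ = φ (lo (-l)) := by
    rw [← map_mul, ← map_inv, ← map_mul]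
    congr 1
    rw [mul_inv_eq_iff_eq_mul, wm_up]
    simp
  have hw1 : ww φ * φ (up 1) * (ww φ)⁻¹ = φ (lo (-1)) := by
    rw [← map_mul, ← map_inv, ← map_mul]
    congr 1
    rw [mul_inv_eq_iff_eq_mul, wm_up]
    simp
  have h2' : x * ww φ * x⁻¹ = ww φ := by rw [h2]; group
  have h3 : x * φ (lo (-1)) * x⁻¹ = φ (lo (-l)) := by
    rw [← hw1, ← hwl, ← hl]
    calc x * (ww φ * φ (up 1) * (ww φ)⁻¹) * x⁻¹ =
        (x * ww φ * x⁻¹) * (x * φ (up 1) * x⁻¹) * (x * ww φ * x⁻¹)⁻¹ := by group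
      _ = _ := by rw [h2']
  have h4 : wm (1 : F) one_ne_zero = lo (-1) * up 1 * lo (-1) := by
    rw [wm_eq]; simp
  have h5 : φ (lo (-l) * up l * lo (-l)) = φ (wm 1 one_ne_zero) := by
    change _ = ww φ
    rw [← h2', map_mul, map_mul, ← h3, ← hl]
    rw [show ww φ = φ (lo (-1) * up 1 * lo (-1)) by rw [← h4], map_mul, map_mul]
    group
  have h6 : l = 1 ∨ l = -1 := by
    rcases S.eq_or h5 with h6 | h6
    · have h7 := congrArg (fun y => ent y 0 1) h6
      simp [ent_mul] at h7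
      exact Or.inl h7
    · have h7 := congrArg (fun y => ent y 0 1) h6
      simp [ent_mul] at h7
      exact Or.inr h7
  rcases h6 with rfl | rfl
  · exact hl
  · exfalso
    obtain ⟨m, hm, h7⟩ := S.D_pow h1
    have h8 : ∀ n : ℕ, x ^ n * φ (up 1) * (x ^ n)⁻¹ = φ (up ((-1) ^ n)) := by
      intro n
      induction n with
      | zero => simp
      | succ n ih =>
        have h9 : x * φ (up ((-1) ^ n)) * x⁻¹ = φ (up ((-1) ^ (n + 1))) := by
          rcases Nat.even_or_odd n with hn | hn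
          · rw [hn.neg_one_pow, hl, hn.add_one.neg_one_pow]
          · rw [hn.neg_one_pow, hn.add_one.neg_one_pow]
            have : φ (up (-1)) = (φ (up 1))⁻¹ := by rw [← map_inv, up_inv]
            rw [this] at hl ⊢
            have h10 : x * (φ (up 1))⁻¹ * x⁻¹ = (x * φ (up 1) * x⁻¹)⁻¹ := by group
            rw [h10, hl, inv_inv]
        calc x ^ (n + 1) * φ (up 1) * (x ^ (n + 1))⁻¹ = x * (x ^ n * φ (up 1) * (x ^ n)⁻¹) * x⁻¹ := by
              rw [pow_succ']; group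
          _ = _ := by rw [ih, h9]
    have h10 : φ (up 1) = φ (up (-1)) := by
      have h11 := h8 m
      rw [hm.neg_one_pow] at h11
      rw [← h11]
      rcases h7 with h7 | h7
      · rw [h7]; group
      · rw [h7, S.comm_range]; group
    have h12 : φ (up (1 + 1)) = 1 := by
      rw [← up_mul, map_mul]
      nth_rw 2 [h10]
      rw [← map_mul, up_mul, add_neg_cancel, up_zero, map_one]
    have h13 := S.inj _ h12
    exact S.two (by linear_combination h13)

theorem conj_up_nat (S : RE U a b t φ) [Finite G] {x : G} (hx : x ∈ A₁ a b φ) (n : ℕ) :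
    x * φ (up (n : F)) * x⁻¹ = φ (up (n : F)) := by
  have h : φ (up (n : F)) = φ (up 1) ^ n := by
    induction n with
    | zero => simp only [up_zero, _root_.Nat.cast_zero, _root_.Cfsg.Agent.Lib.SL2Mat.up_zero, _root_.map_one, _root_.pow_zero]
    | succ n ih => rw [Nat.cast_succ, ← up_mul, map_mul, ih, pow_succ]
  rw [h, ← conj_pow, S.comm_up_one hx]

theorem conj_lo_nat (S : RE U a b t φ) [Finite G] {x : G} (hx : x ∈ A₁ a b φ) (n : ℕ) :
    x * φ (lo (n : F)) * x⁻¹ = φ (lo (n : F)) := by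
  have h1 : φ (lo (n : F)) = ww φ * (φ (up (n : F)))⁻¹ * (ww φ)⁻¹ := by
    rw [← map_inv, ← map_mul, ← map_inv, ← map_mul]
    congr 1
    rw [eq_mul_inv_iff_mul_eq, up_inv, wm_up]
    simp
  have h2 : x * ww φ * x⁻¹ = ww φ := by rw [(mem_A₁.1 hx).2]; group
  have h3 := S.conj_up_nat hx n
  calc x * φ (lo (n : F)) * x⁻¹ =
      (x * ww φ * x⁻¹) * (x * φ (up (n : F)) * x⁻¹)⁻¹ * (x * ww φ * x⁻¹)⁻¹ := by rw [h1]; group
    _ = _ := by rw [h2, h3, h1]

/-! ### The prime field -/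

theorem exists_nat_div {F : Type*} [Field F] [Finite F] (n m : ℕ) : ∃ k : ℕ, (n : F) / m = k := by
  have := Fintype.ofFinite F
  by_cases hm : (m : F) = 0
  · exact ⟨0, by rw [hm, div_zero, Nat.cast_zero]⟩
  · refine ⟨n * m ^ (Fintype.card F - 2), ?_⟩
    rw [div_eq_iff hm]
    have h1 := FiniteField.pow_card_sub_one_eq_one (m : F) hm
    have h2 : Fintype.card F - 1 = Fintype.card F - 2 + 1 := by
      have := Fintype.one_lt_card (α := F)
      omega
    rw [h2, pow_succ] at h1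
    push_cast
    rw [mul_assoc, h1, mul_one]

theorem exists_nat_neg {F : Type*} [Field F] [Finite F] : ∃ k : ℕ, (-1 : F) = k := by
  have := Fintype.ofFinite F
  refine ⟨Fintype.card F - 1, ?_⟩
  have h1 := Fintype.one_lt_card (α := F)
  rw [Nat.cast_sub h1.le, FiniteField.cast_card_eq_zero]
  simp

/-- elements of `A₁` centralise `φ(x)` for `x` over the prime field -/
theorem conj_prime (S : RE U a b t φ) [Finite G] [Finite F] {x : G} (hx : x ∈ A₁ a b φ)
    {g : Matrix.SpecialLinearGroup (Fin 2) F} (hc : ent g 1 0 ≠ 0) (hg : ∀ i j, ∃ n : ℕ, ent g i j = n) :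
    x * φ g * x⁻¹ = φ g := by
  obtain ⟨k, hk⟩ := exists_nat_neg (F := F)
  obtain ⟨n₁₀, h₁₀⟩ := hg 1 0
  obtain ⟨n₀₀, h₀₀⟩ := hg 0 0
  obtain ⟨n₁₁, h₁₁⟩ := hg 1 1
  obtain ⟨m₁, hm₁⟩ := exists_nat_div (F := F) (n₀₀ + k) n₁₀
  obtain ⟨m₂, hm₂⟩ := exists_nat_div (F := F) (n₁₁ + k) n₁₀
  have e : g = up (m₁ : F) * lo (n₁₀ : F) * up (m₂ : F) := by
    rw [← hm₁, ← hm₂, Nat.cast_add, Nat.cast_add, ← hk, ← h₁₀, ← h₀₀, ← h₁₁, ← sub_eq_add_neg,
      ← sub_eq_add_neg]
    exact eq_up_lo_up g hc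
  have h1 := S.conj_up_nat hx m₁
  have h2 := S.conj_lo_nat hx n₁₀
  have h3 := S.conj_up_nat hx m₂
  rw [e, map_mul, map_mul]
  calc x * (φ (up (m₁ : F)) * φ (lo (n₁₀ : F)) * φ (up (m₂ : F))) * x⁻¹ =
      (x * φ (up (m₁ : F)) * x⁻¹) * (x * φ (lo (n₁₀ : F)) * x⁻¹) * (x * φ (up (m₂ : F)) * x⁻¹) := by group
    _ = _ := by rw [h1, h2, h3]

/-- `β ≠ 0` if `α² + β² = -1` -/
theorem right_ne (S : RE U a b t φ) {α β : F} (h : α ^ 2 + β ^ 2 = -1) : β ≠ 0 := by
  rintro rfl
  exact S.not_sq ⟨α, by linear_combination -h⟩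

theorem left_ne (S : RE U a b t φ) {α β : F} (h : α ^ 2 + β ^ 2 = -1) : α ≠ 0 := by
  rintro rfl
  exact S.not_sq ⟨β, by linear_combination -h⟩

/-- `w'` with entries in the prime field -/
theorem exists_jm (S : RE U a b t φ) [Finite G] [Finite F] :
    ∃ (α β : F) (h : α ^ 2 + β ^ 2 = -1), ∀ x ∈ A₁ a b φ, x * φ (jm α β h) * x⁻¹ = φ (jm α β h) := by
  have := Fintype.ofFinite F
  obtain ⟨p, hp⟩ := CharP.exists F
  have hpp : NeZero p := ⟨CharP.char_ne_zero_of_finite F p⟩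
  obtain ⟨m, n, h⟩ := CharP.sq_add_sq F p (-1)
  have h' : (m : F) ^ 2 + (n : F) ^ 2 = -1 := by rw [h]; simp
  refine ⟨m, n, h', fun x hx => S.conj_prime hx ?_ ?_⟩
  · rw [jm_10]; exact S.right_ne h'
  · obtain ⟨k, hk⟩ := exists_nat_neg (F := F)
    intro i j
    fin_cases i <;> fin_cases j
    · exact ⟨m, rfl⟩
    · exact ⟨n, rfl⟩
    · exact ⟨n, rfl⟩
    · refine ⟨k * m, ?_⟩
      change -(m : F) = _
      rw [Nat.cast_mul, ← hk]
      ring

/-! ### The Sylow 2-subgroup -/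

theorem jm_sq (S : RE U a b t φ) {α β : F} (h : α ^ 2 + β ^ 2 = -1) :
    φ (jm α β h) * φ (jm α β h) = 1 := by
  rw [← map_mul, jm_mul_self, S.neg]

theorem ww_jm (S : RE U a b t φ) {α β : F} (h : α ^ 2 + β ^ 2 = -1) :
    ww φ * φ (jm α β h) = φ (jm α β h) * ww φ := by
  rw [← map_mul, wm_jm, S.map_neg', map_mul]

theorem jm_ne (S : RE U a b t φ) {α β : F} (h : α ^ 2 + β ^ 2 = -1) : φ (jm α β h) ≠ 1 := by
  intro hc
  rcases S.ker hc with h1 | h1
  · have h2 := congrArg (fun y => ent y 0 1) h1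
    simp at h2
    exact S.right_ne h h2
  · have h2 := congrArg (fun y => ent y 0 1) h1
    simp at h2
    exact S.right_ne h h2

theorem jm_ne_ww (S : RE U a b t φ) {α β : F} (h : α ^ 2 + β ^ 2 = -1) : φ (jm α β h) ≠ ww φ := by
  intro hc
  rcases S.eq_or hc with h1 | h1
  · have h2 := congrArg (fun y => ent y 0 0) h1
    simp at h2
    exact S.left_ne h h2
  · have h2 := congrArg (fun y => ent y 0 0) h1
    simp at h2
    exact S.left_ne h h2

/-- **the Sylow 2-subgroup** `⟨t, w, w'⟩` -/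
theorem exists_sylow (S : RE U a b t φ) [Finite G] {α β : F} (h : α ^ 2 + β ^ 2 = -1) :
    ∃ P : Sylow 2 G, (P : Subgroup G) = closure {t, ww φ, φ (jm α β h)} := by
  have : Fact (Nat.Prime 2) := ⟨Nat.prime_two⟩
  set w' := φ (jm α β h) with hw'
  set K : Subgroup G := closure {t, ww φ, w'} with hK
  have hcomm : ∀ x ∈ ({t, ww φ, w'} : Set G), ∀ y ∈ ({t, ww φ, w'} : Set G), x * y = y * x := by
    have h1 : t * ww φ = ww φ * t := S.comm_range _
    have h2 : t * w' = w' * t := S.comm_range _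
    have h3 : ww φ * w' = w' * ww φ := S.ww_jm h
    rintro x (rfl | rfl | rfl) y (rfl | rfl | rfl) <;> first | rfl | assumption | (symm; assumption)
  have hKcomm : ∀ x ∈ K, ∀ y ∈ K, x * y = y * x := by
    have h1 : K ≤ centralizer ({t, ww φ, w'} : Set G) := by
      rw [hK, closure_le]
      intro x hx
      rw [SetLike.mem_coe, mem_centralizer_iff]
      intro y hy
      exact hcomm y hy x hx
    have h2 : K ≤ centralizer (K : Set G) := by
      rw [hK, closure_le]
      intro x hx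
      rw [SetLike.mem_coe, mem_centralizer_iff]
      intro y hy
      exact (mem_centralizer_iff.1 (h1 hy) x hx).symm
    intro x hx y hy
    exact (mem_centralizer_iff.1 (h2 hx) y hy).symm
  have hKsq : ∀ x ∈ K, x * x = 1 := by
    intro x hx
    refine closure_induction (p := fun x _ => x * x = 1) ?_ (by simp) ?_ ?_ hx
    · rintro x (rfl | rfl | rfl)
      · exact S.t_sq
      · exact S.ww_sq
      · exact S.jm_sq h
    · intro x y hx hy h1 h2
      calc x * y * (x * y) = x * (y * x) * y := by group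
        _ = (x * x) * (y * y) := by rw [hKcomm y hy x hx]; group
        _ = 1 := by rw [h1, h2, mul_one]
    · intro x _ h1
      calc x⁻¹ * x⁻¹ = (x * x)⁻¹ := by group
        _ = 1 := by rw [h1, inv_one]
  have hKp : IsPGroup 2 K := by
    intro x
    refine ⟨1, Subtype.ext ?_⟩
    rw [pow_one, sq]
    exact hKsq x x.2
  obtain ⟨P, hP⟩ := hKp.exists_le_sylow
  refine ⟨P, (eq_of_le_of_card_ge hP ?_).symm⟩
  have h8 : Nat.card (P : Subgroup G) = 8 := (S.syl P).1
  have hdvd : Nat.card K ∣ 8 := by rw [← h8]; exact card_dvd_of_le hP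
  have h5 : 5 ≤ Nat.card K := by
    classical
    have ht : t ∈ K := subset_closure (by simp)
    have hw : ww φ ∈ K := subset_closure (by simp)
    have hw1 : w' ∈ K := subset_closure (by simp)
    have hsub : ((({1, t, ww φ, w', t * ww φ} : Finset G) : Set G)) ⊆ (K : Set G) := by
      intro x hx
      simp only [Finset.coe_insert, Finset.coe_singleton, Set.mem_insert_iff,
        Set.mem_singleton_iff] at hx
      rcases hx with rfl | rfl | rfl | rfl | rfl
      · exact K.one_mem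
      · exact ht
      · exact hw
      · exact hw1
      · exact K.mul_mem ht hw
    have hcard : ({1, t, ww φ, w', t * ww φ} : Finset G).card = 5 := by
      have a1 : (1 : G) ≠ t := S.t_ne.symm
      have a2 : (1 : G) ≠ ww φ := S.ww_ne.symm
      have a3 : (1 : G) ≠ w' := (S.jm_ne h).symm
      have a4 : (1 : G) ≠ t * ww φ := by
        intro hc
        apply S.not_mem (wm 1 one_ne_zero)⁻¹
        rw [map_inv]
        exact (eq_inv_of_mul_eq_one_left hc.symm).symm
      have a5 : t ≠ ww φ := fun hc => S.not_mem _ hc.symm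
      have a6 : t ≠ w' := fun hc => S.not_mem _ hc.symm
      have a7 : t ≠ t * ww φ := fun hc => S.ww_ne (mul_eq_left.1 hc.symm)
      have a8 : ww φ ≠ w' := (S.jm_ne_ww h).symm
      have a9 : ww φ ≠ t * ww φ := fun hc => S.t_ne (mul_eq_right.1 hc.symm)
      have a10 : w' ≠ t * ww φ := by
        intro hc
        apply S.not_mem (jm α β h * (wm 1 one_ne_zero)⁻¹)
        rw [map_mul, map_inv, ← hw', hc]; group
      rw [Finset.card_insert_of_notMem, Finset.card_insert_of_notMem, Finset.card_insert_of_notMem,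
        Finset.card_insert_of_notMem, Finset.card_singleton]
      · simp only [Finset.mem_singleton]; exact a10
      · simp only [Finset.mem_insert, Finset.mem_singleton, not_or]; exact ⟨a8, a9⟩
      · simp only [Finset.mem_insert, Finset.mem_singleton, not_or]; exact ⟨a5, a6, a7⟩
      · simp only [Finset.mem_insert, Finset.mem_singleton, not_or]; exact ⟨a1, a2, a3, a4⟩
    rw [← hcard, ← Set.ncard_coe_finset]
    exact Set.ncard_le_ncard hsub (Set.toFinite _)
  rw [h8]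
  have := Nat.le_of_dvd (by norm_num) hdvd
  interval_cases h9 : Nat.card K <;> revert hdvd <;> decide

/-- elements of `L` commuting with `w` and `w'` -/
theorem of_comm (S : RE U a b t φ) {α β : F} (h : α ^ 2 + β ^ 2 = -1)
    {g : Matrix.SpecialLinearGroup (Fin 2) F} (h1 : φ g * ww φ = ww φ * φ g)
    (h2 : φ g * φ (jm α β h) = φ (jm α β h) * φ g) :
    φ g = 1 ∨ φ g = ww φ ∨ φ g = φ (jm α β h) ∨ φ g = ww φ * φ (jm α β h) := by
  have hβ := S.right_ne h
  have hα := S.left_ne h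
  have h2' := S.two
  rw [← map_mul, ← map_mul] at h1 h2
  have hd := det_eq g
  have k1 := S.eq_or h1
  have k2 := S.eq_or h2
  obtain ⟨x, hx⟩ : ∃ x, x = ent g 0 0 := ⟨_, rfl⟩
  obtain ⟨y, hy⟩ : ∃ y, y = ent g 0 1 := ⟨_, rfl⟩
  have key : ∀ (k : Matrix.SpecialLinearGroup (Fin 2) F), (g = k ∨ g = -k) → φ g = φ k := by
    rintro k (rfl | rfl)
    · rfl
    · exact S.map_neg' k
  rcases comm_wm k1 with ⟨e1, e2⟩ | ⟨e1, e2⟩
  · -- `g = (x y; -y x)`
    rw [← hy] at e1
    rw [← hx] at e2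
    rw [e1, e2, ← hx, ← hy] at hd
    rcases k2 with k2 | k2
    · left
      have k3 := congrArg (fun z => ent z 0 0) k2
      simp only [ent_mul, jm_00, jm_01, jm_10, ← hx, ← hy, e1] at k3
      have hy0 : y = 0 := by
        have : 2 * (β * y) = 0 := by linear_combination k3
        exact (mul_eq_zero.1 ((mul_eq_zero.1 this).resolve_left h2')).resolve_left hβ
      rw [← map_one φ]
      apply key
      have h3 : (x - 1) * (x + 1) = 0 := by rw [hy0] at hd; linear_combination hd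
      rcases mul_eq_zero.1 h3 with h4 | h4
      · left
        refine ext_ent ?_ ?_ ?_ ?_ <;> simp only [e1, e2, ← hx, ← hy, hy0, ent_one_00, ent_one_01, ent_one_10, ent_one_11]
        · linear_combination h4
        · ring
        · linear_combination h4
      · right
        refine ext_ent ?_ ?_ ?_ ?_ <;> simp only [ent_neg, e1, e2, ← hx, ← hy, hy0, ent_one_00, ent_one_01, ent_one_10, ent_one_11]
        · linear_combination h4
        · ring
        · linear_combination h4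
    · right; left
      have k3 := congrArg (fun z => ent z 0 0) k2
      simp only [ent_neg, ent_mul, jm_00, jm_01, jm_10, ← hx, ← hy, e1] at k3
      have hx0 : x = 0 := by
        have : 2 * (α * x) = 0 := by linear_combination k3
        exact (mul_eq_zero.1 ((mul_eq_zero.1 this).resolve_left h2')).resolve_left hα
      apply key
      have h3 : (y - 1) * (y + 1) = 0 := by rw [hx0] at hd; linear_combination hd
      rcases mul_eq_zero.1 h3 with h4 | h4
      · left
        refine ext_ent ?_ ?_ ?_ ?_ <;> simp only [e1, e2, ← hx, ← hy, hx0, wm_00, wm_01, wm_10, wm_11]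
        · linear_combination h4
        · rw [inv_one]; linear_combination -h4
      · right
        refine ext_ent ?_ ?_ ?_ ?_ <;> simp only [ent_neg, e1, e2, ← hx, ← hy, hx0, wm_00, wm_01, wm_10, wm_11]
        · ring
        · linear_combination h4
        · rw [inv_one]; linear_combination -h4
        · ring
  · -- `g = (x y; y -x)`
    rw [← hy] at e1
    rw [← hx] at e2
    rw [e1, e2, ← hx, ← hy] at hd
    rcases k2 with k2 | k2
    · right; right; left
      have k3 := congrArg (fun z => ent z 0 1) k2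
      simp only [ent_mul, jm_00, jm_01, jm_11, ← hx, ← hy, e2] at k3
      have k4 : x * β = y * α := by
        have : 2 * (x * β - y * α) = 0 := by linear_combination k3
        linear_combination (mul_eq_zero.1 this).resolve_left h2'
      apply key
      -- `(x, y) = c (α, β)`
      obtain ⟨c, hc⟩ : ∃ c, c = x / α := ⟨_, rfl⟩
      have hxc : x = c * α := by rw [hc]; field_simp
      have hyc : y = c * β := by
        have : α * y = α * (c * β) := by rw [hxc] at k4; linear_combination -k4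
        exact mul_left_cancel₀ hα this
      have h3 : (c - 1) * (c + 1) = 0 := by
        rw [hxc, hyc] at hd
        linear_combination hd + c ^ 2 * h
      rcases mul_eq_zero.1 h3 with h4 | h4
      · left
        have hc1 : c = 1 := by linear_combination h4
        refine ext_ent ?_ ?_ ?_ ?_ <;> simp only [e1, e2, ← hx, ← hy, hxc, hyc, hc1, jm_00, jm_01, jm_10, jm_11, one_mul]
      · right
        have hc1 : c = -1 := by linear_combination h4
        refine ext_ent ?_ ?_ ?_ ?_ <;> simp only [ent_neg, e1, e2, ← hx, ← hy, hxc, hyc, hc1, jm_00, jm_01, jm_10, jm_11, one_mul, neg_mul]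
    · right; right; right
      have k3 := congrArg (fun z => ent z 0 0) k2
      simp only [ent_neg, ent_mul, jm_00, jm_01, jm_10, ← hx, ← hy, e1] at k3
      have k4 : x * α = - (y * β) := by
        have : 2 * (x * α + y * β) = 0 := by linear_combination k3
        linear_combination (mul_eq_zero.1 this).resolve_left h2'
      rw [← map_mul]
      apply key
      -- `(x, y) = c (β, -α)`
      obtain ⟨c, hc⟩ : ∃ c, c = x / β := ⟨_, rfl⟩
      have hxc : x = c * β := by rw [hc]; field_simp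
      have hyc : y = -(c * α) := by
        have : β * y = β * (-(c * α)) := by rw [hxc] at k4; linear_combination k4
        exact mul_left_cancel₀ hβ this
      have h3 : (c - 1) * (c + 1) = 0 := by
        rw [hxc, hyc] at hd
        linear_combination hd + c ^ 2 * h
      rcases mul_eq_zero.1 h3 with h4 | h4
      · left
        have hc1 : c = 1 := by linear_combination h4
        refine ext_ent ?_ ?_ ?_ ?_ <;> simp only [ent_mul, wm_00, wm_01, wm_10, wm_11, e1, e2, ← hx, ← hy, hxc, hyc, hc1, jm_00, jm_01, jm_10, jm_11, inv_one] <;> ring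
      · right
        have hc1 : c = -1 := by linear_combination h4
        refine ext_ent ?_ ?_ ?_ ?_ <;> simp only [ent_neg, ent_mul, wm_00, wm_01, wm_10, wm_11, e1, e2, ← hx, ← hy, hxc, hyc, hc1, jm_00, jm_01, jm_10, jm_11, inv_one] <;> ring

end RE

end Cfsg.Agent.HKS.ReeEnd
end

-- part: HKS/ReeEnd3
section
/-!
# Strongly split groups with `C_G(t) ≥ ⟨t⟩ × PSL(2,q)`: elements of odd order of `A₁`

For `1 ≠ x ∈ A₁` of odd order: `|C_U(x)| = |C_U(x) ∩ C(t)| ^ 3` (by induction). Hence `C_D(C_U(t)) = ⟨t⟩`.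
Elements of `A₁` act as field automorphisms.
-/

set_option autoImplicit false

namespace Cfsg.Agent.HKS.ReeEnd

open Subgroup MulAction Cfsg.Agent.HKS
open Cfsg.Agent.Lib.SL2Mat

namespace RE

variable {G Ω F : Type*} [Group G] [MulAction G Ω] [Field F] {U : Ω → Subgroup G} {a b : Ω}
  {t : G} {φ : Matrix.SpecialLinearGroup (Fin 2) F →* G}

/-- `4 ∤ |D|` -/
theorem not_four_dvd (S : RE U a b t φ) [Finite G] : ¬ 4 ∣ Nat.card (Dab G a b) := by
  classical
  intro h4
  have : Fact (Nat.Prime 2) := ⟨Nat.prime_two⟩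
  obtain ⟨K, hK⟩ := Sylow.exists_subgroup_card_pow_prime (G := Dab G a b) 2 (n := 2) (by norm_num only []; exact h4)
  have h1 : ∀ x : K, ((x : Dab G a b) : G) = 1 ∨ ((x : Dab G a b) : G) = t := by
    intro x
    refine S.unique _ (x : Dab G a b).2 (S.sq_of_two_pow (e := 2) ?_)
    have h2 : x ^ 2 ^ 2 = 1 := by rw [← hK]; exact pow_card_eq_one'
    have h3 := congrArg (fun y : K => ((y : Dab G a b) : G)) h2
    simpa only [_root_.Nat.reducePow, _root_.SubmonoidClass.coe_pow, _root_.OneMemClass.coe_one] using h3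
  have h2 : Nat.card K ≤ Nat.card Bool := by
    refine Nat.card_le_card_of_injective (fun x : K => decide (((x : Dab G a b) : G) = 1)) ?_
    intro x y hxy
    apply Subtype.ext
    apply Subtype.ext
    simp only [decide_eq_decide] at hxy
    rcases h1 x with hx | hx
    · rw [hx, hxy.1 hx]
    · rcases h1 y with hy | hy
      · rw [hy, hxy.2 hy]
      · rw [hx, hy]
  rw [hK] at h2
  simp at h2

theorem sylow_comm (S : RE U a b t φ) (P : Sylow 2 G) {y z : G} (hy : y ∈ (P : Subgroup G))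
    (hz : z ∈ (P : Subgroup G)) : y * z = z * y := by
  have key : ∀ y ∈ (P : Subgroup G), y⁻¹ = y := fun y hy =>
    inv_eq_of_mul_eq_one_left ((S.syl P).2 y hy)
  rw [← key _ (mul_mem hy hz), mul_inv_rev, key y hy, key z hz]

theorem sylow_isMulCommutative (S : RE U a b t φ) (P : Sylow 2 G) : IsMulCommutative P :=
  ⟨⟨fun y z => Subtype.ext (S.sylow_comm P y.2 z.2)⟩⟩

/-- elements commuting with `t`, `w`, `w'` -/
theorem cent_three (S : RE U a b t φ) [Finite G] [Finite F] {α β : F} (h : α ^ 2 + β ^ 2 = -1)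
    (hA : ∀ x ∈ A₁ a b φ, x * φ (jm α β h) * x⁻¹ = φ (jm α β h)) {x : G} (h1 : t * x = x * t)
    (h2 : x * ww φ = ww φ * x) (h3 : x * φ (jm α β h) = φ (jm α β h) * x) :
    ∃ g, ∃ y ∈ A₁ a b φ, x = φ g * y ∧
      (φ g = 1 ∨ φ g = ww φ ∨ φ g = φ (jm α β h) ∨ φ g = ww φ * φ (jm α β h)) := by
  obtain ⟨g, y, hy, rfl⟩ := S.exists_mul_A₁ h1
  refine ⟨g, y, hy, rfl, S.of_comm h ?_ ?_⟩
  · have h4 := (mem_A₁.1 hy).2
    calc φ g * ww φ = (φ g * (ww φ * y)) * y⁻¹ := by group
      _ = (φ g * y * ww φ) * y⁻¹ := by rw [← h4]; group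
      _ = ww φ * φ g := by rw [h2]; group
  · have h4 : y * φ (jm α β h) = φ (jm α β h) * y := by
      have := hA y hy
      rwa [mul_inv_eq_iff_eq_mul] at this
    calc φ g * φ (jm α β h) = (φ g * (φ (jm α β h) * y)) * y⁻¹ := by group
      _ = (φ g * y * φ (jm α β h)) * y⁻¹ := by rw [← h4]; group
      _ = φ (jm α β h) * φ g := by rw [h3]; group

/-- elements of odd order commuting with `t`, `w`, `w'` -/
theorem cent_three_odd (S : RE U a b t φ) [Finite G] [Finite F] {α β : F} (h : α ^ 2 + β ^ 2 = -1)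
    (hA : ∀ x ∈ A₁ a b φ, x * φ (jm α β h) * x⁻¹ = φ (jm α β h)) {x : G} (h1 : t * x = x * t)
    (h2 : x * ww φ = ww φ * x) (h3 : x * φ (jm α β h) = φ (jm α β h) * x) {m : ℕ} (hm : Odd m)
    (hxm : x ^ m = 1) : x ∈ A₁ a b φ := by
  obtain ⟨g, y, hy, rfl, hg⟩ := S.cent_three h hA h1 h2 h3
  have hyw : Commute y (ww φ) := (mem_A₁.1 hy).2
  have hyj : Commute y (φ (jm α β h)) := by
    have := hA y hy
    rwa [mul_inv_eq_iff_eq_mul] at this
  have hc : Commute (φ g) y := by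
    rcases hg with hg | hg | hg | hg <;> rw [hg]
    · exact Commute.one_left y
    · exact hyw.symm
    · exact hyj.symm
    · exact (hyw.symm).mul_left hyj.symm
  have hwj : Commute (ww φ) (φ (jm α β h)) := S.ww_jm h
  have hsq : φ g ^ 2 = 1 := by
    rw [sq]
    rcases hg with hg | hg | hg | hg <;> rw [hg]
    · rw [one_mul]
    · exact S.ww_sq
    · exact S.jm_sq h
    · have : ww φ * φ (jm α β h) * (ww φ * φ (jm α β h)) =
          (ww φ * ww φ) * (φ (jm α β h) * φ (jm α β h)) := by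
        calc ww φ * φ (jm α β h) * (ww φ * φ (jm α β h)) =
            ww φ * (φ (jm α β h) * ww φ) * φ (jm α β h) := by group
          _ = _ := by rw [← hwj.eq]; group
      rw [this, S.ww_sq, S.jm_sq h, one_mul]
  have h4 : φ g * y ^ m = 1 := by
    rw [hc.mul_pow] at hxm
    obtain ⟨j, rfl⟩ := hm
    rw [pow_succ (φ g), pow_mul, hsq, one_pow, one_mul] at hxm
    exact hxm
  have h5 : φ g ∈ A₁ a b φ := by
    rw [eq_inv_of_mul_eq_one_left h4]
    exact inv_mem (pow_mem hy m)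
  rw [S.A₁_range h5, one_mul]
  exact hy

/-- for `x ∈ A₁` of odd order, `t` moves a fixed point of `x` -/
theorem exists_moved (S : RE U a b t φ) [Finite G] [Finite F] {p k : ℕ} [Finite Ω] [FaithfulSMul G Ω]
    (T : TwoOne.TO U p k a b) {x : G} (hx : x ∈ A₁ a b φ) {m : ℕ} (hm : Odd m) (hxm : x ^ m = 1) :
    ∃ c : Ω, x • c = c ∧ t • c ≠ c := by
  have : Fact (Nat.Prime 2) := ⟨Nat.prime_two⟩
  obtain ⟨α, β, h, hA⟩ := S.exists_jm
  obtain ⟨P, hP⟩ := S.exists_sylow h
  have ht : t ∈ (P : Subgroup G) := by rw [hP]; exact subset_closure (by simp)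
  have hw : ww φ ∈ (P : Subgroup G) := by rw [hP]; exact subset_closure (by simp)
  have hj : φ (jm α β h) ∈ (P : Subgroup G) := by rw [hP]; exact subset_closure (by simp)
  have hPc : IsMulCommutative P := S.sylow_isMulCommutative P
  obtain ⟨g, hg⟩ := isConj_iff.1 (S.conj (ww φ) S.ww_sq S.ww_ne)
  obtain ⟨n, hn, hne⟩ := P.conj_eq_normalizer_conj_of_mem t g⁻¹ ht (by
    rw [inv_inv, hg]; exact hw)
  rw [inv_inv, hg] at hne
  -- `n⁻¹ t n = w`
  have hxP : ∀ y ∈ (P : Subgroup G), x * y = y * x := by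
    have h1 : (P : Subgroup G) ≤ centralizer {x} := by
      rw [hP, closure_le]
      rintro y (rfl | rfl | rfl)
      · rw [SetLike.mem_coe, mem_centralizer_singleton_iff]; exact S.comm_A₁ hx
      · rw [SetLike.mem_coe, mem_centralizer_singleton_iff]; exact (mem_A₁.1 hx).2.symm
      · rw [SetLike.mem_coe, mem_centralizer_singleton_iff]
        have := hA x hx
        rw [mul_inv_eq_iff_eq_mul] at this
        exact this.symm
    intro y hy
    have := h1 hy
    rw [mem_centralizer_singleton_iff] at this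
    exact this.symm
  have hnP : ∀ y ∈ (P : Subgroup G), n⁻¹ * y * n ∈ (P : Subgroup G) := by
    intro y hy
    have h1 := (mem_normalizer_iff.1 (inv_mem hn) y).1 hy
    rwa [inv_inv] at h1
  have hx' : n * x * n⁻¹ ∈ A₁ a b φ := by
    have h1 : ∀ y ∈ (P : Subgroup G), (n * x * n⁻¹) * y = y * (n * x * n⁻¹) := by
      intro y hy
      have h2 := hxP _ (hnP y hy)
      calc (n * x * n⁻¹) * y = n * (x * (n⁻¹ * y * n)) * n⁻¹ := by group
        _ = y * (n * x * n⁻¹) := by rw [h2]; group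
    refine S.cent_three_odd h hA (h1 t ht).symm (h1 _ hw) (h1 _ hj) hm ?_
    rw [conj_pow, hxm]; group
  have hfix : x • n⁻¹ • a = n⁻¹ • a := by
    have h1 := (mem_A₁.1 hx').1.1
    change (n * x * n⁻¹) • a = a at h1
    rw [eq_inv_smul_iff, ← mul_smul, ← mul_smul]
    exact h1
  refine ⟨n⁻¹ • a, hfix, ?_⟩
  have hwfix : ww φ • n⁻¹ • a = n⁻¹ • a := by
    rw [hne, ← mul_smul]
    have : n⁻¹ * t * n * n⁻¹ = n⁻¹ * t := by group
    rw [this, mul_smul, S.t_a]
  exact T.fpf_of_comm S.t_sq S.ww_sq S.t_ne S.ww_ne (S.comm_range _)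
    (fun hc => S.not_mem _ hc.symm) hwfix

/-- **the induction hypothesis at `x ∈ A₁` of odd order** -/
theorem dr_of_odd (S : RE U a b t φ) [Finite G] [Finite F] {p k : ℕ} [Finite Ω] [FaithfulSMul G Ω]
    (C : CtxE U a b p k) (T : TwoOne.TO U p k a b) {x : G} (hx : x ∈ A₁ a b φ) (hx1 : x ≠ 1)
    {m : ℕ} (hm : Odd m) (hxm : x ^ m = 1) :
    ∃ n, Odd n ∧ Nat.card (U a ⊓ centralizer (zpowers x : Set G) : Subgroup G) = (3 ^ n) ^ 3 ∧
      Nat.card (U a ⊓ centralizer (zpowers x : Set G) ⊓ centralizer ({t} : Set G) : Subgroup G) =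
        3 ^ n := by
  have hxD := (mem_A₁.1 hx).1
  have hX : zpowers x ≤ Dab G a b := zpowers_le.2 hxD
  have hX1 : zpowers x ≠ ⊥ := by rwa [Ne, zpowers_eq_bot]
  have huc : φ (up 1) ∈ U a ⊓ centralizer (zpowers x : Set G) := by
    refine ⟨S.up_mem 1, TwoOne.mem_cent_zpowers.2 ?_⟩
    have := S.comm_up_one hx
    rwa [mul_inv_eq_iff_eq_mul] at this
  have hU1 : U a ⊓ centralizer (zpowers x : Set G) ≠ ⊥ := by
    intro hc
    rw [hc, mem_bot] at huc
    exact S.up_ne one_ne_zero huc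
  obtain ⟨c, hxc, htc⟩ := S.exists_moved T hx hm hxm
  have htK : t ∉ kerFix Ω (zpowers x) := fun hc => htc (hc c (TwoOne.zpowers_fix hxc))
  have htx : ∀ y ∈ zpowers x, t * y = y * t := fun y hy => S.comm_D (hX hy)
  have hR : RigElt (zpowers x) a b t :=
    RigElt.of_comm S.t_mem htx (by rw [S.t_sq]; exact one_mem _)
  have h4 := S.not_four_dvd
  -- `kerFix.relIndex (D ⊓ genFix)` divides `|D|`
  have hdvd : (kerFix Ω (zpowers x)).relIndex (Dab G a b ⊓ genFix U (zpowers x)) ∣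
      Nat.card (Dab G a b) :=
    (relIndex_dvd_card _ _).trans (card_dvd_of_le inf_le_left)
  rcases C.IH (zpowers x) hX hX1 hU1 with h | ⟨q, h⟩ | ⟨q, h⟩ | ⟨n, h⟩
  · exfalso
    obtain ⟨e, he⟩ : ∃ e, Nat.card (U a ⊓ centralizer (zpowers x : Set G) : Subgroup G) = p ^ e := by
      have h1 := card_dvd_of_le (inf_le_left : U a ⊓ centralizer (zpowers x : Set G) ≤ U a)
      rw [C.cardU] at h1
      obtain ⟨e, -, he⟩ := (Nat.dvd_prime_pow C.prime).1 h1
      exact ⟨e, he⟩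
    have hodd : Odd (Nat.card (U a ⊓ centralizer (zpowers x : Set G) : Subgroup G)) := by
      rw [he]
      exact (C.prime.odd_of_ne_two C.p_ne_two).pow
    rcases TwoOne.cyclic_pm C.prime C.p_ne_two h.cyc he S.t_sq (fun u hu => hR.conj_P S.split hu)
      with h1 | h1
    · apply htK
      refine S.split.mem_kerFix_of_comm S.ne hX S.t_mem fun u hu => ?_
      have := h1 u hu
      rwa [mul_inv_eq_iff_eq_mul] at this
    · have h2 := h1 _ huc
      rw [S.comm_range, mul_inv_cancel_right] at h2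
      have h3 : φ (up 1) ^ 2 = 1 := by
        rw [sq]
        nth_rw 1 [h2]
        exact inv_mul_cancel _
      have h5 : (⟨φ (up 1), huc⟩ : (U a ⊓ centralizer (zpowers x : Set G) : Subgroup G)) ^ 2 = 1 :=
        Subtype.ext h3
      have h6 := orderOf_dvd_of_pow_eq_one h5
      have h7 := (orderOf_dvd_natCard
        (⟨φ (up 1), huc⟩ : (U a ⊓ centralizer (zpowers x : Set G) : Subgroup G)))
      rcases (Nat.dvd_prime Nat.prime_two).1 h6 with h8 | h8
      · exact S.up_ne one_ne_zero (congrArg Subtype.val (orderOf_eq_one_iff.1 h8))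
      · rw [h8] at h7
        exact (Nat.not_even_iff_odd.2 hodd) (even_iff_two_dvd.2 h7)
  · exfalso
    rcases S.split.rigL S.ne hX hR h with h1 | h1 | h1
    · exact htK h1
    · have h2 := h1 _ huc
      rw [S.comm_range, mul_inv_cancel_right] at h2
      have h3 : φ (up 1) ^ 2 = 1 := by
        rw [sq]
        nth_rw 1 [h2]
        exact inv_mul_cancel _
      have h5 : (⟨φ (up 1), huc⟩ : (U a ⊓ centralizer (zpowers x : Set G) : Subgroup G)) ^ 2 = 1 :=
        Subtype.ext h3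
      have h6 := orderOf_dvd_of_pow_eq_one h5
      have h7 := (orderOf_dvd_natCard
        (⟨φ (up 1), huc⟩ : (U a ⊓ centralizer (zpowers x : Set G) : Subgroup G)))
      rcases (Nat.dvd_prime Nat.prime_two).1 h6 with h8 | h8
      · exact S.up_ne one_ne_zero (congrArg Subtype.val (orderOf_eq_one_iff.1 h8))
      · rw [h8, h.card] at h7
        exact (Nat.not_even_iff_odd.2 h.odd) (even_iff_two_dvd.2 h7)
    · -- `q = r ^ 2`, `4 ∣ (q - 1) / 2`
      apply h4
      refine Dvd.dvd.trans ?_ hdvd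
      have h2 := h.cardE
      rw [← h1] at h2
      obtain ⟨j, hj⟩ : Odd (Nat.card (U a ⊓ centralizer (zpowers x : Set G) ⊓
          centralizer ({t} : Set G) : Subgroup G)) := by
        have := h.odd
        rw [← h1, Nat.odd_pow_iff two_ne_zero] at this
        exact this
      rw [hj] at h2
      have h3 : (2 * j + 1) ^ 2 - 1 = 2 * (2 * (j * (j + 1))) := by
        have : (2 * j + 1) ^ 2 = 2 * (2 * (j * (j + 1))) + 1 := by ring
        rw [this, Nat.add_sub_cancel]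
      rw [h3] at h2
      rw [Nat.eq_of_mul_eq_mul_left two_pos h2]
      exact mul_dvd_mul_left 2 (Nat.even_mul_succ_self j).two_dvd
  · exfalso
    apply h4
    refine Dvd.dvd.trans ?_ hdvd
    have h2 := h.cardE
    obtain ⟨j, hj⟩ := h.odd
    have h3 : q ^ 2 - 1 = 4 * (j * (j + 1)) := by
      have : q ^ 2 = 4 * (j * (j + 1)) + 1 := by rw [hj]; ring
      rw [this, Nat.add_sub_cancel]
    have h5 : 4 ∣ q ^ 2 - 1 := ⟨_, h3⟩
    rw [← h2] at h5
    have h6 : Nat.Coprime 4 (Nat.gcd 3 (q + 1)) :=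
      Nat.Coprime.coprime_dvd_right (Nat.gcd_dvd_left 3 (q + 1)) (by norm_num)
    exact h6.dvd_of_dvd_mul_left h5
  · obtain ⟨z, hz, hzK, hz2, hzc⟩ := h.invol
    have hzt : z = t := by
      rcases S.unique z hz.1 hz2 with h1 | h1
      · exact absurd (by rw [h1]; exact one_mem _) hzK
      · exact h1
    rw [hzt] at hzc
    exact ⟨n, h.odd, h.card, hzc⟩

/-- `|C_{U a}(t)| = |F|` -/
theorem card_CU (S : RE U a b t φ) [Finite Ω] [Finite F] :
    Nat.card (U a ⊓ centralizer ({t} : Set G) : Subgroup G) = Nat.card F := by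
  have h1 := S.card_fixedBy
  rw [TwoOne.card_fixedBy_eq S.split S.ne S.t_mem] at h1
  have h2 : (U a ⊓ centralizer ({t} : Set G) : Subgroup G) = TwoOne.CU U a t := by
    ext x
    rw [TwoOne.mem_CU, mem_inf, mem_centralizer_singleton_iff]
    exact and_congr_right fun _ => eq_comm
  rw [h2]
  omega

/-- **an element of `D` centralising `C_{U a}(t)` is `1` or `t`** -/
theorem ker_trivial (S : RE U a b t φ) [Finite G] [Finite F] {p k : ℕ} [Finite Ω]
    [FaithfulSMul G Ω] (C : CtxE U a b p k) (T : TwoOne.TO U p k a b) {x : G}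
    (hx : x ∈ Dab G a b) (hc : ∀ z, x * φ (up z) * x⁻¹ = φ (up z)) : x = 1 ∨ x = t := by
  -- odd order
  have key : ∀ x ∈ Dab G a b, (∀ z, x * φ (up z) * x⁻¹ = φ (up z)) → ∀ m, Odd m → x ^ m = 1 →
      x = 1 := by
    intro x hx hc m hm hxm
    by_contra hx1
    have hxA : x ∈ A₁ a b φ := by
      obtain ⟨r, hr, y, hy, he⟩ := S.exists_dg_mul hx
      have h1 := hc 1
      have h2 := S.comm_up_one hy
      have h3 : φ (dg r hr) * φ (up 1) * (φ (dg r hr))⁻¹ = φ (up 1) := by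
        calc φ (dg r hr) * φ (up 1) * (φ (dg r hr))⁻¹ =
            φ (dg r hr) * (y * φ (up 1) * y⁻¹) * (φ (dg r hr))⁻¹ := by rw [h2]
          _ = x * φ (up 1) * x⁻¹ := by rw [he]; group
          _ = _ := h1
      rw [← map_mul, dg_up, map_mul, mul_inv_cancel_right] at h3
      have h4 : φ (up (r ^ 2 * 1 + -1)) = 1 := by
        rw [← up_mul, map_mul, h3, ← map_mul, up_mul, add_neg_cancel, up_zero, map_one]
      have h5 := S.inj _ h4
      have h6 : (r - 1) * (r + 1) = 0 := by linear_combination h5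
      have h7 : φ (dg r hr) = 1 := by
        rw [S.dg_eq_one_iff]
        rcases mul_eq_zero.1 h6 with h8 | h8
        · left; linear_combination h8
        · right; linear_combination h8
      rw [he, h7, one_mul]
      exact hy
    obtain ⟨n, -, h1, h2⟩ := S.dr_of_odd C T hxA hx1 hm hxm
    have h3 : U a ⊓ centralizer (zpowers x : Set G) ⊓ centralizer ({t} : Set G) =
        U a ⊓ centralizer ({t} : Set G) := by
      apply le_antisymm
      · exact inf_le_inf_right _ inf_le_left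
      · intro u hu
        refine ⟨⟨hu.1, TwoOne.mem_cent_zpowers.2 ?_⟩, hu.2⟩
        have h4 := mem_centralizer_singleton_iff.1 hu.2
        obtain ⟨z, rfl⟩ := S.up_surj u hu.1 h4.symm
        have := hc z
        rwa [mul_inv_eq_iff_eq_mul] at this
    rw [h3, S.card_CU] at h2
    rw [← h2, ← S.card_U.1] at h1
    have h4 : U a ⊓ centralizer (zpowers x : Set G) = U a :=
      eq_of_le_of_card_ge inf_le_left h1.ge
    apply hx1
    apply FaithfulSMul.eq_of_smul_eq_smul (α := Ω)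
    intro c
    rw [one_smul]
    by_cases hca : c = a
    · rw [hca]; exact hx.1
    obtain ⟨u, hu, hub⟩ := S.split.trans S.ne hca
    have h5 : u ∈ U a ⊓ centralizer (zpowers x : Set G) := by rw [h4]; exact hu
    have h6 := TwoOne.mem_cent_zpowers.1 h5.2
    rw [← hub, ← mul_smul, h6, mul_smul]
    congr 1
    exact hx.2
  obtain ⟨m, hm, h⟩ := S.D_pow hx
  rcases h with h | h
  · left; exact key x hx hc m hm h
  · right
    have h1 : x * t = 1 := by
      refine key (x * t) (mul_mem hx S.t_mem) (fun z => ?_) m hm ?_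
      · calc x * t * φ (up z) * (x * t)⁻¹ = x * (t * φ (up z)) * t⁻¹ * x⁻¹ := by group
          _ = x * φ (up z) * x⁻¹ := by rw [S.comm_range]; group
          _ = φ (up z) := hc z
      · have h2 : Commute x t := (S.comm_D hx).symm
        rw [h2.mul_pow, h]
        obtain ⟨j, rfl⟩ := hm
        rw [pow_succ, pow_mul, sq, S.t_sq, one_pow, one_mul, S.t_sq]
    rw [← S.t_inv]
    exact eq_inv_of_mul_eq_one_left h1

end RE

end Cfsg.Agent.HKS.ReeEnd
end

-- part: HKS/ReeEnd4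
section
/-!
# Strongly split groups with `C_G(t) ≥ ⟨t⟩ × PSL(2,q)`: fusion

* `exists_ring`: elements of `A₁` act on `C_U(t)` as field automorphisms; `A₁/⟨t⟩` is abelian;
* `exists_K`: for the Sylow 2-subgroup `P = ⟨t, w, w'⟩` and `1 ≠ z ∈ P` there is `n ∈ N(P)` with `n t n⁻¹ = z`
  and `[n, C(P)] ≤ P`;
* `fusion`: a homomorphism `ζ : C(t) → A` (`A` without elements of order 2, `ζ = 1` on `L`) is invariant under
  fusion in `G`.
-/

set_option autoImplicit false

namespace Cfsg.Agent.HKS.ReeEnd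

open Subgroup MulAction Cfsg.Agent.HKS
open Cfsg.Agent.Lib.SL2Mat

section mats

variable {F : Type*} [Field F]

/-- the matrix `(1 + I + J + IJ) / 2` -/
def em (h2 : (2 : F) ≠ 0) (α β : F) (h : α ^ 2 + β ^ 2 = -1) : Matrix.SpecialLinearGroup (Fin 2) F :=
  mk ((1 + α + β) / 2) ((1 + β - α) / 2) ((-1 + β - α) / 2) ((1 - α - β) / 2) (by
    field_simp
    linear_combination (-2) * h)

theorem em_wm (h2 : (2 : F) ≠ 0) {α β : F} (h : α ^ 2 + β ^ 2 = -1) :
    em h2 α β h * wm 1 one_ne_zero = jm α β h * em h2 α β h := by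
  refine ext_ent ?_ ?_ ?_ ?_ <;> simp only [ent_mul, em, _root_.Cfsg.Agent.HKS.ReeEnd.em, _root_.Fin.isValue, _root_.Cfsg.Agent.Lib.SL2Mat.ent_mul, _root_.Cfsg.Agent.Lib.SL2Mat.mk_00, _root_.Cfsg.Agent.Lib.SL2Mat.wm_00, _root_.MulZeroClass.mul_zero, _root_.Cfsg.Agent.Lib.SL2Mat.mk_01, _root_.Cfsg.Agent.Lib.SL2Mat.wm_10, _root_.inv_one, _root_.mul_neg, _root_.mul_one, _root_.zero_add, _root_.Cfsg.Agent.HKS.ReeEnd.jm_00, _root_.Cfsg.Agent.HKS.ReeEnd.jm_01, _root_.Cfsg.Agent.Lib.SL2Mat.mk_10, _root_.Cfsg.Agent.Lib.SL2Mat.wm_01, _root_.Cfsg.Agent.Lib.SL2Mat.wm_11, _root_.add_zero, _root_.Cfsg.Agent.Lib.SL2Mat.mk_11, _root_.Cfsg.Agent.HKS.ReeEnd.jm_10, _root_.Cfsg.Agent.HKS.ReeEnd.jm_11, _root_.neg_mul] <;> field_simp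
  · linear_combination (-1) * h
  · linear_combination h
  · linear_combination (-1) * h
  · linear_combination (-1) * h

theorem em_jm (h2 : (2 : F) ≠ 0) {α β : F} (h : α ^ 2 + β ^ 2 = -1) :
    em h2 α β h * jm α β h = wm 1 one_ne_zero * jm α β h * em h2 α β h := by
  refine ext_ent ?_ ?_ ?_ ?_ <;> simp only [ent_mul, em, _root_.Cfsg.Agent.HKS.ReeEnd.em, _root_.Fin.isValue, _root_.Cfsg.Agent.Lib.SL2Mat.ent_mul, _root_.Cfsg.Agent.Lib.SL2Mat.mk_00, _root_.Cfsg.Agent.HKS.ReeEnd.jm_00, _root_.Cfsg.Agent.Lib.SL2Mat.mk_01, _root_.Cfsg.Agent.HKS.ReeEnd.jm_10, _root_.Cfsg.Agent.Lib.SL2Mat.wm_00, _root_.MulZeroClass.zero_mul, _root_.Cfsg.Agent.Lib.SL2Mat.wm_01, _root_.one_mul, _root_.zero_add, _root_.Cfsg.Agent.HKS.ReeEnd.jm_01, _root_.Cfsg.Agent.HKS.ReeEnd.jm_11, _root_.mul_neg, _root_.Cfsg.Agent.Lib.SL2Mat.mk_10, _root_.neg_mul, _root_.Cfsg.Agent.Lib.SL2Mat.mk_11, _root_.Cfsg.Agent.Lib.SL2Mat.wm_10, _root_.inv_one, _root_.Cfsg.Agent.Lib.SL2Mat.wm_11,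 _root_.add_zero, _root_.neg_zero] <;> field_simp
  · ring
  · ring
  · ring
  · ring

end mats

namespace RE

variable {G Ω F : Type*} [Group G] [MulAction G Ω] [Field F] {U : Ω → Subgroup G} {a b : Ω}
  {t : G} {φ : Matrix.SpecialLinearGroup (Fin 2) F →* G}

theorem up_eq (S : RE U a b t φ) {z z' : F} (h : φ (up z) = φ (up z')) : z = z' := by
  have h3 : φ (up (z + -z')) = 1 := by
    rw [← up_mul, map_mul, h, ← map_mul, up_mul, add_neg_cancel, up_zero, map_one]
  linear_combination S.inj _ h3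

/-- **elements of `A₁` act as field automorphisms** -/
theorem exists_ring (S : RE U a b t φ) [Finite G] [Finite F] {x : G} (hx : x ∈ A₁ a b φ) :
    ∃ σ : F ≃+* F, ∀ z, x * φ (up z) * x⁻¹ = φ (up (σ z)) := by
  have hxD := (mem_A₁.1 hx).1
  choose α hα using S.D_up hxD
  have hadd : ∀ y z, α (y + z) = α y + α z := by
    intro y z
    apply S.up_eq
    rw [← hα, ← up_mul, ← up_mul, map_mul, map_mul, ← hα, ← hα]
    group
  have h1 : α 1 = 1 := S.up_eq (by rw [← hα, S.comm_up_one hx])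
  have h0 : α 0 = 0 := by
    have := hadd 0 0
    rw [add_zero] at this
    linear_combination -this
  have hneg : ∀ y, α (-y) = - α y := by
    intro y
    have := hadd y (-y)
    rw [add_neg_cancel, h0] at this
    linear_combination -this
  have hsq : ∀ r z, α (r * r * z) = α (r * r) * α z := by
    intro r z
    by_cases hr : r = 0
    · rw [hr, zero_mul, zero_mul, h0, zero_mul]
    obtain ⟨x₁, hx₁⟩ := S.normalises (S.comm_D hxD) (dg r hr)
    have h2 : φ x₁ ∈ Dab G a b := by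
      rw [← hx₁]
      exact mul_mem (mul_mem hxD (S.dg_mem hr)) (inv_mem hxD)
    obtain ⟨r', hr', rfl⟩ := S.dg_of_mem h2
    have key : ∀ z, α (r * r * z) = r' * r' * α z := by
      intro z
      apply S.up_eq
      have e1 : φ (up (r * r * z)) = φ (dg r hr) * φ (up z) * (φ (dg r hr))⁻¹ := by
        rw [← map_mul, dg_up, map_mul, mul_inv_cancel_right, sq]
      have e2 : φ (up (r' * r' * α z)) = φ (dg r' hr') * φ (up (α z)) * (φ (dg r' hr'))⁻¹ := by
        rw [← map_mul, dg_up, map_mul, mul_inv_cancel_right, sq]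
      rw [← hα, e1, e2, ← hα, ← hx₁]
      group
    have h3 := key 1
    rw [mul_one, h1, mul_one] at h3
    rw [key z, h3]
  have hmul : ∀ y z, α (y * z) = α y * α z := by
    intro y z
    rcases S.isSquare_or y with ⟨r, hr⟩ | ⟨r, hr⟩
    · rw [hr]; exact hsq r z
    · have h2 := hsq r z
      rw [← hr, neg_mul, hneg, hneg, neg_mul, neg_inj] at h2
      exact h2
  let f : F →+* F :=
    { toFun := α, map_one' := h1, map_mul' := hmul, map_zero' := h0, map_add' := hadd }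
  have hbij : Function.Bijective f := Finite.injective_iff_bijective.1 f.injective
  exact ⟨RingEquiv.ofBijective f hbij, fun z => hα z⟩

/-- `A₁ / ⟨t⟩` is abelian -/
theorem A₁_comm (S : RE U a b t φ) [Finite G] [Finite F] {p k : ℕ} [Finite Ω]
    [FaithfulSMul G Ω] (C : CtxE U a b p k) (T : TwoOne.TO U p k a b) {x y : G}
    (hx : x ∈ A₁ a b φ) (hy : y ∈ A₁ a b φ) : x * y * x⁻¹ * y⁻¹ = 1 ∨ x * y * x⁻¹ * y⁻¹ = t := by
  obtain ⟨σ, hσ⟩ := S.exists_ring hx
  obtain ⟨τ, hτ⟩ := S.exists_ring hy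
  have h1 := (mem_A₁.1 hx).1
  have h2 := (mem_A₁.1 hy).1
  refine S.ker_trivial C T (mul_mem (mul_mem (mul_mem h1 h2) (inv_mem h1)) (inv_mem h2)) fun z => ?_
  have hσ' : ∀ z, x⁻¹ * φ (up z) * x = φ (up (σ.symm z)) := by
    intro z
    have := hσ (σ.symm z)
    rw [RingEquiv.apply_symm_apply] at this
    rw [← this]; group
  have hτ' : ∀ z, y⁻¹ * φ (up z) * y = φ (up (τ.symm z)) := by
    intro z
    have := hτ (τ.symm z)
    rw [RingEquiv.apply_symm_apply] at this
    rw [← this]; group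
  have hc : σ (τ (σ.symm (τ.symm z))) = z := by
    have h3 : σ (τ (σ.symm (τ.symm z))) = τ (σ (σ.symm (τ.symm z))) :=
      congrArg (fun f : F ≃+* F => f (σ.symm (τ.symm z)))
        (Cfsg.Agent.Lib.AutSL2Out.ringEquiv_comm σ τ)
    rw [h3, RingEquiv.apply_symm_apply, RingEquiv.apply_symm_apply]
  calc x * y * x⁻¹ * y⁻¹ * φ (up z) * (x * y * x⁻¹ * y⁻¹)⁻¹ =
      x * (y * (x⁻¹ * (y⁻¹ * φ (up z) * y) * x) * y⁻¹) * x⁻¹ := by group
    _ = φ (up z) := by rw [hτ', hσ', hτ, hσ, hc]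

/-! ### The normaliser of the Sylow 2-subgroup -/

theorem exists_K (S : RE U a b t φ) [Finite G] [Finite F] {α β : F} (h : α ^ 2 + β ^ 2 = -1)
    {P : Sylow 2 G} (hP : (P : Subgroup G) = closure {t, ww φ, φ (jm α β h)}) {z : G}
    (hz : z ∈ (P : Subgroup G)) (hz1 : z ≠ 1) :
    ∃ n : G, n * t * n⁻¹ = z ∧ ∀ x : G, (∀ y ∈ (P : Subgroup G), x * y = y * x) →
      n⁻¹ * x * n * x⁻¹ ∈ (P : Subgroup G) := by
  have : Fact (Nat.Prime 2) := ⟨Nat.prime_two⟩
  have hPc : IsMulCommutative P := S.sylow_isMulCommutative P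
  have ht : t ∈ (P : Subgroup G) := by rw [hP]; exact subset_closure (by simp)
  have hw : ww φ ∈ (P : Subgroup G) := by rw [hP]; exact subset_closure (by simp)
  have hj : φ (jm α β h) ∈ (P : Subgroup G) := by rw [hP]; exact subset_closure (by simp)
  set N := normalizer ((P : Subgroup G) : Set G) with hN
  have hNP : ∀ n ∈ N, ∀ y ∈ (P : Subgroup G), n * y * n⁻¹ ∈ (P : Subgroup G) :=
    fun n hn y hy => (mem_normalizer_iff.1 hn y).1 hy
  have hNP' : ∀ n ∈ N, ∀ y ∈ (P : Subgroup G), n⁻¹ * y * n ∈ (P : Subgroup G) := by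
    intro n hn y hy
    have := hNP n⁻¹ (inv_mem hn) y hy
    rwa [inv_inv] at this
  have hNC : ∀ n ∈ N, ∀ x : G, (∀ y ∈ (P : Subgroup G), x * y = y * x) →
      ∀ y ∈ (P : Subgroup G), (n * x * n⁻¹) * y = y * (n * x * n⁻¹) := by
    intro n hn x hx y hy
    have h2 := hx _ (hNP' n hn y hy)
    calc (n * x * n⁻¹) * y = n * (x * (n⁻¹ * y * n)) * n⁻¹ := by group
      _ = y * (n * x * n⁻¹) := by rw [h2]; group
  let X := {s : G // s ∈ (P : Subgroup G) ∧ s ≠ 1}
  let _ : MulAction N X :=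
    { smul := fun n s => ⟨(n : G) * s * (n : G)⁻¹, hNP n n.2 s s.2.1,
        fun hc => s.2.2 (conj_eq_one_iff.1 hc)⟩
      one_smul := fun s => Subtype.ext (by
        change ((1 : N) : G) * (s : G) * ((1 : N) : G)⁻¹ = s
        simp only [_root_.OneMemClass.coe_one, _root_.ne_eq, _root_.one_mul, _root_.inv_one, _root_.mul_one])
      mul_smul := fun m n s => Subtype.ext (by
        change ((m * n : N) : G) * (s : G) * ((m * n : N) : G)⁻¹ =
          (m : G) * ((n : G) * s * (n : G)⁻¹) * (m : G)⁻¹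
        rw [Subgroup.coe_mul]; group) }
  have hsmul : ∀ (n : N) (s : X), ((n • s : X) : G) = (n : G) * s * (n : G)⁻¹ := fun _ _ => rfl
  -- transitivity
  have htr : IsPretransitive N X := by
    refine ⟨fun s s' => ?_⟩
    have hs := S.conj s ((S.syl P).2 s s.2.1) s.2.2
    have hs' := S.conj s' ((S.syl P).2 s' s'.2.1) s'.2.2
    obtain ⟨g, hg⟩ := isConj_iff.1 (hs.symm.trans hs')
    obtain ⟨n, hn, hne⟩ := P.conj_eq_normalizer_conj_of_mem (s : G) g⁻¹ s.2.1 (by
      rw [inv_inv, hg]; exact s'.2.1)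
    rw [inv_inv, hg] at hne
    refine ⟨⟨n⁻¹, inv_mem hn⟩, Subtype.ext ?_⟩
    rw [hsmul, hne]
    simp only [_root_.ne_eq, _root_.inv_inv]
  have h7 : Nat.card X = 7 := by
    have h8 : Nat.card (P : Subgroup G) = 8 := (S.syl P).1
    have e : (P : Subgroup G) ≃ Option X := by
      classical
      refine
        { toFun := fun s => if hs : (s : G) = 1 then none else some ⟨s, s.2, hs⟩
          invFun := fun o => o.elim 1 (fun s => ⟨s, s.2.1⟩)
          left_inv := ?_
          right_inv := ?_ }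
      · intro s
        by_cases hs : (s : G) = 1
        · simp only [hs, ↓ _root_.reduceDIte, _root_.ne_eq, _root_.Option.elim_none]
          exact (Subtype.ext hs : s = 1).symm
        · simp [hs]
      · rintro (_ | s)
        · simp only [_root_.ne_eq, _root_.Option.elim_none, _root_.OneMemClass.coe_one, ↓ _root_.reduceDIte]
        · simp [s.2.2]
    rw [Nat.card_congr e, Finite.card_option] at h8
    omega
  have hprim : IsPreprimitive N X := IsPreprimitive.of_prime_card (by rw [h7]; norm_num)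
  -- the normal subgroup
  let K : Subgroup N :=
    { carrier := {n | ∀ x : G, (∀ y ∈ (P : Subgroup G), x * y = y * x) →
        (n : G) * x * (n : G)⁻¹ * x⁻¹ ∈ (P : Subgroup G)}
      one_mem' := fun x _ => by
        have : ((1 : N) : G) * x * ((1 : N) : G)⁻¹ * x⁻¹ = 1 := by simp
        rw [this]
        exact one_mem _
      mul_mem' := by
        intro m n hm hn x hx
        have h1 := hNP m m.2 _ (hn x hx)
        have h2 := hm x hx
        have h3 : ((m * n : N) : G) * x * ((m * n : N) : G)⁻¹ * x⁻¹ =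
            ((m : G) * ((n : G) * x * (n : G)⁻¹ * x⁻¹) * (m : G)⁻¹) *
              ((m : G) * x * (m : G)⁻¹ * x⁻¹) := by
          rw [Subgroup.coe_mul]; group
        rw [h3]
        exact mul_mem h1 h2
      inv_mem' := by
        intro n hn x hx
        have hx' := hNC _ (inv_mem n.2) x hx
        rw [inv_inv] at hx'
        have h1 := inv_mem (hn _ hx')
        have h3 : ((n⁻¹ : N) : G) * x * ((n⁻¹ : N) : G)⁻¹ * x⁻¹ =
            ((n : G) * ((n : G)⁻¹ * x * (n : G)) * (n : G)⁻¹ * ((n : G)⁻¹ * x * (n : G))⁻¹)⁻¹ := by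
          rw [Subgroup.coe_inv]; group
        rw [h3]
        exact h1 }
  have hKn : K.Normal := by
    refine ⟨fun n hn m x hx => ?_⟩
    have hx' := hNC _ (inv_mem m.2) x hx
    rw [inv_inv] at hx'
    have h1 := hNP m m.2 _ (hn _ hx')
    have h3 : ((m * n * m⁻¹ : N) : G) * x * ((m * n * m⁻¹ : N) : G)⁻¹ * x⁻¹ =
        (m : G) * ((n : G) * ((m : G)⁻¹ * x * (m : G)) * (n : G)⁻¹ * ((m : G)⁻¹ * x * (m : G))⁻¹) *
          (m : G)⁻¹ := by
      simp only [Subgroup.coe_mul, Subgroup.coe_inv]; group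
    rw [h3]
    exact h1
  -- the element of order 3
  set e := φ (em S.two α β h) with he
  have e1 : e * ww φ = φ (jm α β h) * e := by rw [he, ← map_mul, em_wm, map_mul]
  have e2 : e * φ (jm α β h) = ww φ * φ (jm α β h) * e := by
    rw [he, ← map_mul, em_jm, map_mul, map_mul]
  have heN : e ∈ N := by
    apply Rig.mem_normalizer_of_finite
    intro u hu
    have hle : (P : Subgroup G) ≤ ((P : Subgroup G).comap (MulAut.conj e).toMonoidHom) := by
      nth_rw 1 [hP]
      rw [closure_le]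
      rintro y (rfl | rfl | rfl)
      · change e * y * e⁻¹ ∈ (P : Subgroup G)
        rw [he, ← S.comm_range, mul_inv_cancel_right]
        exact ht
      · change e * ww φ * e⁻¹ ∈ (P : Subgroup G)
        rw [e1, mul_inv_cancel_right]
        exact hj
      · change e * φ (jm α β h) * e⁻¹ ∈ (P : Subgroup G)
        rw [e2, mul_inv_cancel_right]
        exact mul_mem hw hj
    exact hle hu
  have heK : (⟨e, heN⟩ : N) ∈ K := by
    intro x hx
    change e * x * e⁻¹ * x⁻¹ ∈ (P : Subgroup G)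
    have htx : t * x = x * t := (hx t ht).symm
    obtain ⟨g, hg⟩ := S.normalises htx (em S.two α β h)⁻¹
    have h1 : e * x * e⁻¹ * x⁻¹ = φ (em S.two α β h * g) := by
      rw [map_mul, ← hg, ← he, map_inv, ← he]; group
    have h2 : ∀ y ∈ (P : Subgroup G), (e * x * e⁻¹ * x⁻¹) * y = y * (e * x * e⁻¹ * x⁻¹) := by
      intro y hy
      have h3 := hNC e heN x hx y hy
      have h4 := hx y hy
      calc (e * x * e⁻¹ * x⁻¹) * y = (e * x * e⁻¹) * x⁻¹ * (y * x) * x⁻¹ := by group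
        _ = (e * x * e⁻¹) * y * x⁻¹ := by rw [← h4]; group
        _ = _ := by rw [h3]; group
    rw [h1] at h2 ⊢
    rcases S.of_comm h (h2 _ hw) (h2 _ hj) with h5 | h5 | h5 | h5 <;> rw [h5]
    · exact one_mem _
    · exact hw
    · exact hj
    · exact mul_mem hw hj
  have hfix : fixedPoints K X ≠ .univ := by
    intro hc
    have h1 : (⟨ww φ, hw, S.ww_ne⟩ : X) ∈ fixedPoints K X := by rw [hc]; exact Set.mem_univ _
    have h2 := congrArg (Subtype.val) (h1 ⟨⟨e, heN⟩, heK⟩)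
    change e * ww φ * e⁻¹ = ww φ at h2
    rw [e1, mul_inv_cancel_right] at h2
    exact S.jm_ne_ww h h2
  have hKtr : IsPretransitive K X := IsQuasiPreprimitive.isPretransitive_of_normal hfix
  obtain ⟨n, hn⟩ := hKtr.exists_smul_eq (⟨t, ht, S.t_ne⟩ : X) ⟨z, hz, hz1⟩
  refine ⟨((n : N) : G), congrArg Subtype.val hn, fun x hx => ?_⟩
  have := (inv_mem n.2 : (n : N)⁻¹ ∈ K) x hx
  rw [Subgroup.coe_inv, inv_inv] at this
  exact this

end RE

end Cfsg.Agent.HKS.ReeEnd
end

-- part: HKS/ReeGoalOf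
section
/-!
# Goal 6 from centrality, the Sylow 2-subgroup and the Ree end
-/

set_option autoImplicit false

namespace Cfsg.Agent.HKS

open Subgroup MulAction SLCoord

/-- The Sylow 2-subgroups of `G` are elementary abelian of order 8. -/
def ReeSylowStmt.{v} : Prop := ∀ (G Ω : Type v) [Group G] [Finite G] [MulAction G Ω]
  [FaithfulSMul G Ω] [Finite Ω] (U : Ω → Subgroup G) (a b : Ω) (p k : ℕ), CtxE U a b p k →
  RankOneD G a b → ∀ t ∈ Dab G a b, t ≠ 1 → t * t = 1 → ∀ (F : Type) [Field F] [Fintype F]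
  (φ : Matrix.SpecialLinearGroup (Fin 2) F →* G), SLX U (zpowers t) a b φ →
  Odd (Fintype.card F) → φ (-1) = 1 →
  ∃ P : Sylow 2 G, Nat.card P = 8 ∧ ∀ x ∈ P, x * x = 1

/-- The Ree end. -/
def ReeEndStmt.{v} : Prop := ∀ (G Ω : Type v) [Group G] [Finite G] [MulAction G Ω]
  [FaithfulSMul G Ω] [Finite Ω] (U : Ω → Subgroup G) (a b : Ω) (p k : ℕ), CtxE U a b p k →
  RankOneD G a b → ∀ t ∈ Dab G a b, t ≠ 1 → t * t = 1 → t ∉ genFix U (zpowers t) →
  (∀ d ∈ Dab G a b, t * d = d * t) → ∀ (F : Type) [Field F] [Fintype F]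
  (φ : Matrix.SpecialLinearGroup (Fin 2) F →* G), SLX U (zpowers t) a b φ →
  (∀ S : Sylow 2 G, Nat.card S = 8 ∧ ∀ x ∈ S, x * x = 1) → ∃ n, TR U a b n

theorem sylow_all {G : Type*} [Group G] [Finite G]
    (h : ∃ P : Sylow 2 G, Nat.card P = 8 ∧ ∀ x ∈ P, x * x = 1) (S : Sylow 2 G) :
    Nat.card S = 8 ∧ ∀ x ∈ S, x * x = 1 := by
  obtain ⟨P, hP, hPx⟩ := h
  obtain ⟨g, rfl⟩ := MulAction.exists_smul_eq G P S
  constructor
  · rw [← hP]
    exact (Nat.card_congr (P.equivSMul g).toEquiv).symm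
  · intro x hx
    have h1 : x ∈ ((g • P : Sylow 2 G) : Subgroup G) := hx
    rw [Sylow.smul_def, Sylow.pointwise_smul_def] at h1
    obtain ⟨y, hy, rfl⟩ := (mem_smul_pointwise_iff_exists x _ _).1 h1
    rw [← smul_mul', hPx y hy, smul_one]

/-- **Goal 6** from the three statements. -/
theorem goalRee_of.{v} (hc : CentralStmt.{v}) (hs : ReeSylowStmt.{v}) (he : ReeEndStmt.{v}) :
    GoalRee.{v} := by
  intro G Ω _ _ _ _ _ U a b p k C R t ht ht1 ht2 htM
  have hcent := hc G Ω U a b p k C R t ht ht1 ht2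
  obtain ⟨F, i1, i2, hodd, φ, S⟩ := Head.exists_slx C R ht ht1 ht2
  have hneg := Head.neg_eq_one C R ht ht1 ht2 S htM
  have hS := sylow_all (hs G Ω U a b p k C R t ht ht1 ht2 F φ S hodd hneg)
  exact Or.inr (Or.inr (Or.inr (he G Ω U a b p k C R t ht ht1 ht2 htM hcent F φ S hS)))

end Cfsg.Agent.HKS
end

private theorem dce_09c9b0416e4b : _root_.True := by
  try have : _root_.True := by simp only [_root_.Cfsg.Agent.HKS.ReeEnd.jm.congr_simp]
  try have : _root_.True := by simp only [_root_.Cfsg.Agent.HKS.ReeEnd.em.eq_1]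
  try have : _root_.True := by simp only [_root_.Cfsg.Agent.HKS.ReeEnd.A₁.eq_1]
  exact _root_.True.intro
end

-- part: HKS/GoalRee
section
prune_inst 0xd02023040000020000180000000000000000000000000000002000000100004808000001200000001000000000000000000000000000000000000000000000000000000000400000020008000000000000000000000000000000000000000000000000000
set_option linter.all false
open scoped Cfsg.Agent.FastGrp

-- part: HKS/ReeEnd5
section
/-!
# Strongly split groups with `C_G(t) ≥ ⟨t⟩ × PSL(2,q)`: transfer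

If `A₁ ≠ ⟨t⟩` there are an odd prime `ℓ` dividing `|D|` and `ζ : C(t) → μ_ℓ`, trivial on `L⟨t⟩`, nontrivial on `A₁`; by
transfer `ℓ` divides `|G : C(t)| = q² (q² - q + 1)`.
-/

set_option autoImplicit false

namespace Cfsg.Agent.HKS.ReeEnd

open Subgroup MulAction Cfsg.Agent.HKS
open Cfsg.Agent.Lib.SL2Mat

/-- a nontrivial character of prime order -/
theorem exists_prime_char (Q : Type*) [CommGroup Q] [Finite Q] [Nontrivial Q] :
    ∃ (l : ℕ) (χ : Q →* ℂˣ), l.Prime ∧ χ ≠ 1 ∧ ∀ x, χ x ^ l = 1 := by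
  obtain ⟨l, hl, hdvd⟩ := Nat.exists_prime_and_dvd (Finite.one_lt_card (α := Q)).ne'
  have : Fact l.Prime := ⟨hl⟩
  obtain ⟨x, hx⟩ := exists_prime_orderOf_dvd_card' l hdvd
  set R : Subgroup Q := (powMonoidHom l : Q →* Q).range with hR
  have hR1 : R ≠ ⊤ := by
    intro hc
    have h1 : Function.Surjective (powMonoidHom l : Q →* Q) := MonoidHom.range_eq_top.1 hc
    have h2 := Finite.injective_iff_surjective.2 h1
    have h3 : x = 1 := h2 (by
      rw [map_one, powMonoidHom_apply, ← hx, pow_orderOf_eq_one])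
    rw [h3, orderOf_one] at hx
    exact hl.one_lt.ne hx
  have hnt : Nontrivial (Q ⧸ R) := by
    obtain ⟨y, hy⟩ : ∃ y, y ∉ R := by
      by_contra hc
      push Not at hc
      exact hR1 (eq_top_iff.2 fun y _ => hc y)
    exact ⟨⟨(y : Q ⧸ R), 1, fun hc => hy ((QuotientGroup.eq_one_iff y).1 hc)⟩⟩
  obtain ⟨θ, hθ⟩ := LinTriv.exists_hom_ne_one (Q ⧸ R)
  refine ⟨l, θ.comp (QuotientGroup.mk' R), hl, fun hc => hθ ?_, fun y => ?_⟩
  · refine MonoidHom.ext fun y => ?_
    obtain ⟨y, rfl⟩ := QuotientGroup.mk'_surjective _ y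
    have := DFunLike.congr_fun hc y
    rw [MonoidHom.comp_apply] at this
    rw [this, MonoidHom.one_apply, MonoidHom.one_apply]
  · rw [← map_pow, MonoidHom.comp_apply]
    have e : (QuotientGroup.mk' R) (y ^ l) = 1 :=
      (QuotientGroup.eq_one_iff _).2 ⟨y, powMonoidHom_apply l y⟩
    rw [e, map_one]

/-- the index of the centraliser of `t` -/
theorem index_centralizer {G : Type*} [Group G] [Finite G] (t : G) :
    (centralizer ({t} : Set G)).index = Nat.card {s : G // IsConj t s} := by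
  rw [Subgroup.index]
  refine Nat.card_congr (Equiv.ofBijective
    (Quotient.lift (s := QuotientGroup.leftRel (centralizer ({t} : Set G)))
      (fun g => (⟨g * t * g⁻¹, isConj_iff.2 ⟨g, rfl⟩⟩ : {s : G // IsConj t s})) ?_) ⟨?_, ?_⟩)
  · intro g k hgk
    have h1 : g⁻¹ * k ∈ centralizer ({t} : Set G) := QuotientGroup.leftRel_apply.1 hgk
    rw [mem_centralizer_singleton_iff] at h1
    apply Subtype.ext
    change g * t * g⁻¹ = k * t * k⁻¹
    calc g * t * g⁻¹ = g * (t * (g⁻¹ * k)) * k⁻¹ := by group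
      _ = k * t * k⁻¹ := by rw [← h1]; group
  · intro x y hxy
    induction x using QuotientGroup.induction_on with
    | H g =>
      induction y using QuotientGroup.induction_on with
      | H k =>
        have h1 : g * t * g⁻¹ = k * t * k⁻¹ := congrArg Subtype.val hxy
        apply QuotientGroup.eq.2
        rw [mem_centralizer_singleton_iff]
        calc g⁻¹ * k * t = g⁻¹ * (k * t * k⁻¹) * k := by group
          _ = t * (g⁻¹ * k) := by rw [← h1]; group
  · rintro ⟨s, hs⟩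
    obtain ⟨g, rfl⟩ := isConj_iff.1 hs
    exact ⟨(g : G ⧸ centralizer ({t} : Set G)), rfl⟩

namespace RE

variable {G Ω F : Type*} [Group G] [MulAction G Ω] [Field F] {U : Ω → Subgroup G} {a b : Ω}
  {t : G} {φ : Matrix.SpecialLinearGroup (Fin 2) F →* G}

theorem mem_cent {x : G} : x ∈ centralizer ({t} : Set G) ↔ t * x = x * t := by
  rw [mem_centralizer_singleton_iff]
  exact eq_comm

theorem A₁_le_cent (S : RE U a b t φ) {x : G} (hx : x ∈ A₁ a b φ) :
    x ∈ centralizer ({t} : Set G) := mem_cent.2 (S.comm_A₁ hx)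

theorem Dab_le_cent (S : RE U a b t φ) : Dab G a b ≤ centralizer ({t} : Set G) :=
  fun _ hx => mem_cent.2 (S.comm_D hx)

/-- elements of `C(x)`, `x ∈ A₁` of odd order, fusing the involutions of `P` -/
theorem fuse_odd (S : RE U a b t φ) [Finite G] [Finite F] {α β : F} (h : α ^ 2 + β ^ 2 = -1)
    (hA : ∀ x ∈ A₁ a b φ, x * φ (jm α β h) * x⁻¹ = φ (jm α β h))
    {P : Sylow 2 G} (hP : (P : Subgroup G) = _root_.Subgroup.closure {t, ww φ, φ (jm α β h)}) {x : G}
    (hx : x ∈ A₁ a b φ) {m : ℕ} (hm : Odd m) (hxm : x ^ m = 1) :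
    (P : Subgroup G) ≤ centralizer ({x} : Set G) ∧
    ∀ s ∈ (P : Subgroup G), s ≠ 1 → s * s = 1 →
      ∃ n ∈ centralizer ({x} : Set G), n * t * n⁻¹ = s := by
  have h1 : (P : Subgroup G) ≤ centralizer {x} := by
    rw [hP, closure_le]
    rintro y (rfl | rfl | rfl)
    · rw [SetLike.mem_coe, mem_centralizer_singleton_iff]; exact S.comm_A₁ hx
    · rw [SetLike.mem_coe, mem_centralizer_singleton_iff]; exact (mem_A₁.1 hx).2.symm
    · rw [SetLike.mem_coe, mem_centralizer_singleton_iff]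
      have := hA x hx
      rw [mul_inv_eq_iff_eq_mul] at this
      exact this.symm
  have hxP : ∀ y ∈ (P : Subgroup G), x * y = y * x := by
    intro y hy
    have := h1 hy
    rw [mem_centralizer_singleton_iff] at this
    exact this.symm
  refine ⟨h1, fun s hs hs1 _ => ?_⟩
  obtain ⟨n, hn, hn2⟩ := S.exists_K h hP hs hs1
  have h2 := hn2 x hxP
  refine ⟨n, ?_, hn⟩
  obtain ⟨s', hs'⟩ : ∃ s', s' = n⁻¹ * x * n * x⁻¹ := ⟨_, rfl⟩
  rw [← hs'] at h2
  have h3 : n⁻¹ * x * n = s' * x := by rw [hs']; group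
  have h4 : Commute s' x := (hxP s' h2).symm
  have h5 : s' = 1 := by
    have h6 : (s' * x) ^ m = 1 := by
      rw [← h3]
      have : n⁻¹ * x * n = n⁻¹ * x * (n⁻¹)⁻¹ := by rw [inv_inv]
      rw [this, conj_pow, hxm]; group
    rw [h4.mul_pow, hxm, mul_one] at h6
    obtain ⟨j, rfl⟩ := hm
    rwa [pow_succ, pow_mul, sq, (S.syl P).2 s' h2, one_pow, one_mul] at h6
  rw [h5, one_mul] at h3
  rw [mem_centralizer_singleton_iff]
  calc n * x = n * (n⁻¹ * x * n) := by rw [h3]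
    _ = x * n := by group

/-- the subgroup `L⟨t⟩` of `C(t)` -/
def N₁ (S : RE U a b t φ) : Subgroup (centralizer ({t} : Set G)) where
  carrier := {c | ∃ x, (c : G) = φ x ∨ (c : G) = t * φ x}
  one_mem' := ⟨1, Or.inl (by rw [map_one]; rfl)⟩
  mul_mem' := by
    rintro c d ⟨x, hx⟩ ⟨y, hy⟩
    refine ⟨x * y, ?_⟩
    rw [map_mul, Subgroup.coe_mul]
    rcases hx with hx | hx <;> rcases hy with hy | hy <;> rw [hx, hy]
    · left; rfl
    · right; rw [← mul_assoc, ← S.comm_range, mul_assoc]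
    · right; rw [mul_assoc]
    · left
      calc t * φ x * (t * φ y) = t * (φ x * t) * φ y := by group
        _ = (t * t) * (φ x * φ y) := by rw [← S.comm_range]; group
        _ = φ x * φ y := by rw [S.t_sq, one_mul]
  inv_mem' := by
    rintro c ⟨x, hx⟩
    refine ⟨x⁻¹, ?_⟩
    rw [Subgroup.coe_inv]
    rcases hx with hx | hx <;> rw [hx]
    · left; rw [map_inv]
    · right
      rw [mul_inv_rev, S.t_inv, ← map_inv, S.comm_range]

theorem N₁_normal (S : RE U a b t φ) : (S.N₁).Normal := by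
  refine ⟨fun c hc g => ?_⟩
  obtain ⟨x, hx⟩ := hc
  have hg := mem_cent.1 g.2
  obtain ⟨y, hy⟩ := S.normalises hg x
  refine ⟨y, ?_⟩
  rw [Subgroup.coe_mul, Subgroup.coe_mul, Subgroup.coe_inv]
  rcases hx with hx | hx <;> rw [hx]
  · left; exact hy
  · right
    calc (g : G) * (t * φ x) * (g : G)⁻¹ = ((g : G) * t) * φ x * (g : G)⁻¹ := by group
      _ = t * ((g : G) * φ x * (g : G)⁻¹) := by rw [← hg]; group
      _ = _ := by rw [hy]

/-- **the character `ζ`** -/
theorem exists_zeta (S : RE U a b t φ) [Finite G] [Finite F] {p k : ℕ} [Finite Ω]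
    [FaithfulSMul G Ω] (C : CtxE U a b p k) (T : TwoOne.TO U p k a b) {x₀ : G}
    (hx₀ : x₀ ∈ A₁ a b φ) (h1 : x₀ ≠ 1) (ht : x₀ ≠ t) :
    ∃ (l : ℕ) (ζ : centralizer ({t} : Set G) →* ℂˣ), l.Prime ∧ (∀ x, ζ x ^ l = 1) ∧
      (∀ x (hx : φ x ∈ centralizer ({t} : Set G)), ζ ⟨φ x, hx⟩ = 1) ∧
      (∀ hx : t ∈ centralizer ({t} : Set G), ζ ⟨t, hx⟩ = 1) ∧
      ∃ y, ∃ hy : y ∈ A₁ a b φ, ζ ⟨y, S.A₁_le_cent hy⟩ ≠ 1 := by
  have hn := S.N₁_normal
  -- every element of the quotient comes from `A₁`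
  have hrep : ∀ c : centralizer ({t} : Set G), ∃ y, ∃ hy : y ∈ A₁ a b φ,
      (QuotientGroup.mk' S.N₁) c = (QuotientGroup.mk' S.N₁) ⟨y, S.A₁_le_cent hy⟩ := by
    intro c
    obtain ⟨x, y, hy, he⟩ := S.exists_mul_A₁ (mem_cent.1 c.2)
    refine ⟨y, hy, ?_⟩
    have h2 : c = (⟨φ x, mem_cent.2 (S.comm_range x)⟩ : centralizer ({t} : Set G)) *
        ⟨y, S.A₁_le_cent hy⟩ := Subtype.ext he
    have e : (QuotientGroup.mk' S.N₁) (⟨φ x, mem_cent.2 (S.comm_range x)⟩ :
        centralizer ({t} : Set G)) = 1 := (QuotientGroup.eq_one_iff _).2 ⟨x, Or.inl rfl⟩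
    rw [h2, map_mul, e, one_mul]
  have hcomm : ∀ c d : centralizer ({t} : Set G) ⧸ S.N₁, c * d = d * c := by
    intro c d
    obtain ⟨c, rfl⟩ := QuotientGroup.mk'_surjective _ c
    obtain ⟨d, rfl⟩ := QuotientGroup.mk'_surjective _ d
    obtain ⟨x, hx, hcx⟩ := hrep c
    obtain ⟨y, hy, hdy⟩ := hrep d
    rw [hcx, hdy, ← map_mul, ← map_mul]
    have h2 := S.A₁_comm C T hx hy
    have h3 : (⟨x, S.A₁_le_cent hx⟩ : centralizer ({t} : Set G)) * ⟨y, S.A₁_le_cent hy⟩ =
        (⟨x, S.A₁_le_cent hx⟩ * ⟨y, S.A₁_le_cent hy⟩ * ⟨x, S.A₁_le_cent hx⟩⁻¹ *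
          ⟨y, S.A₁_le_cent hy⟩⁻¹) * (⟨y, S.A₁_le_cent hy⟩ * ⟨x, S.A₁_le_cent hx⟩) := by group
    have h4 : ((⟨x, S.A₁_le_cent hx⟩ : centralizer ({t} : Set G)) * ⟨y, S.A₁_le_cent hy⟩ *
        ⟨x, S.A₁_le_cent hx⟩⁻¹ * ⟨y, S.A₁_le_cent hy⟩⁻¹) ∈ S.N₁ := by
      refine ⟨1, ?_⟩
      rw [map_one, mul_one]
      exact h2
    have e := (QuotientGroup.eq_one_iff _).2 h4
    rw [h3, map_mul _ (_ * _ * _ * _)]
    change ((_ : centralizer ({t} : Set G) ⧸ S.N₁)) * _ = _
    rw [show (QuotientGroup.mk' S.N₁) ((⟨x, S.A₁_le_cent hx⟩ : centralizer ({t} : Set G)) *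
      ⟨y, S.A₁_le_cent hy⟩ * ⟨x, S.A₁_le_cent hx⟩⁻¹ * ⟨y, S.A₁_le_cent hy⟩⁻¹) = 1 from e, one_mul]
  let _ : CommGroup (centralizer ({t} : Set G) ⧸ S.N₁) := { mul_comm := hcomm }
  have hnt : Nontrivial (centralizer ({t} : Set G) ⧸ S.N₁) := by
    refine ⟨⟨(QuotientGroup.mk' S.N₁) ⟨x₀, S.A₁_le_cent hx₀⟩, 1, fun hc => ?_⟩⟩
    obtain ⟨x, hx⟩ := (QuotientGroup.eq_one_iff _).1 hc
    change x₀ = φ x ∨ x₀ = t * φ x at hx
    have h2 : φ x ∈ A₁ a b φ := by
      rcases hx with hx | hx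
      · rw [← hx]; exact hx₀
      · have : φ x = t⁻¹ * x₀ := by rw [hx]; group
        rw [this]
        exact mul_mem (inv_mem S.t_mem_A₁) hx₀
    rw [S.A₁_range h2, mul_one] at hx
    rcases hx with hx | hx
    · exact h1 hx
    · exact ht hx
  obtain ⟨l, χ, hl, hχ, hχl⟩ := exists_prime_char (centralizer ({t} : Set G) ⧸ S.N₁)
  refine ⟨l, χ.comp (QuotientGroup.mk' S.N₁), hl, fun x => hχl _, fun x hx => ?_, fun hx => ?_, ?_⟩
  · have e : (QuotientGroup.mk' S.N₁) (⟨φ x, hx⟩ : centralizer ({t} : Set G)) = 1 :=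
      (QuotientGroup.eq_one_iff _).2 ⟨x, Or.inl rfl⟩
    rw [MonoidHom.comp_apply, e, map_one]
  · have e : (QuotientGroup.mk' S.N₁) (⟨t, hx⟩ : centralizer ({t} : Set G)) = 1 :=
      (QuotientGroup.eq_one_iff _).2 ⟨1, Or.inr (by rw [map_one, mul_one])⟩
    rw [MonoidHom.comp_apply, e, map_one]
  · by_contra hc
    push Not at hc
    apply hχ
    refine MonoidHom.ext fun c => ?_
    obtain ⟨c, rfl⟩ := QuotientGroup.mk'_surjective _ c
    obtain ⟨y, hy, hcy⟩ := hrep c
    rw [hcy]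
    have := hc y hy
    rw [MonoidHom.comp_apply] at this
    rw [this, MonoidHom.one_apply]

/-- **transfer** -/
theorem dvd_index (S : RE U a b t φ) [Finite G] [Finite F] {p k : ℕ} [Finite Ω]
    [FaithfulSMul G Ω] (C : CtxE U a b p k) {l : ℕ} (hl : l.Prime)
    {ζ : centralizer ({t} : Set G) →* ℂˣ} (hζl : ∀ x, ζ x ^ l = 1)
    (hζt : ∀ hx : t ∈ centralizer ({t} : Set G), ζ ⟨t, hx⟩ = 1) {y : G} (hy : y ∈ A₁ a b φ)
    (hζy : ζ ⟨y, S.A₁_le_cent hy⟩ ≠ 1) :
    l ∣ Nat.card (Dab G a b) ∧ Odd l ∧ l ∣ (centralizer ({t} : Set G)).index := by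
  have : Fact l.Prime := ⟨hl⟩
  have hord : orderOf (ζ ⟨y, S.A₁_le_cent hy⟩) = l :=
    orderOf_eq_prime (hζl _) hζy
  have hyD := (mem_A₁.1 hy).1
  -- `l ∣ orderOf y`
  have hly : ∀ m, y ^ m = 1 → l ∣ m := by
    intro m hm
    rw [← hord]
    apply orderOf_dvd_of_pow_eq_one
    rw [← map_pow]
    have : (⟨y, S.A₁_le_cent hy⟩ : centralizer ({t} : Set G)) ^ m = 1 := Subtype.ext hm
    rw [this, map_one]
  have h1 : l ∣ Nat.card (Dab G a b) := by
    apply hly
    have := pow_card_eq_one' (x := (⟨y, hyD⟩ : Dab G a b))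
    exact congrArg Subtype.val this
  obtain ⟨m, hm, hmt⟩ := S.D_pow hyD
  have hlm : l ∣ m := by
    rw [← hord]
    apply orderOf_dvd_of_pow_eq_one
    rw [← map_pow]
    rcases hmt with h2 | h2
    · have : (⟨y, S.A₁_le_cent hy⟩ : centralizer ({t} : Set G)) ^ m = 1 := Subtype.ext h2
      rw [this, map_one]
    · have : (⟨y, S.A₁_le_cent hy⟩ : centralizer ({t} : Set G)) ^ m =
        ⟨t, mem_cent.2 rfl⟩ := Subtype.ext h2
      rw [this, hζt]
  have hlo : Odd l := hm.of_dvd_nat hlm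
  refine ⟨h1, hlo, ?_⟩
  by_contra hind
  -- the `l`-part of `y`
  obtain ⟨e, m', hm', he⟩ := Nat.exists_eq_pow_mul_and_not_dvd (orderOf_pos y).ne' l hl.ne_one
  have hg : y ^ m' ∈ A₁ a b φ := pow_mem hy m'
  have hgo : (y ^ m') ^ l ^ e = 1 := by
    rw [← pow_mul, mul_comm, ← he, pow_orderOf_eq_one]
  obtain ⟨α, β, h, hA⟩ := S.exists_jm
  obtain ⟨P, hP⟩ := S.exists_sylow h
  obtain ⟨h3, h4⟩ := S.fuse_odd h hA hP hg (hlo.pow) hgo
  let ζ' : centralizer ({t} : Set G) →* rootsOfUnity l ℂ :=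
    ζ.codRestrict (rootsOfUnity l ℂ) (fun x => (mem_rootsOfUnity _ _).2 (hζl x))
  have hG : ∀ f : G →* rootsOfUnity l ℂ, f = 1 := by
    intro f
    have hker : (⨆ c, U c) ≤ f.ker := by
      refine iSup_le fun c u hu => ?_
      rw [MonoidHom.mem_ker]
      have hc : Nat.card (U c) = p ^ k := by
        rw [← C.cardU]
        have e1 := C.split.card a
        have e2 := C.split.card c
        omega
      have h5 : f u ^ (p ^ k) = 1 := by
        rw [← map_pow, ← hc]
        have := pow_card_eq_one' (x := (⟨u, hu⟩ : U c))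
        have h6 : u ^ Nat.card (U c) = 1 := congrArg Subtype.val this
        rw [h6, map_one]
      have h6 : f u ^ l = 1 := by
        apply Subtype.ext
        exact (mem_rootsOfUnity _ _).1 (f u).2
      have hcop : Nat.Coprime (p ^ k) l := by
        apply Nat.Coprime.pow_left
        rw [Nat.coprime_primes C.prime hl]
        rintro rfl
        exact C.split.not_dvd_Dab C.gen C.ne C.prime C.p_ne_two C.cardU h1
      have h7 := Nat.dvd_gcd (orderOf_dvd_of_pow_eq_one h5) (orderOf_dvd_of_pow_eq_one h6)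
      rw [hcop, Nat.dvd_one] at h7
      exact orderOf_eq_one_iff.1 h7
    rw [C.gen] at hker
    ext x : 1
    exact hker (mem_top x)
  have h5 := Cfsg.Agent.Walter.NoFieldTransfer.eq_one (S := P) (t := t) hG
    (orderOf_eq_prime (by rw [sq]; exact S.t_sq) S.t_ne) ζ' (S.A₁_le_cent hg) h3 h4 hl
    (by
      obtain ⟨j, -, hj⟩ := (Nat.dvd_prime_pow hl).1 (orderOf_dvd_of_pow_eq_one hgo)
      exact ⟨j, hj⟩) hind
  have h6 : ζ ⟨y ^ m', S.A₁_le_cent hg⟩ = 1 := congrArg Subtype.val h5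
  have h7 : ζ ⟨y, S.A₁_le_cent hy⟩ ^ m' = 1 := by
    rw [← map_pow]
    exact h6
  apply hm'
  rw [← hord]
  exact orderOf_dvd_of_pow_eq_one h7

/-- **the numerical consequence** -/
theorem dvd_num (S : RE U a b t φ) [Finite G] [Finite F] {p k : ℕ} [Finite Ω]
    [FaithfulSMul G Ω] (C : CtxE U a b p k) {l : ℕ} (hl : l.Prime)
    {ζ : centralizer ({t} : Set G) →* ℂˣ} (hζl : ∀ x, ζ x ^ l = 1)
    (hζt : ∀ hx : t ∈ centralizer ({t} : Set G), ζ ⟨t, hx⟩ = 1) {y : G} (hy : y ∈ A₁ a b φ)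
    (hζy : ζ ⟨y, S.A₁_le_cent hy⟩ ≠ 1) :
    l ∣ Nat.card F ^ 2 + 1 - Nat.card F := by
  obtain ⟨h1, -, h2⟩ := S.dvd_index C hl hζl hζt hy hζy
  rw [index_centralizer, S.card_U.2] at h2
  rcases (Nat.Prime.dvd_mul hl).1 h2 with h3 | h3
  · exfalso
    have h4 : l ∣ Nat.card (U a) := by
      rw [S.card_U.1]
      exact (hl.dvd_of_dvd_pow h3).trans (dvd_pow_self _ three_ne_zero)
    rw [C.cardU] at h4
    have h5 := hl.dvd_of_dvd_pow h4
    rw [Nat.prime_dvd_prime_iff_eq hl C.prime] at h5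
    rw [h5] at h1
    exact C.split.not_dvd_Dab C.gen C.ne C.prime C.p_ne_two C.cardU h1
  · exact h3

end RE

end Cfsg.Agent.HKS.ReeEnd
end

-- part: HKS/LinHecke
section
/-!
# Linear characters of `W`: the Hecke relation

The eigenvalue `x` of a constituent satisfies `∑ λ(μ_u) = N x - x⁻¹` (`u ∈ Q ∖ {1}`). Hence, with the `X`, `Y` of
`LinChar.exists_psi`, `∑ λ(μ_u) = X - Y`; if `λ` has prime order `l` then `l` divides `(X + 1) (Y - 1)`.
-/

set_option autoImplicit false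
set_option linter.unusedSectionVars false

open Cfsg Representation

namespace Cfsg.Agent.HKS.LinHecke

open LinChar Characters.Core Characters.Linear Subgroup MulAction

section hecke

variable {G : Type*} [Group G] {B Q D W : Subgroup G} {w : G}
variable {V : Type*} [AddCommGroup V] [Module ℂ V]

theorem hecke {h : RankOne B Q D W w} [Fintype Q] [Fintype {u : Q // u ≠ 1}]
    {ρ : Representation ℂ G V} {lam : W →* ℂˣ} {φ : (Fin 1 → ℂ) →ₗ[ℂ] V}
    (H : FixRep h ρ (repOfHom lam) φ) {x : ℂ} (hx0 : x ≠ 0)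
    (hx : ∀ w' (hw' : w' ∈ W), w' ∉ D → ∀ y,
      avg ρ Q (ρ w' (φ y)) = x • φ (repOfHom lam ⟨w', hw'⟩ y)) :
    ∑ u : {u : Q // u ≠ 1}, (lam (pr h (w * (u.1 : G) * w⁻¹)) : ℂ) = Nat.card Q * x - x⁻¹ := by
  classical
  have hY : (repOfHom lam).character 1 ≠ 0 := by
    rw [character_repOfHom]
    simp
  obtain ⟨y, hy⟩ := H.exists_ne hY
  have hN : (Nat.card Q : ℂ) ≠ 0 := card_ne
  let m : {u : Q // u ≠ 1} → W := fun u => pr h (w * (u.1 : G) * w⁻¹)
  have hmD : ∀ u, (m u : G) ∉ D := by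
    intro u hc
    exact h.not_mem_of_Q' u.1.2 (fun hc' => u.2 (Subtype.ext hc')) ((pr_mem_D h _).1 hc)
  have hmu' : ∀ u : {u : Q // u ≠ 1}, ∃ u₁ ∈ Q, ∃ u₂ ∈ Q, w * (u.1 : G) * w⁻¹ = u₁ * m u * u₂ :=
    fun u => pr_spec h _
  choose u₁ hu₁ u₂ hu₂ hmu using hmu'
  have h1 := FixRep.avg_w_avg hx h y
  have h2 : avg ρ Q (ρ w (avg ρ Q (ρ w⁻¹ (φ y)))) =
      (Nat.card Q : ℂ)⁻¹ • ∑ u : Q, avg ρ Q (ρ (w * u * w⁻¹) (φ y)) := by
    rw [avg_apply ρ (ρ w⁻¹ (φ y)), map_smul, map_smul, map_sum, map_sum]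
    congr 1
    refine Finset.sum_congr rfl fun u _ => ?_
    rw [rr, rr, mul_assoc]
  rw [h2] at h1
  have h3 : ∑ u : Q, avg ρ Q (ρ (w * u * w⁻¹) (φ y)) =
      φ y + (x * ∑ u, (lam (m u) : ℂ)) • φ y := by
    rw [← Finset.add_sum_erase _ _ (Finset.mem_univ (1 : Q))]
    congr 1
    · rw [OneMemClass.coe_one, mul_one, mul_inv_cancel, map_one, Module.End.one_apply,
        H.avg_phi]
    · rw [Finset.mul_sum, Finset.sum_smul]
      symm
      refine Finset.sum_bij (fun u _ => u.1) (fun u _ => by simp only [u.2, _root_.ne_eq, _root_.Finset.mem_erase, _root_.not_false_eq_true, _root_.Finset.mem_univ, _root_.and_self])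
        (fun a _ b _ hab => Subtype.ext hab) (fun b hb => ⟨⟨b, by simpa only [_root_.ne_eq, _root_.Finset.mem_erase, _root_.Finset.mem_univ, _root_.and_true] using hb⟩, by simp only [_root_.ne_eq, _root_.Finset.mem_univ, _root_.exists_const]⟩)
        (fun u _ => ?_)
      rw [hmu u, ← rr ρ _ (u₂ u), H.fixQ _ (hu₂ u), ← rr ρ (u₁ u), avg_rho ρ _ (hu₁ u),
        hx (m u) (m u).2 (hmD u)]
      have : repOfHom lam ⟨(m u : G), (m u).2⟩ y = (lam (m u) : ℂ) • y := by
        rw [repOfHom_apply]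
        rfl
      rw [this, map_smul, smul_smul]
  rw [h3] at h1
  have h4 : ((Nat.card Q : ℂ) * x ^ 2) • φ y = (1 + x * ∑ u, (lam (m u) : ℂ)) • φ y := by
    rw [mul_smul, ← h1, smul_inv_smul₀ hN, add_smul, one_smul]
  have h5 : (Nat.card Q : ℂ) * x ^ 2 = 1 + x * ∑ u, (lam (m u) : ℂ) := smul_left_injective ℂ hy h4
  apply mul_left_cancel₀ hx0
  rw [mul_sub, mul_inv_cancel₀ hx0]
  linear_combination -h5

/-- The data of one constituent. -/
theorem constituent {h : RankOne B Q D W w} [Fintype G] [Fintype Q] [Fintype {u : Q // u ≠ 1}]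
    (hnc : Subgroup.normalClosure (Q : Set G) = ⊤) {lam : W →* ℂˣ} {n : ℕ}
    {ρ : Representation ℂ G (Fin n → ℂ)} {φ : (Fin 1 → ℂ) →ₗ[ℂ] (Fin n → ℂ)}
    (H : FixRep h ρ (Characters.Linear.repOfHom lam) φ) (hρ : ρ.IsIrreducible)
    {d : G} (hd : d ∈ D) (hlam : lam ⟨d, h.DW hd⟩ ≠ 1) :
    1 < n ∧ ∃ x : ℂ, x ≠ 0 ∧ IsIntegral ℤ ((Nat.card Q : ℂ) * x) ∧ IsIntegral ℤ x⁻¹ ∧
      (n : ℂ) * (1 + Nat.card Q * x ^ 2) = Nat.card Q + 1 ∧
      (∀ g, (Nat.card B : ℂ) * (1 + Nat.card Q * x ^ 2) * ρ.character g =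
        S₀ h (fun m => (lam m : ℂ)) g + x * S₁ h (fun m => (lam m : ℂ)) g) ∧
      ∑ u : {u : Q // u ≠ 1}, (lam (pr h (w * (u.1 : G) * w⁻¹)) : ℂ) = Nat.card Q * x - x⁻¹ := by
  have hirr : IsIrrCharacter G ρ.character := ⟨n, ρ, hρ, rfl⟩
  have hn : ρ.character 1 = n := by rw [Representation.char_one]; simp only [_root_.Module.finrank_fintype_fun_eq_card, _root_.Fintype.card_fin]
  have h1 : n ≠ 1 := by
    rintro rfl
    exact hlam (one_of_deg_one hnc H (by rw [hn]; simp) hd)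
  have h0 : n ≠ 0 := by
    rintro rfl
    exact Characters.Core.isIrr_apply_one_ne_zero hirr (by rw [hn]; simp)
  have hY : (Characters.Linear.repOfHom lam).character 1 ≠ 0 := by
    rw [Characters.Linear.character_repOfHom]
    simp
  have hY' : (Characters.Linear.repOfHom lam).character 1 = 1 := by
    rw [Characters.Linear.character_repOfHom]
    simp
  obtain ⟨x, hx⟩ := H.exists_scalar
  obtain ⟨hx0, hx1, hx2⟩ := H.integral hx hY
  refine ⟨by omega, x, hx0, hx1, hx2, ?_, fun g => ?_, hecke H hx0 hx⟩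
  · have := H.degree hρ hx hY
    rw [hn, hY', mul_one] at this
    exact this
  · have := value H hirr hρ hx hY g
    rw [Characters.Linear.character_repOfHom] at this
    exact this

/-- **Linear characters.** -/
theorem exists_psi (h : RankOne B Q D W w) [Fintype G] [Fintype {u : Q // u ≠ 1}]
    (hnc : Subgroup.normalClosure (Q : Set G) = ⊤) {p k : ℕ} (hp : p.Prime)
    (hN : Nat.card Q = p ^ k) (lam : W →* ℂˣ) {d : G} (hd : d ∈ D)
    (hlam : lam ⟨d, h.DW hd⟩ ≠ 1) {t : G}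
    (hrat : ∀ χ : G → ℂ, IsIrrCharacter G χ → ∃ c : ℤ, χ t = c)
    (ht : Good h (fun m => (lam m : ℂ)) t) {F M : ℕ}
    (hF : Nat.card {a : G // a * t * a⁻¹ ∈ B} = F * Nat.card B)
    (hM : Nat.card {a : G // a * t * a⁻¹ ∉ B} = M * Nat.card B) (hM0 : 0 < M) :
    ∃ X Y : ℕ, X * Y = Nat.card Q ∧ 1 < X ∧ 1 < Y ∧
      ∑ u : {u : Q // u ≠ 1}, (lam (pr h (w * (u.1 : G) * w⁻¹)) : ℂ) = X - Y ∧
      ∃ ψ : G → ℂ, IsIrrCharacter G ψ ∧
      ((X : ℂ) + Y) * ψ 1 = Y * (Nat.card Q + 1) ∧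
      ∀ g, (Nat.card B : ℂ) * (X + Y) * ψ g =
        Y * S₀ h (fun m => (lam m : ℂ)) g + S₁ h (fun m => (lam m : ℂ)) g := by
  classical
  have := Fintype.ofFinite Q
  have := Fintype.ofFinite B
  have := Fintype.ofFinite D
  have hB : (Nat.card B : ℂ) ≠ 0 := by exact_mod_cast Nat.card_pos.ne'
  have hQ0 : 0 < Nat.card Q := Nat.card_pos
  have hσ : Representation.IsIrreducible
      ((Characters.Linear.repOfHom lam).comp (Subgroup.inclusion h.DW)) :=
    Characters.Linear.isIrreducible_of_finrank_eq_one _ (by simp)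
  obtain ⟨n₁, n₂, ρ₁, ρ₂, φ₁, φ₂, hρ₁, hρ₂, -, H₁, H₂, hsum⟩ :=
    h.exists_pair (Characters.Linear.repOfHom lam) hσ
  have hirr₁ : IsIrrCharacter G ρ₁.character := ⟨n₁, ρ₁, hρ₁, rfl⟩
  have hirr₂ : IsIrrCharacter G ρ₂.character := ⟨n₂, ρ₂, hρ₂, rfl⟩
  rw [Characters.Linear.character_repOfHom] at hsum
  obtain ⟨hn₁, x₁, hx₁0, hx₁1, hx₁2, hdeg₁, hval₁, hs₁⟩ := constituent hnc H₁ hρ₁ hd hlam
  obtain ⟨hn₂, x₂, hx₂0, hx₂1, hx₂2, hdeg₂, hval₂, hs₂⟩ := constituent hnc H₂ hρ₂ hd hlam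
  obtain ⟨c₁, hc₁⟩ := hrat _ hirr₁
  obtain ⟨c₂, hc₂⟩ := hrat _ hirr₂
  -- the degrees
  have hn : n₁ + n₂ = Nat.card Q + 1 := by
    have h1 : indFun B (h.lam fun m => (lam m : ℂ)) 1 = (Nat.card Q + 1 : ℂ) := by
      have h2 : IsIrrCharacter D (fun d => (fun m => (lam m : ℂ)) (Subgroup.inclusion h.DW d)) :=
        Characters.Linear.isIrrCharacter_hom (lam.comp (Subgroup.inclusion h.DW))
      rw [h.ind_one h2]
      simp only [_root_.Nat.card_eq_fintype_card, _root_.map_one, _root_.Units.val_one, _root_.mul_one]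
    rw [hsum, Pi.add_apply, Representation.char_one, Representation.char_one] at h1
    simp only [Module.finrank_fin_fun] at h1
    exact_mod_cast h1
  -- the values at `t`
  have hv₁ : (1 + Nat.card Q * x₁ ^ 2) * (c₁ : ℂ) = F + x₁ * M := by
    have h1 := hval₁ t
    rw [S₀_of_good h ht hF, S₁_of_good h ht hM, hc₁] at h1
    apply mul_left_cancel₀ hB
    linear_combination h1
  have hv₂ : (1 + Nat.card Q * x₂ ^ 2) * (c₂ : ℂ) = F + x₂ * M := by
    have h1 := hval₂ t
    rw [S₀_of_good h ht hF, S₁_of_good h ht hM, hc₂] at h1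
    apply mul_left_cancel₀ hB
    linear_combination h1
  have hc : c₁ + c₂ = F := by
    have h1 := indFun_lam h (fun m => (lam m : ℂ)) t
    rw [S₀_of_good h ht hF, hsum, Pi.add_apply, hc₁, hc₂, mul_comm (F : ℂ)] at h1
    have h2 := mul_left_cancel₀ hB h1
    exact_mod_cast h2
  obtain ⟨z₁, hz₁, hz₁d, hz₁1, hz₁N⟩ := exists_eigen hp hN hx₁0 hx₁1 hx₁2 hn₁ (by omega) hdeg₁
    hM0 hv₁
  obtain ⟨z₂, hz₂, hz₂d, hz₂1, hz₂N⟩ := exists_eigen hp hN hx₂0 hx₂1 hx₂2 hn₂ (by omega) hdeg₂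
    hM0 hv₂
  have hz : z₁ * z₂ = - (Nat.card Q : ℤ) := by
    refine mul_eigen (c₁ := c₁) (c₂ := c₂) hQ0 hM0 hn ?_ ?_ hc ?_ ?_
    · have : (n₁ : ℂ) * (Nat.card Q + z₁ ^ 2) = Nat.card Q * (Nat.card Q + 1) := by
        rw [← hz₁]
        linear_combination (Nat.card Q : ℂ) * hdeg₁
      exact_mod_cast this
    · have : (n₂ : ℂ) * (Nat.card Q + z₂ ^ 2) = Nat.card Q * (Nat.card Q + 1) := by
        rw [← hz₂]
        linear_combination (Nat.card Q : ℂ) * hdeg₂
      exact_mod_cast this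
    · have : ((Nat.card Q : ℂ) + z₁ ^ 2) * c₁ = Nat.card Q * F + z₁ * M := by
        rw [← hz₁]
        linear_combination (Nat.card Q : ℂ) * hv₁
      exact_mod_cast this
    · have : ((Nat.card Q : ℂ) + z₂ ^ 2) * c₂ = Nat.card Q * F + z₂ * M := by
        rw [← hz₂]
        linear_combination (Nat.card Q : ℂ) * hv₂
      exact_mod_cast this
  -- the constituent with positive eigenvalue
  have key : ∀ (n : ℕ) (ρ : Representation ℂ G (Fin n → ℂ)) (x : ℂ) (z z' : ℤ),
      IsIrrCharacter G ρ.character → (Nat.card Q : ℂ) * x = z → z * z' = - (Nat.card Q : ℤ) →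
      1 < z'.natAbs → 1 < z.natAbs → 0 < z →
      ((n : ℂ) * (1 + Nat.card Q * x ^ 2) = Nat.card Q + 1) →
      (∀ g, (Nat.card B : ℂ) * (1 + Nat.card Q * x ^ 2) * ρ.character g =
        S₀ h (fun m => (lam m : ℂ)) g + x * S₁ h (fun m => (lam m : ℂ)) g) →
      ∑ u : {u : Q // u ≠ 1}, (lam (pr h (w * (u.1 : G) * w⁻¹)) : ℂ) = Nat.card Q * x - x⁻¹ →
      ∃ X Y : ℕ, X * Y = Nat.card Q ∧ 1 < X ∧ 1 < Y ∧
        ∑ u : {u : Q // u ≠ 1}, (lam (pr h (w * (u.1 : G) * w⁻¹)) : ℂ) = X - Y ∧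
        ∃ ψ : G → ℂ, IsIrrCharacter G ψ ∧
        ((X : ℂ) + Y) * ψ 1 = Y * (Nat.card Q + 1) ∧
        ∀ g, (Nat.card B : ℂ) * (X + Y) * ψ g =
          Y * S₀ h (fun m => (lam m : ℂ)) g + S₁ h (fun m => (lam m : ℂ)) g := by
    intro n ρ x z z' hirr hz hzz hz'1 hz1 hpos hdeg hval hs
    have hX : ((z.natAbs : ℕ) : ℤ) = z := Int.natAbs_of_nonneg hpos.le
    have hneg : z' < 0 := by
      by_contra hc'
      have h1 : 0 ≤ z * z' := mul_nonneg hpos.le (not_lt.1 hc')
      rw [hzz] at h1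
      have : (0 : ℤ) < Nat.card Q := by exact_mod_cast hQ0
      omega
    have hY : ((z'.natAbs : ℕ) : ℤ) = - z' := Int.ofNat_natAbs_of_nonpos hneg.le
    have hXY : z.natAbs * z'.natAbs = Nat.card Q := by
      have : ((z.natAbs : ℕ) : ℤ) * (z'.natAbs : ℕ) = (Nat.card Q : ℤ) := by
        rw [hX, hY]; linear_combination -hzz
      exact_mod_cast this
    have hXC : ((z.natAbs : ℕ) : ℂ) = z := by rw [← Int.cast_natCast, hX]
    have hXYC : ((z.natAbs : ℕ) : ℂ) * (z'.natAbs : ℕ) = Nat.card Q := by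
      exact_mod_cast hXY
    have hX0 : ((z.natAbs : ℕ) : ℂ) ≠ 0 := by
      exact_mod_cast (zero_lt_one.trans hz1).ne'
    have hxY : x * (z'.natAbs : ℕ) = 1 := by
      apply mul_left_cancel₀ hX0
      rw [mul_one]
      calc ((z.natAbs : ℕ) : ℂ) * (x * (z'.natAbs : ℕ)) =
          (((z.natAbs : ℕ) : ℂ) * (z'.natAbs : ℕ)) * x := by ring
        _ = Nat.card Q * x := by rw [hXYC]
        _ = _ := by rw [hz, hXC]
    have hxX : (Nat.card Q : ℂ) * x ^ 2 * (z'.natAbs : ℕ) = (z.natAbs : ℕ) := by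
      calc (Nat.card Q : ℂ) * x ^ 2 * (z'.natAbs : ℕ) =
          ((Nat.card Q : ℂ) * x) * (x * (z'.natAbs : ℕ)) := by ring
        _ = _ := by rw [hxY, mul_one, hz, hXC]
    refine ⟨z.natAbs, z'.natAbs, hXY, hz1, hz'1, ?_, ρ.character, hirr, ?_, fun g => ?_⟩
    · rw [hs, hz, hXC, inv_eq_of_mul_eq_one_right hxY]
    · rw [Representation.char_one]
      simp only [Module.finrank_fin_fun]
      linear_combination ((z'.natAbs : ℕ) : ℂ) * hdeg - (n : ℂ) * hxX
    · linear_combination ((z'.natAbs : ℕ) : ℂ) * hval g -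
        (Nat.card B : ℂ) * ρ.character g * hxX +
        S₁ h (fun m => (lam m : ℂ)) g * hxY
  rcases lt_trichotomy z₁ 0 with h1 | h1 | h1
  · have h2 : 0 < z₂ := by
      by_contra hc'
      have h3 : 0 ≤ z₁ * z₂ := mul_nonneg_of_nonpos_of_nonpos h1.le (not_lt.1 hc')
      rw [hz] at h3
      have : (0 : ℤ) < Nat.card Q := by exact_mod_cast hQ0
      omega
    exact key n₂ ρ₂ x₂ z₂ z₁ hirr₂ hz₂ (by rw [mul_comm]; exact hz) hz₁1 hz₂1 h2 hdeg₂ hval₂ hs₂
  · rw [h1] at hz₁1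
    exact absurd hz₁1 (by simp)
  · exact key n₁ ρ₁ x₁ z₁ z₂ hirr₁ hz₁ hz hz₂1 hz₁1 h1 hdeg₁ hval₁ hs₁

end hecke

/-! ### Sums of roots of unity -/

/-- An integral sum of `l`-th roots of unity, `l` prime, is congruent to the number of terms. -/
theorem dvd_of_sum {ι : Type*} [Fintype ι] {l : ℕ} (hl : l.Prime) {z : ι → ℂ}
    (hz : ∀ i, z i ^ l = 1) {c : ℤ} (hc : ∑ i, z i = c) : (l : ℤ) ∣ Fintype.card ι - c := by
  have hζ := Complex.isPrimitiveRoot_exp l hl.ne_zero
  set ζ := Complex.exp (2 * Real.pi * Complex.I / l) with hζd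
  have h1 : ∀ i, ∃ j : ℕ, z i = ζ ^ j := by
    intro i
    have : NeZero l := ⟨hl.ne_zero⟩
    obtain ⟨j, -, hj⟩ := hζ.eq_pow_of_pow_eq_one (hz i)
    exact ⟨j, hj.symm⟩
  choose j hj using h1
  let P : Polynomial ℤ := ∑ i, Polynomial.X ^ j i - Polynomial.C c
  have hP : Polynomial.aeval ζ P = 0 := by
    simp only [P, map_sub, map_sum, map_pow, Polynomial.aeval_X, Polynomial.aeval_C]
    rw [← Finset.sum_congr rfl fun i _ => hj i, hc]
    simp
  have hdvd : Polynomial.cyclotomic l ℤ ∣ P := by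
    rw [Polynomial.cyclotomic_eq_minpoly hζ hl.pos]
    exact minpoly.isIntegrallyClosed_dvd (hζ.isIntegral hl.pos) hP
  obtain ⟨R, hR⟩ := hdvd
  have h2 : Polynomial.eval 1 P = Fintype.card ι - c := by
    simp only [P, Polynomial.eval_finsetSum, _root_.eq_intCast, _root_.Polynomial.eval_sub, _root_.Polynomial.eval_pow, _root_.Polynomial.eval_X, _root_.one_pow, _root_.Finset.sum_const, _root_.Finset.card_univ, _root_.Int.nsmul_eq_mul, _root_.mul_one, _root_.Polynomial.eval_intCast, _root_.Int.cast_eq]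
  have : Fact l.Prime := ⟨hl⟩
  rw [hR, Polynomial.eval_mul, Polynomial.eval_one_cyclotomic_prime] at h2
  exact ⟨_, h2.symm⟩

/-! ### The theorem -/

section main

variable {G Ω : Type*} [Group G] [MulAction G Ω] {U : Ω → Subgroup G}

/-- **Linear characters of `W` of prime order**. -/
theorem lin_char_prime (h : SSplit U) [Finite G] [Finite Ω] (hgen : (⨆ c, U c) = ⊤) {a b : Ω}
    (hab : b ≠ a) {p k : ℕ} (hp : p.Prime) (hp2 : p ≠ 2) (hN : Nat.card (U a) = p ^ k)
    (lam : Wab G a b →* ℂˣ) {l : ℕ} (hl : l.Prime) (hlaml : ∀ g, lam g ^ l = 1)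
    {d : Wab G a b} (hd : (d : G) ∈ Dab G a b) (hlam : lam d ≠ 1) {t : G}
    (ht : t * t = 1) {c₀ : Ω} (hc₀ : t • c₀ ≠ c₀)
    (hone : ∀ m : Wab G a b, IsConj t (m : G) → lam m = 1) :
    ∃ X Y : ℕ, X * Y = Nat.card (U a) ∧ 1 < X ∧ 1 < Y ∧
      (l : ℤ) ∣ ((X : ℤ) + 1) * (Y - 1) ∧ ∃ ψ : G → ℂ, IsIrrCharacter G ψ ∧
      ((X : ℂ) + Y) * ψ 1 = Y * (Nat.card (U a) + 1) ∧
      ((X : ℂ) + Y) * ψ t = Y * Nat.card (fixedBy Ω t) +
        (Nat.card Ω - Nat.card (fixedBy Ω t)) := by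
  classical
  obtain ⟨w, hw⟩ := h.exists_swaps hab
  have := Fintype.ofFinite G
  have := Fintype.ofFinite Ω
  have := Fintype.ofFinite {u : U a // u ≠ 1}
  have hodd : Odd (Nat.card (U a)) := by
    rw [hN]
    exact (hp.odd_of_ne_two hp2).pow
  have hle : Nat.card (fixedBy Ω t) < Nat.card Ω := by
    rw [Nat.card_eq_fintype_card, Nat.card_eq_fintype_card]
    exact Fintype.card_subtype_lt (p := fun c => t • c = c) hc₀
  have hgood : Good (h.rankOne hab hw) (fun m => (lam m : ℂ)) t :=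
    LinSplit.good_of_inv _ hodd ht fun m hm => by simp only [hone m hm, Units.val_one]
  obtain ⟨X, Y, hXY, hX, hY, hs, ψ, hψ, h1, hval⟩ := exists_psi (h.rankOne hab hw)
    (h.normalClosure_U hgen a) hp hN lam (d := (d : G)) hd hlam
    (fun χ hχ => LinSplit.exists_int hχ ht) hgood (LinSplit.card_fix h a t)
    (LinSplit.card_move h a t) (by omega)
  refine ⟨X, Y, hXY, hX, hY, ?_, ψ, hψ, h1, ?_⟩
  · have h2 := dvd_of_sum hl (c := (X : ℤ) - Y) (fun u : {u : U a // u ≠ 1} => by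
      rw [← Units.val_pow_eq_pow_val, hlaml, Units.val_one]) (by rw [hs]; push_cast; ring)
    have h3 : (Fintype.card {u : U a // u ≠ 1} : ℤ) = (X : ℤ) * Y - 1 := by
      have h4 : Nat.card {u : U a // u ≠ 1} + 1 = X * Y := by
        rw [hXY, ← Finite.card_option]
        refine Nat.card_congr ?_
        refine
          { toFun := fun o => o.elim 1 (fun u => u.1)
            invFun := fun u => if hu : u = 1 then none else some ⟨u, hu⟩
            left_inv := ?_
            right_inv := ?_ }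
        · rintro (_ | u)
          · simp
          · simp [u.2]
        · intro u
          by_cases hu : u = 1
          · simp [hu]
          · simp [hu]
      rw [← Nat.card_eq_fintype_card]
      have h5 : ((Nat.card {u : U a // u ≠ 1} : ℕ) : ℤ) + 1 = (X : ℤ) * Y := by exact_mod_cast h4
      linear_combination h5
    rw [h3] at h2
    have h4 : ((X : ℤ) + 1) * (Y - 1) = (X : ℤ) * Y - 1 - (X - Y) := by ring
    rw [h4]
    exact h2
  · have hB : (Nat.card (stabilizer G a) : ℂ) ≠ 0 := by exact_mod_cast Nat.card_pos.ne'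
    have h2 := hval t
    rw [S₀_of_good _ hgood (LinSplit.card_fix h a t), S₁_of_good _ hgood (LinSplit.card_move h a t),
      Nat.cast_sub hle.le] at h2
    apply mul_left_cancel₀ hB
    linear_combination h2

end main

end Cfsg.Agent.HKS.LinHecke
end

-- part: HKS/ReeEnd6
section
/-!
# Strongly split groups with `C_G(t) ≥ ⟨t⟩ × PSL(2,q)`: no field automorphisms

`A₁ = ⟨t⟩`, `D = (D ∩ L) × ⟨t⟩` is cyclic of order `q - 1`, `C(t) = ⟨t⟩ × L`.
-/

set_option autoImplicit false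

namespace Cfsg.Agent.HKS.ReeEnd

open Subgroup MulAction Cfsg.Agent.HKS
open Cfsg.Agent.Lib.SL2Mat

/-- the arithmetic contradiction -/
theorem num_false {l q : ℤ} (hl : Prime l) (h3 : ¬ l ∣ 3) (h1 : l ∣ q ^ 2 + 1 - q)
    (h2 : l ∣ (q + 1) * (q ^ 2 - 1) ∨ l ∣ (q ^ 2 + 1) * (q - 1)) : False := by
  have a1 : ¬ l ∣ q + 1 := by
    intro h
    apply h3
    have e : (3 : ℤ) = (q ^ 2 + 1 - q) - (q + 1) * (q - 2) := by ring
    rw [e]
    exact dvd_sub h1 (h.mul_right _)
  have a2 : ¬ l ∣ q - 1 := by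
    intro h
    apply hl.not_isUnit
    rw [isUnit_iff_dvd_one]
    have e : (1 : ℤ) = (q ^ 2 + 1 - q) - (q - 1) * q := by ring
    rw [e]
    exact dvd_sub h1 (h.mul_right _)
  have a3 : ¬ l ∣ q ^ 2 + 1 := by
    intro h
    have h4 : l ∣ q := by
      have e : q = (q ^ 2 + 1) - (q ^ 2 + 1 - q) := by ring
      rw [e]
      exact dvd_sub h h1
    apply hl.not_isUnit
    rw [isUnit_iff_dvd_one]
    have e : (1 : ℤ) = (q ^ 2 + 1) - q * q := by ring
    rw [e]
    exact dvd_sub h (h4.mul_right _)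
  rcases h2 with h2 | h2
  · have e : (q + 1) * (q ^ 2 - 1) = (q + 1) * ((q + 1) * (q - 1)) := by ring
    rw [e] at h2
    rcases hl.dvd_or_dvd h2 with h | h
    · exact a1 h
    · rcases hl.dvd_or_dvd h with h | h
      · exact a1 h
      · exact a2 h
  · rcases hl.dvd_or_dvd h2 with h | h
    · exact a3 h
    · exact a2 h

namespace RE

variable {G Ω F : Type*} [Group G] [MulAction G Ω] [Field F] {U : Ω → Subgroup G} {a b : Ω}
  {t : G} {φ : Matrix.SpecialLinearGroup (Fin 2) F →* G}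

theorem Wab_le_cent (S : RE U a b t φ) : Wab G a b ≤ centralizer ({t} : Set G) := by
  intro x hx
  by_cases h : x ∈ Dab G a b
  · exact S.Dab_le_cent h
  · exact mem_cent.2 (S.comm_swaps ((mem_Wab_not_mem_Dab S.ne).1 ⟨hx, h⟩))

/-- `|F| = p ^ e` and `k = 3 e` -/
theorem exists_e (S : RE U a b t φ) [Finite G] [Finite F] {p k : ℕ} [Finite Ω]
    (C : CtxE U a b p k) : ∃ e, 0 < e ∧ Nat.card F = p ^ e ∧ k = 3 * e := by
  have h1 := S.card_U.1
  rw [C.cardU] at h1
  have h2 : Nat.card F ∣ p ^ k := by rw [h1]; exact dvd_pow_self _ three_ne_zero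
  obtain ⟨e, -, he⟩ := (Nat.dvd_prime_pow C.prime).1 h2
  have hq1 : 1 < Nat.card F := Finite.one_lt_card
  have he0 : 0 < e := by
    rcases Nat.eq_zero_or_pos e with h3 | h3
    · rw [he, h3, pow_zero] at hq1
      omega
    · exact h3
  refine ⟨e, he0, he, ?_⟩
  rw [he, ← pow_mul] at h1
  rw [Nat.pow_right_injective C.prime.two_le h1, mul_comm]

/-- the character `λ` -/
theorem hone (S : RE U a b t φ) [Finite G] {ζ : centralizer ({t} : Set G) →* ℂˣ}
    (hζL : ∀ x (hx : φ x ∈ centralizer ({t} : Set G)), ζ ⟨φ x, hx⟩ = 1)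
    (hζt : ∀ hx : t ∈ centralizer ({t} : Set G), ζ ⟨t, hx⟩ = 1) (m : Wab G a b)
    (hm : IsConj t (m : G)) : ζ ⟨m, S.Wab_le_cent m.2⟩ = 1 := by
  obtain ⟨h1, h2⟩ := (S.conj_iff _).1 hm
  by_cases h : (m : G) ∈ Dab G a b
  · have h3 := (S.unique _ h h1).resolve_left h2
    have h4 : (⟨m, S.Wab_le_cent m.2⟩ : centralizer ({t} : Set G)) = ⟨t, mem_cent.2 rfl⟩ :=
      Subtype.ext h3
    rw [h4, hζt]
  · obtain ⟨r, hr, h3⟩ := S.swap_invol h1 ((mem_Wab_not_mem_Dab S.ne).1 ⟨m.2, h⟩)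
    rcases h3 with h3 | h3
    · have h4 : (⟨m, S.Wab_le_cent m.2⟩ : centralizer ({t} : Set G)) =
          ⟨φ (wm r hr), mem_cent.2 (S.comm_range _)⟩ := Subtype.ext h3
      rw [h4, hζL]
    · have h4 : (⟨m, S.Wab_le_cent m.2⟩ : centralizer ({t} : Set G)) =
          ⟨t, mem_cent.2 rfl⟩ * ⟨φ (wm r hr), mem_cent.2 (S.comm_range _)⟩ := Subtype.ext h3
      rw [h4, map_mul, hζL, hζt, one_mul]

/-- **`A₁ = ⟨t⟩`** -/
theorem A₁_eq (S : RE U a b t φ) [Finite G] [Finite F] {p k : ℕ} [Finite Ω]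
    [FaithfulSMul G Ω] (C : CtxE U a b p k) (T : TwoOne.TO U p k a b) {x : G}
    (hx : x ∈ A₁ a b φ) : x = 1 ∨ x = t := by
  by_contra hc
  push Not at hc
  obtain ⟨l, ζ, hl, hζl, hζL, hζt, y, hy, hζy⟩ := S.exists_zeta C T hx hc.1 hc.2
  obtain ⟨hlD, hlo, -⟩ := S.dvd_index C hl hζl hζt hy hζy
  have hnum := S.dvd_num C hl hζl hζt hy hζy
  obtain ⟨e, he0, he, hke⟩ := S.exists_e C
  have hpD := C.split.not_dvd_Dab C.gen C.ne C.prime C.p_ne_two C.cardU
  have hyD := (mem_A₁.1 hy).1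
  -- `p = 3`
  have hp3 : p = 3 := by
    obtain ⟨m, hm, hmt⟩ := S.D_pow hyD
    have h1 : (y * y) ^ m = 1 := by
      rw [← pow_two, ← pow_mul, mul_comm, pow_mul]
      rcases hmt with h | h <;> rw [h]
      · rw [one_pow]
      · rw [pow_two, S.t_sq]
    have h2 : y * y ≠ 1 := by
      intro h
      rcases S.unique y hyD h with h3 | h3
      · apply hζy
        have : (⟨y, S.A₁_le_cent hy⟩ : centralizer ({t} : Set G)) = 1 := Subtype.ext h3
        rw [this, map_one]
      · apply hζy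
        have : (⟨y, S.A₁_le_cent hy⟩ : centralizer ({t} : Set G)) = ⟨t, mem_cent.2 rfl⟩ :=
          Subtype.ext h3
        rw [this, hζt]
    obtain ⟨n, hn, h3, -⟩ := S.dr_of_odd C T (mul_mem hy hy) h2 hm h1
    have h4 : Nat.card (U a ⊓ centralizer (zpowers (y * y) : Set G) : Subgroup G) ∣ p ^ k := by
      rw [← C.cardU]; exact card_dvd_of_le inf_le_left
    rw [h3] at h4
    have h5 : 3 ∣ (3 ^ n) ^ 3 := by
      rw [← pow_mul]
      exact dvd_pow_self 3 (Nat.mul_ne_zero hn.pos.ne' three_ne_zero)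
    have h6 := Nat.prime_three.dvd_of_dvd_pow (h5.trans h4)
    exact ((Nat.prime_dvd_prime_iff_eq Nat.prime_three C.prime).1 h6).symm
  have hl3 : ¬ (l : ℤ) ∣ 3 := by
    intro h
    have h1 : l ∣ 3 := by exact_mod_cast h
    have h2 := (Nat.prime_dvd_prime_iff_eq hl Nat.prime_three).1 h1
    rw [h2] at hlD
    rw [hp3] at hpD
    exact hpD hlD
  -- the Hecke relation
  obtain ⟨c, hc⟩ : ∃ c : Ω, t • c ≠ c := by
    by_contra hcc
    push Not at hcc
    apply S.t_ne
    apply FaithfulSMul.eq_of_smul_eq_smul (α := Ω)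
    intro c
    rw [hcc c, one_smul]
  obtain ⟨X, Y, hXY, hX, hY, hdvd, ψ, hψ, h1, h2⟩ := LinHecke.lin_char_prime C.split C.gen C.ne
    C.prime C.p_ne_two C.cardU (ζ.comp (Subgroup.inclusion S.Wab_le_cent)) hl
    (fun g => hζl _) (d := ⟨y, Dab_le_Wab a b hyD⟩) hyD hζy S.t_sq hc
    (fun m hm => S.hone hζL hζt m hm)
  obtain ⟨-, h3⟩ := LinSplit.arith_cube C.split C.prime C.cardU S.t_sq
    (by rw [S.card_fixedBy, he]) hXY hX hY hψ h1 h2 he0 (l' := 1) (by rw [hke]; ring) one_pos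
  refine num_false (l := l) (q := (Nat.card F : ℤ)) (Nat.prime_iff_prime_int.1 hl) hl3 ?_ ?_
  · have h4 : Nat.card F ≤ Nat.card F ^ 2 + 1 := by
      have : Nat.card F ≤ Nat.card F ^ 2 := Nat.le_self_pow two_ne_zero _
      omega
    have h5 : ((Nat.card F ^ 2 + 1 - Nat.card F : ℕ) : ℤ) = (Nat.card F : ℤ) ^ 2 + 1 - Nat.card F := by
      rw [Nat.cast_sub h4]; push_cast; ring
    rw [← h5]
    exact_mod_cast hnum
  · rcases h3 with ⟨h3, h4⟩ | ⟨h3, h4⟩
    · left
      rw [h3, h4] at hdvd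
      rw [he]
      push_cast at hdvd ⊢
      rw [mul_comm 2 e, pow_mul] at hdvd
      exact hdvd
    · right
      rw [h3, h4] at hdvd
      rw [he]
      push_cast at hdvd ⊢
      rw [mul_comm 2 e, pow_mul] at hdvd
      exact hdvd

/-- elements of `D` -/
theorem D_eq (S : RE U a b t φ) [Finite G] [Finite F] {p k : ℕ} [Finite Ω]
    [FaithfulSMul G Ω] (C : CtxE U a b p k) (T : TwoOne.TO U p k a b) {x : G}
    (hx : x ∈ Dab G a b) : ∃ (r : F) (hr : r ≠ 0), x = φ (dg r hr) ∨ x = t * φ (dg r hr) := by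
  obtain ⟨r, hr, y, hy, rfl⟩ := S.exists_dg_mul hx
  refine ⟨r, hr, ?_⟩
  rcases S.A₁_eq C T hy with rfl | rfl
  · left; rw [mul_one]
  · right; rw [S.comm_range]

/-- elements of `C(t)` -/
theorem cent_eq (S : RE U a b t φ) [Finite G] [Finite F] {p k : ℕ} [Finite Ω]
    [FaithfulSMul G Ω] (C : CtxE U a b p k) (T : TwoOne.TO U p k a b) {x : G}
    (hx : t * x = x * t) : ∃ g, x = φ g ∨ x = t * φ g := by
  obtain ⟨g, y, hy, rfl⟩ := S.exists_mul_A₁ hx
  refine ⟨g, ?_⟩
  rcases S.A₁_eq C T hy with rfl | rfl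
  · left; rw [mul_one]
  · right; rw [S.comm_range]

end RE

end Cfsg.Agent.HKS.ReeEnd
end

-- part: HKS/ReeGlue
section
/-!
# Glue: `SLX` coordinates give `RE`, and `RE` gives `Fin0`
-/

set_option autoImplicit false

namespace Cfsg.Agent.HKS.ReeGlue

open Subgroup MulAction Cfsg.Agent.HKS Cfsg.Agent.ONan.SL2Hom Cfsg.Agent.HKS.SLRel
  Cfsg.Agent.HKS.SLCoord Cfsg.Agent.Lib.SL2Mat Cfsg.Agent.HKS.ReeEnd

section Matrices

variable {F : Type*} [Field F]

theorem up_eq_tM (s : F) : up s = tM s := by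
  apply ext' <;> rfl

theorem lo_eq_lM (s : F) : lo s = lM s := by
  apply ext' <;> rfl

end Matrices

variable {G Ω F : Type*} [Group G] [MulAction G Ω] [Field F] {U : Ω → Subgroup G} {a b : Ω}
  {t : G} {φ : Matrix.SpecialLinearGroup (Fin 2) F →* G} {p k : ℕ}

/-- `F` has odd characteristic -/
theorem two_ne [Finite G] [Finite F] (C : CtxE U a b p k) (S : SLX U (zpowers t) a b φ) :
    (2 : F) ≠ 0 := by
  intro h
  have h1 : (tM (1 : F)) * tM 1 = 1 := by
    rw [← tM_add, show (1 : F) + 1 = 0 by rw [← h]; norm_num, tM_zero]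
  have h2 : φ (tM 1) * φ (tM 1) = 1 := by rw [← map_mul, h1, map_one]
  have h3 : φ (tM (1 : F)) ≠ 1 := fun hc => one_ne_zero (S.inj 1 hc)
  have h4 : orderOf (φ (tM (1 : F))) = 2 := orderOf_eq_prime (by rw [pow_two, h2]) h3
  have h5 : orderOf (φ (tM (1 : F))) ∣ Nat.card (U a) :=
    Subgroup.orderOf_dvd_natCard (U a) (S.up 1).1
  rw [h4, C.cardU] at h5
  have h6 := Nat.prime_two.dvd_of_dvd_pow h5
  exact C.p_ne_two ((Nat.prime_dvd_prime_iff_eq Nat.prime_two C.prime).1 h6).symm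

/-- **`RE` from the hypotheses of the Ree end.** -/
theorem exists_re [Finite G] [Finite Ω] [FaithfulSMul G Ω] [Finite F] (C : CtxE U a b p k)
    (R : RankOneD G a b) (ht : t ∈ Dab G a b) (ht1 : t ≠ 1) (ht2 : t * t = 1)
    (htM : t ∉ genFix U (zpowers t)) (hcent : ∀ d ∈ Dab G a b, t * d = d * t)
    (S : SLX U (zpowers t) a b φ) (hS : ∀ P : Sylow 2 G, Nat.card P = 8 ∧ ∀ x ∈ P, x * x = 1) :
    RE U a b t φ where
  split := C.split
  ne := C.ne
  t_mem := ht
  t_ne := ht1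
  t_sq := ht2
  unique := fun d hd hd2 => by
    by_cases h1 : d = 1
    · exact Or.inl h1
    · exact Or.inr (R t ht d hd ht1 h1 ht2 hd2 (hcent d hd)).symm
  two := two_ne C S
  neg := Head.neg_eq_one C R ht ht1 ht2 S htM
  not_mem := fun x hx => htM (hx ▸ S.gen x)
  up_mem := fun z => by rw [up_eq_tM]; exact (S.up z).1
  lo_mem := fun z => by rw [lo_eq_lM]; exact (S.lo z).1
  comm_range := fun x => Head.comm_genFix (S.gen x)
  inj := fun z hz => S.inj z (by rwa [up_eq_tM] at hz)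
  up_surj := fun u hu hc => by
    obtain ⟨s, hs⟩ := S.up_surj u ⟨hu, TwoOne.mem_cent_zpowers.2 hc⟩
    exact ⟨s, by rw [up_eq_tM, hs]⟩
  lo_surj := fun u hu hc => by
    obtain ⟨s, hs⟩ := S.lo_surj u ⟨hu, TwoOne.mem_cent_zpowers.2 hc⟩
    exact ⟨s, by rw [lo_eq_lM, hs]⟩
  conj := fun s hs hs1 => (AffThree.toTO C R).isConj ht2 hs ht1 hs1
  syl := hS

/-- `|D| = |F| - 1` -/
theorem card_D [Finite G] [Finite Ω] [FaithfulSMul G Ω] [Finite F] (S : RE U a b t φ)
    (C : CtxE U a b p k) (T : TwoOne.TO U p k a b) : Nat.card (Dab G a b) = Nat.card F - 1 := by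
  classical
  -- the map `F* × {1, t} → D` has fibres of size two
  have hFu : Nat.card Fˣ = Nat.card F - 1 := Nat.card_units F
  let f : Fˣ →* Dab G a b :=
    { toFun := fun r => ⟨φ (dg (r : F) r.ne_zero), S.dg_mem r.ne_zero⟩
      map_one' := Subtype.ext (by
        change φ (dg ((1 : Fˣ) : F) _) = 1
        exact (S.dg_eq_one_iff _).2 (Or.inl (by simp)))
      map_mul' := fun r s => Subtype.ext (by
        change φ (dg ((r * s : Fˣ) : F) _) = φ (dg (r : F) _) * φ (dg (s : F) _)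
        rw [← map_mul, RE.dg_mul]
        rfl) }
  have hker : Nat.card f.ker = 2 := by
    have h1 : (f.ker : Set Fˣ) = {1, -1} := by
      ext r
      rw [SetLike.mem_coe, MonoidHom.mem_ker, Set.mem_insert_iff, Set.mem_singleton_iff]
      have h2 : f r = 1 ↔ φ (dg (r : F) r.ne_zero) = 1 := by
        constructor
        · intro h; exact congrArg Subtype.val h
        · intro h; exact Subtype.ext h
      rw [h2, S.dg_eq_one_iff]
      constructor
      · rintro (h | h)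
        · exact Or.inl (Units.ext (by simpa using h))
        · exact Or.inr (Units.ext (by simpa using h))
      · rintro (rfl | rfl)
        · exact Or.inl (by simp)
        · exact Or.inr (by simp)
    have h3 : (1 : Fˣ) ≠ -1 := by
      intro h
      have h4 : ((1 : Fˣ) : F) = ((-1 : Fˣ) : F) := congrArg Units.val h
      rw [Units.val_one, Units.val_neg, Units.val_one] at h4
      apply S.two
      linear_combination h4
    have h5 : Nat.card f.ker = Set.ncard (f.ker : Set Fˣ) := rfl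
    rw [h5, h1, Set.ncard_pair h3]
  have hrange : Nat.card f.range * 2 = Nat.card F - 1 := by
    rw [← hFu, ← hker]
    have h1 := Subgroup.card_mul_index f.ker
    rw [Subgroup.index_ker] at h1
    rw [← h1, mul_comm]
  -- the range has index two
  set tt : Dab G a b := ⟨t, S.t_mem⟩ with htt
  have hnot : tt ∉ f.range := by
    rintro ⟨r, hr⟩
    exact S.not_mem _ (congrArg Subtype.val hr)
  have hind : f.range.index = 2 := by
    rw [Subgroup.index_eq_two_iff]
    refine ⟨tt, fun x => ?_⟩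
    obtain ⟨r, hr, hx⟩ := S.D_eq C T x.2
    have hfr : φ (dg r hr) = (f (Units.mk0 r hr) : G) := rfl
    rcases hx with hx | hx
    · have h1 : x ∈ f.range := ⟨Units.mk0 r hr, Subtype.ext (by rw [hx, hfr])⟩
      refine Or.inr ⟨h1, fun h2 => hnot ?_⟩
      have h3 := mul_mem (inv_mem h1) h2
      rwa [inv_mul_cancel_left] at h3
    · have h1 : x * tt ∈ f.range := ⟨Units.mk0 r hr, Subtype.ext (by
        change (f (Units.mk0 r hr) : G) = (x : G) * t
        rw [hx, ← hfr, ← S.comm_D (mul_mem S.t_mem (S.dg_mem hr)), ← mul_assoc, S.t_sq,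
          one_mul])⟩
      refine Or.inl ⟨h1, fun h2 => hnot ?_⟩
      have h3 := mul_mem (inv_mem h2) h1
      rwa [inv_mul_cancel_left] at h3
  rw [← Subgroup.card_mul_index f.range, hind, hrange]

/-- **The input of `ReeFin`.** -/
theorem exists_fin0 [Finite G] [Finite Ω] [FaithfulSMul G Ω] [Finite F] (C : CtxE U a b p k)
    (R : RankOneD G a b) (ht : t ∈ Dab G a b) (ht1 : t ≠ 1) (ht2 : t * t = 1)
    (htM : t ∉ genFix U (zpowers t)) (hcent : ∀ d ∈ Dab G a b, t * d = d * t)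
    (S : SLX U (zpowers t) a b φ) (hS : ∀ P : Sylow 2 G, Nat.card P = 8 ∧ ∀ x ∈ P, x * x = 1) :
    RE U a b t φ ∧ ReeFin.Fin0 U a b t φ := by
  have RS := exists_re C R ht ht1 ht2 htM hcent S hS
  obtain ⟨-, -, hmod, -⟩ := ReeSylow.main (two_ne C S) C R ht ht1 ht2 S RS.neg
  exact ⟨RS,
    { h := C.split
      S := S
      neg := RS.neg
      tD := ht
      t1 := ht1
      t2 := ht2
      cen := hcent
      mod4 := hmod
      cardD := card_D RS C (AffThree.toTO C R) }⟩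

end Cfsg.Agent.HKS.ReeGlue
end

-- part: HKS/ReeSimple
section
/-!
# The Ree end: simplicity, and the field has `3 ^ n` elements

`Fin0.isSimple` : `G` is simple if `|F| > 3`. `Fin0.exists_tr` : `TR U a b n` for some `n`.
-/

set_option autoImplicit false

namespace Cfsg.Agent.HKS.ReeFin

open Subgroup MulAction Cfsg.Agent.HKS Cfsg.Agent.ONan.SL2Hom Cfsg.Agent.HKS.SLRel
  Cfsg.Agent.HKS.SLCoord

section General

variable {G Ω : Type*} [Group G] [MulAction G Ω] {U : Ω → Subgroup G}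

/-- A nontrivial normal subgroup of a faithful 2-transitive group is transitive. -/
theorem normal_trans (h : SSplit U) [FaithfulSMul G Ω] {N : Subgroup G} (hN : N.Normal)
    (hN1 : N ≠ ⊥) (a c : Ω) : ∃ n ∈ N, n • a = c := by
  obtain ⟨n, hn, hn1⟩ := (N.ne_bot_iff_exists_ne_one.1 hN1).elim fun x hx =>
    (⟨x, x.2, fun e => hx (Subtype.ext e)⟩ : ∃ n ∈ N, n ≠ 1)
  obtain ⟨d, hd⟩ : ∃ d : Ω, n • d ≠ d := by
    by_contra hc
    push Not at hc
    apply hn1
    apply FaithfulSMul.eq_of_smul_eq_smul (α := Ω)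
    intro c
    rw [hc c, one_smul]
  by_cases hca : c = a
  · exact ⟨1, one_mem _, by rw [one_smul, hca]⟩
  obtain ⟨g, hg1, hg2⟩ := h.two (a := d) (b := n • d) (c := a) (d := c) hd.symm (Ne.symm hca)
  refine ⟨g * n * g⁻¹, hN.conj_mem n hn g, ?_⟩
  rw [mul_smul, mul_smul, inv_smul_eq_iff.2 hg1.symm, hg2]

/-- Criterion for simplicity. -/
theorem isSimple_of (h : SSplit U) [Finite G] [Finite Ω] [FaithfulSMul G Ω]
    (hgen : (⨆ c, U c) = ⊤) {a b : Ω} (hab : b ≠ a) {d : G} (hd : d ∈ Dab G a b)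
    (hcop : Nat.Coprime (Nat.card (U a)) (orderOf d))
    (hfpf : ∀ u ∈ U a, d * u = u * d → u = 1) : IsSimpleGroup G := by
  have hfU := h.finite_U a
  have hnt : Nontrivial G := by
    obtain ⟨c, hca, hcb⟩ := h.three a b
    obtain ⟨u, hu, hub⟩ := h.trans hab hca
    refine ⟨u, 1, ?_⟩
    rintro rfl
    rw [one_smul] at hub
    exact hcb hub.symm
  refine ⟨fun N hN => ?_⟩
  by_cases hN1 : N = ⊥
  · exact Or.inl hN1
  right
  -- `G = N U a`
  have h1 : ∀ g : G, ∃ n ∈ N, ∃ u ∈ U a, g = n * u := by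
    have h2 : (⊤ : Subgroup G) ≤ N ⊔ U a := by
      rw [← hgen, iSup_le_iff]
      intro c u hu
      obtain ⟨n, hn, hna⟩ := normal_trans h hN hN1 a c
      have h3 := h.conj_of_eq' hna hu
      have h4 : u = n * (n⁻¹ * u * n) * n⁻¹ := by group
      rw [h4]
      have hn' : n ∈ N ⊔ U a := le_sup_left (a := N) hn
      exact mul_mem (mul_mem hn' (le_sup_right (a := N) h3)) (inv_mem hn')
    intro g
    have h3 : g ∈ N ⊔ U a := h2 (mem_top g)
    rw [← SetLike.mem_coe, normal_mul] at h3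
    obtain ⟨n, hn, u, hu, rfl⟩ := h3
    exact ⟨n, hn, u, hu, rfl⟩
  -- powers
  have h2 : ∀ g : G, g ^ Nat.card (U a) ∈ N := by
    intro g
    obtain ⟨n, hn, u, hu, rfl⟩ := h1 g
    rw [← QuotientGroup.eq_one_iff, QuotientGroup.mk_pow, QuotientGroup.mk_mul,
      (QuotientGroup.eq_one_iff n).2 hn, one_mul, ← QuotientGroup.mk_pow]
    have h3 : u ^ Nat.card (U a) = 1 := by
      have := pow_card_eq_one' (x := (⟨u, hu⟩ : U a))
      exact congrArg Subtype.val this
    rw [h3, QuotientGroup.mk_one]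
  have hdN : d ∈ N := by
    have h3 : d ∈ zpowers (d ^ Nat.card (U a)) := by
      have h4 : zpowers (d ^ Nat.card (U a)) = zpowers d := by
        apply eq_of_le_of_card_ge
        · rw [zpowers_le]
          exact pow_mem (mem_zpowers d) _
        · rw [Nat.card_zpowers, Nat.card_zpowers, hcop.symm.orderOf_pow]
      rw [h4]
      exact mem_zpowers d
    exact (zpowers_le.2 (h2 d)) h3
  -- `U a ≤ N`
  have hUN : U a ≤ N := by
    let f : U a → U a := fun u => ⟨(u : G)⁻¹ * (d * u * d⁻¹), mul_mem (inv_mem u.2)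
      (h.conj_of_fix hd.1 u.2)⟩
    have hf : Function.Injective f := by
      intro u v huv
      have h3 : (u : G)⁻¹ * (d * u * d⁻¹) = (v : G)⁻¹ * (d * v * d⁻¹) := congrArg Subtype.val huv
      have h4 : d * ((v : G) * (u : G)⁻¹) = ((v : G) * (u : G)⁻¹) * d := by
        have h5 : (u : G)⁻¹ * d * u = (v : G)⁻¹ * d * v := by
          calc (u : G)⁻¹ * d * u = ((u : G)⁻¹ * (d * u * d⁻¹)) * d := by group
            _ = ((v : G)⁻¹ * (d * v * d⁻¹)) * d := by rw [h3]
            _ = _ := by group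
        calc d * ((v : G) * (u : G)⁻¹) = (v : G) * ((v : G)⁻¹ * d * v) * (u : G)⁻¹ := by group
          _ = (v : G) * ((u : G)⁻¹ * d * u) * (u : G)⁻¹ := by rw [h5]
          _ = _ := by group
      have h5 := hfpf _ (mul_mem v.2 (inv_mem u.2)) h4
      exact Subtype.ext (mul_inv_eq_one.1 h5).symm
    have hs : Function.Surjective f := Finite.surjective_of_injective hf
    intro u hu
    obtain ⟨x, hx⟩ := hs ⟨u, hu⟩
    have h3 : (x : G)⁻¹ * (d * x * d⁻¹) = u := congrArg Subtype.val hx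
    rw [← h3]
    have h4 : (x : G)⁻¹ * (d * x * d⁻¹) = ((x : G)⁻¹ * d * (x : G)⁻¹⁻¹) * d⁻¹ := by group
    rw [h4]
    exact mul_mem (hN.conj_mem d hdN _) (inv_mem hdN)
  rw [eq_top_iff]
  intro g _
  obtain ⟨n, hn, u, hu, rfl⟩ := h1 g
  exact mul_mem hn (hUN hu)

end General

namespace Fin0

variable {G Ω F : Type*} [Group G] [MulAction G Ω] [Field F] {U : Ω → Subgroup G} {a b : Ω}
  {t : G} {φ : Matrix.SpecialLinearGroup (Fin 2) F →* G}

/-- **`G` is simple** if `|F| > 3`. -/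
theorem isSimple [Finite G] [Finite Ω] [FaithfulSMul G Ω] (D : Fin0 U a b t φ)
    (hgen : (⨆ c, U c) = ⊤) (hN3 : Nat.card (U a) = Nat.card F ^ 3) (h3 : Nat.card F ≠ 3) :
    IsSimpleGroup G := by
  have h4 := D.mod4
  obtain ⟨g, hg, -⟩ := D.exists_gen
  have ho := D.orderOf_tau hg
  have hodd : Odd (orderOf (tau φ g)) := by rw [Nat.odd_iff]; omega
  refine isSimple_of D.h hgen D.ab (D.tau_mem g) ?_ ?_
  · rw [hN3]
    apply Nat.Coprime.pow_left
    have h5 : Nat.Coprime (Nat.card F) (Nat.card F - 1) :=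
      (Nat.coprime_self_sub_right (by omega)).2 (Nat.coprime_one_right _)
    exact h5.coprime_dvd_right ⟨2, by omega⟩
  · intro u hu hc
    rcases D.fpf (D.tau_mem g) hodd (pow_orderOf_eq_one _) hu hc with h5 | h5
    · rw [h5, orderOf_one] at ho
      omega
    · exact h5

theorem comm_of_syl [Finite G] (hS : ∀ S : Sylow 2 G, Nat.card S = 8 ∧ ∀ x ∈ S, x * x = 1)
    (P : Sylow 2 G) (x y : P) : x * y = y * x := by
  have h1 : ∀ z : P, z * z = 1 := fun z => Subtype.ext ((hS P).2 z z.2)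
  have h2 : ∀ z : P, z⁻¹ = z := fun z => inv_eq_of_mul_eq_one_left (h1 z)
  calc x * y = (x * y)⁻¹ := (h2 _).symm
    _ = y⁻¹ * x⁻¹ := mul_inv_rev _ _
    _ = y * x := by rw [h2, h2]

end Fin0

/-- **The end.** -/
theorem Fin0.exists_tr {G Ω : Type*} {F : Type} [Group G] [MulAction G Ω] [Field F] [Fintype F]
    {U : Ω → Subgroup G} {a b : Ω} {t : G} {φ : Matrix.SpecialLinearGroup (Fin 2) F →* G}
    [Finite G] [Finite Ω] [FaithfulSMul G Ω] (D : Fin0 U a b t φ) (hgen : (⨆ c, U c) = ⊤)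
    (hN3 : Nat.card (U a) = Nat.card F ^ 3)
    (hS : ∀ S : Sylow 2 G, Nat.card S = 8 ∧ ∀ x ∈ S, x * x = 1)
    (hfix : ∀ s : G, s * s = 1 → ∃ c : Ω, s • c = c) : ∃ n, TR U a b n := by
  by_cases h3 : Nat.card F = 3
  · exact ⟨1, D.tr hgen odd_one (by rw [h3]; norm_num) hN3 hS hfix⟩
  have hs := D.isSimple hgen hN3 h3
  have h4 := D.mod4
  rcases Cfsg.Agent.S0343.result (fun P x y => comm_of_syl hS P x y) (F := F)
    (by rw [← Nat.card_eq_fintype_card]; omega) t (orderOf_eq_prime (by rw [pow_two, D.t2]) D.t1)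
    D.nonempty_equiv with ⟨m, -, hm, -⟩ | ⟨hm, -⟩
  · refine ⟨2 * m + 1, D.tr hgen ⟨m, rfl⟩ ?_ hN3 hS hfix⟩
    rw [Nat.card_eq_fintype_card, hm]
  · exfalso
    rw [Nat.card_eq_fintype_card] at h4
    omega

end Cfsg.Agent.HKS.ReeFin
end

-- part: HKS/ReeSylowGoal
section
/-!
# `ReeSylowStmt`
-/

set_option autoImplicit false

namespace Cfsg.Agent.HKS

open Subgroup MulAction

theorem reeSylowStmt.{v} : ReeSylowStmt.{v} := by
  intro G Ω _ _ _ _ _ U a b p k C R t ht ht1 ht2 F _ _ φ S hodd hφ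
  have h2 : (2 : F) ≠ 0 := by
    intro h
    have h1 : ringChar F = 2 := by
      have := (ringChar.spec F 2).1 (by exact_mod_cast h)
      rcases (Nat.dvd_prime Nat.prime_two).1 this with h3 | h3
      · exact absurd h3 (CharP.ringChar_ne_one)
      · exact h3
    have h4 := FiniteField.even_card_iff_char_two.1 h1
    rw [Nat.odd_iff] at hodd
    omega
  obtain ⟨-, -, -, P, h3, h4, h5, -⟩ := ReeSylow.main h2 C R ht ht1 ht2 S hφ
  exact ⟨P, h4, h5⟩

end Cfsg.Agent.HKS
end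

-- part: HKS/CentralGoal
section
/-!
# Goals 6 and 7 without the centrality hypothesis
-/

set_option autoImplicit false

namespace Cfsg.Agent.HKS

theorem centralStmt.{v} : CentralStmt.{v} := by
  intro G Ω _ _ _ _ _ U a b p k C R t ht ht1 ht2 d hd
  exact (TwoOne.central C R ht ht2 ht1 d hd).symm

theorem goalRee_of'.{v} (hs : ReeSylowStmt.{v}) (he : ReeEndStmt.{v}) : GoalRee.{v} :=
  goalRee_of centralStmt hs he

end Cfsg.Agent.HKS
end

-- part: HKS/GoalRee
section
/-!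
# Goal 6: the Ree case
-/

set_option autoImplicit false

namespace Cfsg.Agent.HKS

open Subgroup MulAction

theorem reeEndStmt.{v} : ReeEndStmt.{v} := by
  intro G Ω _ _ _ _ _ U a b p k C R t ht ht1 ht2 htM hcent F _ _ φ S hS
  obtain ⟨RS, D⟩ := ReeGlue.exists_fin0 C R ht ht1 ht2 htM hcent S hS
  refine D.exists_tr C.gen ?_ hS ?_
  · exact RS.card_U.1
  · intro s hs
    by_cases hs1 : s = 1
    · exact ⟨a, by rw [hs1, one_smul]⟩
    · obtain ⟨c, -, -, hc, -⟩ := UniSet.exists_fix_two C s hs1 hs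
      exact ⟨c, hc⟩

/-- **Goal 6.** -/
theorem goalRee.{v} : GoalRee.{v} := goalRee_of' reeSylowStmt reeEndStmt

end Cfsg.Agent.HKS
end
end
end
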